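/-
Certificate data of a coset enumeration.
-/
import Cfsg.Agent.Lib.CosetEnum.ONH.Data

set_option autoImplicit false
set_option maxRecDepth 1000000

namespace CfsgLib.CosetEnum.ONH

open CfsgLib.CosetEnum

/-- Completion of the rows from 0. -/
noncomputable def rows0 : List (List ℕ) := [[(nat_lit 0x1001), (nat_lit 0x2001), (nat_lit 0x3001), (nat_lit 0x4001), (nat_lit 0x1), (nat_lit 0x6001)], [(nat_lit 0x5001), (nat_lit 0x7001), (nat_lit 0x8001), (nat_lit 0x9001), (nat_lit 0x1), (nat_lit 0xd001)], [(nat_lit 0xa001), (nat_lit 0xb001), (nat_lit 0x12001), (nat_lit 0x9001), (nat_lit 0xc001), (nat_lit 0x15001)], [(nat_lit 0xe001), (nat_lit 0xf001), (nat_lit 0x10001), (nat_lit 0x18001), (nat_lit 0x11001), (nat_lit 0xd001)], [(nat_lit 0x13001), (nat_lit 0x19001), (nat_lit 0x12001), (nat_lit 0x1c001), (nat_lit 0x14001), (nat_lit 0x1e001)], [(nat_lit 0x16001), (nat_lit 0x17001), (nat_lit 0x20001), (nat_lit 0x18001), (nat_lit 0x21001), (nat_lit 0x15001)], [(nat_lit 0x2b001), (nat_lit 0x19001), (nat_lit 0x1a001), (nat_lit 0x26001), (nat_lit 0x1b001), (nat_lit 0x28001)], [(nat_lit 0x1d001), (nat_lit 0x27001), (nat_lit 0x2f001), (nat_lit 0x1c001), (nat_lit 0x33001), (nat_lit 0x32001)], [(nat_lit 0x1f001), (nat_lit 0x29001), (nat_lit 0x20001), (nat_lit 0x31001), (nat_lit 0x36001), (nat_lit 0x1e001)], [(nat_lit 0x22001), (nat_lit 0x23001), (nat_lit 0x38001), (nat_lit 0x24001), (nat_lit 0x21001), (nat_lit 0x25001)], [(nat_lit 0x2b001), (nat_lit 0x2c001), (nat_lit 0x2d001), (nat_lit 0x43001), (nat_lit 0x2e001), (nat_lit 0x4b001)], [(nat_lit 0x41001), (nat_lit 0x27001), (nat_lit 0x3a001), (nat_lit 0x26001), (nat_lit 0x3b001), (nat_lit 0x3e001)], [(nat_lit 0x48001), (nat_lit 0x29001), (nat_lit 0x2a001), (nat_lit 0x40001), (nat_lit 0x44001), (nat_lit 0x28001)], [(nat_lit 0x30001), (nat_lit 0x3f001), (nat_lit 0x2f001), (nat_lit 0x31001), (nat_lit 0x4c001), (nat_lit 0x32001)], [(nat_lit 0x34001), (nat_lit 0x3c001), (nat_lit 0x4e001), (nat_lit 0x35001), (nat_lit 0x33001), (nat_lit 0x4f001)], [(nat_lit 0x37001), (nat_lit 0x45001), (nat_lit 0x38001), (nat_lit 0x52001), (nat_lit 0x36001), (nat_lit 0x39001)], [(nat_lit 0x41001), (nat_lit 0x42001), (nat_lit 0x5c001), (nat_lit 0x43001), (nat_lit 0x63001), (nat_lit 0x69001)], [(nat_lit 0x48001), (nat_lit 0x49001), (nat_lit 0x4a001), (nat_lit 0x68001), (nat_lit 0x70001), (nat_lit 0x4b001)], [(nat_lit 0x5b001), (nat_lit 0x55001), (nat_lit 0x3a001), (nat_lit 0x58001), (nat_lit 0x59001), (nat_lit 0x57001)], [(nat_lit 0x60001), (nat_lit 0x3c001), (nat_lit 0x5a001), (nat_lit 0x3d001), (nat_lit 0x3b001), (nat_lit 0x5d001)], [(nat_lit 0x66001), (nat_lit 0x3f001), (nat_lit 0x56001), (nat_lit 0x40001), (nat_lit 0x64001), (nat_lit 0x3e001)], [(nat_lit 0x6d001), (nat_lit 0x45001), (nat_lit 0x46001), (nat_lit 0x6a001), (nat_lit 0x44001), (nat_lit 0x47001)], [(nat_lit 0x4d001), (nat_lit 0x65001), (nat_lit 0x4e001), (nat_lit 0x72001), (nat_lit 0x4c001), (nat_lit 0x75001)], [(nat_lit 0x50001), (nat_lit 0x5e001), (nat_lit 0x77001), (nat_lit 0x51001), (nat_lit 0x78001), (nat_lit 0x4f001)], [(nat_lit 0x53001), (nat_lit 0x6b001), (nat_lit 0x79001), (nat_lit 0x52001), (nat_lit 0x74001), (nat_lit 0x54001)], [(nat_lit 0x5b001), (nat_lit 0x94001), (nat_lit 0x5c001), (nat_lit 0x8c001), (nat_lit 0x93001), (nat_lit 0x85001)], [(nat_lit 0x60001), (nat_lit 0x61001), (nat_lit 0x92001), (nat_lit 0x62001), (nat_lit 0x63001), (nat_lit 0x9c001)], [(nat_lit 0x66001), (nat_lit 0x67001), (nat_lit 0x84001), (nat_lit 0x68001), (nat_lit 0xa2001), (nat_lit 0x69001)], [(nat_lit 0x6d001), (nat_lit 0x6e001), (nat_lit 0x6f001), (nat_lit 0xa7001), (nat_lit 0x70001), (nat_lit 0x71001)], [(nat_lit 0x83001), (nat_lit 0x55001), (nat_lit 0x56001), (nat_lit 0x7d001), (nat_lit 0x80001), (nat_lit 0x57001)], [(nat_lit 0x8a001), (nat_lit 0x7e001), (nat_lit 0x86001), (nat_lit 0x58001), (nat_lit 0x89001), (nat_lit 0x7f001)], [(nat_lit 0x91001), (nat_lit 0x81001), (nat_lit 0x5a001), (nat_lit 0x8e001), (nat_lit 0x59001), (nat_lit 0x8f001)], [(nat_lit 0x99001), (nat_lit 0x5e001), (nat_lit 0x90001), (nat_lit 0x5f001), (nat_lit 0x96001), (nat_lit 0x5d001)], [(nat_lit 0xa0001), (nat_lit 0x65001), (nat_lit 0x82001), (nat_lit 0x9d001), (nat_lit 0x64001), (nat_lit 0x98001)], [(nat_lit 0xa5001), (nat_lit 0x6b001), (nat_lit 0xa3001), (nat_lit 0x6a001), (nat_lit 0x9f001), (nat_lit 0x6c001)], [(nat_lit 0x73001), (nat_lit 0x9e001), (nat_lit 0xa9001), (nat_lit 0x72001), (nat_lit 0x74001), (nat_lit 0xac001)], [(nat_lit 0x76001), (nat_lit 0x97001), (nat_lit 0x77001), (nat_lit 0xae001), (nat_lit 0x78001), (nat_lit 0x75001)], [(nat_lit 0x7a001), (nat_lit 0xb0001), (nat_lit 0x79001), (nat_lit 0x7c001), (nat_lit 0xab001), (nat_lit 0x7b001)], [(nat_lit 0xbf001), (nat_lit 0x94001), (nat_lit 0x95001), (nat_lit 0xd0001), (nat_lit 0xdc001), (nat_lit 0xc1001)], [(nat_lit 0x8a001), (nat_lit 0xcd001), (nat_lit 0x8b001), (nat_lit 0x8c001), (nat_lit 0xcc001), (nat_lit 0x8d001)], [(nat_lit 0x91001), (nat_lit 0xda001), (nat_lit 0x92001), (nat_lit 0xd6001), (nat_lit 0x93001), (nat_lit 0xd9001)], [(nat_lit 0x83001), (nat_lit 0xbe001), (nat_lit 0x84001), (nat_lit 0x87001), (nat_lit 0xbd001), (nat_lit 0x85001)], [(nat_lit 0x99001), (nat_lit 0x9a001), (nat_lit 0xd8001), (nat_lit 0x9b001), (nat_lit 0xe3001), (nat_lit 0x9c001)], [(nat_lit 0xa0001), (nat_lit 0xa1001), (nat_lit 0xbc001), (nat_lit 0xe9001), (nat_lit 0xa2001), (nat_lit 0xe4001)], [(nat_lit 0xa5001), (nat_lit 0xa6001), (nat_lit 0xf1001), (nat_lit 0xa7001), (nat_lit 0xea001), (nat_lit 0xa8001)], [(nat_lit 0x88001), (nat_lit 0x7e001), (nat_lit 0x8b001), (nat_lit 0x7d001), (nat_lit 0xb3001), (nat_lit 0x7f001)], [(nat_lit 0xbb001), (nat_lit 0x81001), (nat_lit 0x82001), (nat_lit 0xb5001), (nat_lit 0x80001), (nat_lit 0xb7001)], [(nat_lit 0x88001), (nat_lit 0xc2001), (nat_lit 0x86001), (nat_lit 0x87001), (nat_lit 0xc4001), (nat_lit 0x8d001)], [(nat_lit 0xca001), (nat_lit 0xb4001), (nat_lit 0xc6001), (nat_lit 0xc7001), (nat_lit 0x89001), (nat_lit 0xc9001)], [(nat_lit 0xd5001), (nat_lit 0xb6001), (nat_lit 0xd2001), (nat_lit 0x8e001), (nat_lit 0xc8001), (nat_lit 0xd3001)], [(nat_lit 0xd7001), (nat_lit 0xb8001), (nat_lit 0x90001), (nat_lit 0xd4001), (nat_lit 0xba001), (nat_lit 0x8f001)], [(nat_lit 0xe1001), (nat_lit 0x97001), (nat_lit 0xb9001), (nat_lit 0xdd001), (nat_lit 0x96001), (nat_lit 0x98001)], [(nat_lit 0xe7001), (nat_lit 0x9e001), (nat_lit 0xe5001), (nat_lit 0x9d001), (nat_lit 0x9f001), (nat_lit 0xe0001)], [(nat_lit 0xf0001), (nat_lit 0xeb001), (nat_lit 0xa3001), (nat_lit 0xee001), (nat_lit 0xe6001), (nat_lit 0xa4001)], [(nat_lit 0xaa001), (nat_lit 0xf3001), (nat_lit 0xa9001), (nat_lit 0xf5001), (nat_lit 0xab001), (nat_lit 0xf9001)], [(nat_lit 0xad001), (nat_lit 0xde001), (nat_lit 0xf8001), (nat_lit 0xae001), (nat_lit 0xaf001), (nat_lit 0xac001)], [(nat_lit 0xfa001), (nat_lit 0xb0001), (nat_lit 0xec001), (nat_lit 0xb1001), (nat_lit 0xf4001), (nat_lit 0xb2001)], [(nat_lit 0xbf001), (nat_lit 0xbe001), (nat_lit 0xc0001), (nat_lit 0xc3001), (nat_lit 0x111001), (nat_lit 0xc1001)], [(nat_lit 0xce001), (nat_lit 0xcd001), (nat_lit 0xcf001), (nat_lit 0xd0001), (nat_lit 0x128001), (nat_lit 0xd1001)], [(nat_lit 0x10f001), (nat_lit 0xda001), (nat_lit 0xdb001), (nat_lit 0x138001), (nat_lit 0xdc001), (nat_lit 0x13b001)], [(nat_lit 0xca001), (nat_lit 0x125001), (nat_lit 0xcb001), (nat_lit 0x11f001), (nat_lit 0xcc001), (nat_lit 0x124001)], [(nat_lit 0xd5001), (nat_lit 0x137001), (nat_lit 0x12e001), (nat_lit 0xd6001), (nat_lit 0x120001), (nat_lit 0x136001)], [(nat_lit 0xd7001), (nat_lit 0x139001), (nat_lit 0xd8001), (nat_lit 0x135001), (nat_lit 0x10c001), (nat_lit 0xd9001)], [(nat_lit 0xbb001), (nat_lit 0x10e001), (nat_lit 0xbc001), (nat_lit 0x109001), (nat_lit 0xbd001), (nat_lit 0x10d001)], [(nat_lit 0xe1001), (nat_lit 0xe2001), (nat_lit 0x10b001), (nat_lit 0x141001), (nat_lit 0xe3001), (nat_lit 0xe4001)], [(nat_lit 0xe7001), (nat_lit 0xe8001), (nat_lit 0x149001), (nat_lit 0xe9001), (nat_lit 0xea001), (nat_lit 0x143001)], [(nat_lit 0xf0001), (nat_lit 0x156001), (nat_lit 0xf1001), (nat_lit 0x153001), (nat_lit 0x14a001), (nat_lit 0xf2001)], [(nat_lit 0xc5001), (nat_lit 0xb4001), (nat_lit 0xcb001), (nat_lit 0xfe001), (nat_lit 0xb3001), (nat_lit 0x101001)], [(nat_lit 0x108001), (nat_lit 0xb6001), (nat_lit 0x104001), (nat_lit 0xb5001), (nat_lit 0x100001), (nat_lit 0x105001)], [(nat_lit 0x10a001), (nat_lit 0xb8001), (nat_lit 0xb9001), (nat_lit 0x107001), (nat_lit 0xba001), (nat_lit 0xb7001)], [(nat_lit 0xce001), (nat_lit 0xc2001), (nat_lit 0xcf001), (nat_lit 0xc3001), (nat_lit 0x112001), (nat_lit 0xd1001)], [(nat_lit 0xc5001), (nat_lit 0x113001), (nat_lit 0xc6001), (nat_lit 0x114001), (nat_lit 0xc4001), (nat_lit 0x117001)], [(nat_lit 0x11e001), (nat_lit 0xff001), (nat_lit 0x11a001), (nat_lit 0xc7001), (nat_lit 0xc8001), (nat_lit 0x11c001)], [(nat_lit 0x121001), (nat_lit 0x102001), (nat_lit 0x119001), (nat_lit 0x11d001), (nat_lit 0x103001), (nat_lit 0xc9001)], [(nat_lit 0x12d001), (nat_lit 0x129001), (nat_lit 0xd2001), (nat_lit 0x12a001), (nat_lit 0x11b001), (nat_lit 0x12b001)], [(nat_lit 0x133001), (nat_lit 0x106001), (nat_lit 0x12c001), (nat_lit 0xd4001), (nat_lit 0x132001), (nat_lit 0xd3001)], [(nat_lit 0x13f001), (nat_lit 0xde001), (nat_lit 0x13c001), (nat_lit 0xdd001), (nat_lit 0xdf001), (nat_lit 0xe0001)], [(nat_lit 0x148001), (nat_lit 0x144001), (nat_lit 0xe5001), (nat_lit 0x147001), (nat_lit 0xe6001), (nat_lit 0x13e001)], [(nat_lit 0x14e001), (nat_lit 0xeb001), (nat_lit 0xec001), (nat_lit 0x14b001), (nat_lit 0x146001), (nat_lit 0xed001)], [(nat_lit 0x154001), (nat_lit 0x14c001), (nat_lit 0x151001), (nat_lit 0xee001), (nat_lit 0x155001), (nat_lit 0xef001)], [(nat_lit 0x15d001), (nat_lit 0xf3001), (nat_lit 0x145001), (nat_lit 0x159001), (nat_lit 0xf4001), (nat_lit 0x15c001)], [(nat_lit 0xf6001), (nat_lit 0x15a001), (nat_lit 0xf8001), (nat_lit 0xf5001), (nat_lit 0xf7001), (nat_lit 0xf9001)], [(nat_lit 0xfa001), (nat_lit 0xfb001), (nat_lit 0x14f001), (nat_lit 0xfc001), (nat_lit 0x15f001), (nat_lit 0xfd001)], [(nat_lit 0x10f001), (nat_lit 0x10e001), (nat_lit 0x110001), (nat_lit 0x174001), (nat_lit 0x111001), (nat_lit 0x179001)], [(nat_lit 0x126001), (nat_lit 0x125001), (nat_lit 0x127001), (nat_lit 0x194001), (nat_lit 0x128001), (nat_lit 0x19a001)], [(nat_lit 0x173001), (nat_lit 0x137001), (nat_lit 0x1ad001), (nat_lit 0x138001), (nat_lit 0x195001), (nat_lit 0x1ac001)], [(nat_lit 0x176001), (nat_lit 0x139001), (nat_lit 0x13a001), (nat_lit 0x1ab001), (nat_lit 0x178001), (nat_lit 0x13b001)], [(nat_lit 0x11e001), (nat_lit 0x192001), (nat_lit 0x18b001), (nat_lit 0x11f001), (nat_lit 0x120001), (nat_lit 0x191001)], [(nat_lit 0x121001), (nat_lit 0x196001), (nat_lit 0x122001), (nat_lit 0x190001), (nat_lit 0x123001), (nat_lit 0x124001)], [(nat_lit 0x12d001), (nat_lit 0x1a4001), (nat_lit 0x12e001), (nat_lit 0x131001), (nat_lit 0x18c001), (nat_lit 0x12f001)], [(nat_lit 0x133001), (nat_lit 0x1aa001), (nat_lit 0x134001), (nat_lit 0x135001), (nat_lit 0x1a9001), (nat_lit 0x136001)], [(nat_lit 0x10a001), (nat_lit 0x175001), (nat_lit 0x10b001), (nat_lit 0x170001), (nat_lit 0x10c001), (nat_lit 0x10d001)], [(nat_lit 0x108001), (nat_lit 0x172001), (nat_lit 0x16b001), (nat_lit 0x109001), (nat_lit 0x116001), (nat_lit 0x171001)], [(nat_lit 0x13f001), (nat_lit 0x140001), (nat_lit 0x1b5001), (nat_lit 0x141001), (nat_lit 0x142001), (nat_lit 0x143001)], [(nat_lit 0x148001), (nat_lit 0x1c2001), (nat_lit 0x149001), (nat_lit 0x1c1001), (nat_lit 0x14a001), (nat_lit 0x1b7001)], [(nat_lit 0x1cd001), (nat_lit 0x156001), (nat_lit 0x157001), (nat_lit 0x1d1001), (nat_lit 0x1c4001), (nat_lit 0x158001)], [(nat_lit 0x154001), (nat_lit 0x1d0001), (nat_lit 0x151001), (nat_lit 0x153001), (nat_lit 0x1d3001), (nat_lit 0x152001)], [(nat_lit 0x115001), (nat_lit 0xff001), (nat_lit 0x160001), (nat_lit 0xfe001), (nat_lit 0x100001), (nat_lit 0x162001)], [(nat_lit 0x118001), (nat_lit 0x102001), (nat_lit 0x122001), (nat_lit 0x164001), (nat_lit 0x103001), (nat_lit 0x101001)], [(nat_lit 0x16a001), (nat_lit 0x165001), (nat_lit 0x104001), (nat_lit 0x167001), (nat_lit 0x161001), (nat_lit 0x168001)], [(nat_lit 0x16f001), (nat_lit 0x106001), (nat_lit 0x169001), (nat_lit 0x107001), (nat_lit 0x16c001), (nat_lit 0x105001)], [(nat_lit 0x126001), (nat_lit 0x113001), (nat_lit 0x127001), (nat_lit 0x17a001), (nat_lit 0x112001), (nat_lit 0x17d001)], [(nat_lit 0x115001), (nat_lit 0x17b001), (nat_lit 0x17f001), (nat_lit 0x114001), (nat_lit 0x116001), (nat_lit 0x182001)], [(nat_lit 0x118001), (nat_lit 0x17e001), (nat_lit 0x119001), (nat_lit 0x184001), (nat_lit 0x123001), (nat_lit 0x117001)], [(nat_lit 0x18a001), (nat_lit 0x185001), (nat_lit 0x11a001), (nat_lit 0x187001), (nat_lit 0x11b001), (nat_lit 0x188001)], [(nat_lit 0x18f001), (nat_lit 0x163001), (nat_lit 0x189001), (nat_lit 0x11d001), (nat_lit 0x18d001), (nat_lit 0x11c001)], [(nat_lit 0x19f001), (nat_lit 0x129001), (nat_lit 0x166001), (nat_lit 0x19b001), (nat_lit 0x186001), (nat_lit 0x19d001)], [(nat_lit 0x130001), (nat_lit 0x19c001), (nat_lit 0x134001), (nat_lit 0x12a001), (nat_lit 0x1a0001), (nat_lit 0x12f001)], [(nat_lit 0x130001), (nat_lit 0x19e001), (nat_lit 0x12c001), (nat_lit 0x131001), (nat_lit 0x1a1001), (nat_lit 0x12b001)], [(nat_lit 0x1a7001), (nat_lit 0x16d001), (nat_lit 0x1a3001), (nat_lit 0x16e001), (nat_lit 0x132001), (nat_lit 0x18e001)], [(nat_lit 0x1b4001), (nat_lit 0x1ae001), (nat_lit 0x13c001), (nat_lit 0x1b2001), (nat_lit 0x13d001), (nat_lit 0x13e001)], [(nat_lit 0x1ba001), (nat_lit 0x144001), (nat_lit 0x145001), (nat_lit 0x1b8001), (nat_lit 0x146001), (nat_lit 0x1b1001)], [(nat_lit 0x1c0001), (nat_lit 0x1b9001), (nat_lit 0x1bd001), (nat_lit 0x147001), (nat_lit 0x1be001), (nat_lit 0x1b3001)], [(nat_lit 0x14e001), (nat_lit 0x1cc001), (nat_lit 0x14f001), (nat_lit 0x1ca001), (nat_lit 0x1bc001), (nat_lit 0x150001)], [(nat_lit 0x1c9001), (nat_lit 0x14c001), (nat_lit 0x1c5001), (nat_lit 0x14b001), (nat_lit 0x1c7001), (nat_lit 0x14d001)], [(nat_lit 0x1d4001), (nat_lit 0x1c8001), (nat_lit 0x1d5001), (nat_lit 0x1bf001), (nat_lit 0x155001), (nat_lit 0x1d6001)], [(nat_lit 0x15d001), (nat_lit 0x15e001), (nat_lit 0x1bb001), (nat_lit 0x1da001), (nat_lit 0x15f001), (nat_lit 0x1dc001)], [(nat_lit 0x1d8001), (nat_lit 0x15a001), (nat_lit 0x1af001), (nat_lit 0x159001), (nat_lit 0x15b001), (nat_lit 0x15c001)], [(nat_lit 0x173001), (nat_lit 0x172001), (nat_lit 0x209001), (nat_lit 0x174001), (nat_lit 0x17c001), (nat_lit 0x208001)], [(nat_lit 0x176001), (nat_lit 0x175001), (nat_lit 0x177001), (nat_lit 0x207001), (nat_lit 0x178001), (nat_lit 0x179001)], [(nat_lit 0x193001), (nat_lit 0x192001), (nat_lit 0x23a001), (nat_lit 0x194001), (nat_lit 0x195001), (nat_lit 0x239001)], [(nat_lit 0x197001), (nat_lit 0x196001), (nat_lit 0x198001), (nat_lit 0x238001), (nat_lit 0x199001), (nat_lit 0x19a001)], [(nat_lit 0x20a001), (nat_lit 0x253001), (nat_lit 0x1ad001), (nat_lit 0x25a001), (nat_lit 0x23c001), (nat_lit 0x259001)], [(nat_lit 0x206001), (nat_lit 0x1aa001), (nat_lit 0x257001), (nat_lit 0x1ab001), (nat_lit 0x256001), (nat_lit 0x1ac001)], [(nat_lit 0x18a001), (nat_lit 0x230001), (nat_lit 0x18b001), (nat_lit 0x229001), (nat_lit 0x18c001), (nat_lit 0x22f001)], [(nat_lit 0x18f001), (nat_lit 0x236001), (nat_lit 0x22e001), (nat_lit 0x190001), (nat_lit 0x234001), (nat_lit 0x191001)], [(nat_lit 0x248001), (nat_lit 0x1a4001), (nat_lit 0x252001), (nat_lit 0x1a5001), (nat_lit 0x231001), (nat_lit 0x1a6001)], [(nat_lit 0x1a7001), (nat_lit 0x255001), (nat_lit 0x1a8001), (nat_lit 0x203001), (nat_lit 0x1a9001), (nat_lit 0x235001)], [(nat_lit 0x16f001), (nat_lit 0x205001), (nat_lit 0x1fe001), (nat_lit 0x170001), (nat_lit 0x204001), (nat_lit 0x171001)], [(nat_lit 0x16a001), (nat_lit 0x201001), (nat_lit 0x16b001), (nat_lit 0x1f9001), (nat_lit 0x181001), (nat_lit 0x200001)], [(nat_lit 0x1b4001), (nat_lit 0x264001), (nat_lit 0x1b5001), (nat_lit 0x1ef001), (nat_lit 0x1b6001), (nat_lit 0x1b7001)], [(nat_lit 0x26f001), (nat_lit 0x1c2001), (nat_lit 0x1c3001), (nat_lit 0x27b001), (nat_lit 0x1c4001), (nat_lit 0x267001)], [(nat_lit 0x1c0001), (nat_lit 0x27a001), (nat_lit 0x1f4001), (nat_lit 0x1c1001), (nat_lit 0x279001), (nat_lit 0x1f1001)], [(nat_lit 0x1cd001), (nat_lit 0x1cc001), (nat_lit 0x1ce001), (nat_lit 0x28c001), (nat_lit 0x271001), (nat_lit 0x1cf001)], [(nat_lit 0x28b001), (nat_lit 0x1d0001), (nat_lit 0x27d001), (nat_lit 0x1d1001), (nat_lit 0x28e001), (nat_lit 0x1d2001)], [(nat_lit 0x1d4001), (nat_lit 0x28f001), (nat_lit 0x1d5001), (nat_lit 0x278001), (nat_lit 0x1d3001), (nat_lit 0x290001)], [(nat_lit 0x180001), (nat_lit 0x1dd001), (nat_lit 0x160001), (nat_lit 0x1e0001), (nat_lit 0x161001), (nat_lit 0x1e1001)], [(nat_lit 0x183001), (nat_lit 0x163001), (nat_lit 0x1e2001), (nat_lit 0x164001), (nat_lit 0x1e3001), (nat_lit 0x162001)], [(nat_lit 0x1ec001), (nat_lit 0x165001), (nat_lit 0x166001), (nat_lit 0x1e7001), (nat_lit 0x1df001), (nat_lit 0x1e9001)], [(nat_lit 0x1f7001), (nat_lit 0x1e8001), (nat_lit 0x1ee001), (nat_lit 0x167001), (nat_lit 0x1f2001), (nat_lit 0x1f3001)], [(nat_lit 0x1fd001), (nat_lit 0x1ea001), (nat_lit 0x169001), (nat_lit 0x1f5001), (nat_lit 0x1fb001), (nat_lit 0x168001)], [(nat_lit 0x202001), (nat_lit 0x16d001), (nat_lit 0x1fc001), (nat_lit 0x16e001), (nat_lit 0x16c001), (nat_lit 0x1e6001)], [(nat_lit 0x193001), (nat_lit 0x17b001), (nat_lit 0x20b001), (nat_lit 0x17a001), (nat_lit 0x17c001), (nat_lit 0x20d001)], [(nat_lit 0x197001), (nat_lit 0x17e001), (nat_lit 0x198001), (nat_lit 0x20f001), (nat_lit 0x199001), (nat_lit 0x17d001)], [(nat_lit 0x180001), (nat_lit 0x210001), (nat_lit 0x17f001), (nat_lit 0x212001), (nat_lit 0x181001), (nat_lit 0x214001)], [(nat_lit 0x183001), (nat_lit 0x20e001), (nat_lit 0x216001), (nat_lit 0x184001), (nat_lit 0x217001), (nat_lit 0x182001)], [(nat_lit 0x21e001), (nat_lit 0x185001), (nat_lit 0x1de001), (nat_lit 0x21a001), (nat_lit 0x186001), (nat_lit 0x21c001)], [(nat_lit 0x228001), (nat_lit 0x21b001), (nat_lit 0x220001), (nat_lit 0x187001), (nat_lit 0x223001), (nat_lit 0x225001)], [(nat_lit 0x22d001), (nat_lit 0x21d001), (nat_lit 0x189001), (nat_lit 0x227001), (nat_lit 0x22a001), (nat_lit 0x188001)], [(nat_lit 0x232001), (nat_lit 0x1e4001), (nat_lit 0x22b001), (nat_lit 0x1e5001), (nat_lit 0x18d001), (nat_lit 0x18e001)], [(nat_lit 0x19f001), (nat_lit 0x247001), (nat_lit 0x1ed001), (nat_lit 0x241001), (nat_lit 0x21f001), (nat_lit 0x246001)], [(nat_lit 0x240001), (nat_lit 0x19c001), (nat_lit 0x23d001), (nat_lit 0x19b001), (nat_lit 0x23e001), (nat_lit 0x1a6001)], [(nat_lit 0x244001), (nat_lit 0x19e001), (nat_lit 0x1eb001), (nat_lit 0x1a5001), (nat_lit 0x242001), (nat_lit 0x19d001)], [(nat_lit 0x1a2001), (nat_lit 0x23f001), (nat_lit 0x1a8001), (nat_lit 0x224001), (nat_lit 0x1a0001), (nat_lit 0x24b001)], [(nat_lit 0x1a2001), (nat_lit 0x243001), (nat_lit 0x1a3001), (nat_lit 0x24f001), (nat_lit 0x1a1001), (nat_lit 0x22c001)], [(nat_lit 0x25e001), (nat_lit 0x1ae001), (nat_lit 0x1af001), (nat_lit 0x25b001), (nat_lit 0x1b0001), (nat_lit 0x1b1001)], [(nat_lit 0x1f0001), (nat_lit 0x25c001), (nat_lit 0x1f8001), (nat_lit 0x1b2001), (nat_lit 0x262001), (nat_lit 0x1b3001)], [(nat_lit 0x1ba001), (nat_lit 0x26e001), (nat_lit 0x1bb001), (nat_lit 0x26d001), (nat_lit 0x1bc001), (nat_lit 0x261001)], [(nat_lit 0x26c001), (nat_lit 0x1b9001), (nat_lit 0x268001), (nat_lit 0x1b8001), (nat_lit 0x269001), (nat_lit 0x25d001)], [(nat_lit 0x1f6001), (nat_lit 0x272001), (nat_lit 0x1bd001), (nat_lit 0x1ff001), (nat_lit 0x273001), (nat_lit 0x1fa001)], [(nat_lit 0x277001), (nat_lit 0x26a001), (nat_lit 0x274001), (nat_lit 0x1bf001), (nat_lit 0x1be001), (nat_lit 0x275001)], [(nat_lit 0x1c9001), (nat_lit 0x28a001), (nat_lit 0x281001), (nat_lit 0x1ca001), (nat_lit 0x289001), (nat_lit 0x1cb001)], [(nat_lit 0x282001), (nat_lit 0x27c001), (nat_lit 0x1c5001), (nat_lit 0x27f001), (nat_lit 0x283001), (nat_lit 0x1c6001)], [(nat_lit 0x288001), (nat_lit 0x1c8001), (nat_lit 0x284001), (nat_lit 0x26b001), (nat_lit 0x1c7001), (nat_lit 0x285001)], [(nat_lit 0x291001), (nat_lit 0x286001), (nat_lit 0x292001), (nat_lit 0x276001), (nat_lit 0x1d7001), (nat_lit 0x1d6001)], [(nat_lit 0x1d8001), (nat_lit 0x1d9001), (nat_lit 0x25f001), (nat_lit 0x1da001), (nat_lit 0x1db001), (nat_lit 0x1dc001)], [(nat_lit 0x20a001), (nat_lit 0x2ca001), (nat_lit 0x209001), (nat_lit 0x2d2001), (nat_lit 0x20c001), (nat_lit 0x2d1001)], [(nat_lit 0x206001), (nat_lit 0x205001), (nat_lit 0x2cf001), (nat_lit 0x207001), (nat_lit 0x2ce001), (nat_lit 0x208001)], [(nat_lit 0x23b001), (nat_lit 0x315001), (nat_lit 0x23a001), (nat_lit 0x31f001), (nat_lit 0x23c001), (nat_lit 0x31e001)], [(nat_lit 0x237001), (nat_lit 0x236001), (nat_lit 0x31c001), (nat_lit 0x238001), (nat_lit 0x31a001), (nat_lit 0x239001)], [(nat_lit 0x332001), (nat_lit 0x253001), (nat_lit 0x252001), (nat_lit 0x337001), (nat_lit 0x316001), (nat_lit 0x254001)], [(nat_lit 0x2d3001), (nat_lit 0x338001), (nat_lit 0x341001), (nat_lit 0x25a001), (nat_lit 0x345001), (nat_lit 0x33f001)], [(nat_lit 0x2d0001), (nat_lit 0x258001), (nat_lit 0x257001), (nat_lit 0x33d001), (nat_lit 0x33c001), (nat_lit 0x259001)], [(nat_lit 0x2cc001), (nat_lit 0x255001), (nat_lit 0x33a001), (nat_lit 0x2cd001), (nat_lit 0x256001), (nat_lit 0x31b001)], [(nat_lit 0x302001), (nat_lit 0x230001), (nat_lit 0x314001), (nat_lit 0x30e001), (nat_lit 0x231001), (nat_lit 0x313001)], [(nat_lit 0x228001), (nat_lit 0x30d001), (nat_lit 0x2ed001), (nat_lit 0x229001), (nat_lit 0x251001), (nat_lit 0x2e7001)], [(nat_lit 0x22d001), (nat_lit 0x312001), (nat_lit 0x22e001), (nat_lit 0x2e6001), (nat_lit 0x24e001), (nat_lit 0x22f001)], [(nat_lit 0x232001), (nat_lit 0x317001), (nat_lit 0x24d001), (nat_lit 0x233001), (nat_lit 0x234001), (nat_lit 0x235001)], [(nat_lit 0x248001), (nat_lit 0x247001), (nat_lit 0x331001), (nat_lit 0x249001), (nat_lit 0x303001), (nat_lit 0x24a001)], [(nat_lit 0x202001), (nat_lit 0x2cb001), (nat_lit 0x2c4001), (nat_lit 0x203001), (nat_lit 0x204001), (nat_lit 0x219001)], [(nat_lit 0x1fd001), (nat_lit 0x2c6001), (nat_lit 0x1fe001), (nat_lit 0x1ff001), (nat_lit 0x2c5001), (nat_lit 0x200001)], [(nat_lit 0x2b0001), (nat_lit 0x201001), (nat_lit 0x2c9001), (nat_lit 0x2c0001), (nat_lit 0x211001), (nat_lit 0x2c8001)], [(nat_lit 0x1f7001), (nat_lit 0x2bf001), (nat_lit 0x1f8001), (nat_lit 0x1f9001), (nat_lit 0x2bb001), (nat_lit 0x1fa001)], [(nat_lit 0x34f001), (nat_lit 0x264001), (nat_lit 0x265001), (nat_lit 0x2b2001), (nat_lit 0x266001), (nat_lit 0x267001)], [(nat_lit 0x1f0001), (nat_lit 0x2b1001), (nat_lit 0x1ee001), (nat_lit 0x1ef001), (nat_lit 0x2b4001), (nat_lit 0x1f1001)], [(nat_lit 0x26f001), (nat_lit 0x26e001), (nat_lit 0x270001), (nat_lit 0x365001), (nat_lit 0x271001), (nat_lit 0x352001)], [(nat_lit 0x364001), (nat_lit 0x27a001), (nat_lit 0x372001), (nat_lit 0x27b001), (nat_lit 0x371001), (nat_lit 0x2b3001)], [(nat_lit 0x1f6001), (nat_lit 0x2a5001), (nat_lit 0x1f4001), (nat_lit 0x1f5001), (nat_lit 0x2bc001), (nat_lit 0x1f3001)], [(nat_lit 0x277001), (nat_lit 0x36f001), (nat_lit 0x2be001), (nat_lit 0x278001), (nat_lit 0x279001), (nat_lit 0x36e001)], [(nat_lit 0x28b001), (nat_lit 0x28a001), (nat_lit 0x37a001), (nat_lit 0x28c001), (nat_lit 0x388001), (nat_lit 0x28d001)], [(nat_lit 0x379001), (nat_lit 0x27c001), (nat_lit 0x27d001), (nat_lit 0x373001), (nat_lit 0x376001), (nat_lit 0x27e001)], [(nat_lit 0x387001), (nat_lit 0x28f001), (nat_lit 0x378001), (nat_lit 0x370001), (nat_lit 0x28e001), (nat_lit 0x389001)], [(nat_lit 0x291001), (nat_lit 0x38a001), (nat_lit 0x292001), (nat_lit 0x36d001), (nat_lit 0x293001), (nat_lit 0x290001)], [(nat_lit 0x299001), (nat_lit 0x1dd001), (nat_lit 0x1de001), (nat_lit 0x294001), (nat_lit 0x1df001), (nat_lit 0x296001)], [(nat_lit 0x213001), (nat_lit 0x295001), (nat_lit 0x226001), (nat_lit 0x1e0001), (nat_lit 0x29c001), (nat_lit 0x222001)], [(nat_lit 0x215001), (nat_lit 0x297001), (nat_lit 0x1e2001), (nat_lit 0x221001), (nat_lit 0x29e001), (nat_lit 0x1e1001)], [(nat_lit 0x218001), (nat_lit 0x1e4001), (nat_lit 0x29f001), (nat_lit 0x1e5001), (nat_lit 0x1e3001), (nat_lit 0x1e6001)], [(nat_lit 0x1ec001), (nat_lit 0x2af001), (nat_lit 0x1ed001), (nat_lit 0x2a8001), (nat_lit 0x29b001), (nat_lit 0x2ae001)], [(nat_lit 0x2a7001), (nat_lit 0x1e8001), (nat_lit 0x2a1001), (nat_lit 0x1e7001), (nat_lit 0x2a2001), (nat_lit 0x2a4001)], [(nat_lit 0x2ac001), (nat_lit 0x1ea001), (nat_lit 0x1eb001), (nat_lit 0x2a6001), (nat_lit 0x2a9001), (nat_lit 0x1e9001)], [(nat_lit 0x2b9001), (nat_lit 0x2a3001), (nat_lit 0x2b6001), (nat_lit 0x29d001), (nat_lit 0x1f2001), (nat_lit 0x2b8001)], [(nat_lit 0x2c3001), (nat_lit 0x2aa001), (nat_lit 0x1fc001), (nat_lit 0x2c2001), (nat_lit 0x1fb001), (nat_lit 0x2a0001)], [(nat_lit 0x23b001), (nat_lit 0x2d4001), (nat_lit 0x20b001), (nat_lit 0x2d7001), (nat_lit 0x20c001), (nat_lit 0x2d8001)], [(nat_lit 0x237001), (nat_lit 0x20e001), (nat_lit 0x2d9001), (nat_lit 0x20f001), (nat_lit 0x2da001), (nat_lit 0x20d001)], [(nat_lit 0x2e1001), (nat_lit 0x210001), (nat_lit 0x2d5001), (nat_lit 0x2dd001), (nat_lit 0x211001), (nat_lit 0x2df001)], [(nat_lit 0x213001), (nat_lit 0x2de001), (nat_lit 0x2e4001), (nat_lit 0x212001), (nat_lit 0x2e8001), (nat_lit 0x2eb001)], [(nat_lit 0x215001), (nat_lit 0x2e0001), (nat_lit 0x216001), (nat_lit 0x2ee001), (nat_lit 0x2ef001), (nat_lit 0x214001)], [(nat_lit 0x218001), (nat_lit 0x2db001), (nat_lit 0x2f1001), (nat_lit 0x233001), (nat_lit 0x217001), (nat_lit 0x219001)], [(nat_lit 0x21e001), (nat_lit 0x301001), (nat_lit 0x29a001), (nat_lit 0x2fb001), (nat_lit 0x21f001), (nat_lit 0x300001)], [(nat_lit 0x2fa001), (nat_lit 0x21b001), (nat_lit 0x2f3001), (nat_lit 0x21a001), (nat_lit 0x2f4001), (nat_lit 0x2f7001)], [(nat_lit 0x2ff001), (nat_lit 0x21d001), (nat_lit 0x298001), (nat_lit 0x2f9001), (nat_lit 0x2fc001), (nat_lit 0x21c001)], [(nat_lit 0x2ec001), (nat_lit 0x304001), (nat_lit 0x220001), (nat_lit 0x221001), (nat_lit 0x307001), (nat_lit 0x222001)], [(nat_lit 0x250001), (nat_lit 0x2f5001), (nat_lit 0x308001), (nat_lit 0x224001), (nat_lit 0x223001), (nat_lit 0x309001)], [(nat_lit 0x2e5001), (nat_lit 0x2f8001), (nat_lit 0x226001), (nat_lit 0x227001), (nat_lit 0x30b001), (nat_lit 0x225001)], [(nat_lit 0x24c001), (nat_lit 0x2fd001), (nat_lit 0x22b001), (nat_lit 0x30f001), (nat_lit 0x22a001), (nat_lit 0x22c001)], [(nat_lit 0x240001), (nat_lit 0x245001), (nat_lit 0x325001), (nat_lit 0x241001), (nat_lit 0x32a001), (nat_lit 0x24a001)], [(nat_lit 0x244001), (nat_lit 0x245001), (nat_lit 0x2ad001), (nat_lit 0x249001), (nat_lit 0x330001), (nat_lit 0x246001)], [(nat_lit 0x324001), (nat_lit 0x258001), (nat_lit 0x23d001), (nat_lit 0x321001), (nat_lit 0x322001), (nat_lit 0x254001)], [(nat_lit 0x329001), (nat_lit 0x23f001), (nat_lit 0x323001), (nat_lit 0x2f6001), (nat_lit 0x23e001), (nat_lit 0x326001)], [(nat_lit 0x32e001), (nat_lit 0x243001), (nat_lit 0x2ab001), (nat_lit 0x32b001), (nat_lit 0x242001), (nat_lit 0x2fe001)], [(nat_lit 0x24c001), (nat_lit 0x327001), (nat_lit 0x24d001), (nat_lit 0x30a001), (nat_lit 0x24e001), (nat_lit 0x24b001)], [(nat_lit 0x250001), (nat_lit 0x32c001), (nat_lit 0x334001), (nat_lit 0x24f001), (nat_lit 0x251001), (nat_lit 0x311001)], [(nat_lit 0x25e001), (nat_lit 0x34e001), (nat_lit 0x25f001), (nat_lit 0x34c001), (nat_lit 0x260001), (nat_lit 0x261001)], [(nat_lit 0x34b001), (nat_lit 0x25c001), (nat_lit 0x346001), (nat_lit 0x25b001), (nat_lit 0x348001), (nat_lit 0x25d001)], [(nat_lit 0x2b5001), (nat_lit 0x349001), (nat_lit 0x2ba001), (nat_lit 0x263001), (nat_lit 0x262001), (nat_lit 0x353001)], [(nat_lit 0x26c001), (nat_lit 0x363001), (nat_lit 0x359001), (nat_lit 0x26d001), (nat_lit 0x362001), (nat_lit 0x34d001)], [(nat_lit 0x35a001), (nat_lit 0x356001), (nat_lit 0x268001), (nat_lit 0x358001), (nat_lit 0x35b001), (nat_lit 0x347001)], [(nat_lit 0x360001), (nat_lit 0x26a001), (nat_lit 0x35c001), (nat_lit 0x26b001), (nat_lit 0x269001), (nat_lit 0x35d001)], [(nat_lit 0x368001), (nat_lit 0x272001), (nat_lit 0x357001), (nat_lit 0x2c7001), (nat_lit 0x366001), (nat_lit 0x2c1001)], [(nat_lit 0x2bd001), (nat_lit 0x367001), (nat_lit 0x274001), (nat_lit 0x369001), (nat_lit 0x273001), (nat_lit 0x36a001)], [(nat_lit 0x36c001), (nat_lit 0x35e001), (nat_lit 0x36b001), (nat_lit 0x276001), (nat_lit 0x355001), (nat_lit 0x275001)], [(nat_lit 0x282001), (nat_lit 0x374001), (nat_lit 0x281001), (nat_lit 0x27f001), (nat_lit 0x37c001), (nat_lit 0x280001)], [(nat_lit 0x288001), (nat_lit 0x386001), (nat_lit 0x37e001), (nat_lit 0x361001), (nat_lit 0x289001), (nat_lit 0x385001)], [(nat_lit 0x37d001), (nat_lit 0x377001), (nat_lit 0x284001), (nat_lit 0x37f001), (nat_lit 0x283001), (nat_lit 0x380001)], [(nat_lit 0x383001), (nat_lit 0x286001), (nat_lit 0x381001), (nat_lit 0x35f001), (nat_lit 0x287001), (nat_lit 0x285001)], [(nat_lit 0x3c0001), (nat_lit 0x2ca001), (nat_lit 0x2c9001), (nat_lit 0x3e7001), (nat_lit 0x2d6001), (nat_lit 0x3e6001)], [(nat_lit 0x2d3001), (nat_lit 0x3e8001), (nat_lit 0x340001), (nat_lit 0x2d2001), (nat_lit 0x3ec001), (nat_lit 0x343001)], [(nat_lit 0x2d0001), (nat_lit 0x3e5001), (nat_lit 0x2cf001), (nat_lit 0x344001), (nat_lit 0x3eb001), (nat_lit 0x2d1001)], [(nat_lit 0x2cc001), (nat_lit 0x2cb001), (nat_lit 0x3e9001), (nat_lit 0x2cd001), (nat_lit 0x2ce001), (nat_lit 0x2dc001)], [(nat_lit 0x43d001), (nat_lit 0x315001), (nat_lit 0x314001), (nat_lit 0x45e001), (nat_lit 0x316001), (nat_lit 0x45d001)], [(nat_lit 0x320001), (nat_lit 0x45f001), (nat_lit 0x466001), (nat_lit 0x31f001), (nat_lit 0x468001), (nat_lit 0x467001)], [(nat_lit 0x31d001), (nat_lit 0x45c001), (nat_lit 0x31c001), (nat_lit 0x464001), (nat_lit 0x462001), (nat_lit 0x31e001)], [(nat_lit 0x318001), (nat_lit 0x317001), (nat_lit 0x460001), (nat_lit 0x319001), (nat_lit 0x31a001), (nat_lit 0x31b001)], [(nat_lit 0x332001), (nat_lit 0x3c1001), (nat_lit 0x331001), (nat_lit 0x485001), (nat_lit 0x43f001), (nat_lit 0x333001)], [(nat_lit 0x486001), (nat_lit 0x338001), (nat_lit 0x48f001), (nat_lit 0x337001), (nat_lit 0x493001), (nat_lit 0x339001)], [(nat_lit 0x342001), (nat_lit 0x49a001), (nat_lit 0x341001), (nat_lit 0x344001), (nat_lit 0x49d001), (nat_lit 0x343001)], [(nat_lit 0x3ed001), (nat_lit 0x494001), (nat_lit 0x49f001), (nat_lit 0x46a001), (nat_lit 0x345001), (nat_lit 0x4a0001)], [(nat_lit 0x342001), (nat_lit 0x33e001), (nat_lit 0x340001), (nat_lit 0x33d001), (nat_lit 0x497001), (nat_lit 0x33f001)], [(nat_lit 0x3ea001), (nat_lit 0x33b001), (nat_lit 0x33a001), (nat_lit 0x495001), (nat_lit 0x33c001), (nat_lit 0x463001)], [(nat_lit 0x302001), (nat_lit 0x301001), (nat_lit 0x43c001), (nat_lit 0x432001), (nat_lit 0x303001), (nat_lit 0x43b001)], [(nat_lit 0x431001), (nat_lit 0x30d001), (nat_lit 0x456001), (nat_lit 0x30e001), (nat_lit 0x32d001), (nat_lit 0x410001)], [(nat_lit 0x43a001), (nat_lit 0x312001), (nat_lit 0x45b001), (nat_lit 0x40f001), (nat_lit 0x328001), (nat_lit 0x313001)], [(nat_lit 0x2ec001), (nat_lit 0x403001), (nat_lit 0x2ed001), (nat_lit 0x2ee001), (nat_lit 0x336001), (nat_lit 0x2eb001)], [(nat_lit 0x2e5001), (nat_lit 0x40e001), (nat_lit 0x2e4001), (nat_lit 0x2e6001), (nat_lit 0x411001), (nat_lit 0x2e7001)], [(nat_lit 0x2c3001), (nat_lit 0x3e2001), (nat_lit 0x2c4001), (nat_lit 0x3e0001), (nat_lit 0x2c5001), (nat_lit 0x2f2001)], [(nat_lit 0x3bc001), (nat_lit 0x2c6001), (nat_lit 0x3e4001), (nat_lit 0x2c7001), (nat_lit 0x3e3001), (nat_lit 0x2c8001)], [(nat_lit 0x2b0001), (nat_lit 0x2af001), (nat_lit 0x3bf001), (nat_lit 0x3b4001), (nat_lit 0x2e3001), (nat_lit 0x3be001)], [(nat_lit 0x3b3001), (nat_lit 0x2bf001), (nat_lit 0x3db001), (nat_lit 0x2c0001), (nat_lit 0x3d7001), (nat_lit 0x2c1001)], [(nat_lit 0x2b9001), (nat_lit 0x3d6001), (nat_lit 0x2ba001), (nat_lit 0x2ea001), (nat_lit 0x2bb001), (nat_lit 0x3d5001)], [(nat_lit 0x34f001), (nat_lit 0x34e001), (nat_lit 0x350001), (nat_lit 0x3c7001), (nat_lit 0x351001), (nat_lit 0x352001)], [(nat_lit 0x3c5001), (nat_lit 0x2b1001), (nat_lit 0x39e001), (nat_lit 0x2b2001), (nat_lit 0x3c2001), (nat_lit 0x2b3001)], [(nat_lit 0x2b5001), (nat_lit 0x3c3001), (nat_lit 0x2b6001), (nat_lit 0x2b7001), (nat_lit 0x2b4001), (nat_lit 0x3c9001)], [(nat_lit 0x364001), (nat_lit 0x363001), (nat_lit 0x4c2001), (nat_lit 0x365001), (nat_lit 0x4c1001), (nat_lit 0x3c8001)], [(nat_lit 0x4c3001), (nat_lit 0x3a4001), (nat_lit 0x372001), (nat_lit 0x4d2001), (nat_lit 0x4d1001), (nat_lit 0x39f001)], [(nat_lit 0x4bf001), (nat_lit 0x36f001), (nat_lit 0x4d0001), (nat_lit 0x370001), (nat_lit 0x371001), (nat_lit 0x4cf001)], [(nat_lit 0x3ae001), (nat_lit 0x2a5001), (nat_lit 0x3a5001), (nat_lit 0x2a6001), (nat_lit 0x3ac001), (nat_lit 0x2a4001)], [(nat_lit 0x2bd001), (nat_lit 0x3ad001), (nat_lit 0x2be001), (nat_lit 0x3d8001), (nat_lit 0x2bc001), (nat_lit 0x3d0001)], [(nat_lit 0x36c001), (nat_lit 0x4cd001), (nat_lit 0x3cf001), (nat_lit 0x36d001), (nat_lit 0x3cd001), (nat_lit 0x36e001)], [(nat_lit 0x379001), (nat_lit 0x4d4001), (nat_lit 0x37a001), (nat_lit 0x4d6001), (nat_lit 0x4e2001), (nat_lit 0x37b001)], [(nat_lit 0x387001), (nat_lit 0x386001), (nat_lit 0x4e1001), (nat_lit 0x4c0001), (nat_lit 0x388001), (nat_lit 0x4f0001)], [(nat_lit 0x4d7001), (nat_lit 0x374001), (nat_lit 0x4d3001), (nat_lit 0x373001), (nat_lit 0x4d8001), (nat_lit 0x375001)], [(nat_lit 0x4e0001), (nat_lit 0x377001), (nat_lit 0x378001), (nat_lit 0x4da001), (nat_lit 0x376001), (nat_lit 0x4dc001)], [(nat_lit 0x4ee001), (nat_lit 0x38a001), (nat_lit 0x4de001), (nat_lit 0x4ce001), (nat_lit 0x38b001), (nat_lit 0x389001)], [(nat_lit 0x299001), (nat_lit 0x2e2001), (nat_lit 0x29a001), (nat_lit 0x391001), (nat_lit 0x29b001), (nat_lit 0x398001)], [(nat_lit 0x390001), (nat_lit 0x295001), (nat_lit 0x38c001), (nat_lit 0x294001), (nat_lit 0x38d001), (nat_lit 0x306001)], [(nat_lit 0x396001), (nat_lit 0x297001), (nat_lit 0x298001), (nat_lit 0x305001), (nat_lit 0x392001), (nat_lit 0x296001)], [(nat_lit 0x2e9001), (nat_lit 0x38e001), (nat_lit 0x30c001), (nat_lit 0x29d001), (nat_lit 0x29c001), (nat_lit 0x399001)], [(nat_lit 0x2f0001), (nat_lit 0x393001), (nat_lit 0x29f001), (nat_lit 0x39b001), (nat_lit 0x29e001), (nat_lit 0x2a0001)], [(nat_lit 0x2a7001), (nat_lit 0x3b2001), (nat_lit 0x3a7001), (nat_lit 0x2a8001), (nat_lit 0x3ab001), (nat_lit 0x3b1001)], [(nat_lit 0x2ac001), (nat_lit 0x3bb001), (nat_lit 0x2ad001), (nat_lit 0x3b0001), (nat_lit 0x3ba001), (nat_lit 0x2ae001)], [(nat_lit 0x3a6001), (nat_lit 0x39d001), (nat_lit 0x2a1001), (nat_lit 0x3a0001), (nat_lit 0x3a1001), (nat_lit 0x3a3001)], [(nat_lit 0x3aa001), (nat_lit 0x2a3001), (nat_lit 0x3a2001), (nat_lit 0x38f001), (nat_lit 0x2a2001), (nat_lit 0x3a8001)], [(nat_lit 0x3b8001), (nat_lit 0x2aa001), (nat_lit 0x2ab001), (nat_lit 0x3b6001), (nat_lit 0x2a9001), (nat_lit 0x395001)], [(nat_lit 0x3d2001), (nat_lit 0x3a9001), (nat_lit 0x3cb001), (nat_lit 0x39a001), (nat_lit 0x3ce001), (nat_lit 0x2b8001)], [(nat_lit 0x3df001), (nat_lit 0x3b7001), (nat_lit 0x3de001), (nat_lit 0x2c2001), (nat_lit 0x3da001), (nat_lit 0x39c001)], [(nat_lit 0x3f3001), (nat_lit 0x2d4001), (nat_lit 0x2d5001), (nat_lit 0x3ee001), (nat_lit 0x2d6001), (nat_lit 0x3f0001)], [(nat_lit 0x320001), (nat_lit 0x3ef001), (nat_lit 0x3f6001), (nat_lit 0x2d7001), (nat_lit 0x3f9001), (nat_lit 0x3f8001)], [(nat_lit 0x31d001), (nat_lit 0x3f1001), (nat_lit 0x2d9001), (nat_lit 0x3f7001), (nat_lit 0x3fb001), (nat_lit 0x2d8001)], [(nat_lit 0x318001), (nat_lit 0x2db001), (nat_lit 0x3fc001), (nat_lit 0x319001), (nat_lit 0x2da001), (nat_lit 0x2dc001)], [(nat_lit 0x2e1001), (nat_lit 0x2e2001), (nat_lit 0x3f4001), (nat_lit 0x407001), (nat_lit 0x2e3001), (nat_lit 0x40d001)], [(nat_lit 0x405001), (nat_lit 0x2de001), (nat_lit 0x3fe001), (nat_lit 0x2dd001), (nat_lit 0x3ff001), (nat_lit 0x402001)], [(nat_lit 0x40b001), (nat_lit 0x2e0001), (nat_lit 0x3f2001), (nat_lit 0x404001), (nat_lit 0x408001), (nat_lit 0x2df001)], [(nat_lit 0x2e9001), (nat_lit 0x400001), (nat_lit 0x413001), (nat_lit 0x2ea001), (nat_lit 0x2e8001), (nat_lit 0x414001)], [(nat_lit 0x2f0001), (nat_lit 0x409001), (nat_lit 0x2f1001), (nat_lit 0x417001), (nat_lit 0x2ef001), (nat_lit 0x2f2001)], [(nat_lit 0x2fa001), (nat_lit 0x430001), (nat_lit 0x424001), (nat_lit 0x2fb001), (nat_lit 0x42a001), (nat_lit 0x42f001)], [(nat_lit 0x2ff001), (nat_lit 0x439001), (nat_lit 0x397001), (nat_lit 0x42e001), (nat_lit 0x437001), (nat_lit 0x300001)], [(nat_lit 0x423001), (nat_lit 0x41a001), (nat_lit 0x2f3001), (nat_lit 0x41d001), (nat_lit 0x41e001), (nat_lit 0x420001)], [(nat_lit 0x428001), (nat_lit 0x2f5001), (nat_lit 0x41f001), (nat_lit 0x2f6001), (nat_lit 0x2f4001), (nat_lit 0x425001)], [(nat_lit 0x42d001), (nat_lit 0x2f8001), (nat_lit 0x422001), (nat_lit 0x2f9001), (nat_lit 0x42b001), (nat_lit 0x2f7001)], [(nat_lit 0x436001), (nat_lit 0x2fd001), (nat_lit 0x394001), (nat_lit 0x433001), (nat_lit 0x2fc001), (nat_lit 0x2fe001)], [(nat_lit 0x442001), (nat_lit 0x304001), (nat_lit 0x41b001), (nat_lit 0x305001), (nat_lit 0x440001), (nat_lit 0x306001)], [(nat_lit 0x335001), (nat_lit 0x441001), (nat_lit 0x308001), (nat_lit 0x445001), (nat_lit 0x307001), (nat_lit 0x449001)], [(nat_lit 0x310001), (nat_lit 0x426001), (nat_lit 0x44a001), (nat_lit 0x30a001), (nat_lit 0x44d001), (nat_lit 0x309001)], [(nat_lit 0x412001), (nat_lit 0x42c001), (nat_lit 0x30c001), (nat_lit 0x451001), (nat_lit 0x30b001), (nat_lit 0x450001)], [(nat_lit 0x310001), (nat_lit 0x434001), (nat_lit 0x457001), (nat_lit 0x30f001), (nat_lit 0x453001), (nat_lit 0x311001)], [(nat_lit 0x324001), (nat_lit 0x477001), (nat_lit 0x325001), (nat_lit 0x46e001), (nat_lit 0x476001), (nat_lit 0x333001)], [(nat_lit 0x329001), (nat_lit 0x32f001), (nat_lit 0x475001), (nat_lit 0x429001), (nat_lit 0x32a001), (nat_lit 0x47e001)], [(nat_lit 0x32e001), (nat_lit 0x32f001), (nat_lit 0x3b9001), (nat_lit 0x483001), (nat_lit 0x330001), (nat_lit 0x438001)], [(nat_lit 0x46d001), (nat_lit 0x33e001), (nat_lit 0x46b001), (nat_lit 0x321001), (nat_lit 0x46c001), (nat_lit 0x339001)], [(nat_lit 0x474001), (nat_lit 0x33b001), (nat_lit 0x323001), (nat_lit 0x46f001), (nat_lit 0x322001), (nat_lit 0x470001)], [(nat_lit 0x47b001), (nat_lit 0x327001), (nat_lit 0x472001), (nat_lit 0x427001), (nat_lit 0x328001), (nat_lit 0x326001)], [(nat_lit 0x481001), (nat_lit 0x32c001), (nat_lit 0x47f001), (nat_lit 0x32b001), (nat_lit 0x32d001), (nat_lit 0x435001)], [(nat_lit 0x335001), (nat_lit 0x489001), (nat_lit 0x334001), (nat_lit 0x48b001), (nat_lit 0x336001), (nat_lit 0x45a001)], [(nat_lit 0x34b001), (nat_lit 0x3c6001), (nat_lit 0x4a2001), (nat_lit 0x34c001), (nat_lit 0x4ad001), (nat_lit 0x34d001)], [(nat_lit 0x4a4001), (nat_lit 0x3dc001), (nat_lit 0x346001), (nat_lit 0x4a1001), (nat_lit 0x4a5001), (nat_lit 0x347001)], [(nat_lit 0x4ab001), (nat_lit 0x349001), (nat_lit 0x4a6001), (nat_lit 0x34a001), (nat_lit 0x348001), (nat_lit 0x4a7001)], [(nat_lit 0x3ca001), (nat_lit 0x4a8001), (nat_lit 0x3d3001), (nat_lit 0x354001), (nat_lit 0x355001), (nat_lit 0x353001)], [(nat_lit 0x35a001), (nat_lit 0x4af001), (nat_lit 0x359001), (nat_lit 0x358001), (nat_lit 0x4b5001), (nat_lit 0x4a3001)], [(nat_lit 0x360001), (nat_lit 0x4be001), (nat_lit 0x4b7001), (nat_lit 0x361001), (nat_lit 0x362001), (nat_lit 0x4bd001)], [(nat_lit 0x4b3001), (nat_lit 0x356001), (nat_lit 0x357001), (nat_lit 0x4ae001), (nat_lit 0x4b0001), (nat_lit 0x3dd001)], [(nat_lit 0x4b6001), (nat_lit 0x4b1001), (nat_lit 0x35c001), (nat_lit 0x4b8001), (nat_lit 0x35b001), (nat_lit 0x4b9001)], [(nat_lit 0x4bb001), (nat_lit 0x35e001), (nat_lit 0x4ba001), (nat_lit 0x35f001), (nat_lit 0x4aa001), (nat_lit 0x35d001)], [(nat_lit 0x368001), (nat_lit 0x3af001), (nat_lit 0x4b4001), (nat_lit 0x3bd001), (nat_lit 0x4c9001), (nat_lit 0x3b5001)], [(nat_lit 0x4c8001), (nat_lit 0x367001), (nat_lit 0x4b2001), (nat_lit 0x4c4001), (nat_lit 0x366001), (nat_lit 0x4c6001)], [(nat_lit 0x3d9001), (nat_lit 0x4c5001), (nat_lit 0x4ca001), (nat_lit 0x369001), (nat_lit 0x3e1001), (nat_lit 0x4cc001)], [(nat_lit 0x3d1001), (nat_lit 0x4c7001), (nat_lit 0x36b001), (nat_lit 0x4cb001), (nat_lit 0x3d4001), (nat_lit 0x36a001)], [(nat_lit 0x37d001), (nat_lit 0x4d9001), (nat_lit 0x37e001), (nat_lit 0x4e3001), (nat_lit 0x37c001), (nat_lit 0x4e6001)], [(nat_lit 0x383001), (nat_lit 0x4ed001), (nat_lit 0x4e8001), (nat_lit 0x4bc001), (nat_lit 0x384001), (nat_lit 0x385001)], [(nat_lit 0x4e4001), (nat_lit 0x4db001), (nat_lit 0x4ea001), (nat_lit 0x37f001), (nat_lit 0x4e5001), (nat_lit 0x4eb001)], [(nat_lit 0x4e7001), (nat_lit 0x4dd001), (nat_lit 0x381001), (nat_lit 0x4ec001), (nat_lit 0x382001), (nat_lit 0x380001)], [(nat_lit 0x3c0001), (nat_lit 0x3c1001), (nat_lit 0x3bf001), (nat_lit 0x537001), (nat_lit 0x3f5001), (nat_lit 0x47a001)], [(nat_lit 0x538001), (nat_lit 0x3e8001), (nat_lit 0x55c001), (nat_lit 0x3e7001), (nat_lit 0x55e001), (nat_lit 0x49c001)], [(nat_lit 0x478001), (nat_lit 0x3e5001), (nat_lit 0x3e4001), (nat_lit 0x49b001), (nat_lit 0x55b001), (nat_lit 0x3e6001)], [(nat_lit 0x3ed001), (nat_lit 0x55f001), (nat_lit 0x499001), (nat_lit 0x3fa001), (nat_lit 0x3ec001), (nat_lit 0x562001)], [(nat_lit 0x3ea001), (nat_lit 0x55a001), (nat_lit 0x3e9001), (nat_lit 0x560001), (nat_lit 0x3eb001), (nat_lit 0x3fd001)], [(nat_lit 0x43d001), (nat_lit 0x43e001), (nat_lit 0x43c001), (nat_lit 0x5d6001), (nat_lit 0x43f001), (nat_lit 0x5d5001)], [(nat_lit 0x5d7001), (nat_lit 0x45f001), (nat_lit 0x5ea001), (nat_lit 0x45e001), (nat_lit 0x5eb001), (nat_lit 0x5e9001)], [(nat_lit 0x5d3001), (nat_lit 0x45c001), (nat_lit 0x45b001), (nat_lit 0x5e7001), (nat_lit 0x473001), (nat_lit 0x45d001)], [(nat_lit 0x465001), (nat_lit 0x5e8001), (nat_lit 0x466001), (nat_lit 0x464001), (nat_lit 0x5f1001), (nat_lit 0x467001)], [(nat_lit 0x469001), (nat_lit 0x5ec001), (nat_lit 0x5f3001), (nat_lit 0x46a001), (nat_lit 0x468001), (nat_lit 0x5f4001)], [(nat_lit 0x461001), (nat_lit 0x471001), (nat_lit 0x460001), (nat_lit 0x5ee001), (nat_lit 0x462001), (nat_lit 0x463001)], [(nat_lit 0x486001), (nat_lit 0x539001), (nat_lit 0x488001), (nat_lit 0x485001), (nat_lit 0x617001), (nat_lit 0x487001)], [(nat_lit 0x490001), (nat_lit 0x620001), (nat_lit 0x48f001), (nat_lit 0x492001), (nat_lit 0x624001), (nat_lit 0x491001)], [(nat_lit 0x618001), (nat_lit 0x494001), (nat_lit 0x626001), (nat_lit 0x5ed001), (nat_lit 0x493001), (nat_lit 0x627001)], [(nat_lit 0x5ff001), (nat_lit 0x49a001), (nat_lit 0x621001), (nat_lit 0x49b001), (nat_lit 0x632001), (nat_lit 0x49c001)], [(nat_lit 0x49e001), (nat_lit 0x633001), (nat_lit 0x49f001), (nat_lit 0x634001), (nat_lit 0x49d001), (nat_lit 0x637001)], [(nat_lit 0x563001), (nat_lit 0x628001), (nat_lit 0x639001), (nat_lit 0x5f6001), (nat_lit 0x631001), (nat_lit 0x4a0001)], [(nat_lit 0x49e001), (nat_lit 0x498001), (nat_lit 0x499001), (nat_lit 0x62d001), (nat_lit 0x497001), (nat_lit 0x62e001)], [(nat_lit 0x561001), (nat_lit 0x496001), (nat_lit 0x62a001), (nat_lit 0x495001), (nat_lit 0x62b001), (nat_lit 0x5f0001)], [(nat_lit 0x431001), (nat_lit 0x430001), (nat_lit 0x5ca001), (nat_lit 0x432001), (nat_lit 0x484001), (nat_lit 0x59c001)], [(nat_lit 0x43a001), (nat_lit 0x439001), (nat_lit 0x5d2001), (nat_lit 0x59b001), (nat_lit 0x47d001), (nat_lit 0x43b001)], [(nat_lit 0x5cb001), (nat_lit 0x581001), (nat_lit 0x456001), (nat_lit 0x5e3001), (nat_lit 0x480001), (nat_lit 0x57c001)], [(nat_lit 0x599001), (nat_lit 0x40e001), (nat_lit 0x57b001), (nat_lit 0x40f001), (nat_lit 0x597001), (nat_lit 0x410001)], [(nat_lit 0x58c001), (nat_lit 0x403001), (nat_lit 0x582001), (nat_lit 0x404001), (nat_lit 0x48a001), (nat_lit 0x402001)], [(nat_lit 0x412001), (nat_lit 0x598001), (nat_lit 0x413001), (nat_lit 0x44f001), (nat_lit 0x411001), (nat_lit 0x454001)], [(nat_lit 0x535001), (nat_lit 0x3e2001), (nat_lit 0x559001), (nat_lit 0x557001), (nat_lit 0x3e3001), (nat_lit 0x40a001)], [(nat_lit 0x3df001), (nat_lit 0x556001), (nat_lit 0x552001), (nat_lit 0x3e0001), (nat_lit 0x3e1001), (nat_lit 0x419001)], [(nat_lit 0x3bc001), (nat_lit 0x3bb001), (nat_lit 0x479001), (nat_lit 0x3bd001), (nat_lit 0x536001), (nat_lit 0x3be001)], [(nat_lit 0x3b3001), (nat_lit 0x3b2001), (nat_lit 0x52e001), (nat_lit 0x3b4001), (nat_lit 0x527001), (nat_lit 0x3b5001)], [(nat_lit 0x52f001), (nat_lit 0x3dc001), (nat_lit 0x3db001), (nat_lit 0x54d001), (nat_lit 0x54c001), (nat_lit 0x3dd001)], [(nat_lit 0x526001), (nat_lit 0x3d6001), (nat_lit 0x54a001), (nat_lit 0x401001), (nat_lit 0x3d7001), (nat_lit 0x549001)], [(nat_lit 0x3d2001), (nat_lit 0x547001), (nat_lit 0x3d3001), (nat_lit 0x416001), (nat_lit 0x3d4001), (nat_lit 0x3d5001)], [(nat_lit 0x3c5001), (nat_lit 0x3c6001), (nat_lit 0x50a001), (nat_lit 0x3c7001), (nat_lit 0x541001), (nat_lit 0x3c8001)], [(nat_lit 0x509001), (nat_lit 0x39d001), (nat_lit 0x39e001), (nat_lit 0x503001), (nat_lit 0x506001), (nat_lit 0x39f001)], [(nat_lit 0x53e001), (nat_lit 0x3c3001), (nat_lit 0x508001), (nat_lit 0x3c4001), (nat_lit 0x3c2001), (nat_lit 0x53a001)], [(nat_lit 0x3ca001), (nat_lit 0x53b001), (nat_lit 0x3cb001), (nat_lit 0x3cc001), (nat_lit 0x3cd001), (nat_lit 0x3c9001)], [(nat_lit 0x4c3001), (nat_lit 0x647001), (nat_lit 0x4c2001), (nat_lit 0x665001), (nat_lit 0x664001), (nat_lit 0x50b001)], [(nat_lit 0x4bf001), (nat_lit 0x4be001), (nat_lit 0x662001), (nat_lit 0x4c0001), (nat_lit 0x4c1001), (nat_lit 0x661001)], [(nat_lit 0x51b001), (nat_lit 0x3a4001), (nat_lit 0x3a5001), (nat_lit 0x511001), (nat_lit 0x518001), (nat_lit 0x3a3001)], [(nat_lit 0x666001), (nat_lit 0x50f001), (nat_lit 0x673001), (nat_lit 0x4d2001), (nat_lit 0x677001), (nat_lit 0x505001)], [(nat_lit 0x663001), (nat_lit 0x519001), (nat_lit 0x4d0001), (nat_lit 0x672001), (nat_lit 0x4d1001), (nat_lit 0x671001)], [(nat_lit 0x65f001), (nat_lit 0x4cd001), (nat_lit 0x670001), (nat_lit 0x4ce001), (nat_lit 0x53d001), (nat_lit 0x4cf001)], [(nat_lit 0x3ae001), (nat_lit 0x3af001), (nat_lit 0x51c001), (nat_lit 0x3b0001), (nat_lit 0x52d001), (nat_lit 0x3b1001)], [(nat_lit 0x52b001), (nat_lit 0x3ad001), (nat_lit 0x51a001), (nat_lit 0x528001), (nat_lit 0x3ac001), (nat_lit 0x522001)], [(nat_lit 0x3d9001), (nat_lit 0x529001), (nat_lit 0x544001), (nat_lit 0x3d8001), (nat_lit 0x3da001), (nat_lit 0x546001)], [(nat_lit 0x3d1001), (nat_lit 0x521001), (nat_lit 0x3cf001), (nat_lit 0x542001), (nat_lit 0x3ce001), (nat_lit 0x3d0001)], [(nat_lit 0x4d7001), (nat_lit 0x4d4001), (nat_lit 0x4d3001), (nat_lit 0x4d6001), (nat_lit 0x678001), (nat_lit 0x4d5001)], [(nat_lit 0x4e0001), (nat_lit 0x67a001), (nat_lit 0x4e1001), (nat_lit 0x687001), (nat_lit 0x4e2001), (nat_lit 0x68b001)], [(nat_lit 0x4ee001), (nat_lit 0x4ed001), (nat_lit 0x689001), (nat_lit 0x660001), (nat_lit 0x4ef001), (nat_lit 0x4f0001)], [(nat_lit 0x679001), (nat_lit 0x4d9001), (nat_lit 0x67b001), (nat_lit 0x67c001), (nat_lit 0x4d8001), (nat_lit 0x67f001)], [(nat_lit 0x686001), (nat_lit 0x4db001), (nat_lit 0x682001), (nat_lit 0x4da001), (nat_lit 0x67e001), (nat_lit 0x683001)], [(nat_lit 0x688001), (nat_lit 0x4dd001), (nat_lit 0x4de001), (nat_lit 0x685001), (nat_lit 0x4df001), (nat_lit 0x4dc001)], [(nat_lit 0x390001), (nat_lit 0x406001), (nat_lit 0x4f5001), (nat_lit 0x391001), (nat_lit 0x4fb001), (nat_lit 0x444001)], [(nat_lit 0x396001), (nat_lit 0x40c001), (nat_lit 0x397001), (nat_lit 0x443001), (nat_lit 0x501001), (nat_lit 0x398001)], [(nat_lit 0x4f4001), (nat_lit 0x421001), (nat_lit 0x38c001), (nat_lit 0x4f1001), (nat_lit 0x4f2001), (nat_lit 0x41c001)], [(nat_lit 0x4f9001), (nat_lit 0x38e001), (nat_lit 0x4f3001), (nat_lit 0x38f001), (nat_lit 0x38d001), (nat_lit 0x4f6001)], [(nat_lit 0x4ff001), (nat_lit 0x393001), (nat_lit 0x394001), (nat_lit 0x4fc001), (nat_lit 0x392001), (nat_lit 0x395001)], [(nat_lit 0x415001), (nat_lit 0x4f7001), (nat_lit 0x44e001), (nat_lit 0x39a001), (nat_lit 0x44c001), (nat_lit 0x399001)], [(nat_lit 0x418001), (nat_lit 0x4fd001), (nat_lit 0x447001), (nat_lit 0x39b001), (nat_lit 0x446001), (nat_lit 0x39c001)], [(nat_lit 0x3a6001), (nat_lit 0x51f001), (nat_lit 0x3a7001), (nat_lit 0x492001), (nat_lit 0x517001), (nat_lit 0x51e001)], [(nat_lit 0x3aa001), (nat_lit 0x525001), (nat_lit 0x516001), (nat_lit 0x4fa001), (nat_lit 0x3ab001), (nat_lit 0x524001)], [(nat_lit 0x3b8001), (nat_lit 0x534001), (nat_lit 0x3b9001), (nat_lit 0x533001), (nat_lit 0x3ba001), (nat_lit 0x502001)], [(nat_lit 0x490001), (nat_lit 0x504001), (nat_lit 0x488001), (nat_lit 0x3a0001), (nat_lit 0x50c001), (nat_lit 0x50d001)], [(nat_lit 0x515001), (nat_lit 0x507001), (nat_lit 0x3a2001), (nat_lit 0x512001), (nat_lit 0x3a1001), (nat_lit 0x513001)], [(nat_lit 0x523001), (nat_lit 0x3a9001), (nat_lit 0x514001), (nat_lit 0x4f8001), (nat_lit 0x520001), (nat_lit 0x3a8001)], [(nat_lit 0x532001), (nat_lit 0x3b7001), (nat_lit 0x531001), (nat_lit 0x3b6001), (nat_lit 0x52a001), (nat_lit 0x4fe001)], [(nat_lit 0x551001), (nat_lit 0x550001), (nat_lit 0x3de001), (nat_lit 0x44b001), (nat_lit 0x545001), (nat_lit 0x448001)], [(nat_lit 0x3f3001), (nat_lit 0x43e001), (nat_lit 0x3f4001), (nat_lit 0x56c001), (nat_lit 0x3f5001), (nat_lit 0x573001)], [(nat_lit 0x56b001), (nat_lit 0x3ef001), (nat_lit 0x564001), (nat_lit 0x3ee001), (nat_lit 0x565001), (nat_lit 0x568001)], [(nat_lit 0x571001), (nat_lit 0x3f1001), (nat_lit 0x3f2001), (nat_lit 0x56a001), (nat_lit 0x56d001), (nat_lit 0x3f0001)], [(nat_lit 0x465001), (nat_lit 0x569001), (nat_lit 0x3f6001), (nat_lit 0x3f7001), (nat_lit 0x574001), (nat_lit 0x3f8001)], [(nat_lit 0x469001), (nat_lit 0x566001), (nat_lit 0x575001), (nat_lit 0x3fa001), (nat_lit 0x3f9001), (nat_lit 0x576001)], [(nat_lit 0x461001), (nat_lit 0x56e001), (nat_lit 0x3fc001), (nat_lit 0x578001), (nat_lit 0x3fb001), (nat_lit 0x3fd001)], [(nat_lit 0x405001), (nat_lit 0x406001), (nat_lit 0x584001), (nat_lit 0x407001), (nat_lit 0x58b001), (nat_lit 0x58f001)], [(nat_lit 0x40b001), (nat_lit 0x40c001), (nat_lit 0x572001), (nat_lit 0x58e001), (nat_lit 0x595001), (nat_lit 0x40d001)], [(nat_lit 0x583001), (nat_lit 0x57a001), (nat_lit 0x3fe001), (nat_lit 0x57d001), (nat_lit 0x57e001), (nat_lit 0x580001)], [(nat_lit 0x588001), (nat_lit 0x400001), (nat_lit 0x57f001), (nat_lit 0x401001), (nat_lit 0x3ff001), (nat_lit 0x585001)], [(nat_lit 0x593001), (nat_lit 0x409001), (nat_lit 0x56f001), (nat_lit 0x590001), (nat_lit 0x408001), (nat_lit 0x40a001)], [(nat_lit 0x415001), (nat_lit 0x586001), (nat_lit 0x455001), (nat_lit 0x416001), (nat_lit 0x459001), (nat_lit 0x414001)], [(nat_lit 0x418001), (nat_lit 0x591001), (nat_lit 0x48d001), (nat_lit 0x417001), (nat_lit 0x48e001), (nat_lit 0x419001)], [(nat_lit 0x423001), (nat_lit 0x5bc001), (nat_lit 0x424001), (nat_lit 0x5af001), (nat_lit 0x5b5001), (nat_lit 0x5bb001)], [(nat_lit 0x428001), (nat_lit 0x482001), (nat_lit 0x5b4001), (nat_lit 0x429001), (nat_lit 0x42a001), (nat_lit 0x5c3001)], [(nat_lit 0x42d001), (nat_lit 0x59a001), (nat_lit 0x5ba001), (nat_lit 0x42e001), (nat_lit 0x5c9001), (nat_lit 0x42f001)], [(nat_lit 0x436001), (nat_lit 0x47c001), (nat_lit 0x500001), (nat_lit 0x5d0001), (nat_lit 0x437001), (nat_lit 0x438001)], [(nat_lit 0x5a3001), (nat_lit 0x41a001), (nat_lit 0x41b001), (nat_lit 0x59d001), (nat_lit 0x5a0001), (nat_lit 0x41c001)], [(nat_lit 0x5ad001), (nat_lit 0x59e001), (nat_lit 0x5a6001), (nat_lit 0x41d001), (nat_lit 0x5a9001), (nat_lit 0x5aa001)], [(nat_lit 0x5b3001), (nat_lit 0x5a1001), (nat_lit 0x41f001), (nat_lit 0x5b0001), (nat_lit 0x41e001), (nat_lit 0x5b1001)], [(nat_lit 0x5b9001), (nat_lit 0x421001), (nat_lit 0x422001), (nat_lit 0x5ac001), (nat_lit 0x5b6001), (nat_lit 0x420001)], [(nat_lit 0x5c1001), (nat_lit 0x426001), (nat_lit 0x5b2001), (nat_lit 0x427001), (nat_lit 0x5bd001), (nat_lit 0x425001)], [(nat_lit 0x5c8001), (nat_lit 0x42c001), (nat_lit 0x5b8001), (nat_lit 0x5c4001), (nat_lit 0x42b001), (nat_lit 0x5c0001)], [(nat_lit 0x5ce001), (nat_lit 0x434001), (nat_lit 0x5cc001), (nat_lit 0x433001), (nat_lit 0x5c6001), (nat_lit 0x435001)], [(nat_lit 0x442001), (nat_lit 0x58d001), (nat_lit 0x5a4001), (nat_lit 0x443001), (nat_lit 0x5e2001), (nat_lit 0x444001)], [(nat_lit 0x5e1001), (nat_lit 0x441001), (nat_lit 0x5a2001), (nat_lit 0x5d9001), (nat_lit 0x440001), (nat_lit 0x5dd001)], [(nat_lit 0x48c001), (nat_lit 0x5da001), (nat_lit 0x447001), (nat_lit 0x445001), (nat_lit 0x446001), (nat_lit 0x448001)], [(nat_lit 0x458001), (nat_lit 0x5de001), (nat_lit 0x44a001), (nat_lit 0x44b001), (nat_lit 0x44c001), (nat_lit 0x449001)], [(nat_lit 0x452001), (nat_lit 0x5be001), (nat_lit 0x44e001), (nat_lit 0x44f001), (nat_lit 0x44d001), (nat_lit 0x450001)], [(nat_lit 0x452001), (nat_lit 0x5c5001), (nat_lit 0x455001), (nat_lit 0x451001), (nat_lit 0x453001), (nat_lit 0x454001)], [(nat_lit 0x458001), (nat_lit 0x5e4001), (nat_lit 0x457001), (nat_lit 0x553001), (nat_lit 0x459001), (nat_lit 0x45a001)], [(nat_lit 0x478001), (nat_lit 0x477001), (nat_lit 0x479001), (nat_lit 0x600001), (nat_lit 0x60f001), (nat_lit 0x47a001)], [(nat_lit 0x46d001), (nat_lit 0x5fe001), (nat_lit 0x510001), (nat_lit 0x46e001), (nat_lit 0x5fd001), (nat_lit 0x487001)], [(nat_lit 0x474001), (nat_lit 0x60c001), (nat_lit 0x475001), (nat_lit 0x607001), (nat_lit 0x476001), (nat_lit 0x60b001)], [(nat_lit 0x47b001), (nat_lit 0x47c001), (nat_lit 0x609001), (nat_lit 0x5c2001), (nat_lit 0x47d001), (nat_lit 0x47e001)], [(nat_lit 0x481001), (nat_lit 0x482001), (nat_lit 0x615001), (nat_lit 0x483001), (nat_lit 0x484001), (nat_lit 0x5d1001)], [(nat_lit 0x50e001), (nat_lit 0x55d001), (nat_lit 0x46b001), (nat_lit 0x51d001), (nat_lit 0x5f7001), (nat_lit 0x491001)], [(nat_lit 0x5fc001), (nat_lit 0x498001), (nat_lit 0x5f8001), (nat_lit 0x5f9001), (nat_lit 0x46c001), (nat_lit 0x5fb001)], [(nat_lit 0x606001), (nat_lit 0x496001), (nat_lit 0x602001), (nat_lit 0x46f001), (nat_lit 0x5fa001), (nat_lit 0x603001)], [(nat_lit 0x608001), (nat_lit 0x471001), (nat_lit 0x472001), (nat_lit 0x605001), (nat_lit 0x473001), (nat_lit 0x470001)], [(nat_lit 0x614001), (nat_lit 0x610001), (nat_lit 0x47f001), (nat_lit 0x613001), (nat_lit 0x480001), (nat_lit 0x5cd001)], [(nat_lit 0x61d001), (nat_lit 0x489001), (nat_lit 0x611001), (nat_lit 0x61a001), (nat_lit 0x48a001), (nat_lit 0x5e6001)], [(nat_lit 0x48c001), (nat_lit 0x61b001), (nat_lit 0x48d001), (nat_lit 0x48b001), (nat_lit 0x48e001), (nat_lit 0x555001)], [(nat_lit 0x4a4001), (nat_lit 0x54e001), (nat_lit 0x4a2001), (nat_lit 0x4a1001), (nat_lit 0x63b001), (nat_lit 0x4a3001)], [(nat_lit 0x4ab001), (nat_lit 0x53f001), (nat_lit 0x63d001), (nat_lit 0x4ac001), (nat_lit 0x4ad001), (nat_lit 0x645001)], [(nat_lit 0x63c001), (nat_lit 0x54b001), (nat_lit 0x4a6001), (nat_lit 0x63e001), (nat_lit 0x4a5001), (nat_lit 0x63f001)], [(nat_lit 0x642001), (nat_lit 0x4a8001), (nat_lit 0x640001), (nat_lit 0x4a9001), (nat_lit 0x4aa001), (nat_lit 0x4a7001)], [(nat_lit 0x64a001), (nat_lit 0x4af001), (nat_lit 0x646001), (nat_lit 0x4ae001), (nat_lit 0x648001), (nat_lit 0x54f001)], [(nat_lit 0x4b6001), (nat_lit 0x649001), (nat_lit 0x4b7001), (nat_lit 0x655001), (nat_lit 0x4b5001), (nat_lit 0x658001)], [(nat_lit 0x4bb001), (nat_lit 0x65e001), (nat_lit 0x65a001), (nat_lit 0x4bc001), (nat_lit 0x644001), (nat_lit 0x4bd001)], [(nat_lit 0x4b3001), (nat_lit 0x64b001), (nat_lit 0x4b4001), (nat_lit 0x64c001), (nat_lit 0x654001), (nat_lit 0x530001)], [(nat_lit 0x652001), (nat_lit 0x4b1001), (nat_lit 0x4b2001), (nat_lit 0x64d001), (nat_lit 0x4b0001), (nat_lit 0x64f001)], [(nat_lit 0x656001), (nat_lit 0x64e001), (nat_lit 0x65b001), (nat_lit 0x4b8001), (nat_lit 0x657001), (nat_lit 0x65c001)], [(nat_lit 0x659001), (nat_lit 0x650001), (nat_lit 0x4ba001), (nat_lit 0x65d001), (nat_lit 0x641001), (nat_lit 0x4b9001)], [(nat_lit 0x4c8001), (nat_lit 0x52c001), (nat_lit 0x653001), (nat_lit 0x66d001), (nat_lit 0x4c9001), (nat_lit 0x66f001)], [(nat_lit 0x66c001), (nat_lit 0x4c5001), (nat_lit 0x668001), (nat_lit 0x4c4001), (nat_lit 0x558001), (nat_lit 0x669001)], [(nat_lit 0x66e001), (nat_lit 0x4c7001), (nat_lit 0x651001), (nat_lit 0x66b001), (nat_lit 0x548001), (nat_lit 0x4c6001)], [(nat_lit 0x543001), (nat_lit 0x66a001), (nat_lit 0x4ca001), (nat_lit 0x4cb001), (nat_lit 0x554001), (nat_lit 0x4cc001)], [(nat_lit 0x4e4001), (nat_lit 0x67d001), (nat_lit 0x68c001), (nat_lit 0x4e3001), (nat_lit 0x4e5001), (nat_lit 0x68f001)], [(nat_lit 0x4e7001), (nat_lit 0x680001), (nat_lit 0x4e8001), (nat_lit 0x691001), (nat_lit 0x4e9001), (nat_lit 0x4e6001)], [(nat_lit 0x68d001), (nat_lit 0x692001), (nat_lit 0x4ea001), (nat_lit 0x693001), (nat_lit 0x68e001), (nat_lit 0x694001)], [(nat_lit 0x690001), (nat_lit 0x684001), (nat_lit 0x695001), (nat_lit 0x4ec001), (nat_lit 0x696001), (nat_lit 0x4eb001)], [(nat_lit 0x538001), (nat_lit 0x539001), (nat_lit 0x701001), (nat_lit 0x537001), (nat_lit 0x705001), (nat_lit 0x601001)], [(nat_lit 0x702001), (nat_lit 0x55d001), (nat_lit 0x55c001), (nat_lit 0x6dc001), (nat_lit 0x71e001), (nat_lit 0x623001)], [(nat_lit 0x706001), (nat_lit 0x55f001), (nat_lit 0x720001), (nat_lit 0x567001), (nat_lit 0x55e001), (nat_lit 0x721001)], [(nat_lit 0x60d001), (nat_lit 0x55a001), (nat_lit 0x559001), (nat_lit 0x71c001), (nat_lit 0x55b001), (nat_lit 0x570001)], [(nat_lit 0x563001), (nat_lit 0x722001), (nat_lit 0x630001), (nat_lit 0x577001), (nat_lit 0x63a001), (nat_lit 0x562001)], [(nat_lit 0x561001), (nat_lit 0x71d001), (nat_lit 0x723001), (nat_lit 0x560001), (nat_lit 0x636001), (nat_lit 0x579001)], [(nat_lit 0x5d7001), (nat_lit 0x5d8001), (nat_lit 0x7c3001), (nat_lit 0x5d6001), (nat_lit 0x7c5001), (nat_lit 0x7c2001)], [(nat_lit 0x5d3001), (nat_lit 0x5d4001), (nat_lit 0x5d2001), (nat_lit 0x7bf001), (nat_lit 0x60a001), (nat_lit 0x5d5001)], [(nat_lit 0x7c4001), (nat_lit 0x7dc001), (nat_lit 0x5ea001), (nat_lit 0x7e0001), (nat_lit 0x7e1001), (nat_lit 0x7dd001)], [(nat_lit 0x7c6001), (nat_lit 0x5ec001), (nat_lit 0x7e2001), (nat_lit 0x5ed001), (nat_lit 0x5eb001), (nat_lit 0x7e3001)], [(nat_lit 0x7c0001), (nat_lit 0x5e8001), (nat_lit 0x7db001), (nat_lit 0x5e7001), (nat_lit 0x7de001), (nat_lit 0x5e9001)], [(nat_lit 0x5f2001), (nat_lit 0x7df001), (nat_lit 0x5f3001), (nat_lit 0x7ec001), (nat_lit 0x5f1001), (nat_lit 0x7ed001)], [(nat_lit 0x5f5001), (nat_lit 0x7e4001), (nat_lit 0x7ef001), (nat_lit 0x5f6001), (nat_lit 0x7f0001), (nat_lit 0x5f4001)], [(nat_lit 0x5ef001), (nat_lit 0x604001), (nat_lit 0x7e6001), (nat_lit 0x5ee001), (nat_lit 0x7ea001), (nat_lit 0x5f0001)], [(nat_lit 0x618001), (nat_lit 0x707001), (nat_lit 0x619001), (nat_lit 0x7c8001), (nat_lit 0x617001), (nat_lit 0x821001)], [(nat_lit 0x801001), (nat_lit 0x620001), (nat_lit 0x621001), (nat_lit 0x622001), (nat_lit 0x82c001), (nat_lit 0x623001)], [(nat_lit 0x625001), (nat_lit 0x82d001), (nat_lit 0x626001), (nat_lit 0x82f001), (nat_lit 0x624001), (nat_lit 0x832001)], [(nat_lit 0x822001), (nat_lit 0x628001), (nat_lit 0x834001), (nat_lit 0x7e5001), (nat_lit 0x629001), (nat_lit 0x627001)], [(nat_lit 0x5ff001), (nat_lit 0x5fe001), (nat_lit 0x800001), (nat_lit 0x600001), (nat_lit 0x7ff001), (nat_lit 0x601001)], [(nat_lit 0x7fe001), (nat_lit 0x633001), (nat_lit 0x82e001), (nat_lit 0x83d001), (nat_lit 0x632001), (nat_lit 0x840001)], [(nat_lit 0x635001), (nat_lit 0x83e001), (nat_lit 0x843001), (nat_lit 0x634001), (nat_lit 0x636001), (nat_lit 0x846001)], [(nat_lit 0x638001), (nat_lit 0x841001), (nat_lit 0x639001), (nat_lit 0x848001), (nat_lit 0x63a001), (nat_lit 0x637001)], [(nat_lit 0x638001), (nat_lit 0x62f001), (nat_lit 0x630001), (nat_lit 0x83c001), (nat_lit 0x631001), (nat_lit 0x62e001)], [(nat_lit 0x635001), (nat_lit 0x62c001), (nat_lit 0x839001), (nat_lit 0x62d001), (nat_lit 0x62b001), (nat_lit 0x83a001)], [(nat_lit 0x724001), (nat_lit 0x836001), (nat_lit 0x62a001), (nat_lit 0x7e8001), (nat_lit 0x838001), (nat_lit 0x7e9001)], [(nat_lit 0x5cb001), (nat_lit 0x7a6001), (nat_lit 0x5ca001), (nat_lit 0x7b4001), (nat_lit 0x616001), (nat_lit 0x750001)], [(nat_lit 0x599001), (nat_lit 0x59a001), (nat_lit 0x74f001), (nat_lit 0x59b001), (nat_lit 0x76f001), (nat_lit 0x59c001)], [(nat_lit 0x75e001), (nat_lit 0x581001), (nat_lit 0x582001), (nat_lit 0x755001), (nat_lit 0x612001), (nat_lit 0x580001)], [(nat_lit 0x7b5001), (nat_lit 0x754001), (nat_lit 0x7d5001), (nat_lit 0x5e3001), (nat_lit 0x7d6001), (nat_lit 0x74a001)], [(nat_lit 0x74e001), (nat_lit 0x57a001), (nat_lit 0x57b001), (nat_lit 0x748001), (nat_lit 0x74b001), (nat_lit 0x57c001)], [(nat_lit 0x76d001), (nat_lit 0x598001), (nat_lit 0x74d001), (nat_lit 0x5bf001), (nat_lit 0x597001), (nat_lit 0x5c7001)], [(nat_lit 0x58c001), (nat_lit 0x58d001), (nat_lit 0x75f001), (nat_lit 0x58e001), (nat_lit 0x61f001), (nat_lit 0x58f001)], [(nat_lit 0x535001), (nat_lit 0x534001), (nat_lit 0x60e001), (nat_lit 0x6ff001), (nat_lit 0x536001), (nat_lit 0x596001)], [(nat_lit 0x6fe001), (nat_lit 0x556001), (nat_lit 0x71a001), (nat_lit 0x557001), (nat_lit 0x558001), (nat_lit 0x592001)], [(nat_lit 0x551001), (nat_lit 0x716001), (nat_lit 0x552001), (nat_lit 0x553001), (nat_lit 0x554001), (nat_lit 0x555001)], [(nat_lit 0x52f001), (nat_lit 0x6e0001), (nat_lit 0x52e001), (nat_lit 0x6e2001), (nat_lit 0x6f1001), (nat_lit 0x530001)], [(nat_lit 0x526001), (nat_lit 0x525001), (nat_lit 0x6ef001), (nat_lit 0x58a001), (nat_lit 0x527001), (nat_lit 0x6ee001)], [(nat_lit 0x6df001), (nat_lit 0x54e001), (nat_lit 0x6bd001), (nat_lit 0x54d001), (nat_lit 0x713001), (nat_lit 0x54f001)], [(nat_lit 0x6f0001), (nat_lit 0x54b001), (nat_lit 0x54a001), (nat_lit 0x711001), (nat_lit 0x54c001), (nat_lit 0x710001)], [(nat_lit 0x6ec001), (nat_lit 0x547001), (nat_lit 0x70d001), (nat_lit 0x587001), (nat_lit 0x548001), (nat_lit 0x549001)], [(nat_lit 0x509001), (nat_lit 0x6bb001), (nat_lit 0x50a001), (nat_lit 0x676001), (nat_lit 0x6ba001), (nat_lit 0x50b001)], [(nat_lit 0x53e001), (nat_lit 0x53f001), (nat_lit 0x6b9001), (nat_lit 0x540001), (nat_lit 0x541001), (nat_lit 0x70c001)], [(nat_lit 0x674001), (nat_lit 0x504001), (nat_lit 0x667001), (nat_lit 0x503001), (nat_lit 0x6b0001), (nat_lit 0x505001)], [(nat_lit 0x6b8001), (nat_lit 0x507001), (nat_lit 0x508001), (nat_lit 0x6b2001), (nat_lit 0x506001), (nat_lit 0x6b4001)], [(nat_lit 0x708001), (nat_lit 0x53b001), (nat_lit 0x6b6001), (nat_lit 0x53c001), (nat_lit 0x53d001), (nat_lit 0x53a001)], [(nat_lit 0x6da001), (nat_lit 0x647001), (nat_lit 0x646001), (nat_lit 0x704001), (nat_lit 0x853001), (nat_lit 0x6be001)], [(nat_lit 0x666001), (nat_lit 0x703001), (nat_lit 0x667001), (nat_lit 0x665001), (nat_lit 0x87f001), (nat_lit 0x675001)], [(nat_lit 0x663001), (nat_lit 0x854001), (nat_lit 0x662001), (nat_lit 0x87d001), (nat_lit 0x664001), (nat_lit 0x87c001)], [(nat_lit 0x65f001), (nat_lit 0x65e001), (nat_lit 0x87a001), (nat_lit 0x660001), (nat_lit 0x70b001), (nat_lit 0x661001)], [(nat_lit 0x51b001), (nat_lit 0x6d9001), (nat_lit 0x51c001), (nat_lit 0x51d001), (nat_lit 0x6d8001), (nat_lit 0x51e001)], [(nat_lit 0x50e001), (nat_lit 0x50f001), (nat_lit 0x510001), (nat_lit 0x511001), (nat_lit 0x6c2001), (nat_lit 0x50d001)], [(nat_lit 0x6d6001), (nat_lit 0x519001), (nat_lit 0x51a001), (nat_lit 0x6d4001), (nat_lit 0x518001), (nat_lit 0x6ce001)], [(nat_lit 0x674001), (nat_lit 0x802001), (nat_lit 0x673001), (nat_lit 0x676001), (nat_lit 0x890001), (nat_lit 0x675001)], [(nat_lit 0x880001), (nat_lit 0x6c4001), (nat_lit 0x892001), (nat_lit 0x88f001), (nat_lit 0x677001), (nat_lit 0x893001)], [(nat_lit 0x87e001), (nat_lit 0x6d5001), (nat_lit 0x88d001), (nat_lit 0x672001), (nat_lit 0x88e001), (nat_lit 0x88c001)], [(nat_lit 0x87b001), (nat_lit 0x6cc001), (nat_lit 0x670001), (nat_lit 0x88b001), (nat_lit 0x6b7001), (nat_lit 0x671001)], [(nat_lit 0x52b001), (nat_lit 0x52c001), (nat_lit 0x6d7001), (nat_lit 0x6f6001), (nat_lit 0x52d001), (nat_lit 0x6ea001)], [(nat_lit 0x6f4001), (nat_lit 0x529001), (nat_lit 0x6f2001), (nat_lit 0x528001), (nat_lit 0x52a001), (nat_lit 0x6e6001)], [(nat_lit 0x6e7001), (nat_lit 0x521001), (nat_lit 0x6cd001), (nat_lit 0x6e3001), (nat_lit 0x520001), (nat_lit 0x522001)], [(nat_lit 0x543001), (nat_lit 0x6e4001), (nat_lit 0x544001), (nat_lit 0x542001), (nat_lit 0x545001), (nat_lit 0x546001)], [(nat_lit 0x679001), (nat_lit 0x67a001), (nat_lit 0x67b001), (nat_lit 0x894001), (nat_lit 0x678001), (nat_lit 0x898001)], [(nat_lit 0x686001), (nat_lit 0x896001), (nat_lit 0x8a8001), (nat_lit 0x687001), (nat_lit 0x897001), (nat_lit 0x8ae001)], [(nat_lit 0x688001), (nat_lit 0x89a001), (nat_lit 0x689001), (nat_lit 0x8ad001), (nat_lit 0x68a001), (nat_lit 0x68b001)], [(nat_lit 0x895001), (nat_lit 0x67d001), (nat_lit 0x89d001), (nat_lit 0x67c001), (nat_lit 0x67e001), (nat_lit 0x89f001)], [(nat_lit 0x899001), (nat_lit 0x680001), (nat_lit 0x89b001), (nat_lit 0x8a1001), (nat_lit 0x681001), (nat_lit 0x67f001)], [(nat_lit 0x8a7001), (nat_lit 0x8a2001), (nat_lit 0x682001), (nat_lit 0x8a4001), (nat_lit 0x89e001), (nat_lit 0x8a5001)], [(nat_lit 0x8ac001), (nat_lit 0x684001), (nat_lit 0x8a6001), (nat_lit 0x685001), (nat_lit 0x8a9001), (nat_lit 0x683001)], [(nat_lit 0x4f4001), (nat_lit 0x6a7001), (nat_lit 0x4f5001), (nat_lit 0x69f001), (nat_lit 0x6a6001), (nat_lit 0x5a5001)], [(nat_lit 0x4f9001), (nat_lit 0x589001), (nat_lit 0x6a5001), (nat_lit 0x4fa001), (nat_lit 0x4fb001), (nat_lit 0x6aa001)], [(nat_lit 0x4ff001), (nat_lit 0x594001), (nat_lit 0x500001), (nat_lit 0x6ae001), (nat_lit 0x501001), (nat_lit 0x502001)], [(nat_lit 0x69d001), (nat_lit 0x5ab001), (nat_lit 0x698001), (nat_lit 0x4f1001), (nat_lit 0x69c001), (nat_lit 0x59f001)], [(nat_lit 0x6a4001), (nat_lit 0x5b7001), (nat_lit 0x4f3001), (nat_lit 0x6a1001), (nat_lit 0x4f2001), (nat_lit 0x6a2001)], [(nat_lit 0x6a8001), (nat_lit 0x4f7001), (nat_lit 0x6a3001), (nat_lit 0x4f8001), (nat_lit 0x5e0001), (nat_lit 0x4f6001)], [(nat_lit 0x6ad001), (nat_lit 0x4fd001), (nat_lit 0x6ab001), (nat_lit 0x4fc001), (nat_lit 0x5db001), (nat_lit 0x4fe001)], [(nat_lit 0x6bc001), (nat_lit 0x51f001), (nat_lit 0x6de001), (nat_lit 0x622001), (nat_lit 0x6d3001), (nat_lit 0x6dd001)], [(nat_lit 0x515001), (nat_lit 0x6d2001), (nat_lit 0x516001), (nat_lit 0x6ca001), (nat_lit 0x517001), (nat_lit 0x6d1001)], [(nat_lit 0x523001), (nat_lit 0x6eb001), (nat_lit 0x6d0001), (nat_lit 0x6a9001), (nat_lit 0x6e9001), (nat_lit 0x524001)], [(nat_lit 0x532001), (nat_lit 0x6fd001), (nat_lit 0x6fc001), (nat_lit 0x533001), (nat_lit 0x6f7001), (nat_lit 0x6af001)], [(nat_lit 0x625001), (nat_lit 0x6b1001), (nat_lit 0x619001), (nat_lit 0x6bf001), (nat_lit 0x50c001), (nat_lit 0x6c1001)], [(nat_lit 0x6c9001), (nat_lit 0x6b3001), (nat_lit 0x6c6001), (nat_lit 0x512001), (nat_lit 0x6c0001), (nat_lit 0x6c7001)], [(nat_lit 0x6cf001), (nat_lit 0x6b5001), (nat_lit 0x514001), (nat_lit 0x6c8001), (nat_lit 0x6cb001), (nat_lit 0x513001)], [(nat_lit 0x6fb001), (nat_lit 0x6f8001), (nat_lit 0x531001), (nat_lit 0x6fa001), (nat_lit 0x6f3001), (nat_lit 0x6ac001)], [(nat_lit 0x715001), (nat_lit 0x550001), (nat_lit 0x6f9001), (nat_lit 0x5df001), (nat_lit 0x6e5001), (nat_lit 0x5dc001)], [(nat_lit 0x56b001), (nat_lit 0x5d8001), (nat_lit 0x72c001), (nat_lit 0x56c001), (nat_lit 0x732001), (nat_lit 0x737001)], [(nat_lit 0x571001), (nat_lit 0x5d4001), (nat_lit 0x572001), (nat_lit 0x736001), (nat_lit 0x73e001), (nat_lit 0x573001)], [(nat_lit 0x72b001), (nat_lit 0x725001), (nat_lit 0x564001), (nat_lit 0x728001), (nat_lit 0x729001), (nat_lit 0x727001)], [(nat_lit 0x730001), (nat_lit 0x566001), (nat_lit 0x72a001), (nat_lit 0x567001), (nat_lit 0x565001), (nat_lit 0x72d001)], [(nat_lit 0x735001), (nat_lit 0x569001), (nat_lit 0x726001), (nat_lit 0x56a001), (nat_lit 0x733001), (nat_lit 0x568001)], [(nat_lit 0x73b001), (nat_lit 0x56e001), (nat_lit 0x56f001), (nat_lit 0x738001), (nat_lit 0x56d001), (nat_lit 0x570001)], [(nat_lit 0x5f2001), (nat_lit 0x734001), (nat_lit 0x575001), (nat_lit 0x740001), (nat_lit 0x574001), (nat_lit 0x742001)], [(nat_lit 0x5f5001), (nat_lit 0x72e001), (nat_lit 0x743001), (nat_lit 0x577001), (nat_lit 0x744001), (nat_lit 0x576001)], [(nat_lit 0x5ef001), (nat_lit 0x739001), (nat_lit 0x745001), (nat_lit 0x578001), (nat_lit 0x741001), (nat_lit 0x579001)], [(nat_lit 0x583001), (nat_lit 0x761001), (nat_lit 0x584001), (nat_lit 0x757001), (nat_lit 0x75d001), (nat_lit 0x760001)], [(nat_lit 0x588001), (nat_lit 0x589001), (nat_lit 0x75c001), (nat_lit 0x58a001), (nat_lit 0x58b001), (nat_lit 0x766001)], [(nat_lit 0x593001), (nat_lit 0x594001), (nat_lit 0x73d001), (nat_lit 0x76b001), (nat_lit 0x595001), (nat_lit 0x596001)], [(nat_lit 0x756001), (nat_lit 0x749001), (nat_lit 0x751001), (nat_lit 0x57d001), (nat_lit 0x752001), (nat_lit 0x753001)], [(nat_lit 0x75b001), (nat_lit 0x74c001), (nat_lit 0x57f001), (nat_lit 0x758001), (nat_lit 0x57e001), (nat_lit 0x759001)], [(nat_lit 0x763001), (nat_lit 0x586001), (nat_lit 0x75a001), (nat_lit 0x587001), (nat_lit 0x5e5001), (nat_lit 0x585001)], [(nat_lit 0x769001), (nat_lit 0x591001), (nat_lit 0x767001), (nat_lit 0x590001), (nat_lit 0x61c001), (nat_lit 0x592001)], [(nat_lit 0x77c001), (nat_lit 0x5bc001), (nat_lit 0x7a5001), (nat_lit 0x78e001), (nat_lit 0x79c001), (nat_lit 0x7a4001)], [(nat_lit 0x5ad001), (nat_lit 0x78b001), (nat_lit 0x5ae001), (nat_lit 0x5af001), (nat_lit 0x788001), (nat_lit 0x69a001)], [(nat_lit 0x5b3001), (nat_lit 0x79b001), (nat_lit 0x5b4001), (nat_lit 0x793001), (nat_lit 0x5b5001), (nat_lit 0x79a001)], [(nat_lit 0x5b9001), (nat_lit 0x7a2001), (nat_lit 0x5ba001), (nat_lit 0x699001), (nat_lit 0x7a1001), (nat_lit 0x5bb001)], [(nat_lit 0x5c1001), (nat_lit 0x5cf001), (nat_lit 0x799001), (nat_lit 0x5c2001), (nat_lit 0x7a9001), (nat_lit 0x5c3001)], [(nat_lit 0x5c8001), (nat_lit 0x76e001), (nat_lit 0x7a0001), (nat_lit 0x7b1001), (nat_lit 0x5c9001), (nat_lit 0x7aa001)], [(nat_lit 0x5ce001), (nat_lit 0x5cf001), (nat_lit 0x7bd001), (nat_lit 0x5d0001), (nat_lit 0x7b2001), (nat_lit 0x5d1001)], [(nat_lit 0x5a3001), (nat_lit 0x77b001), (nat_lit 0x5a4001), (nat_lit 0x5a7001), (nat_lit 0x77a001), (nat_lit 0x5a5001)], [(nat_lit 0x5a8001), (nat_lit 0x59e001), (nat_lit 0x5ae001), (nat_lit 0x59d001), (nat_lit 0x770001), (nat_lit 0x59f001)], [(nat_lit 0x778001), (nat_lit 0x5a1001), (nat_lit 0x5a2001), (nat_lit 0x772001), (nat_lit 0x5a0001), (nat_lit 0x774001)], [(nat_lit 0x5a8001), (nat_lit 0x77e001), (nat_lit 0x5a6001), (nat_lit 0x5a7001), (nat_lit 0x780001), (nat_lit 0x6a0001)], [(nat_lit 0x786001), (nat_lit 0x771001), (nat_lit 0x782001), (nat_lit 0x783001), (nat_lit 0x5a9001), (nat_lit 0x785001)], [(nat_lit 0x69b001), (nat_lit 0x5ab001), (nat_lit 0x69e001), (nat_lit 0x5ac001), (nat_lit 0x789001), (nat_lit 0x5aa001)], [(nat_lit 0x792001), (nat_lit 0x773001), (nat_lit 0x78f001), (nat_lit 0x5b0001), (nat_lit 0x784001), (nat_lit 0x790001)], [(nat_lit 0x798001), (nat_lit 0x775001), (nat_lit 0x5b2001), (nat_lit 0x791001), (nat_lit 0x794001), (nat_lit 0x5b1001)], [(nat_lit 0x79f001), (nat_lit 0x5b7001), (nat_lit 0x5b8001), (nat_lit 0x79d001), (nat_lit 0x5b6001), (nat_lit 0x797001)], [(nat_lit 0x7a7001), (nat_lit 0x5be001), (nat_lit 0x796001), (nat_lit 0x5bf001), (nat_lit 0x5bd001), (nat_lit 0x5c0001)], [(nat_lit 0x7af001), (nat_lit 0x5c5001), (nat_lit 0x7ab001), (nat_lit 0x5c4001), (nat_lit 0x5c6001), (nat_lit 0x5c7001)], [(nat_lit 0x7bc001), (nat_lit 0x7b6001), (nat_lit 0x5cc001), (nat_lit 0x7ba001), (nat_lit 0x7ad001), (nat_lit 0x5cd001)], [(nat_lit 0x5e1001), (nat_lit 0x61e001), (nat_lit 0x779001), (nat_lit 0x7ce001), (nat_lit 0x5e2001), (nat_lit 0x7d4001)], [(nat_lit 0x7cd001), (nat_lit 0x5da001), (nat_lit 0x7c9001), (nat_lit 0x5d9001), (nat_lit 0x5db001), (nat_lit 0x5dc001)], [(nat_lit 0x7d1001), (nat_lit 0x5de001), (nat_lit 0x776001), (nat_lit 0x5df001), (nat_lit 0x5e0001), (nat_lit 0x5dd001)], [(nat_lit 0x7d7001), (nat_lit 0x5e4001), (nat_lit 0x7b7001), (nat_lit 0x717001), (nat_lit 0x5e5001), (nat_lit 0x5e6001)], [(nat_lit 0x60d001), (nat_lit 0x60c001), (nat_lit 0x60e001), (nat_lit 0x813001), (nat_lit 0x60f001), (nat_lit 0x73f001)], [(nat_lit 0x5fc001), (nat_lit 0x7fd001), (nat_lit 0x6c5001), (nat_lit 0x7f9001), (nat_lit 0x5fd001), (nat_lit 0x7fc001)], [(nat_lit 0x606001), (nat_lit 0x811001), (nat_lit 0x80a001), (nat_lit 0x607001), (nat_lit 0x7fa001), (nat_lit 0x810001)], [(nat_lit 0x608001), (nat_lit 0x73c001), (nat_lit 0x609001), (nat_lit 0x80f001), (nat_lit 0x60a001), (nat_lit 0x60b001)], [(nat_lit 0x614001), (nat_lit 0x81e001), (nat_lit 0x615001), (nat_lit 0x81d001), (nat_lit 0x616001), (nat_lit 0x7be001)], [(nat_lit 0x6c3001), (nat_lit 0x71f001), (nat_lit 0x5f8001), (nat_lit 0x7f1001), (nat_lit 0x5f7001), (nat_lit 0x7f2001)], [(nat_lit 0x7f8001), (nat_lit 0x62c001), (nat_lit 0x7f4001), (nat_lit 0x5f9001), (nat_lit 0x5fa001), (nat_lit 0x7f6001)], [(nat_lit 0x7fb001), (nat_lit 0x62f001), (nat_lit 0x7f3001), (nat_lit 0x7f7001), (nat_lit 0x629001), (nat_lit 0x5fb001)], [(nat_lit 0x809001), (nat_lit 0x805001), (nat_lit 0x602001), (nat_lit 0x806001), (nat_lit 0x7f5001), (nat_lit 0x807001)], [(nat_lit 0x80e001), (nat_lit 0x604001), (nat_lit 0x808001), (nat_lit 0x605001), (nat_lit 0x80b001), (nat_lit 0x603001)], [(nat_lit 0x816001), (nat_lit 0x610001), (nat_lit 0x611001), (nat_lit 0x814001), (nat_lit 0x612001), (nat_lit 0x7b9001)], [(nat_lit 0x81c001), (nat_lit 0x815001), (nat_lit 0x819001), (nat_lit 0x613001), (nat_lit 0x81a001), (nat_lit 0x7bb001)], [(nat_lit 0x61d001), (nat_lit 0x61e001), (nat_lit 0x817001), (nat_lit 0x82a001), (nat_lit 0x61f001), (nat_lit 0x7da001)], [(nat_lit 0x828001), (nat_lit 0x61b001), (nat_lit 0x825001), (nat_lit 0x61a001), (nat_lit 0x61c001), (nat_lit 0x719001)], [(nat_lit 0x63c001), (nat_lit 0x714001), (nat_lit 0x63d001), (nat_lit 0x849001), (nat_lit 0x63b001), (nat_lit 0x84c001)], [(nat_lit 0x642001), (nat_lit 0x709001), (nat_lit 0x84e001), (nat_lit 0x643001), (nat_lit 0x644001), (nat_lit 0x645001)], [(nat_lit 0x84a001), (nat_lit 0x712001), (nat_lit 0x850001), (nat_lit 0x63e001), (nat_lit 0x84b001), (nat_lit 0x851001)], [(nat_lit 0x84d001), (nat_lit 0x70e001), (nat_lit 0x640001), (nat_lit 0x852001), (nat_lit 0x641001), (nat_lit 0x63f001)], [(nat_lit 0x64a001), (nat_lit 0x64b001), (nat_lit 0x6db001), (nat_lit 0x64c001), (nat_lit 0x85d001), (nat_lit 0x6e1001)], [(nat_lit 0x85b001), (nat_lit 0x649001), (nat_lit 0x855001), (nat_lit 0x856001), (nat_lit 0x648001), (nat_lit 0x859001)], [(nat_lit 0x656001), (nat_lit 0x857001), (nat_lit 0x867001), (nat_lit 0x655001), (nat_lit 0x657001), (nat_lit 0x86c001)], [(nat_lit 0x659001), (nat_lit 0x85a001), (nat_lit 0x65a001), (nat_lit 0x86f001), (nat_lit 0x84f001), (nat_lit 0x658001)], [(nat_lit 0x652001), (nat_lit 0x85c001), (nat_lit 0x653001), (nat_lit 0x863001), (nat_lit 0x654001), (nat_lit 0x866001)], [(nat_lit 0x862001), (nat_lit 0x64e001), (nat_lit 0x85e001), (nat_lit 0x64d001), (nat_lit 0x858001), (nat_lit 0x85f001)], [(nat_lit 0x864001), (nat_lit 0x650001), (nat_lit 0x651001), (nat_lit 0x861001), (nat_lit 0x70f001), (nat_lit 0x64f001)], [(nat_lit 0x868001), (nat_lit 0x870001), (nat_lit 0x65b001), (nat_lit 0x871001), (nat_lit 0x869001), (nat_lit 0x875001)], [(nat_lit 0x86d001), (nat_lit 0x860001), (nat_lit 0x877001), (nat_lit 0x65d001), (nat_lit 0x879001), (nat_lit 0x65c001)], [(nat_lit 0x66c001), (nat_lit 0x6f5001), (nat_lit 0x887001), (nat_lit 0x66d001), (nat_lit 0x700001), (nat_lit 0x88a001)], [(nat_lit 0x66e001), (nat_lit 0x6e8001), (nat_lit 0x865001), (nat_lit 0x889001), (nat_lit 0x6ed001), (nat_lit 0x66f001)], [(nat_lit 0x886001), (nat_lit 0x882001), (nat_lit 0x668001), (nat_lit 0x885001), (nat_lit 0x71b001), (nat_lit 0x884001)], [(nat_lit 0x888001), (nat_lit 0x66a001), (nat_lit 0x883001), (nat_lit 0x66b001), (nat_lit 0x718001), (nat_lit 0x669001)], [(nat_lit 0x68d001), (nat_lit 0x8af001), (nat_lit 0x68c001), (nat_lit 0x878001), (nat_lit 0x68e001), (nat_lit 0x874001)], [(nat_lit 0x690001), (nat_lit 0x8a0001), (nat_lit 0x873001), (nat_lit 0x691001), (nat_lit 0x8b1001), (nat_lit 0x68f001)], [(nat_lit 0x8b9001), (nat_lit 0x692001), (nat_lit 0x8a3001), (nat_lit 0x8b5001), (nat_lit 0x8b0001), (nat_lit 0x8b7001)], [(nat_lit 0x876001), (nat_lit 0x8b6001), (nat_lit 0x86e001), (nat_lit 0x693001), (nat_lit 0x8ba001), (nat_lit 0x86b001)], [(nat_lit 0x872001), (nat_lit 0x8b8001), (nat_lit 0x695001), (nat_lit 0x86a001), (nat_lit 0x8bb001), (nat_lit 0x694001)], [(nat_lit 0x8b2001), (nat_lit 0x8aa001), (nat_lit 0x8bc001), (nat_lit 0x697001), (nat_lit 0x696001), (nat_lit 0x8b4001)], [(nat_lit 0x702001), (nat_lit 0x703001), (nat_lit 0x701001), (nat_lit 0x704001), (nat_lit 0x946001), (nat_lit 0x804001)], [(nat_lit 0x706001), (nat_lit 0x707001), (nat_lit 0x949001), (nat_lit 0x731001), (nat_lit 0x705001), (nat_lit 0x94a001)], [(nat_lit 0x6da001), (nat_lit 0x6d9001), (nat_lit 0x6db001), (nat_lit 0x6dc001), (nat_lit 0x921001), (nat_lit 0x6dd001)], [(nat_lit 0x947001), (nat_lit 0x71f001), (nat_lit 0x720001), (nat_lit 0x962001), (nat_lit 0x71e001), (nat_lit 0x964001)], [(nat_lit 0x94b001), (nat_lit 0x722001), (nat_lit 0x966001), (nat_lit 0x72f001), (nat_lit 0x842001), (nat_lit 0x721001)], [(nat_lit 0x812001), (nat_lit 0x71d001), (nat_lit 0x961001), (nat_lit 0x71c001), (nat_lit 0x83f001), (nat_lit 0x73a001)], [(nat_lit 0x724001), (nat_lit 0x967001), (nat_lit 0x723001), (nat_lit 0x747001), (nat_lit 0x845001), (nat_lit 0x746001)], [(nat_lit 0x7c4001), (nat_lit 0xa44001), (nat_lit 0x7c3001), (nat_lit 0x99f001), (nat_lit 0xa46001), (nat_lit 0xa40001)], [(nat_lit 0x7c6001), (nat_lit 0x7c7001), (nat_lit 0xa48001), (nat_lit 0x7c8001), (nat_lit 0x7c5001), (nat_lit 0xa49001)], [(nat_lit 0x7c0001), (nat_lit 0x7c1001), (nat_lit 0xa3d001), (nat_lit 0x7bf001), (nat_lit 0xa41001), (nat_lit 0x7c2001)], [(nat_lit 0xa3e001), (nat_lit 0x7dc001), (nat_lit 0x7db001), (nat_lit 0xa2d001), (nat_lit 0xa58001), (nat_lit 0x7dd001)], [(nat_lit 0x9a0001), (nat_lit 0xa2f001), (nat_lit 0x9a4001), (nat_lit 0x7e0001), (nat_lit 0xa5e001), (nat_lit 0xa2e001)], [(nat_lit 0xa47001), (nat_lit 0xa59001), (nat_lit 0x7e2001), (nat_lit 0xa5f001), (nat_lit 0x7e1001), (nat_lit 0xa60001)], [(nat_lit 0xa4a001), (nat_lit 0x7e4001), (nat_lit 0xa61001), (nat_lit 0x7e5001), (nat_lit 0xa5d001), (nat_lit 0x7e3001)], [(nat_lit 0xa42001), (nat_lit 0x7df001), (nat_lit 0xa5a001), (nat_lit 0x80d001), (nat_lit 0x7de001), (nat_lit 0xa5b001)], [(nat_lit 0x7eb001), (nat_lit 0x80c001), (nat_lit 0xa67001), (nat_lit 0x7ec001), (nat_lit 0x7ea001), (nat_lit 0xa68001)], [(nat_lit 0x7ee001), (nat_lit 0xa5c001), (nat_lit 0x7ef001), (nat_lit 0xa6a001), (nat_lit 0x7f0001), (nat_lit 0x7ed001)], [(nat_lit 0x7e7001), (nat_lit 0xa62001), (nat_lit 0x7e6001), (nat_lit 0x7e8001), (nat_lit 0xa65001), (nat_lit 0x7e9001)], [(nat_lit 0x822001), (nat_lit 0x94c001), (nat_lit 0x823001), (nat_lit 0xa4c001), (nat_lit 0x824001), (nat_lit 0x821001)], [(nat_lit 0x801001), (nat_lit 0x802001), (nat_lit 0x800001), (nat_lit 0x803001), (nat_lit 0xa89001), (nat_lit 0x804001)], [(nat_lit 0xa87001), (nat_lit 0x82d001), (nat_lit 0x82e001), (nat_lit 0xab2001), (nat_lit 0x82c001), (nat_lit 0xab5001)], [(nat_lit 0x830001), (nat_lit 0xab3001), (nat_lit 0xab9001), (nat_lit 0x82f001), (nat_lit 0x831001), (nat_lit 0xabc001)], [(nat_lit 0x833001), (nat_lit 0xab6001), (nat_lit 0x834001), (nat_lit 0xabe001), (nat_lit 0x835001), (nat_lit 0x832001)], [(nat_lit 0x7fe001), (nat_lit 0x7fd001), (nat_lit 0xa86001), (nat_lit 0xa80001), (nat_lit 0x7ff001), (nat_lit 0xa85001)], [(nat_lit 0xa7f001), (nat_lit 0x83e001), (nat_lit 0xacb001), (nat_lit 0x83d001), (nat_lit 0x83f001), (nat_lit 0xacd001)], [(nat_lit 0xa83001), (nat_lit 0x841001), (nat_lit 0xab7001), (nat_lit 0xacf001), (nat_lit 0x842001), (nat_lit 0x840001)], [(nat_lit 0x844001), (nat_lit 0xad0001), (nat_lit 0x843001), (nat_lit 0xad2001), (nat_lit 0x845001), (nat_lit 0xad6001)], [(nat_lit 0x847001), (nat_lit 0xace001), (nat_lit 0xad8001), (nat_lit 0x848001), (nat_lit 0x999001), (nat_lit 0x846001)], [(nat_lit 0x847001), (nat_lit 0x83b001), (nat_lit 0xac8001), (nat_lit 0x83c001), (nat_lit 0xa6b001), (nat_lit 0x83a001)], [(nat_lit 0x844001), (nat_lit 0xac0001), (nat_lit 0x839001), (nat_lit 0xac4001), (nat_lit 0x838001), (nat_lit 0xac7001)], [(nat_lit 0xac2001), (nat_lit 0x836001), (nat_lit 0x837001), (nat_lit 0xa63001), (nat_lit 0xabf001), (nat_lit 0xa64001)], [(nat_lit 0x9c8001), (nat_lit 0x7a6001), (nat_lit 0x7a5001), (nat_lit 0xa22001), (nat_lit 0x820001), (nat_lit 0x9af001)], [(nat_lit 0x7b5001), (nat_lit 0xa23001), (nat_lit 0xa2b001), (nat_lit 0x7b4001), (nat_lit 0xa30001), (nat_lit 0x9a6001)], [(nat_lit 0x74e001), (nat_lit 0x9ac001), (nat_lit 0x74f001), (nat_lit 0x9a5001), (nat_lit 0x9ab001), (nat_lit 0x750001)], [(nat_lit 0x76d001), (nat_lit 0x76e001), (nat_lit 0x9aa001), (nat_lit 0x7a8001), (nat_lit 0x76f001), (nat_lit 0x7b3001)], [(nat_lit 0x75e001), (nat_lit 0x9c7001), (nat_lit 0x75f001), (nat_lit 0x975001), (nat_lit 0x818001), (nat_lit 0x760001)], [(nat_lit 0x977001), (nat_lit 0x754001), (nat_lit 0x97a001), (nat_lit 0x755001), (nat_lit 0x9b8001), (nat_lit 0x753001)], [(nat_lit 0xa2c001), (nat_lit 0xa54001), (nat_lit 0x7d5001), (nat_lit 0xa3f001), (nat_lit 0xa55001), (nat_lit 0x99e001)], [(nat_lit 0xa31001), (nat_lit 0x9b9001), (nat_lit 0xa56001), (nat_lit 0x81b001), (nat_lit 0x7d6001), (nat_lit 0xa57001)], [(nat_lit 0x9a3001), (nat_lit 0x749001), (nat_lit 0x99d001), (nat_lit 0x748001), (nat_lit 0x9a1001), (nat_lit 0x74a001)], [(nat_lit 0x9a9001), (nat_lit 0x74c001), (nat_lit 0x74d001), (nat_lit 0x9a7001), (nat_lit 0x74b001), (nat_lit 0x7ae001)], [(nat_lit 0x6fe001), (nat_lit 0x6fd001), (nat_lit 0x943001), (nat_lit 0x6ff001), (nat_lit 0x700001), (nat_lit 0x76c001)], [(nat_lit 0x944001), (nat_lit 0x95d001), (nat_lit 0x71a001), (nat_lit 0x960001), (nat_lit 0x71b001), (nat_lit 0x768001)], [(nat_lit 0x958001), (nat_lit 0x716001), (nat_lit 0x95c001), (nat_lit 0x717001), (nat_lit 0x718001), (nat_lit 0x719001)], [(nat_lit 0x6df001), (nat_lit 0x6e0001), (nat_lit 0x6de001), (nat_lit 0x6e2001), (nat_lit 0x919001), (nat_lit 0x6e1001)], [(nat_lit 0x6f0001), (nat_lit 0x918001), (nat_lit 0x6ef001), (nat_lit 0x92f001), (nat_lit 0x6f1001), (nat_lit 0x92e001)], [(nat_lit 0x6ec001), (nat_lit 0x6eb001), (nat_lit 0x92b001), (nat_lit 0x765001), (nat_lit 0x6ed001), (nat_lit 0x6ee001)], [(nat_lit 0x6bc001), (nat_lit 0x6bb001), (nat_lit 0x6bd001), (nat_lit 0x803001), (nat_lit 0x8f3001), (nat_lit 0x6be001)], [(nat_lit 0x917001), (nat_lit 0x714001), (nat_lit 0x8f2001), (nat_lit 0x953001), (nat_lit 0x713001), (nat_lit 0x954001)], [(nat_lit 0x930001), (nat_lit 0x712001), (nat_lit 0x950001), (nat_lit 0x711001), (nat_lit 0x951001), (nat_lit 0x94f001)], [(nat_lit 0x92c001), (nat_lit 0x70e001), (nat_lit 0x70d001), (nat_lit 0x94d001), (nat_lit 0x70f001), (nat_lit 0x710001)], [(nat_lit 0x6b8001), (nat_lit 0x8f0001), (nat_lit 0x6b9001), (nat_lit 0x8eb001), (nat_lit 0x6ba001), (nat_lit 0x8ef001)], [(nat_lit 0x708001), (nat_lit 0x709001), (nat_lit 0x8ed001), (nat_lit 0x70a001), (nat_lit 0x70b001), (nat_lit 0x70c001)], [(nat_lit 0x891001), (nat_lit 0x6b1001), (nat_lit 0x881001), (nat_lit 0x8e0001), (nat_lit 0x6b0001), (nat_lit 0x8e3001)], [(nat_lit 0x8ea001), (nat_lit 0x6b3001), (nat_lit 0x8e6001), (nat_lit 0x6b2001), (nat_lit 0x8e2001), (nat_lit 0x8e7001)], [(nat_lit 0x8ec001), (nat_lit 0x6b5001), (nat_lit 0x6b6001), (nat_lit 0x8e9001), (nat_lit 0x6b7001), (nat_lit 0x6b4001)], [(nat_lit 0x91f001), (nat_lit 0x854001), (nat_lit 0x855001), (nat_lit 0xaeb001), (nat_lit 0x853001), (nat_lit 0xaed001)], [(nat_lit 0x880001), (nat_lit 0x948001), (nat_lit 0x881001), (nat_lit 0xb2b001), (nat_lit 0x87f001), (nat_lit 0xb2c001)], [(nat_lit 0x87e001), (nat_lit 0xaec001), (nat_lit 0xb25001), (nat_lit 0x87d001), (nat_lit 0xb29001), (nat_lit 0xb23001)], [(nat_lit 0x87b001), (nat_lit 0xaee001), (nat_lit 0x87a001), (nat_lit 0xb21001), (nat_lit 0x8ee001), (nat_lit 0x87c001)], [(nat_lit 0x6d6001), (nat_lit 0x91e001), (nat_lit 0x6d7001), (nat_lit 0x91c001), (nat_lit 0x6d8001), (nat_lit 0x913001)], [(nat_lit 0x6c3001), (nat_lit 0x6c4001), (nat_lit 0x6c5001), (nat_lit 0x8fd001), (nat_lit 0x6c2001), (nat_lit 0x8fc001)], [(nat_lit 0x91b001), (nat_lit 0x6d5001), (nat_lit 0x91a001), (nat_lit 0x6d4001), (nat_lit 0x900001), (nat_lit 0x90f001)], [(nat_lit 0x910001), (nat_lit 0x6cc001), (nat_lit 0x6cd001), (nat_lit 0x90d001), (nat_lit 0x6cb001), (nat_lit 0x6ce001)], [(nat_lit 0x891001), (nat_lit 0xa88001), (nat_lit 0x892001), (nat_lit 0xb48001), (nat_lit 0x890001), (nat_lit 0xb4b001)], [(nat_lit 0xb2a001), (nat_lit 0x8ff001), (nat_lit 0xb45001), (nat_lit 0x88f001), (nat_lit 0x88e001), (nat_lit 0xb46001)], [(nat_lit 0xb2d001), (nat_lit 0x8fa001), (nat_lit 0xb4d001), (nat_lit 0xb47001), (nat_lit 0x8e5001), (nat_lit 0x893001)], [(nat_lit 0xb26001), (nat_lit 0xb3f001), (nat_lit 0x88d001), (nat_lit 0xb40001), (nat_lit 0xb44001), (nat_lit 0xb3d001)], [(nat_lit 0xb22001), (nat_lit 0x90e001), (nat_lit 0xb3a001), (nat_lit 0x88b001), (nat_lit 0xb3e001), (nat_lit 0x88c001)], [(nat_lit 0x6f4001), (nat_lit 0x6f5001), (nat_lit 0x933001), (nat_lit 0x6f6001), (nat_lit 0x6f7001), (nat_lit 0x92a001)], [(nat_lit 0x6e7001), (nat_lit 0x6e8001), (nat_lit 0x911001), (nat_lit 0x928001), (nat_lit 0x6e9001), (nat_lit 0x6ea001)], [(nat_lit 0x932001), (nat_lit 0x923001), (nat_lit 0x6f2001), (nat_lit 0x931001), (nat_lit 0x6f3001), (nat_lit 0x925001)], [(nat_lit 0x926001), (nat_lit 0x6e4001), (nat_lit 0x922001), (nat_lit 0x6e3001), (nat_lit 0x6e5001), (nat_lit 0x6e6001)], [(nat_lit 0x895001), (nat_lit 0x896001), (nat_lit 0xb4f001), (nat_lit 0x894001), (nat_lit 0x897001), (nat_lit 0xb52001)], [(nat_lit 0x899001), (nat_lit 0x89a001), (nat_lit 0x89b001), (nat_lit 0xb55001), (nat_lit 0x89c001), (nat_lit 0x898001)], [(nat_lit 0x8a7001), (nat_lit 0xb6a001), (nat_lit 0x8a8001), (nat_lit 0xb3c001), (nat_lit 0xb51001), (nat_lit 0xb43001)], [(nat_lit 0x8ac001), (nat_lit 0xb54001), (nat_lit 0xb42001), (nat_lit 0x8ad001), (nat_lit 0xb6d001), (nat_lit 0x8ae001)], [(nat_lit 0xb50001), (nat_lit 0xb56001), (nat_lit 0x89d001), (nat_lit 0xb59001), (nat_lit 0x89e001), (nat_lit 0xb5a001)], [(nat_lit 0xb53001), (nat_lit 0x8a0001), (nat_lit 0xb5b001), (nat_lit 0x8a1001), (nat_lit 0xb5c001), (nat_lit 0x89f001)], [(nat_lit 0xb65001), (nat_lit 0x8a2001), (nat_lit 0x8a3001), (nat_lit 0xb60001), (nat_lit 0xb58001), (nat_lit 0xb62001)], [(nat_lit 0xb3b001), (nat_lit 0xb61001), (nat_lit 0xb24001), (nat_lit 0x8a4001), (nat_lit 0xb67001), (nat_lit 0xb27001)], [(nat_lit 0xb41001), (nat_lit 0xb63001), (nat_lit 0x8a6001), (nat_lit 0xb28001), (nat_lit 0xb68001), (nat_lit 0x8a5001)], [(nat_lit 0xb6b001), (nat_lit 0x8aa001), (nat_lit 0xb69001), (nat_lit 0x8ab001), (nat_lit 0x8a9001), (nat_lit 0xb5f001)], [(nat_lit 0x7a3001), (nat_lit 0x6a7001), (nat_lit 0x762001), (nat_lit 0x8cc001), (nat_lit 0x8d7001), (nat_lit 0x77d001)], [(nat_lit 0x69d001), (nat_lit 0x8c9001), (nat_lit 0x69e001), (nat_lit 0x69f001), (nat_lit 0x8c8001), (nat_lit 0x6a0001)], [(nat_lit 0x6a4001), (nat_lit 0x8d6001), (nat_lit 0x6a5001), (nat_lit 0x8d2001), (nat_lit 0x6a6001), (nat_lit 0x8d5001)], [(nat_lit 0x6a8001), (nat_lit 0x764001), (nat_lit 0x8d4001), (nat_lit 0x6a9001), (nat_lit 0x7d3001), (nat_lit 0x6aa001)], [(nat_lit 0x6ad001), (nat_lit 0x76a001), (nat_lit 0x8dd001), (nat_lit 0x6ae001), (nat_lit 0x7cf001), (nat_lit 0x6af001)], [(nat_lit 0x69b001), (nat_lit 0x8bd001), (nat_lit 0x698001), (nat_lit 0x699001), (nat_lit 0x8c0001), (nat_lit 0x69a001)], [(nat_lit 0x8c6001), (nat_lit 0x78a001), (nat_lit 0x8c2001), (nat_lit 0x8c3001), (nat_lit 0x69c001), (nat_lit 0x8c5001)], [(nat_lit 0x8d1001), (nat_lit 0x79e001), (nat_lit 0x8ce001), (nat_lit 0x6a1001), (nat_lit 0x8c4001), (nat_lit 0x8cf001)], [(nat_lit 0x8d3001), (nat_lit 0x795001), (nat_lit 0x6a3001), (nat_lit 0x8d0001), (nat_lit 0x777001), (nat_lit 0x6a2001)], [(nat_lit 0x8dc001), (nat_lit 0x7ca001), (nat_lit 0x6ab001), (nat_lit 0x8d8001), (nat_lit 0x7cb001), (nat_lit 0x6ac001)], [(nat_lit 0x8f1001), (nat_lit 0x6d2001), (nat_lit 0x916001), (nat_lit 0x90c001), (nat_lit 0x6d3001), (nat_lit 0x915001)], [(nat_lit 0x6c9001), (nat_lit 0x90b001), (nat_lit 0x906001), (nat_lit 0x6ca001), (nat_lit 0x831001), (nat_lit 0x90a001)], [(nat_lit 0x6cf001), (nat_lit 0x914001), (nat_lit 0x6d0001), (nat_lit 0x909001), (nat_lit 0x912001), (nat_lit 0x6d1001)], [(nat_lit 0x6fb001), (nat_lit 0x942001), (nat_lit 0x6fc001), (nat_lit 0x940001), (nat_lit 0x934001), (nat_lit 0x8df001)], [(nat_lit 0x830001), (nat_lit 0x8e1001), (nat_lit 0x8f4001), (nat_lit 0x6bf001), (nat_lit 0x6c0001), (nat_lit 0x8f6001)], [(nat_lit 0x833001), (nat_lit 0x8e4001), (nat_lit 0x823001), (nat_lit 0x8f7001), (nat_lit 0x8f8001), (nat_lit 0x6c1001)], [(nat_lit 0x905001), (nat_lit 0x901001), (nat_lit 0x6c6001), (nat_lit 0x902001), (nat_lit 0x8f5001), (nat_lit 0x903001)], [(nat_lit 0x908001), (nat_lit 0x8e8001), (nat_lit 0x904001), (nat_lit 0x6c8001), (nat_lit 0x907001), (nat_lit 0x6c7001)], [(nat_lit 0x937001), (nat_lit 0x6f8001), (nat_lit 0x6f9001), (nat_lit 0x935001), (nat_lit 0x924001), (nat_lit 0x7cc001)], [(nat_lit 0x93e001), (nat_lit 0x936001), (nat_lit 0x939001), (nat_lit 0x6fa001), (nat_lit 0x93d001), (nat_lit 0x8d9001)], [(nat_lit 0x715001), (nat_lit 0x957001), (nat_lit 0x938001), (nat_lit 0x7d2001), (nat_lit 0x929001), (nat_lit 0x7d0001)], [(nat_lit 0x72b001), (nat_lit 0x983001), (nat_lit 0x72c001), (nat_lit 0x97b001), (nat_lit 0x982001), (nat_lit 0x973001)], [(nat_lit 0x730001), (nat_lit 0x7c7001), (nat_lit 0x981001), (nat_lit 0x731001), (nat_lit 0x732001), (nat_lit 0x989001)], [(nat_lit 0x735001), (nat_lit 0x7c1001), (nat_lit 0x971001), (nat_lit 0x736001), (nat_lit 0x98e001), (nat_lit 0x737001)], [(nat_lit 0x73b001), (nat_lit 0x73c001), (nat_lit 0x73d001), (nat_lit 0x993001), (nat_lit 0x73e001), (nat_lit 0x73f001)], [(nat_lit 0x970001), (nat_lit 0x725001), (nat_lit 0x726001), (nat_lit 0x968001), (nat_lit 0x96d001), (nat_lit 0x727001)], [(nat_lit 0x979001), (nat_lit 0x969001), (nat_lit 0x974001), (nat_lit 0x728001), (nat_lit 0x978001), (nat_lit 0x96a001)], [(nat_lit 0x980001), (nat_lit 0x96e001), (nat_lit 0x72a001), (nat_lit 0x97d001), (nat_lit 0x729001), (nat_lit 0x97e001)], [(nat_lit 0x987001), (nat_lit 0x72e001), (nat_lit 0x97f001), (nat_lit 0x72f001), (nat_lit 0x984001), (nat_lit 0x72d001)], [(nat_lit 0x98d001), (nat_lit 0x734001), (nat_lit 0x96f001), (nat_lit 0x98a001), (nat_lit 0x733001), (nat_lit 0x986001)], [(nat_lit 0x991001), (nat_lit 0x739001), (nat_lit 0x98f001), (nat_lit 0x738001), (nat_lit 0x98c001), (nat_lit 0x73a001)], [(nat_lit 0x7eb001), (nat_lit 0x98b001), (nat_lit 0x995001), (nat_lit 0x740001), (nat_lit 0x741001), (nat_lit 0x997001)], [(nat_lit 0x7ee001), (nat_lit 0x985001), (nat_lit 0x743001), (nat_lit 0x998001), (nat_lit 0x744001), (nat_lit 0x742001)], [(nat_lit 0x7e7001), (nat_lit 0x99a001), (nat_lit 0x745001), (nat_lit 0x747001), (nat_lit 0x996001), (nat_lit 0x746001)], [(nat_lit 0x9ad001), (nat_lit 0x761001), (nat_lit 0x762001), (nat_lit 0x9bb001), (nat_lit 0x9c6001), (nat_lit 0x9ca001)], [(nat_lit 0x756001), (nat_lit 0x9ba001), (nat_lit 0x96b001), (nat_lit 0x757001), (nat_lit 0x9b7001), (nat_lit 0x976001)], [(nat_lit 0x75b001), (nat_lit 0x9c4001), (nat_lit 0x75c001), (nat_lit 0x9c0001), (nat_lit 0x75d001), (nat_lit 0x9c3001)], [(nat_lit 0x763001), (nat_lit 0x764001), (nat_lit 0x9c2001), (nat_lit 0x765001), (nat_lit 0x7d9001), (nat_lit 0x766001)], [(nat_lit 0x769001), (nat_lit 0x76a001), (nat_lit 0x9ce001), (nat_lit 0x76b001), (nat_lit 0x82b001), (nat_lit 0x76c001)], [(nat_lit 0x96c001), (nat_lit 0x9b0001), (nat_lit 0x751001), (nat_lit 0x972001), (nat_lit 0x9b1001), (nat_lit 0x97c001)], [(nat_lit 0x9b6001), (nat_lit 0x9a2001), (nat_lit 0x9b2001), (nat_lit 0x9b3001), (nat_lit 0x752001), (nat_lit 0x9b5001)], [(nat_lit 0x9bf001), (nat_lit 0x9a8001), (nat_lit 0x9bc001), (nat_lit 0x758001), (nat_lit 0x9b4001), (nat_lit 0x9bd001)], [(nat_lit 0x9c1001), (nat_lit 0x7ac001), (nat_lit 0x75a001), (nat_lit 0x9be001), (nat_lit 0x7b8001), (nat_lit 0x759001)], [(nat_lit 0x9cd001), (nat_lit 0x826001), (nat_lit 0x767001), (nat_lit 0x9cb001), (nat_lit 0x827001), (nat_lit 0x768001)], [(nat_lit 0x77c001), (nat_lit 0x77b001), (nat_lit 0x9c9001), (nat_lit 0x77f001), (nat_lit 0x9e2001), (nat_lit 0x77d001)], [(nat_lit 0x78c001), (nat_lit 0x78b001), (nat_lit 0x78d001), (nat_lit 0x78e001), (nat_lit 0x9fb001), (nat_lit 0x8bf001)], [(nat_lit 0x9e1001), (nat_lit 0x79b001), (nat_lit 0x81f001), (nat_lit 0xa12001), (nat_lit 0x79c001), (nat_lit 0xa1b001)], [(nat_lit 0x7a3001), (nat_lit 0x7a2001), (nat_lit 0x9ae001), (nat_lit 0x8be001), (nat_lit 0xa21001), (nat_lit 0x7a4001)], [(nat_lit 0x786001), (nat_lit 0x9f8001), (nat_lit 0x787001), (nat_lit 0x9f0001), (nat_lit 0x788001), (nat_lit 0x9f7001)], [(nat_lit 0x792001), (nat_lit 0xa11001), (nat_lit 0xa09001), (nat_lit 0x793001), (nat_lit 0x9f1001), (nat_lit 0xa10001)], [(nat_lit 0x798001), (nat_lit 0xa1a001), (nat_lit 0x799001), (nat_lit 0xa0f001), (nat_lit 0xa18001), (nat_lit 0x79a001)], [(nat_lit 0x79f001), (nat_lit 0xa1f001), (nat_lit 0x7a0001), (nat_lit 0xa1e001), (nat_lit 0x7a1001), (nat_lit 0xa19001)], [(nat_lit 0x7a7001), (nat_lit 0x7b0001), (nat_lit 0xa17001), (nat_lit 0x7a8001), (nat_lit 0x7a9001), (nat_lit 0x7aa001)], [(nat_lit 0x7af001), (nat_lit 0x7b0001), (nat_lit 0xa28001), (nat_lit 0x7b1001), (nat_lit 0x7b2001), (nat_lit 0x7b3001)], [(nat_lit 0x7bc001), (nat_lit 0xa3a001), (nat_lit 0x7bd001), (nat_lit 0x93a001), (nat_lit 0xa29001), (nat_lit 0x7be001)], [(nat_lit 0x778001), (nat_lit 0x9e0001), (nat_lit 0x779001), (nat_lit 0x9db001), (nat_lit 0x77a001), (nat_lit 0x9df001)], [(nat_lit 0x781001), (nat_lit 0x771001), (nat_lit 0x787001), (nat_lit 0x9d0001), (nat_lit 0x770001), (nat_lit 0x9d3001)], [(nat_lit 0x9da001), (nat_lit 0x773001), (nat_lit 0x9d6001), (nat_lit 0x772001), (nat_lit 0x9d2001), (nat_lit 0x9d7001)], [(nat_lit 0x9dc001), (nat_lit 0x775001), (nat_lit 0x776001), (nat_lit 0x9d9001), (nat_lit 0x777001), (nat_lit 0x774001)], [(nat_lit 0x78c001), (nat_lit 0x77e001), (nat_lit 0x78d001), (nat_lit 0x77f001), (nat_lit 0x9e3001), (nat_lit 0x8cd001)], [(nat_lit 0x781001), (nat_lit 0x9e4001), (nat_lit 0x782001), (nat_lit 0x9e5001), (nat_lit 0x780001), (nat_lit 0x9e8001)], [(nat_lit 0x9ef001), (nat_lit 0x9d1001), (nat_lit 0x9eb001), (nat_lit 0x783001), (nat_lit 0x784001), (nat_lit 0x9ed001)], [(nat_lit 0x9f5001), (nat_lit 0x9d4001), (nat_lit 0x9ea001), (nat_lit 0x9ee001), (nat_lit 0x9f2001), (nat_lit 0x785001)], [(nat_lit 0x8c1001), (nat_lit 0x78a001), (nat_lit 0x8c7001), (nat_lit 0x9fc001), (nat_lit 0x789001), (nat_lit 0x9f4001)], [(nat_lit 0xa08001), (nat_lit 0x9ff001), (nat_lit 0x78f001), (nat_lit 0xa00001), (nat_lit 0x9ec001), (nat_lit 0xa04001)], [(nat_lit 0xa0d001), (nat_lit 0x9d8001), (nat_lit 0xa05001), (nat_lit 0x791001), (nat_lit 0xa0c001), (nat_lit 0x790001)], [(nat_lit 0xa16001), (nat_lit 0x795001), (nat_lit 0x796001), (nat_lit 0xa13001), (nat_lit 0x794001), (nat_lit 0x797001)], [(nat_lit 0xa1d001), (nat_lit 0x79e001), (nat_lit 0xa1c001), (nat_lit 0x79d001), (nat_lit 0x9fe001), (nat_lit 0xa15001)], [(nat_lit 0xa27001), (nat_lit 0x7ac001), (nat_lit 0x7ab001), (nat_lit 0xa24001), (nat_lit 0x7ad001), (nat_lit 0x7ae001)], [(nat_lit 0xa35001), (nat_lit 0x7b6001), (nat_lit 0x7b7001), (nat_lit 0xa32001), (nat_lit 0x7b8001), (nat_lit 0x7b9001)], [(nat_lit 0x93c001), (nat_lit 0xa33001), (nat_lit 0x93f001), (nat_lit 0x7ba001), (nat_lit 0xa39001), (nat_lit 0x7bb001)], [(nat_lit 0x7cd001), (nat_lit 0x829001), (nat_lit 0xa51001), (nat_lit 0x7ce001), (nat_lit 0x7cf001), (nat_lit 0x7d0001)], [(nat_lit 0x7d1001), (nat_lit 0x7d8001), (nat_lit 0x9dd001), (nat_lit 0x7d2001), (nat_lit 0x7d3001), (nat_lit 0x7d4001)], [(nat_lit 0xa50001), (nat_lit 0x7ca001), (nat_lit 0x7c9001), (nat_lit 0xa4d001), (nat_lit 0x7cb001), (nat_lit 0x7cc001)], [(nat_lit 0x7d7001), (nat_lit 0x7d8001), (nat_lit 0xa36001), (nat_lit 0x959001), (nat_lit 0x7d9001), (nat_lit 0x7da001)], [(nat_lit 0x812001), (nat_lit 0x811001), (nat_lit 0xa97001), (nat_lit 0x813001), (nat_lit 0xa81001), (nat_lit 0x994001)], [(nat_lit 0x7f8001), (nat_lit 0xa7e001), (nat_lit 0xa75001), (nat_lit 0x7f9001), (nat_lit 0x7fa001), (nat_lit 0xa7d001)], [(nat_lit 0x7fb001), (nat_lit 0xa82001), (nat_lit 0x8fb001), (nat_lit 0xa7c001), (nat_lit 0x824001), (nat_lit 0x7fc001)], [(nat_lit 0x809001), (nat_lit 0xa93001), (nat_lit 0x80a001), (nat_lit 0xa06001), (nat_lit 0xa76001), (nat_lit 0xa02001)], [(nat_lit 0x80e001), (nat_lit 0x992001), (nat_lit 0xa01001), (nat_lit 0x80f001), (nat_lit 0xa96001), (nat_lit 0x810001)], [(nat_lit 0xaa0001), (nat_lit 0x81e001), (nat_lit 0x81f001), (nat_lit 0xaac001), (nat_lit 0x820001), (nat_lit 0xa3c001)], [(nat_lit 0x81c001), (nat_lit 0xaab001), (nat_lit 0x8da001), (nat_lit 0x81d001), (nat_lit 0xaaa001), (nat_lit 0x93b001)], [(nat_lit 0x8fe001), (nat_lit 0x963001), (nat_lit 0xa6c001), (nat_lit 0x7f1001), (nat_lit 0x91d001), (nat_lit 0xa6d001)], [(nat_lit 0x8f9001), (nat_lit 0x965001), (nat_lit 0x7f3001), (nat_lit 0xa6e001), (nat_lit 0x835001), (nat_lit 0x7f2001)], [(nat_lit 0xa74001), (nat_lit 0xa6f001), (nat_lit 0x7f4001), (nat_lit 0xa71001), (nat_lit 0x7f5001), (nat_lit 0xa72001)], [(nat_lit 0xa7b001), (nat_lit 0x83b001), (nat_lit 0xa73001), (nat_lit 0x7f7001), (nat_lit 0xa77001), (nat_lit 0x7f6001)], [(nat_lit 0xa8f001), (nat_lit 0x805001), (nat_lit 0x837001), (nat_lit 0xa8a001), (nat_lit 0xa70001), (nat_lit 0xa8c001)], [(nat_lit 0xa07001), (nat_lit 0xa8b001), (nat_lit 0xa0e001), (nat_lit 0x806001), (nat_lit 0xa90001), (nat_lit 0xa0b001)], [(nat_lit 0xa03001), (nat_lit 0xa8d001), (nat_lit 0x808001), (nat_lit 0xa0a001), (nat_lit 0xa91001), (nat_lit 0x807001)], [(nat_lit 0xa94001), (nat_lit 0x80c001), (nat_lit 0xa92001), (nat_lit 0x80d001), (nat_lit 0x80b001), (nat_lit 0xa7a001)], [(nat_lit 0x816001), (nat_lit 0xa9f001), (nat_lit 0x817001), (nat_lit 0xa9e001), (nat_lit 0x818001), (nat_lit 0xa38001)], [(nat_lit 0xa9d001), (nat_lit 0x815001), (nat_lit 0xa99001), (nat_lit 0x814001), (nat_lit 0xa9a001), (nat_lit 0xa34001)], [(nat_lit 0x8db001), (nat_lit 0xaa3001), (nat_lit 0x819001), (nat_lit 0x8de001), (nat_lit 0xaa4001), (nat_lit 0x941001)], [(nat_lit 0xaa8001), (nat_lit 0xa9b001), (nat_lit 0xaa5001), (nat_lit 0x81b001), (nat_lit 0x81a001), (nat_lit 0xaa6001)], [(nat_lit 0x828001), (nat_lit 0x829001), (nat_lit 0xab0001), (nat_lit 0x82a001), (nat_lit 0x82b001), (nat_lit 0x95b001)], [(nat_lit 0xaaf001), (nat_lit 0x826001), (nat_lit 0x825001), (nat_lit 0xaad001), (nat_lit 0x827001), (nat_lit 0x95f001)], [(nat_lit 0x84a001), (nat_lit 0x952001), (nat_lit 0xadb001), (nat_lit 0x849001), (nat_lit 0x84b001), (nat_lit 0xade001)], [(nat_lit 0x84d001), (nat_lit 0x955001), (nat_lit 0x84e001), (nat_lit 0xae0001), (nat_lit 0x84f001), (nat_lit 0x84c001)], [(nat_lit 0xadc001), (nat_lit 0xae1001), (nat_lit 0x850001), (nat_lit 0xae2001), (nat_lit 0xadd001), (nat_lit 0xae5001)], [(nat_lit 0xadf001), (nat_lit 0x94e001), (nat_lit 0xae7001), (nat_lit 0x852001), (nat_lit 0xae9001), (nat_lit 0x851001)], [(nat_lit 0x85b001), (nat_lit 0x85c001), (nat_lit 0x920001), (nat_lit 0xaf7001), (nat_lit 0x85d001), (nat_lit 0xafb001)], [(nat_lit 0xaf5001), (nat_lit 0x857001), (nat_lit 0xaf0001), (nat_lit 0x856001), (nat_lit 0x858001), (nat_lit 0xaf2001)], [(nat_lit 0xaf9001), (nat_lit 0x85a001), (nat_lit 0xaef001), (nat_lit 0xaf4001), (nat_lit 0x956001), (nat_lit 0x859001)], [(nat_lit 0x868001), (nat_lit 0xb08001), (nat_lit 0x867001), (nat_lit 0x86a001), (nat_lit 0x869001), (nat_lit 0x86b001)], [(nat_lit 0x86d001), (nat_lit 0xaf3001), (nat_lit 0x86e001), (nat_lit 0x86f001), (nat_lit 0xb0c001), (nat_lit 0x86c001)], [(nat_lit 0x862001), (nat_lit 0xaf6001), (nat_lit 0xb02001), (nat_lit 0x863001), (nat_lit 0xaf8001), (nat_lit 0xb07001)], [(nat_lit 0x864001), (nat_lit 0xafa001), (nat_lit 0x865001), (nat_lit 0xb06001), (nat_lit 0x92d001), (nat_lit 0x866001)], [(nat_lit 0xb01001), (nat_lit 0xafc001), (nat_lit 0x85e001), (nat_lit 0xafe001), (nat_lit 0xaf1001), (nat_lit 0xaff001)], [(nat_lit 0xb05001), (nat_lit 0x860001), (nat_lit 0xb00001), (nat_lit 0x861001), (nat_lit 0xb03001), (nat_lit 0x85f001)], [(nat_lit 0xb16001), (nat_lit 0x870001), (nat_lit 0xafd001), (nat_lit 0xb10001), (nat_lit 0xb0a001), (nat_lit 0xb13001)], [(nat_lit 0x872001), (nat_lit 0xb11001), (nat_lit 0x873001), (nat_lit 0x871001), (nat_lit 0xb17001), (nat_lit 0x874001)], [(nat_lit 0x876001), (nat_lit 0xb14001), (nat_lit 0x877001), (nat_lit 0x878001), (nat_lit 0xb1c001), (nat_lit 0x875001)], [(nat_lit 0xb0d001), (nat_lit 0xb04001), (nat_lit 0xb1e001), (nat_lit 0xaea001), (nat_lit 0x879001), (nat_lit 0xb0f001)], [(nat_lit 0x886001), (nat_lit 0xb39001), (nat_lit 0x887001), (nat_lit 0xb38001), (nat_lit 0x945001), (nat_lit 0xb34001)], [(nat_lit 0x888001), (nat_lit 0x927001), (nat_lit 0xb33001), (nat_lit 0x889001), (nat_lit 0x95a001), (nat_lit 0x88a001)], [(nat_lit 0xb32001), (nat_lit 0x882001), (nat_lit 0x883001), (nat_lit 0xb2f001), (nat_lit 0x95e001), (nat_lit 0x884001)], [(nat_lit 0xb37001), (nat_lit 0xb30001), (nat_lit 0xb35001), (nat_lit 0x885001), (nat_lit 0xb36001), (nat_lit 0xb31001)], [(nat_lit 0xb6e001), (nat_lit 0x8af001), (nat_lit 0xb57001), (nat_lit 0xb15001), (nat_lit 0x8b0001), (nat_lit 0xb12001)], [(nat_lit 0x8b2001), (nat_lit 0xb5d001), (nat_lit 0xb19001), (nat_lit 0x8b3001), (nat_lit 0x8b1001), (nat_lit 0x8b4001)], [(nat_lit 0x8b9001), (nat_lit 0xb6f001), (nat_lit 0xb66001), (nat_lit 0xb75001), (nat_lit 0xb70001), (nat_lit 0xb79001)], [(nat_lit 0xb74001), (nat_lit 0x8b6001), (nat_lit 0xb71001), (nat_lit 0x8b5001), (nat_lit 0xb72001), (nat_lit 0xb0b001)], [(nat_lit 0xb78001), (nat_lit 0x8b8001), (nat_lit 0xb64001), (nat_lit 0xb09001), (nat_lit 0xb76001), (nat_lit 0x8b7001)], [(nat_lit 0xb1d001), (nat_lit 0xb73001), (nat_lit 0xb0e001), (nat_lit 0xb1f001), (nat_lit 0x8ba001), (nat_lit 0xb20001)], [(nat_lit 0xb18001), (nat_lit 0xb77001), (nat_lit 0x8bc001), (nat_lit 0xb1a001), (nat_lit 0x8bb001), (nat_lit 0xb1b001)], [(nat_lit 0x947001), (nat_lit 0x948001), (nat_lit 0x949001), (nat_lit 0xc36001), (nat_lit 0x946001), (nat_lit 0xc3a001)], [(nat_lit 0x94b001), (nat_lit 0x94c001), (nat_lit 0xc3d001), (nat_lit 0x988001), (nat_lit 0xa84001), (nat_lit 0x94a001)], [(nat_lit 0x91f001), (nat_lit 0x91e001), (nat_lit 0x920001), (nat_lit 0xc07001), (nat_lit 0x921001), (nat_lit 0xbf5001)], [(nat_lit 0xc37001), (nat_lit 0x963001), (nat_lit 0xc58001), (nat_lit 0x962001), (nat_lit 0xc08001), (nat_lit 0xc59001)], [(nat_lit 0xc3b001), (nat_lit 0x965001), (nat_lit 0x966001), (nat_lit 0xc5b001), (nat_lit 0xab8001), (nat_lit 0x964001)], [(nat_lit 0xa98001), (nat_lit 0xc55001), (nat_lit 0x961001), (nat_lit 0xc57001), (nat_lit 0xacc001), (nat_lit 0x990001)], [(nat_lit 0xc5c001), (nat_lit 0x967001), (nat_lit 0xc56001), (nat_lit 0x99b001), (nat_lit 0xad1001), (nat_lit 0x99c001)], [(nat_lit 0xd90001), (nat_lit 0xa44001), (nat_lit 0xa45001), (nat_lit 0xcac001), (nat_lit 0xd9b001), (nat_lit 0xd93001)], [(nat_lit 0x9a0001), (nat_lit 0xca9001), (nat_lit 0x99d001), (nat_lit 0x99f001), (nat_lit 0xcae001), (nat_lit 0x99e001)], [(nat_lit 0xa47001), (nat_lit 0xd9c001), (nat_lit 0xa48001), (nat_lit 0xd9e001), (nat_lit 0xa46001), (nat_lit 0xda0001)], [(nat_lit 0xa3e001), (nat_lit 0xd8f001), (nat_lit 0xa3d001), (nat_lit 0xa3f001), (nat_lit 0xd94001), (nat_lit 0xa40001)], [(nat_lit 0xa4a001), (nat_lit 0xa4b001), (nat_lit 0xda2001), (nat_lit 0xa4c001), (nat_lit 0xd9a001), (nat_lit 0xa49001)], [(nat_lit 0xa42001), (nat_lit 0xa43001), (nat_lit 0xd96001), (nat_lit 0xa95001), (nat_lit 0xa41001), (nat_lit 0xd97001)], [(nat_lit 0xa2c001), (nat_lit 0xa2f001), (nat_lit 0xa2b001), (nat_lit 0xa2d001), (nat_lit 0xd7a001), (nat_lit 0xa2e001)], [(nat_lit 0xd95001), (nat_lit 0xa59001), (nat_lit 0xa5a001), (nat_lit 0xdb4001), (nat_lit 0xa58001), (nat_lit 0xdb6001)], [(nat_lit 0x9a3001), (nat_lit 0xcba001), (nat_lit 0x9a4001), (nat_lit 0x9a5001), (nat_lit 0xcb9001), (nat_lit 0x9a6001)], [(nat_lit 0xcaf001), (nat_lit 0xd7c001), (nat_lit 0xcb8001), (nat_lit 0xdba001), (nat_lit 0xa5e001), (nat_lit 0xdbc001)], [(nat_lit 0xd9f001), (nat_lit 0xdb5001), (nat_lit 0xdbd001), (nat_lit 0xa5f001), (nat_lit 0xdbb001), (nat_lit 0xdc0001)], [(nat_lit 0xda1001), (nat_lit 0xdb7001), (nat_lit 0xa61001), (nat_lit 0xdc2001), (nat_lit 0xdb9001), (nat_lit 0xa60001)], [(nat_lit 0xd98001), (nat_lit 0xa5c001), (nat_lit 0xdb8001), (nat_lit 0xa79001), (nat_lit 0xa5d001), (nat_lit 0xa5b001)], [(nat_lit 0xa66001), (nat_lit 0xdc4001), (nat_lit 0xa67001), (nat_lit 0xac9001), (nat_lit 0xa65001), (nat_lit 0xac6001)], [(nat_lit 0xa69001), (nat_lit 0xa78001), (nat_lit 0xac5001), (nat_lit 0xa6a001), (nat_lit 0xa6b001), (nat_lit 0xa68001)], [(nat_lit 0xdc5001), (nat_lit 0xa62001), (nat_lit 0xa8e001), (nat_lit 0xa63001), (nat_lit 0xdc3001), (nat_lit 0xa64001)], [(nat_lit 0xa87001), (nat_lit 0xa88001), (nat_lit 0xa86001), (nat_lit 0xdf3001), (nat_lit 0xa89001), (nat_lit 0xdf2001)], [(nat_lit 0xdf4001), (nat_lit 0xab3001), (nat_lit 0xe34001), (nat_lit 0xab2001), (nat_lit 0xab4001), (nat_lit 0xe36001)], [(nat_lit 0xdef001), (nat_lit 0xab6001), (nat_lit 0xab7001), (nat_lit 0xe38001), (nat_lit 0xab8001), (nat_lit 0xab5001)], [(nat_lit 0xaba001), (nat_lit 0xe39001), (nat_lit 0xab9001), (nat_lit 0xe3b001), (nat_lit 0xabb001), (nat_lit 0xe3d001)], [(nat_lit 0xabd001), (nat_lit 0xe37001), (nat_lit 0xe3f001), (nat_lit 0xabe001), (nat_lit 0xe40001), (nat_lit 0xabc001)], [(nat_lit 0xa7f001), (nat_lit 0xa7e001), (nat_lit 0xdeb001), (nat_lit 0xa80001), (nat_lit 0xa81001), (nat_lit 0xdea001)], [(nat_lit 0xa83001), (nat_lit 0xa82001), (nat_lit 0xdee001), (nat_lit 0xde9001), (nat_lit 0xa84001), (nat_lit 0xa85001)], [(nat_lit 0xdec001), (nat_lit 0xe4f001), (nat_lit 0xacb001), (nat_lit 0xe52001), (nat_lit 0xacc001), (nat_lit 0xe53001)], [(nat_lit 0xde8001), (nat_lit 0xace001), (nat_lit 0xe54001), (nat_lit 0xacf001), (nat_lit 0xc8e001), (nat_lit 0xacd001)], [(nat_lit 0xe5c001), (nat_lit 0xad0001), (nat_lit 0xe50001), (nat_lit 0xe55001), (nat_lit 0xad1001), (nat_lit 0xe58001)], [(nat_lit 0xad3001), (nat_lit 0xe56001), (nat_lit 0xad4001), (nat_lit 0xad2001), (nat_lit 0xada001), (nat_lit 0xad5001)], [(nat_lit 0xad7001), (nat_lit 0xe59001), (nat_lit 0xad8001), (nat_lit 0xad9001), (nat_lit 0xada001), (nat_lit 0xad6001)], [(nat_lit 0xa69001), (nat_lit 0xc8d001), (nat_lit 0xad4001), (nat_lit 0x998001), (nat_lit 0x999001), (nat_lit 0x997001)], [(nat_lit 0xad7001), (nat_lit 0xe48001), (nat_lit 0xac8001), (nat_lit 0xac9001), (nat_lit 0xaca001), (nat_lit 0xac7001)], [(nat_lit 0xe4c001), (nat_lit 0xac0001), (nat_lit 0xac1001), (nat_lit 0xe44001), (nat_lit 0xabf001), (nat_lit 0xe47001)], [(nat_lit 0xad3001), (nat_lit 0xe45001), (nat_lit 0xac5001), (nat_lit 0xac4001), (nat_lit 0xaca001), (nat_lit 0xac6001)], [(nat_lit 0xac2001), (nat_lit 0xc5d001), (nat_lit 0xac3001), (nat_lit 0xdc7001), (nat_lit 0xe4e001), (nat_lit 0xdc8001)], [(nat_lit 0x9c8001), (nat_lit 0x9c7001), (nat_lit 0x9c9001), (nat_lit 0xc72001), (nat_lit 0xaa2001), (nat_lit 0x9ca001)], [(nat_lit 0xc70001), (nat_lit 0xa23001), (nat_lit 0xcbc001), (nat_lit 0xa22001), (nat_lit 0xd6b001), (nat_lit 0xcbe001)], [(nat_lit 0x9ad001), (nat_lit 0x9ac001), (nat_lit 0x9ae001), (nat_lit 0xcbd001), (nat_lit 0xcc5001), (nat_lit 0x9af001)], [(nat_lit 0xa31001), (nat_lit 0xd6c001), (nat_lit 0xd7d001), (nat_lit 0xaa9001), (nat_lit 0xa30001), (nat_lit 0xd7e001)], [(nat_lit 0x9a9001), (nat_lit 0xcc2001), (nat_lit 0x9aa001), (nat_lit 0xcc1001), (nat_lit 0x9ab001), (nat_lit 0xa2a001)], [(nat_lit 0x977001), (nat_lit 0xc6f001), (nat_lit 0x974001), (nat_lit 0x975001), (nat_lit 0xc74001), (nat_lit 0x976001)], [(nat_lit 0x979001), (nat_lit 0xc7d001), (nat_lit 0x97a001), (nat_lit 0x97b001), (nat_lit 0xc7c001), (nat_lit 0x97c001)], [(nat_lit 0xc75001), (nat_lit 0x9b9001), (nat_lit 0xc7b001), (nat_lit 0xa9c001), (nat_lit 0x9b8001), (nat_lit 0xcd4001)], [(nat_lit 0xcaa001), (nat_lit 0xa54001), (nat_lit 0xc7f001), (nat_lit 0xd92001), (nat_lit 0xdaf001), (nat_lit 0xcad001)], [(nat_lit 0xd7b001), (nat_lit 0xdb0001), (nat_lit 0xa56001), (nat_lit 0xdb1001), (nat_lit 0xa55001), (nat_lit 0xdb2001)], [(nat_lit 0xd7f001), (nat_lit 0xcd3001), (nat_lit 0xdb3001), (nat_lit 0xaa7001), (nat_lit 0xcb6001), (nat_lit 0xa57001)], [(nat_lit 0xcb7001), (nat_lit 0x9a2001), (nat_lit 0xcb0001), (nat_lit 0xcb1001), (nat_lit 0x9a1001), (nat_lit 0xcb4001)], [(nat_lit 0xcc0001), (nat_lit 0x9a8001), (nat_lit 0xcbf001), (nat_lit 0x9a7001), (nat_lit 0xcb3001), (nat_lit 0xa26001)], [(nat_lit 0x944001), (nat_lit 0xc32001), (nat_lit 0x943001), (nat_lit 0xc34001), (nat_lit 0x945001), (nat_lit 0x9cf001)], [(nat_lit 0xc4c001), (nat_lit 0x95d001), (nat_lit 0x95c001), (nat_lit 0xc4f001), (nat_lit 0x95e001), (nat_lit 0x95f001)], [(nat_lit 0xc35001), (nat_lit 0xc50001), (nat_lit 0xc52001), (nat_lit 0x960001), (nat_lit 0xc53001), (nat_lit 0x9cc001)], [(nat_lit 0x958001), (nat_lit 0x957001), (nat_lit 0xc4b001), (nat_lit 0x959001), (nat_lit 0x95a001), (nat_lit 0x95b001)], [(nat_lit 0x917001), (nat_lit 0x918001), (nat_lit 0x916001), (nat_lit 0xbfb001), (nat_lit 0x919001), (nat_lit 0xbfa001)], [(nat_lit 0x930001), (nat_lit 0xbfd001), (nat_lit 0xc13001), (nat_lit 0x92f001), (nat_lit 0xbfe001), (nat_lit 0xc12001)], [(nat_lit 0x92c001), (nat_lit 0xbf8001), (nat_lit 0x92b001), (nat_lit 0xc10001), (nat_lit 0x92d001), (nat_lit 0x92e001)], [(nat_lit 0x8f1001), (nat_lit 0x8f0001), (nat_lit 0x8f2001), (nat_lit 0xbc6001), (nat_lit 0x8f3001), (nat_lit 0xbcb001)], [(nat_lit 0xbfc001), (nat_lit 0x952001), (nat_lit 0xc47001), (nat_lit 0x953001), (nat_lit 0x951001), (nat_lit 0xc48001)], [(nat_lit 0xbf7001), (nat_lit 0x955001), (nat_lit 0xbc9001), (nat_lit 0xc4a001), (nat_lit 0x956001), (nat_lit 0x954001)], [(nat_lit 0xc14001), (nat_lit 0xc43001), (nat_lit 0x950001), (nat_lit 0xc45001), (nat_lit 0xc46001), (nat_lit 0xc3f001)], [(nat_lit 0xc11001), (nat_lit 0x94e001), (nat_lit 0xc3e001), (nat_lit 0x94d001), (nat_lit 0xc40001), (nat_lit 0x94f001)], [(nat_lit 0x8ea001), (nat_lit 0xbc4001), (nat_lit 0xbb9001), (nat_lit 0x8eb001), (nat_lit 0xb4a001), (nat_lit 0xbc3001)], [(nat_lit 0x8ec001), (nat_lit 0xbc7001), (nat_lit 0x8ed001), (nat_lit 0xbc2001), (nat_lit 0x8ee001), (nat_lit 0x8ef001)], [(nat_lit 0xb49001), (nat_lit 0x8e1001), (nat_lit 0xbae001), (nat_lit 0x8e0001), (nat_lit 0x8e2001), (nat_lit 0xbb0001)], [(nat_lit 0xb4c001), (nat_lit 0x8e4001), (nat_lit 0xb2e001), (nat_lit 0xbb2001), (nat_lit 0x8e5001), (nat_lit 0x8e3001)], [(nat_lit 0xbb8001), (nat_lit 0xbb3001), (nat_lit 0x8e6001), (nat_lit 0xbb5001), (nat_lit 0xbaf001), (nat_lit 0xbb6001)], [(nat_lit 0xbc0001), (nat_lit 0x8e8001), (nat_lit 0xbb7001), (nat_lit 0x8e9001), (nat_lit 0xbbd001), (nat_lit 0x8e7001)], [(nat_lit 0xc06001), (nat_lit 0xaec001), (nat_lit 0xe73001), (nat_lit 0xaeb001), (nat_lit 0xc39001), (nat_lit 0xe74001)], [(nat_lit 0xbf2001), (nat_lit 0xaee001), (nat_lit 0xaef001), (nat_lit 0xe76001), (nat_lit 0xbca001), (nat_lit 0xaed001)], [(nat_lit 0xb2a001), (nat_lit 0xc38001), (nat_lit 0xec6001), (nat_lit 0xb2b001), (nat_lit 0xb29001), (nat_lit 0xec7001)], [(nat_lit 0xb2d001), (nat_lit 0xc3c001), (nat_lit 0xb2e001), (nat_lit 0xec9001), (nat_lit 0xb4e001), (nat_lit 0xb2c001)], [(nat_lit 0xb26001), (nat_lit 0xec1001), (nat_lit 0xb25001), (nat_lit 0xb28001), (nat_lit 0xec4001), (nat_lit 0xb27001)], [(nat_lit 0xb22001), (nat_lit 0xe75001), (nat_lit 0xb24001), (nat_lit 0xb21001), (nat_lit 0xebe001), (nat_lit 0xb23001)], [(nat_lit 0x91b001), (nat_lit 0xc05001), (nat_lit 0xc03001), (nat_lit 0x91c001), (nat_lit 0x91d001), (nat_lit 0xbf0001)], [(nat_lit 0x910001), (nat_lit 0xbf1001), (nat_lit 0x911001), (nat_lit 0xbef001), (nat_lit 0x912001), (nat_lit 0x913001)], [(nat_lit 0x8fe001), (nat_lit 0x8ff001), (nat_lit 0xbd7001), (nat_lit 0x8fd001), (nat_lit 0x900001), (nat_lit 0xbd6001)], [(nat_lit 0x8f9001), (nat_lit 0x8fa001), (nat_lit 0x8fb001), (nat_lit 0xbd3001), (nat_lit 0x8f8001), (nat_lit 0x8fc001)], [(nat_lit 0xc02001), (nat_lit 0xbff001), (nat_lit 0x91a001), (nat_lit 0xc01001), (nat_lit 0xbd9001), (nat_lit 0xbed001)], [(nat_lit 0xbee001), (nat_lit 0x90e001), (nat_lit 0xbec001), (nat_lit 0x90d001), (nat_lit 0xbe5001), (nat_lit 0x90f001)], [(nat_lit 0xb49001), (nat_lit 0xdf5001), (nat_lit 0xeeb001), (nat_lit 0xb48001), (nat_lit 0xb4a001), (nat_lit 0xeee001)], [(nat_lit 0xb4c001), (nat_lit 0xdf0001), (nat_lit 0xb4d001), (nat_lit 0xef0001), (nat_lit 0xb4e001), (nat_lit 0xb4b001)], [(nat_lit 0xec5001), (nat_lit 0xee3001), (nat_lit 0xb45001), (nat_lit 0xee8001), (nat_lit 0xb44001), (nat_lit 0xee9001)], [(nat_lit 0xec8001), (nat_lit 0xbd5001), (nat_lit 0xeea001), (nat_lit 0xb47001), (nat_lit 0xede001), (nat_lit 0xb46001)], [(nat_lit 0xee4001), (nat_lit 0xb3f001), (nat_lit 0xc00001), (nat_lit 0xedf001), (nat_lit 0xee2001), (nat_lit 0xed9001)], [(nat_lit 0xb41001), (nat_lit 0xee0001), (nat_lit 0xb42001), (nat_lit 0xb40001), (nat_lit 0xee5001), (nat_lit 0xb43001)], [(nat_lit 0xb3b001), (nat_lit 0xed7001), (nat_lit 0xb3a001), (nat_lit 0xb3c001), (nat_lit 0xeda001), (nat_lit 0xb3d001)], [(nat_lit 0xebf001), (nat_lit 0xbe4001), (nat_lit 0xedc001), (nat_lit 0xbbf001), (nat_lit 0xb3e001), (nat_lit 0xedd001)], [(nat_lit 0x932001), (nat_lit 0xc1a001), (nat_lit 0x933001), (nat_lit 0xc19001), (nat_lit 0x934001), (nat_lit 0xc0f001)], [(nat_lit 0x926001), (nat_lit 0x927001), (nat_lit 0xc0d001), (nat_lit 0x928001), (nat_lit 0x929001), (nat_lit 0x92a001)], [(nat_lit 0xc0c001), (nat_lit 0x923001), (nat_lit 0x922001), (nat_lit 0xc09001), (nat_lit 0x924001), (nat_lit 0x925001)], [(nat_lit 0xc18001), (nat_lit 0xc0a001), (nat_lit 0xc15001), (nat_lit 0x931001), (nat_lit 0xc16001), (nat_lit 0xc0b001)], [(nat_lit 0xb50001), (nat_lit 0xef1001), (nat_lit 0xb4f001), (nat_lit 0xef4001), (nat_lit 0xb51001), (nat_lit 0xef6001)], [(nat_lit 0xb53001), (nat_lit 0xb54001), (nat_lit 0xef8001), (nat_lit 0xb55001), (nat_lit 0xef9001), (nat_lit 0xb52001)], [(nat_lit 0xf17001), (nat_lit 0xb6a001), (nat_lit 0xef2001), (nat_lit 0xed8001), (nat_lit 0xef3001), (nat_lit 0xee1001)], [(nat_lit 0xb6b001), (nat_lit 0xefb001), (nat_lit 0xee7001), (nat_lit 0xb6c001), (nat_lit 0xb6d001), (nat_lit 0xefd001)], [(nat_lit 0xf00001), (nat_lit 0xb56001), (nat_lit 0xb57001), (nat_lit 0xefe001), (nat_lit 0xb58001), (nat_lit 0xead001)], [(nat_lit 0xef5001), (nat_lit 0xeff001), (nat_lit 0xf03001), (nat_lit 0xb59001), (nat_lit 0xf06001), (nat_lit 0xf05001)], [(nat_lit 0xef7001), (nat_lit 0xeac001), (nat_lit 0xb5b001), (nat_lit 0xf04001), (nat_lit 0xf08001), (nat_lit 0xb5a001)], [(nat_lit 0xefa001), (nat_lit 0xb5d001), (nat_lit 0xf09001), (nat_lit 0xb5e001), (nat_lit 0xb5c001), (nat_lit 0xb5f001)], [(nat_lit 0xb65001), (nat_lit 0xf16001), (nat_lit 0xb66001), (nat_lit 0xf0f001), (nat_lit 0xf02001), (nat_lit 0xf15001)], [(nat_lit 0xf0e001), (nat_lit 0xb61001), (nat_lit 0xf0b001), (nat_lit 0xb60001), (nat_lit 0xf0c001), (nat_lit 0xec3001)], [(nat_lit 0xf13001), (nat_lit 0xb63001), (nat_lit 0xb64001), (nat_lit 0xec2001), (nat_lit 0xf10001), (nat_lit 0xb62001)], [(nat_lit 0xedb001), (nat_lit 0xf0d001), (nat_lit 0xec0001), (nat_lit 0xf07001), (nat_lit 0xb67001), (nat_lit 0xf18001)], [(nat_lit 0xee6001), (nat_lit 0xf11001), (nat_lit 0xb69001), (nat_lit 0xf19001), (nat_lit 0xb68001), (nat_lit 0xf0a001)], [(nat_lit 0x8ca001), (nat_lit 0x8c9001), (nat_lit 0x8cb001), (nat_lit 0x8cc001), (nat_lit 0xb91001), (nat_lit 0x8cd001)], [(nat_lit 0xa20001), (nat_lit 0x8d6001), (nat_lit 0x9c5001), (nat_lit 0xba5001), (nat_lit 0x8d7001), (nat_lit 0xba7001)], [(nat_lit 0x8c6001), (nat_lit 0xb8e001), (nat_lit 0x8c7001), (nat_lit 0xb88001), (nat_lit 0x8c8001), (nat_lit 0xb8d001)], [(nat_lit 0x8d1001), (nat_lit 0xba4001), (nat_lit 0xb9c001), (nat_lit 0x8d2001), (nat_lit 0xb89001), (nat_lit 0xba3001)], [(nat_lit 0x8d3001), (nat_lit 0xba6001), (nat_lit 0x8d4001), (nat_lit 0xba2001), (nat_lit 0x9de001), (nat_lit 0x8d5001)], [(nat_lit 0x8dc001), (nat_lit 0xbab001), (nat_lit 0x8dd001), (nat_lit 0x8de001), (nat_lit 0xa52001), (nat_lit 0x8df001)], [(nat_lit 0x8ca001), (nat_lit 0x8bd001), (nat_lit 0x8cb001), (nat_lit 0x8be001), (nat_lit 0xb7a001), (nat_lit 0x8bf001)], [(nat_lit 0x8c1001), (nat_lit 0xb7b001), (nat_lit 0x8c2001), (nat_lit 0xb7c001), (nat_lit 0x8c0001), (nat_lit 0xb7f001)], [(nat_lit 0xb87001), (nat_lit 0x9fd001), (nat_lit 0xb83001), (nat_lit 0x8c3001), (nat_lit 0x8c4001), (nat_lit 0xb85001)], [(nat_lit 0xb8a001), (nat_lit 0x9f3001), (nat_lit 0xb81001), (nat_lit 0xb86001), (nat_lit 0x9d5001), (nat_lit 0x8c5001)], [(nat_lit 0xb9b001), (nat_lit 0xb92001), (nat_lit 0x8ce001), (nat_lit 0xb93001), (nat_lit 0xb84001), (nat_lit 0xb97001)], [(nat_lit 0xba0001), (nat_lit 0xa14001), (nat_lit 0xb98001), (nat_lit 0x8d0001), (nat_lit 0xb9f001), (nat_lit 0x8cf001)], [(nat_lit 0x8db001), (nat_lit 0xa4e001), (nat_lit 0x8da001), (nat_lit 0x8d8001), (nat_lit 0xba8001), (nat_lit 0x8d9001)], [(nat_lit 0xbc5001), (nat_lit 0x90b001), (nat_lit 0xbeb001), (nat_lit 0x90c001), (nat_lit 0xab4001), (nat_lit 0xbea001)], [(nat_lit 0xbc8001), (nat_lit 0x914001), (nat_lit 0xbf6001), (nat_lit 0xbe9001), (nat_lit 0xbf4001), (nat_lit 0x915001)], [(nat_lit 0x905001), (nat_lit 0xbe2001), (nat_lit 0x906001), (nat_lit 0xb99001), (nat_lit 0xabb001), (nat_lit 0xb95001)], [(nat_lit 0x908001), (nat_lit 0xbe8001), (nat_lit 0xb94001), (nat_lit 0x909001), (nat_lit 0xbe7001), (nat_lit 0x90a001)], [(nat_lit 0xc23001), (nat_lit 0x942001), (nat_lit 0xc31001), (nat_lit 0xc2f001), (nat_lit 0xc1c001), (nat_lit 0xbad001)], [(nat_lit 0x93e001), (nat_lit 0xc2e001), (nat_lit 0x93f001), (nat_lit 0x940001), (nat_lit 0xc2d001), (nat_lit 0x941001)], [(nat_lit 0xaba001), (nat_lit 0xbcc001), (nat_lit 0x8f4001), (nat_lit 0xbce001), (nat_lit 0x8f5001), (nat_lit 0xbcf001)], [(nat_lit 0xabd001), (nat_lit 0xbb1001), (nat_lit 0xbd0001), (nat_lit 0x8f7001), (nat_lit 0xbd1001), (nat_lit 0x8f6001)], [(nat_lit 0xbde001), (nat_lit 0x901001), (nat_lit 0xbb4001), (nat_lit 0xbda001), (nat_lit 0xbcd001), (nat_lit 0xbdc001)], [(nat_lit 0xb9a001), (nat_lit 0xbdb001), (nat_lit 0xba1001), (nat_lit 0x902001), (nat_lit 0xbdf001), (nat_lit 0xb9e001)], [(nat_lit 0xb96001), (nat_lit 0xbdd001), (nat_lit 0x904001), (nat_lit 0xb9d001), (nat_lit 0xbe0001), (nat_lit 0x903001)], [(nat_lit 0xbe6001), (nat_lit 0xbbe001), (nat_lit 0xbe1001), (nat_lit 0xbe3001), (nat_lit 0x907001), (nat_lit 0xbd2001)], [(nat_lit 0x937001), (nat_lit 0xc22001), (nat_lit 0x938001), (nat_lit 0xc21001), (nat_lit 0xc0e001), (nat_lit 0xa53001)], [(nat_lit 0xc20001), (nat_lit 0x936001), (nat_lit 0xc1d001), (nat_lit 0x935001), (nat_lit 0xc1e001), (nat_lit 0xa4f001)], [(nat_lit 0x93c001), (nat_lit 0xc24001), (nat_lit 0x939001), (nat_lit 0x93a001), (nat_lit 0xc27001), (nat_lit 0x93b001)], [(nat_lit 0xc2b001), (nat_lit 0xc1f001), (nat_lit 0xc29001), (nat_lit 0xc17001), (nat_lit 0x93d001), (nat_lit 0xc2a001)], [(nat_lit 0xc6c001), (nat_lit 0x983001), (nat_lit 0xa45001), (nat_lit 0xc80001), (nat_lit 0xc8b001), (nat_lit 0xc6e001)], [(nat_lit 0x980001), (nat_lit 0xc8a001), (nat_lit 0x981001), (nat_lit 0xc86001), (nat_lit 0x982001), (nat_lit 0xc89001)], [(nat_lit 0x970001), (nat_lit 0xc6b001), (nat_lit 0x971001), (nat_lit 0x972001), (nat_lit 0xc6a001), (nat_lit 0x973001)], [(nat_lit 0x987001), (nat_lit 0xa4b001), (nat_lit 0xc88001), (nat_lit 0x988001), (nat_lit 0xc91001), (nat_lit 0x989001)], [(nat_lit 0x98d001), (nat_lit 0xa43001), (nat_lit 0xc69001), (nat_lit 0xc97001), (nat_lit 0x98e001), (nat_lit 0xc92001)], [(nat_lit 0x991001), (nat_lit 0x992001), (nat_lit 0xca1001), (nat_lit 0x993001), (nat_lit 0xc98001), (nat_lit 0x994001)], [(nat_lit 0x96c001), (nat_lit 0x969001), (nat_lit 0x96b001), (nat_lit 0x968001), (nat_lit 0xc5e001), (nat_lit 0x96a001)], [(nat_lit 0xc68001), (nat_lit 0x96e001), (nat_lit 0x96f001), (nat_lit 0xc62001), (nat_lit 0x96d001), (nat_lit 0xc64001)], [(nat_lit 0xc7a001), (nat_lit 0xc60001), (nat_lit 0xc76001), (nat_lit 0xc77001), (nat_lit 0x978001), (nat_lit 0xc79001)], [(nat_lit 0xc85001), (nat_lit 0xc63001), (nat_lit 0xc82001), (nat_lit 0x97d001), (nat_lit 0xc78001), (nat_lit 0xc83001)], [(nat_lit 0xc87001), (nat_lit 0xc65001), (nat_lit 0x97f001), (nat_lit 0xc84001), (nat_lit 0xc67001), (nat_lit 0x97e001)], [(nat_lit 0xc90001), (nat_lit 0x985001), (nat_lit 0xc66001), (nat_lit 0xc8c001), (nat_lit 0x984001), (nat_lit 0x986001)], [(nat_lit 0xc95001), (nat_lit 0x98b001), (nat_lit 0xc93001), (nat_lit 0x98a001), (nat_lit 0x98c001), (nat_lit 0xc8f001)], [(nat_lit 0xca0001), (nat_lit 0xc99001), (nat_lit 0x98f001), (nat_lit 0xc9c001), (nat_lit 0xc94001), (nat_lit 0x990001)], [(nat_lit 0xa66001), (nat_lit 0xca4001), (nat_lit 0x995001), (nat_lit 0xad9001), (nat_lit 0x996001), (nat_lit 0xad5001)], [(nat_lit 0xca6001), (nat_lit 0x99a001), (nat_lit 0xc9a001), (nat_lit 0x99b001), (nat_lit 0xca5001), (nat_lit 0x99c001)], [(nat_lit 0xcbb001), (nat_lit 0x9ba001), (nat_lit 0xc71001), (nat_lit 0x9bb001), (nat_lit 0xcd8001), (nat_lit 0xc73001)], [(nat_lit 0xcc3001), (nat_lit 0x9c4001), (nat_lit 0x9c5001), (nat_lit 0xcec001), (nat_lit 0x9c6001), (nat_lit 0xcef001)], [(nat_lit 0x9b6001), (nat_lit 0xcd7001), (nat_lit 0xc61001), (nat_lit 0xcd0001), (nat_lit 0x9b7001), (nat_lit 0xcd6001)], [(nat_lit 0x9bf001), (nat_lit 0xceb001), (nat_lit 0xce3001), (nat_lit 0x9c0001), (nat_lit 0xcd1001), (nat_lit 0xcea001)], [(nat_lit 0x9c1001), (nat_lit 0xced001), (nat_lit 0x9c2001), (nat_lit 0xce9001), (nat_lit 0xa37001), (nat_lit 0x9c3001)], [(nat_lit 0x9cd001), (nat_lit 0xcf9001), (nat_lit 0x9ce001), (nat_lit 0xcf7001), (nat_lit 0xab1001), (nat_lit 0x9cf001)], [(nat_lit 0xc7e001), (nat_lit 0x9b0001), (nat_lit 0xcab001), (nat_lit 0xc6d001), (nat_lit 0xcc6001), (nat_lit 0xc81001)], [(nat_lit 0xc5f001), (nat_lit 0xcc7001), (nat_lit 0x9b2001), (nat_lit 0xcc8001), (nat_lit 0x9b1001), (nat_lit 0xcc9001)], [(nat_lit 0xccf001), (nat_lit 0xcb2001), (nat_lit 0xccb001), (nat_lit 0x9b3001), (nat_lit 0x9b4001), (nat_lit 0xccd001)], [(nat_lit 0xcd5001), (nat_lit 0xcb5001), (nat_lit 0xcca001), (nat_lit 0xcce001), (nat_lit 0xcd2001), (nat_lit 0x9b5001)], [(nat_lit 0xce2001), (nat_lit 0xcd9001), (nat_lit 0x9bc001), (nat_lit 0xcda001), (nat_lit 0xccc001), (nat_lit 0xcde001)], [(nat_lit 0xce7001), (nat_lit 0xa25001), (nat_lit 0xcdf001), (nat_lit 0x9be001), (nat_lit 0xce6001), (nat_lit 0x9bd001)], [(nat_lit 0xcf5001), (nat_lit 0xaae001), (nat_lit 0xcf0001), (nat_lit 0x9cb001), (nat_lit 0xcf4001), (nat_lit 0x9cc001)], [(nat_lit 0x9e1001), (nat_lit 0x9e0001), (nat_lit 0xaa1001), (nat_lit 0xd13001), (nat_lit 0x9e2001), (nat_lit 0xd17001)], [(nat_lit 0x9f9001), (nat_lit 0x9f8001), (nat_lit 0x9fa001), (nat_lit 0xd32001), (nat_lit 0x9fb001), (nat_lit 0xd3a001)], [(nat_lit 0xd12001), (nat_lit 0xa11001), (nat_lit 0xd56001), (nat_lit 0xa12001), (nat_lit 0xd33001), (nat_lit 0xd55001)], [(nat_lit 0xd15001), (nat_lit 0xa1a001), (nat_lit 0xa3b001), (nat_lit 0xd54001), (nat_lit 0xd5e001), (nat_lit 0xa1b001)], [(nat_lit 0xa20001), (nat_lit 0xa1f001), (nat_lit 0xcc4001), (nat_lit 0xd6a001), (nat_lit 0xa21001), (nat_lit 0xd5f001)], [(nat_lit 0x9ef001), (nat_lit 0xd30001), (nat_lit 0xd29001), (nat_lit 0x9f0001), (nat_lit 0x9f1001), (nat_lit 0xd2f001)], [(nat_lit 0x9f5001), (nat_lit 0xd37001), (nat_lit 0x9f6001), (nat_lit 0xd2e001), (nat_lit 0xb82001), (nat_lit 0x9f7001)], [(nat_lit 0xa08001), (nat_lit 0xd4a001), (nat_lit 0xa09001), (nat_lit 0xa0a001), (nat_lit 0xd2a001), (nat_lit 0xa0b001)], [(nat_lit 0xa0d001), (nat_lit 0xd53001), (nat_lit 0xa0e001), (nat_lit 0xa0f001), (nat_lit 0xd52001), (nat_lit 0xa10001)], [(nat_lit 0xa16001), (nat_lit 0xd5c001), (nat_lit 0xa17001), (nat_lit 0xd5a001), (nat_lit 0xa18001), (nat_lit 0xa19001)], [(nat_lit 0xa1d001), (nat_lit 0xd68001), (nat_lit 0xd66001), (nat_lit 0xa1e001), (nat_lit 0xb7e001), (nat_lit 0xd5b001)], [(nat_lit 0xa27001), (nat_lit 0xd75001), (nat_lit 0xa28001), (nat_lit 0xd73001), (nat_lit 0xa29001), (nat_lit 0xa2a001)], [(nat_lit 0xd89001), (nat_lit 0xa3a001), (nat_lit 0xa3b001), (nat_lit 0xc25001), (nat_lit 0xd78001), (nat_lit 0xa3c001)], [(nat_lit 0x9da001), (nat_lit 0xd11001), (nat_lit 0xd09001), (nat_lit 0x9db001), (nat_lit 0x9e7001), (nat_lit 0xd10001)], [(nat_lit 0x9dc001), (nat_lit 0xd14001), (nat_lit 0x9dd001), (nat_lit 0xd0f001), (nat_lit 0x9de001), (nat_lit 0x9df001)], [(nat_lit 0x9e6001), (nat_lit 0x9d1001), (nat_lit 0xcfc001), (nat_lit 0x9d0001), (nat_lit 0x9d2001), (nat_lit 0xcfe001)], [(nat_lit 0x9e9001), (nat_lit 0x9d4001), (nat_lit 0x9f6001), (nat_lit 0xd00001), (nat_lit 0x9d5001), (nat_lit 0x9d3001)], [(nat_lit 0xd08001), (nat_lit 0xd01001), (nat_lit 0x9d6001), (nat_lit 0xd03001), (nat_lit 0xcfd001), (nat_lit 0xd06001)], [(nat_lit 0xd0e001), (nat_lit 0x9d8001), (nat_lit 0xd07001), (nat_lit 0x9d9001), (nat_lit 0xd0b001), (nat_lit 0x9d7001)], [(nat_lit 0x9f9001), (nat_lit 0x9e4001), (nat_lit 0x9fa001), (nat_lit 0xd18001), (nat_lit 0x9e3001), (nat_lit 0xd1b001)], [(nat_lit 0x9e6001), (nat_lit 0xd19001), (nat_lit 0xd1d001), (nat_lit 0x9e5001), (nat_lit 0x9e7001), (nat_lit 0xd20001)], [(nat_lit 0x9e9001), (nat_lit 0xd1c001), (nat_lit 0x9ea001), (nat_lit 0xd22001), (nat_lit 0xb8c001), (nat_lit 0x9e8001)], [(nat_lit 0xd28001), (nat_lit 0xd23001), (nat_lit 0x9eb001), (nat_lit 0xd25001), (nat_lit 0x9ec001), (nat_lit 0xd26001)], [(nat_lit 0xd2d001), (nat_lit 0xcff001), (nat_lit 0xd27001), (nat_lit 0x9ee001), (nat_lit 0xd2b001), (nat_lit 0x9ed001)], [(nat_lit 0xb80001), (nat_lit 0x9f3001), (nat_lit 0xb8b001), (nat_lit 0xd34001), (nat_lit 0x9f2001), (nat_lit 0x9f4001)], [(nat_lit 0xb7d001), (nat_lit 0x9fd001), (nat_lit 0xd3b001), (nat_lit 0x9fc001), (nat_lit 0x9fe001), (nat_lit 0xd36001)], [(nat_lit 0xd43001), (nat_lit 0x9ff001), (nat_lit 0xd02001), (nat_lit 0xd3d001), (nat_lit 0xd24001), (nat_lit 0xd40001)], [(nat_lit 0xa03001), (nat_lit 0xd3e001), (nat_lit 0xa01001), (nat_lit 0xa00001), (nat_lit 0xd44001), (nat_lit 0xa02001)], [(nat_lit 0xa07001), (nat_lit 0xd41001), (nat_lit 0xa05001), (nat_lit 0xa06001), (nat_lit 0xd47001), (nat_lit 0xa04001)], [(nat_lit 0xd50001), (nat_lit 0xd0c001), (nat_lit 0xd49001), (nat_lit 0xd4d001), (nat_lit 0xa0c001), (nat_lit 0xd2c001)], [(nat_lit 0xd59001), (nat_lit 0xa14001), (nat_lit 0xd57001), (nat_lit 0xa13001), (nat_lit 0xd4f001), (nat_lit 0xa15001)], [(nat_lit 0xd65001), (nat_lit 0xd60001), (nat_lit 0xa1c001), (nat_lit 0xd62001), (nat_lit 0xd3c001), (nat_lit 0xd58001)], [(nat_lit 0xd72001), (nat_lit 0xa25001), (nat_lit 0xd6d001), (nat_lit 0xa24001), (nat_lit 0xd6f001), (nat_lit 0xa26001)], [(nat_lit 0xa35001), (nat_lit 0xd88001), (nat_lit 0xa36001), (nat_lit 0xd86001), (nat_lit 0xa37001), (nat_lit 0xa38001)], [(nat_lit 0xd85001), (nat_lit 0xa33001), (nat_lit 0xd80001), (nat_lit 0xa32001), (nat_lit 0xd82001), (nat_lit 0xa34001)], [(nat_lit 0xc28001), (nat_lit 0xd83001), (nat_lit 0xc2c001), (nat_lit 0xd71001), (nat_lit 0xa39001), (nat_lit 0xd8d001)], [(nat_lit 0xa50001), (nat_lit 0xdab001), (nat_lit 0xa51001), (nat_lit 0xda9001), (nat_lit 0xa52001), (nat_lit 0xa53001)], [(nat_lit 0xda8001), (nat_lit 0xa4e001), (nat_lit 0xda3001), (nat_lit 0xa4d001), (nat_lit 0xda5001), (nat_lit 0xa4f001)], [(nat_lit 0xa98001), (nat_lit 0xe07001), (nat_lit 0xa97001), (nat_lit 0xcf1001), (nat_lit 0xded001), (nat_lit 0xca3001)], [(nat_lit 0xa74001), (nat_lit 0xde1001), (nat_lit 0xa75001), (nat_lit 0xdda001), (nat_lit 0xa76001), (nat_lit 0xde0001)], [(nat_lit 0xa7b001), (nat_lit 0xde7001), (nat_lit 0xddf001), (nat_lit 0xa7c001), (nat_lit 0xde5001), (nat_lit 0xa7d001)], [(nat_lit 0xe03001), (nat_lit 0xa93001), (nat_lit 0xe06001), (nat_lit 0xd42001), (nat_lit 0xde2001), (nat_lit 0xd3f001)], [(nat_lit 0xa94001), (nat_lit 0xc96001), (nat_lit 0xd46001), (nat_lit 0xa95001), (nat_lit 0xa96001), (nat_lit 0xde6001)], [(nat_lit 0xaa0001), (nat_lit 0xa9f001), (nat_lit 0xaa1001), (nat_lit 0xe17001), (nat_lit 0xaa2001), (nat_lit 0xd8c001)], [(nat_lit 0xe16001), (nat_lit 0xaab001), (nat_lit 0xe28001), (nat_lit 0xaac001), (nat_lit 0xe27001), (nat_lit 0xc26001)], [(nat_lit 0xaa8001), (nat_lit 0xe25001), (nat_lit 0xbaa001), (nat_lit 0xaa9001), (nat_lit 0xaaa001), (nat_lit 0xe24001)], [(nat_lit 0xbd8001), (nat_lit 0xdc9001), (nat_lit 0xa6c001), (nat_lit 0xdca001), (nat_lit 0xc04001), (nat_lit 0xdcb001)], [(nat_lit 0xbd4001), (nat_lit 0xc5a001), (nat_lit 0xdcc001), (nat_lit 0xa6e001), (nat_lit 0xdcd001), (nat_lit 0xa6d001)], [(nat_lit 0xdd2001), (nat_lit 0xa6f001), (nat_lit 0xac1001), (nat_lit 0xdce001), (nat_lit 0xa70001), (nat_lit 0xdd0001)], [(nat_lit 0xdd9001), (nat_lit 0xdcf001), (nat_lit 0xdd4001), (nat_lit 0xa71001), (nat_lit 0xdd5001), (nat_lit 0xdd7001)], [(nat_lit 0xdde001), (nat_lit 0xdd1001), (nat_lit 0xa73001), (nat_lit 0xdd8001), (nat_lit 0xddb001), (nat_lit 0xa72001)], [(nat_lit 0xde3001), (nat_lit 0xa78001), (nat_lit 0xddc001), (nat_lit 0xa79001), (nat_lit 0xa77001), (nat_lit 0xa7a001)], [(nat_lit 0xa8f001), (nat_lit 0xe02001), (nat_lit 0xac3001), (nat_lit 0xdfb001), (nat_lit 0xdd3001), (nat_lit 0xe01001)], [(nat_lit 0xdfa001), (nat_lit 0xa8b001), (nat_lit 0xdf7001), (nat_lit 0xa8a001), (nat_lit 0xdf8001), (nat_lit 0xd4c001)], [(nat_lit 0xdff001), (nat_lit 0xa8d001), (nat_lit 0xa8e001), (nat_lit 0xd4b001), (nat_lit 0xdfc001), (nat_lit 0xa8c001)], [(nat_lit 0xd48001), (nat_lit 0xdf9001), (nat_lit 0xd51001), (nat_lit 0xdd6001), (nat_lit 0xa90001), (nat_lit 0xe04001)], [(nat_lit 0xd45001), (nat_lit 0xdfd001), (nat_lit 0xa92001), (nat_lit 0xe05001), (nat_lit 0xa91001), (nat_lit 0xddd001)], [(nat_lit 0xa9d001), (nat_lit 0xe15001), (nat_lit 0xe0e001), (nat_lit 0xa9e001), (nat_lit 0xe14001), (nat_lit 0xd87001)], [(nat_lit 0xe0d001), (nat_lit 0xe08001), (nat_lit 0xa99001), (nat_lit 0xe0a001), (nat_lit 0xe0b001), (nat_lit 0xd81001)], [(nat_lit 0xe12001), (nat_lit 0xa9b001), (nat_lit 0xe0c001), (nat_lit 0xa9c001), (nat_lit 0xa9a001), (nat_lit 0xe0f001)], [(nat_lit 0xe1a001), (nat_lit 0xaa3001), (nat_lit 0xe09001), (nat_lit 0xbac001), (nat_lit 0xe18001), (nat_lit 0xc30001)], [(nat_lit 0xba9001), (nat_lit 0xe19001), (nat_lit 0xaa5001), (nat_lit 0xe1d001), (nat_lit 0xaa4001), (nat_lit 0xe20001)], [(nat_lit 0xe22001), (nat_lit 0xe10001), (nat_lit 0xe21001), (nat_lit 0xaa7001), (nat_lit 0xd8e001), (nat_lit 0xaa6001)], [(nat_lit 0xaaf001), (nat_lit 0xe30001), (nat_lit 0xab0001), (nat_lit 0xe2f001), (nat_lit 0xab1001), (nat_lit 0xc4e001)], [(nat_lit 0xe2e001), (nat_lit 0xaae001), (nat_lit 0xe2a001), (nat_lit 0xaad001), (nat_lit 0xe2b001), (nat_lit 0xc51001)], [(nat_lit 0xadc001), (nat_lit 0xe5f001), (nat_lit 0xadb001), (nat_lit 0xae8001), (nat_lit 0xadd001), (nat_lit 0xae4001)], [(nat_lit 0xadf001), (nat_lit 0xc49001), (nat_lit 0xae3001), (nat_lit 0xae0001), (nat_lit 0xe61001), (nat_lit 0xade001)], [(nat_lit 0xe6b001), (nat_lit 0xae1001), (nat_lit 0xc44001), (nat_lit 0xe65001), (nat_lit 0xe60001), (nat_lit 0xe68001)], [(nat_lit 0xae6001), (nat_lit 0xe66001), (nat_lit 0xae3001), (nat_lit 0xae2001), (nat_lit 0xe6c001), (nat_lit 0xae4001)], [(nat_lit 0xae6001), (nat_lit 0xe69001), (nat_lit 0xae7001), (nat_lit 0xae8001), (nat_lit 0xe6e001), (nat_lit 0xae5001)], [(nat_lit 0xe62001), (nat_lit 0xc41001), (nat_lit 0xe70001), (nat_lit 0xaea001), (nat_lit 0xae9001), (nat_lit 0xe64001)], [(nat_lit 0xaf5001), (nat_lit 0xaf6001), (nat_lit 0xe80001), (nat_lit 0xaf7001), (nat_lit 0xaf8001), (nat_lit 0xe88001)], [(nat_lit 0xaf9001), (nat_lit 0xafa001), (nat_lit 0xbf3001), (nat_lit 0xe87001), (nat_lit 0xbf9001), (nat_lit 0xafb001)], [(nat_lit 0xe7f001), (nat_lit 0xe77001), (nat_lit 0xaf0001), (nat_lit 0xe7b001), (nat_lit 0xaf1001), (nat_lit 0xe7c001)], [(nat_lit 0xe85001), (nat_lit 0xaf3001), (nat_lit 0xe7e001), (nat_lit 0xaf4001), (nat_lit 0xe82001), (nat_lit 0xaf2001)], [(nat_lit 0xea6001), (nat_lit 0xb08001), (nat_lit 0xe78001), (nat_lit 0xb09001), (nat_lit 0xb0a001), (nat_lit 0xb0b001)], [(nat_lit 0xb0d001), (nat_lit 0xe83001), (nat_lit 0xb0e001), (nat_lit 0xe63001), (nat_lit 0xb0c001), (nat_lit 0xb0f001)], [(nat_lit 0xb01001), (nat_lit 0xea3001), (nat_lit 0xb02001), (nat_lit 0xe9b001), (nat_lit 0xe81001), (nat_lit 0xea2001)], [(nat_lit 0xb05001), (nat_lit 0xe86001), (nat_lit 0xea0001), (nat_lit 0xb06001), (nat_lit 0xea5001), (nat_lit 0xb07001)], [(nat_lit 0xe8e001), (nat_lit 0xafc001), (nat_lit 0xafd001), (nat_lit 0xe89001), (nat_lit 0xe79001), (nat_lit 0xe8b001)], [(nat_lit 0xe99001), (nat_lit 0xe8a001), (nat_lit 0xe90001), (nat_lit 0xafe001), (nat_lit 0xe94001), (nat_lit 0xe95001)], [(nat_lit 0xe9f001), (nat_lit 0xe8c001), (nat_lit 0xb00001), (nat_lit 0xe97001), (nat_lit 0xe9d001), (nat_lit 0xaff001)], [(nat_lit 0xea4001), (nat_lit 0xb04001), (nat_lit 0xe9e001), (nat_lit 0xc42001), (nat_lit 0xb03001), (nat_lit 0xe84001)], [(nat_lit 0xb16001), (nat_lit 0xea7001), (nat_lit 0xe8f001), (nat_lit 0xeb4001), (nat_lit 0xea9001), (nat_lit 0xebd001)], [(nat_lit 0xeb2001), (nat_lit 0xb11001), (nat_lit 0xeab001), (nat_lit 0xb10001), (nat_lit 0xeae001), (nat_lit 0xb12001)], [(nat_lit 0xeba001), (nat_lit 0xb14001), (nat_lit 0xe8d001), (nat_lit 0xb15001), (nat_lit 0xeb6001), (nat_lit 0xb13001)], [(nat_lit 0xb18001), (nat_lit 0xeaf001), (nat_lit 0xb19001), (nat_lit 0xb1a001), (nat_lit 0xb17001), (nat_lit 0xb1b001)], [(nat_lit 0xb1d001), (nat_lit 0xeb7001), (nat_lit 0xb1e001), (nat_lit 0xb1f001), (nat_lit 0xb1c001), (nat_lit 0xb20001)], [(nat_lit 0xecd001), (nat_lit 0xb39001), (nat_lit 0xc1b001), (nat_lit 0xed6001), (nat_lit 0xc33001), (nat_lit 0xece001)], [(nat_lit 0xb37001), (nat_lit 0xed5001), (nat_lit 0xe96001), (nat_lit 0xb38001), (nat_lit 0xed4001), (nat_lit 0xe93001)], [(nat_lit 0xb32001), (nat_lit 0xecc001), (nat_lit 0xb33001), (nat_lit 0xe91001), (nat_lit 0xc4d001), (nat_lit 0xb34001)], [(nat_lit 0xe92001), (nat_lit 0xb30001), (nat_lit 0xe9a001), (nat_lit 0xb2f001), (nat_lit 0xeca001), (nat_lit 0xb31001)], [(nat_lit 0xe98001), (nat_lit 0xecf001), (nat_lit 0xb35001), (nat_lit 0xea1001), (nat_lit 0xed0001), (nat_lit 0xe9c001)], [(nat_lit 0xed3001), (nat_lit 0xecb001), (nat_lit 0xed1001), (nat_lit 0xc54001), (nat_lit 0xb36001), (nat_lit 0xed2001)], [(nat_lit 0xb6e001), (nat_lit 0xb6f001), (nat_lit 0xf01001), (nat_lit 0xebc001), (nat_lit 0xb70001), (nat_lit 0xeb5001)], [(nat_lit 0xb74001), (nat_lit 0xebb001), (nat_lit 0xf1e001), (nat_lit 0xb75001), (nat_lit 0xf20001), (nat_lit 0xeaa001)], [(nat_lit 0xb78001), (nat_lit 0xeb3001), (nat_lit 0xf14001), (nat_lit 0xea8001), (nat_lit 0xf22001), (nat_lit 0xb79001)], [(nat_lit 0xf1d001), (nat_lit 0xe7d001), (nat_lit 0xb71001), (nat_lit 0xf1a001), (nat_lit 0xf1b001), (nat_lit 0xe7a001)], [(nat_lit 0xf1f001), (nat_lit 0xb73001), (nat_lit 0xf1c001), (nat_lit 0xeb8001), (nat_lit 0xb72001), (nat_lit 0xeb9001)], [(nat_lit 0xf21001), (nat_lit 0xb77001), (nat_lit 0xf12001), (nat_lit 0xeb0001), (nat_lit 0xb76001), (nat_lit 0xeb1001)], [(nat_lit 0xc37001), (nat_lit 0xc38001), (nat_lit 0x1022001), (nat_lit 0xc36001), (nat_lit 0xc39001), (nat_lit 0x1025001)], [(nat_lit 0xc3b001), (nat_lit 0xc3c001), (nat_lit 0xc3d001), (nat_lit 0x1028001), (nat_lit 0xdf1001), (nat_lit 0xc3a001)], [(nat_lit 0xc06001), (nat_lit 0xc05001), (nat_lit 0xfdc001), (nat_lit 0xc07001), (nat_lit 0xc08001), (nat_lit 0xfc5001)], [(nat_lit 0xbf2001), (nat_lit 0xbf1001), (nat_lit 0xbf3001), (nat_lit 0xfc4001), (nat_lit 0xbf4001), (nat_lit 0xbf5001)], [(nat_lit 0x1023001), (nat_lit 0x1052001), (nat_lit 0xc58001), (nat_lit 0x1054001), (nat_lit 0xfde001), (nat_lit 0x1055001)], [(nat_lit 0x1026001), (nat_lit 0xc5a001), (nat_lit 0x1056001), (nat_lit 0xc5b001), (nat_lit 0x1057001), (nat_lit 0xc59001)], [(nat_lit 0x104f001), (nat_lit 0xc55001), (nat_lit 0xc56001), (nat_lit 0x104d001), (nat_lit 0xe51001), (nat_lit 0xc9b001)], [(nat_lit 0xcf3001), (nat_lit 0x104e001), (nat_lit 0xcf6001), (nat_lit 0xc57001), (nat_lit 0x1051001), (nat_lit 0xc9d001)], [(nat_lit 0xc5c001), (nat_lit 0xc5d001), (nat_lit 0x1050001), (nat_lit 0xca7001), (nat_lit 0xe5e001), (nat_lit 0xca8001)], [(nat_lit 0xd90001), (nat_lit 0xd8f001), (nat_lit 0xd91001), (nat_lit 0xd92001), (nat_lit 0x11ea001), (nat_lit 0xd93001)], [(nat_lit 0xcaa001), (nat_lit 0xca9001), (nat_lit 0xcab001), (nat_lit 0xcac001), (nat_lit 0x10bb001), (nat_lit 0xcad001)], [(nat_lit 0x11eb001), (nat_lit 0xd9c001), (nat_lit 0xd9d001), (nat_lit 0x11f5001), (nat_lit 0xd9b001), (nat_lit 0x11f7001)], [(nat_lit 0xcaf001), (nat_lit 0x10bd001), (nat_lit 0xcb0001), (nat_lit 0x10bf001), (nat_lit 0xcae001), (nat_lit 0x10c2001)], [(nat_lit 0xd9f001), (nat_lit 0x11f6001), (nat_lit 0x11fa001), (nat_lit 0xd9e001), (nat_lit 0x10c1001), (nat_lit 0x11fe001)], [(nat_lit 0xda1001), (nat_lit 0x11f8001), (nat_lit 0xda2001), (nat_lit 0x1201001), (nat_lit 0x11f4001), (nat_lit 0xda0001)], [(nat_lit 0xd95001), (nat_lit 0x11ec001), (nat_lit 0xd96001), (nat_lit 0x11ee001), (nat_lit 0xd94001), (nat_lit 0x11f1001)], [(nat_lit 0xd98001), (nat_lit 0xd99001), (nat_lit 0x11f3001), (nat_lit 0xde4001), (nat_lit 0xd9a001), (nat_lit 0xd97001)], [(nat_lit 0xd7b001), (nat_lit 0xd7c001), (nat_lit 0xd7d001), (nat_lit 0x11d0001), (nat_lit 0xd7a001), (nat_lit 0x11d4001)], [(nat_lit 0x11ef001), (nat_lit 0xdb5001), (nat_lit 0x120f001), (nat_lit 0xdb4001), (nat_lit 0x11d3001), (nat_lit 0x1210001)], [(nat_lit 0x11f2001), (nat_lit 0xdb7001), (nat_lit 0xdb8001), (nat_lit 0x1212001), (nat_lit 0xdb9001), (nat_lit 0xdb6001)], [(nat_lit 0xcbb001), (nat_lit 0xcba001), (nat_lit 0xcbc001), (nat_lit 0xcbd001), (nat_lit 0x10d5001), (nat_lit 0xcbe001)], [(nat_lit 0xcb7001), (nat_lit 0x10d2001), (nat_lit 0xcb8001), (nat_lit 0x10cc001), (nat_lit 0xcb9001), (nat_lit 0x10d1001)], [(nat_lit 0x10c0001), (nat_lit 0x11d2001), (nat_lit 0x1213001), (nat_lit 0xdba001), (nat_lit 0xdbb001), (nat_lit 0x1215001)], [(nat_lit 0x10c3001), (nat_lit 0x11d6001), (nat_lit 0x10cf001), (nat_lit 0x1216001), (nat_lit 0x11d8001), (nat_lit 0xdbc001)], [(nat_lit 0x11fb001), (nat_lit 0x1217001), (nat_lit 0xdbd001), (nat_lit 0xdbe001), (nat_lit 0x1214001), (nat_lit 0xdbf001)], [(nat_lit 0x11ff001), (nat_lit 0x1211001), (nat_lit 0xdc1001), (nat_lit 0xdc2001), (nat_lit 0x121a001), (nat_lit 0xdc0001)], [(nat_lit 0x121c001), (nat_lit 0xdc4001), (nat_lit 0xdfe001), (nat_lit 0xe4a001), (nat_lit 0xdc3001), (nat_lit 0xe46001)], [(nat_lit 0xdc5001), (nat_lit 0xdc6001), (nat_lit 0xe00001), (nat_lit 0xdc7001), (nat_lit 0x121e001), (nat_lit 0xdc8001)], [(nat_lit 0xdf4001), (nat_lit 0xdf5001), (nat_lit 0x1259001), (nat_lit 0xdf3001), (nat_lit 0xdf6001), (nat_lit 0x1258001)], [(nat_lit 0xdef001), (nat_lit 0xdf0001), (nat_lit 0xdee001), (nat_lit 0x1255001), (nat_lit 0xdf1001), (nat_lit 0xdf2001)], [(nat_lit 0x125a001), (nat_lit 0x12a8001), (nat_lit 0xe34001), (nat_lit 0x12ab001), (nat_lit 0xe35001), (nat_lit 0x12ac001)], [(nat_lit 0x1256001), (nat_lit 0xe37001), (nat_lit 0x12ad001), (nat_lit 0xe38001), (nat_lit 0x12ae001), (nat_lit 0xe36001)], [(nat_lit 0x12b6001), (nat_lit 0xe39001), (nat_lit 0x12a9001), (nat_lit 0x12b2001), (nat_lit 0xe3a001), (nat_lit 0x12b4001)], [(nat_lit 0xe3c001), (nat_lit 0x12b3001), (nat_lit 0x1200001), (nat_lit 0xe3b001), (nat_lit 0x12b9001), (nat_lit 0x11fd001)], [(nat_lit 0xe3e001), (nat_lit 0x12b5001), (nat_lit 0xe3f001), (nat_lit 0x11fc001), (nat_lit 0x12bc001), (nat_lit 0xe3d001)], [(nat_lit 0xe41001), (nat_lit 0x12af001), (nat_lit 0x12be001), (nat_lit 0xe42001), (nat_lit 0xe40001), (nat_lit 0xe43001)], [(nat_lit 0xdec001), (nat_lit 0x124e001), (nat_lit 0xdeb001), (nat_lit 0x1253001), (nat_lit 0xded001), (nat_lit 0x1252001)], [(nat_lit 0xde8001), (nat_lit 0xde7001), (nat_lit 0x1250001), (nat_lit 0xde9001), (nat_lit 0x10a3001), (nat_lit 0xdea001)], [(nat_lit 0x12cd001), (nat_lit 0xe4f001), (nat_lit 0xe50001), (nat_lit 0x12c8001), (nat_lit 0xe51001), (nat_lit 0x12ca001)], [(nat_lit 0x1254001), (nat_lit 0x12c9001), (nat_lit 0x12d0001), (nat_lit 0xe52001), (nat_lit 0x12d1001), (nat_lit 0x12d3001)], [(nat_lit 0x1251001), (nat_lit 0x12cb001), (nat_lit 0xe54001), (nat_lit 0x12d4001), (nat_lit 0x109e001), (nat_lit 0xe53001)], [(nat_lit 0x10a0001), (nat_lit 0xc8d001), (nat_lit 0x109d001), (nat_lit 0xc8c001), (nat_lit 0xc8e001), (nat_lit 0xc8f001)], [(nat_lit 0xe5c001), (nat_lit 0xe5d001), (nat_lit 0x12ce001), (nat_lit 0x12db001), (nat_lit 0xe5e001), (nat_lit 0x12e1001)], [(nat_lit 0x12d9001), (nat_lit 0xe56001), (nat_lit 0x12d5001), (nat_lit 0xe55001), (nat_lit 0xe5b001), (nat_lit 0xe57001)], [(nat_lit 0x12dd001), (nat_lit 0xe59001), (nat_lit 0x12cc001), (nat_lit 0xe5a001), (nat_lit 0xe5b001), (nat_lit 0xe58001)], [(nat_lit 0x12c3001), (nat_lit 0xe48001), (nat_lit 0xe49001), (nat_lit 0xe4a001), (nat_lit 0xe4b001), (nat_lit 0xe47001)], [(nat_lit 0xe4c001), (nat_lit 0xe5d001), (nat_lit 0xe4d001), (nat_lit 0x12c1001), (nat_lit 0xe4e001), (nat_lit 0x12c7001)], [(nat_lit 0x12c0001), (nat_lit 0xe45001), (nat_lit 0x123a001), (nat_lit 0xe44001), (nat_lit 0xe4b001), (nat_lit 0xe46001)], [(nat_lit 0xc70001), (nat_lit 0xc6f001), (nat_lit 0xc71001), (nat_lit 0xc72001), (nat_lit 0x1070001), (nat_lit 0xc73001)], [(nat_lit 0x1071001), (nat_lit 0xd6c001), (nat_lit 0x10d4001), (nat_lit 0xe26001), (nat_lit 0xd6b001), (nat_lit 0x11c1001)], [(nat_lit 0xcc3001), (nat_lit 0xcc2001), (nat_lit 0xcc4001), (nat_lit 0x10da001), (nat_lit 0xcc5001), (nat_lit 0xd79001)], [(nat_lit 0xd7f001), (nat_lit 0x11c2001), (nat_lit 0x11d7001), (nat_lit 0xe23001), (nat_lit 0x10d0001), (nat_lit 0xd7e001)], [(nat_lit 0xcc0001), (nat_lit 0x10d8001), (nat_lit 0xd63001), (nat_lit 0xcc1001), (nat_lit 0x10cd001), (nat_lit 0xd74001)], [(nat_lit 0xc75001), (nat_lit 0x1072001), (nat_lit 0xc76001), (nat_lit 0xe13001), (nat_lit 0xc74001), (nat_lit 0x1074001)], [(nat_lit 0xc7e001), (nat_lit 0xc7d001), (nat_lit 0xc7f001), (nat_lit 0xc80001), (nat_lit 0x1086001), (nat_lit 0xc81001)], [(nat_lit 0xc7a001), (nat_lit 0x1083001), (nat_lit 0xc7b001), (nat_lit 0x107d001), (nat_lit 0xc7c001), (nat_lit 0x1082001)], [(nat_lit 0x1075001), (nat_lit 0xcd3001), (nat_lit 0x1080001), (nat_lit 0xe11001), (nat_lit 0xcd2001), (nat_lit 0xcd4001)], [(nat_lit 0x10bc001), (nat_lit 0xdb0001), (nat_lit 0x1085001), (nat_lit 0x1208001), (nat_lit 0xdaf001), (nat_lit 0x120a001)], [(nat_lit 0x11d1001), (nat_lit 0x1209001), (nat_lit 0x120c001), (nat_lit 0xdb1001), (nat_lit 0x11f0001), (nat_lit 0x120d001)], [(nat_lit 0x11d5001), (nat_lit 0x120b001), (nat_lit 0xdb3001), (nat_lit 0x120e001), (nat_lit 0x10c5001), (nat_lit 0xdb2001)], [(nat_lit 0x10ce001), (nat_lit 0xcb5001), (nat_lit 0x10c4001), (nat_lit 0x10ca001), (nat_lit 0xcb6001), (nat_lit 0xcb4001)], [(nat_lit 0x10cb001), (nat_lit 0xcb2001), (nat_lit 0x10c6001), (nat_lit 0xcb1001), (nat_lit 0xcb3001), (nat_lit 0x10c8001)], [(nat_lit 0xd64001), (nat_lit 0x10d6001), (nat_lit 0xcbf001), (nat_lit 0xd67001), (nat_lit 0x10c7001), (nat_lit 0xd6e001)], [(nat_lit 0x1003001), (nat_lit 0xc32001), (nat_lit 0xc31001), (nat_lit 0x101d001), (nat_lit 0xc33001), (nat_lit 0xcfb001)], [(nat_lit 0xc35001), (nat_lit 0x101e001), (nat_lit 0xc9e001), (nat_lit 0xc34001), (nat_lit 0x101f001), (nat_lit 0xcf8001)], [(nat_lit 0xc4c001), (nat_lit 0x1004001), (nat_lit 0xc4b001), (nat_lit 0x103d001), (nat_lit 0xc4d001), (nat_lit 0xc4e001)], [(nat_lit 0x103e001), (nat_lit 0xc50001), (nat_lit 0x1041001), (nat_lit 0xc4f001), (nat_lit 0x1045001), (nat_lit 0xc51001)], [(nat_lit 0xc9f001), (nat_lit 0x1048001), (nat_lit 0xc52001), (nat_lit 0xca2001), (nat_lit 0x1049001), (nat_lit 0xcf2001)], [(nat_lit 0x1020001), (nat_lit 0x1046001), (nat_lit 0x104a001), (nat_lit 0xc54001), (nat_lit 0xc53001), (nat_lit 0x104b001)], [(nat_lit 0xbfc001), (nat_lit 0xbfd001), (nat_lit 0xfca001), (nat_lit 0xbfb001), (nat_lit 0xbfe001), (nat_lit 0xfc9001)], [(nat_lit 0xbf7001), (nat_lit 0xbf8001), (nat_lit 0xbf6001), (nat_lit 0xfc6001), (nat_lit 0xbf9001), (nat_lit 0xbfa001)], [(nat_lit 0xc14001), (nat_lit 0xfea001), (nat_lit 0xc13001), (nat_lit 0xce0001), (nat_lit 0xfcc001), (nat_lit 0xcdc001)], [(nat_lit 0xc11001), (nat_lit 0xfc8001), (nat_lit 0xcdb001), (nat_lit 0xc10001), (nat_lit 0xfe7001), (nat_lit 0xc12001)], [(nat_lit 0xbc5001), (nat_lit 0xbc4001), (nat_lit 0xf80001), (nat_lit 0xbc6001), (nat_lit 0xdf6001), (nat_lit 0xf7f001)], [(nat_lit 0xbc8001), (nat_lit 0xbc7001), (nat_lit 0xbc9001), (nat_lit 0xf7e001), (nat_lit 0xbca001), (nat_lit 0xbcb001)], [(nat_lit 0xfcb001), (nat_lit 0x1035001), (nat_lit 0xc47001), (nat_lit 0x103a001), (nat_lit 0xc46001), (nat_lit 0x103b001)], [(nat_lit 0xfc7001), (nat_lit 0xc49001), (nat_lit 0x103c001), (nat_lit 0xc4a001), (nat_lit 0x1031001), (nat_lit 0xc48001)], [(nat_lit 0x1037001), (nat_lit 0xc43001), (nat_lit 0xc44001), (nat_lit 0x1032001), (nat_lit 0x1034001), (nat_lit 0x102b001)], [(nat_lit 0xce1001), (nat_lit 0x1033001), (nat_lit 0xce8001), (nat_lit 0xc45001), (nat_lit 0x1039001), (nat_lit 0xce5001)], [(nat_lit 0xcdd001), (nat_lit 0x1029001), (nat_lit 0xc3e001), (nat_lit 0xce4001), (nat_lit 0x102c001), (nat_lit 0xc3f001)], [(nat_lit 0xfe8001), (nat_lit 0xc41001), (nat_lit 0x102d001), (nat_lit 0xc42001), (nat_lit 0xc40001), (nat_lit 0x102e001)], [(nat_lit 0xbb8001), (nat_lit 0xf75001), (nat_lit 0xbb9001), (nat_lit 0xbbc001), (nat_lit 0xeed001), (nat_lit 0xbba001)], [(nat_lit 0xbc0001), (nat_lit 0xf7c001), (nat_lit 0xbc1001), (nat_lit 0xbc2001), (nat_lit 0xf7b001), (nat_lit 0xbc3001)], [(nat_lit 0xeec001), (nat_lit 0xf60001), (nat_lit 0xbae001), (nat_lit 0xf63001), (nat_lit 0xbaf001), (nat_lit 0xf64001)], [(nat_lit 0xeef001), (nat_lit 0xbb1001), (nat_lit 0xf65001), (nat_lit 0xbb2001), (nat_lit 0xf66001), (nat_lit 0xbb0001)], [(nat_lit 0xf6f001), (nat_lit 0xbb3001), (nat_lit 0xbb4001), (nat_lit 0xf6a001), (nat_lit 0xf62001), (nat_lit 0xf6c001)], [(nat_lit 0xbbb001), (nat_lit 0xf6b001), (nat_lit 0xbc1001), (nat_lit 0xbb5001), (nat_lit 0xf71001), (nat_lit 0xbba001)], [(nat_lit 0xbbb001), (nat_lit 0xf6d001), (nat_lit 0xbb7001), (nat_lit 0xbbc001), (nat_lit 0xf72001), (nat_lit 0xbb6001)], [(nat_lit 0xf78001), (nat_lit 0xbbe001), (nat_lit 0xf74001), (nat_lit 0xbbf001), (nat_lit 0xbbd001), (nat_lit 0xf69001)], [(nat_lit 0xfdd001), (nat_lit 0x12f5001), (nat_lit 0xe73001), (nat_lit 0x12f8001), (nat_lit 0x1024001), (nat_lit 0x12f9001)], [(nat_lit 0xfc3001), (nat_lit 0xe75001), (nat_lit 0x12fb001), (nat_lit 0xe76001), (nat_lit 0x12fc001), (nat_lit 0xe74001)], [(nat_lit 0xec5001), (nat_lit 0x135e001), (nat_lit 0xec6001), (nat_lit 0x1363001), (nat_lit 0xec4001), (nat_lit 0x1366001)], [(nat_lit 0xec8001), (nat_lit 0x1027001), (nat_lit 0x1368001), (nat_lit 0xec9001), (nat_lit 0x135c001), (nat_lit 0xec7001)], [(nat_lit 0x135f001), (nat_lit 0xec1001), (nat_lit 0x12f6001), (nat_lit 0xec2001), (nat_lit 0x135d001), (nat_lit 0xec3001)], [(nat_lit 0xebf001), (nat_lit 0x12fd001), (nat_lit 0xec0001), (nat_lit 0xf7a001), (nat_lit 0xebe001), (nat_lit 0x1359001)], [(nat_lit 0xc02001), (nat_lit 0xfda001), (nat_lit 0xc03001), (nat_lit 0xfd8001), (nat_lit 0xc04001), (nat_lit 0xfc1001)], [(nat_lit 0xbee001), (nat_lit 0xfc2001), (nat_lit 0xfbf001), (nat_lit 0xbef001), (nat_lit 0xfb0001), (nat_lit 0xbf0001)], [(nat_lit 0xbd8001), (nat_lit 0xf96001), (nat_lit 0xbd7001), (nat_lit 0xf99001), (nat_lit 0xbd9001), (nat_lit 0xf94001)], [(nat_lit 0xbd4001), (nat_lit 0xbd5001), (nat_lit 0xf92001), (nat_lit 0xbd3001), (nat_lit 0xf90001), (nat_lit 0xbd6001)], [(nat_lit 0xfcf001), (nat_lit 0xbff001), (nat_lit 0xc00001), (nat_lit 0xfcd001), (nat_lit 0xf98001), (nat_lit 0xfb9001)], [(nat_lit 0xfd6001), (nat_lit 0xfce001), (nat_lit 0xfd1001), (nat_lit 0xc01001), (nat_lit 0xfd5001), (nat_lit 0xfbb001)], [(nat_lit 0xfbe001), (nat_lit 0xfb7001), (nat_lit 0xbec001), (nat_lit 0xfba001), (nat_lit 0xfad001), (nat_lit 0xbed001)], [(nat_lit 0xfae001), (nat_lit 0xbe4001), (nat_lit 0xfac001), (nat_lit 0xbe3001), (nat_lit 0xbe5001), (nat_lit 0xf91001)], [(nat_lit 0xeec001), (nat_lit 0x13a1001), (nat_lit 0xeeb001), (nat_lit 0x13a3001), (nat_lit 0xeed001), (nat_lit 0x13a5001)], [(nat_lit 0xeef001), (nat_lit 0x1257001), (nat_lit 0x13a7001), (nat_lit 0xef0001), (nat_lit 0x13a8001), (nat_lit 0xeee001)], [(nat_lit 0x1392001), (nat_lit 0xee3001), (nat_lit 0xf97001), (nat_lit 0x138e001), (nat_lit 0xee2001), (nat_lit 0x1390001)], [(nat_lit 0x1364001), (nat_lit 0x138f001), (nat_lit 0x139b001), (nat_lit 0xee8001), (nat_lit 0x1396001), (nat_lit 0x139e001)], [(nat_lit 0x1367001), (nat_lit 0x1391001), (nat_lit 0xeea001), (nat_lit 0x13a0001), (nat_lit 0x1384001), (nat_lit 0xee9001)], [(nat_lit 0x135a001), (nat_lit 0xf8f001), (nat_lit 0x1383001), (nat_lit 0xf68001), (nat_lit 0xede001), (nat_lit 0xedd001)], [(nat_lit 0xee4001), (nat_lit 0x1360001), (nat_lit 0xfd0001), (nat_lit 0x138c001), (nat_lit 0x1393001), (nat_lit 0x137d001)], [(nat_lit 0x138a001), (nat_lit 0xee0001), (nat_lit 0x1385001), (nat_lit 0xedf001), (nat_lit 0x1388001), (nat_lit 0xee1001)], [(nat_lit 0x137a001), (nat_lit 0xed7001), (nat_lit 0xfb8001), (nat_lit 0xed8001), (nat_lit 0x1378001), (nat_lit 0xed9001)], [(nat_lit 0xee6001), (nat_lit 0x1389001), (nat_lit 0xee7001), (nat_lit 0x1394001), (nat_lit 0xee5001), (nat_lit 0x1397001)], [(nat_lit 0xedb001), (nat_lit 0x1379001), (nat_lit 0xedc001), (nat_lit 0x137e001), (nat_lit 0xeda001), (nat_lit 0x1381001)], [(nat_lit 0xfe3001), (nat_lit 0xc1a001), (nat_lit 0xc1b001), (nat_lit 0xff4001), (nat_lit 0xc1c001), (nat_lit 0xfe6001)], [(nat_lit 0xc18001), (nat_lit 0xff3001), (nat_lit 0xfbc001), (nat_lit 0xc19001), (nat_lit 0xff2001), (nat_lit 0xfd3001)], [(nat_lit 0xc0c001), (nat_lit 0xfe2001), (nat_lit 0xc0d001), (nat_lit 0xfd2001), (nat_lit 0xc0e001), (nat_lit 0xc0f001)], [(nat_lit 0xfd4001), (nat_lit 0xc0a001), (nat_lit 0xfd7001), (nat_lit 0xc09001), (nat_lit 0xfdf001), (nat_lit 0xc0b001)], [(nat_lit 0xfbd001), (nat_lit 0xfeb001), (nat_lit 0xc15001), (nat_lit 0xfc0001), (nat_lit 0xfec001), (nat_lit 0xfd9001)], [(nat_lit 0xff0001), (nat_lit 0xfe0001), (nat_lit 0xfed001), (nat_lit 0xc17001), (nat_lit 0xc16001), (nat_lit 0xfee001)], [(nat_lit 0x13ae001), (nat_lit 0xef1001), (nat_lit 0xef2001), (nat_lit 0x13ac001), (nat_lit 0xef3001), (nat_lit 0x1387001)], [(nat_lit 0xef5001), (nat_lit 0x13ad001), (nat_lit 0x13b2001), (nat_lit 0xef4001), (nat_lit 0x1380001), (nat_lit 0x13b5001)], [(nat_lit 0xef7001), (nat_lit 0x1386001), (nat_lit 0xef8001), (nat_lit 0x13b4001), (nat_lit 0x139a001), (nat_lit 0xef6001)], [(nat_lit 0xefa001), (nat_lit 0xefb001), (nat_lit 0x1399001), (nat_lit 0xefc001), (nat_lit 0xef9001), (nat_lit 0xefd001)], [(nat_lit 0xf17001), (nat_lit 0xf16001), (nat_lit 0x13b0001), (nat_lit 0x137c001), (nat_lit 0x13b1001), (nat_lit 0x138d001)], [(nat_lit 0xf00001), (nat_lit 0x13af001), (nat_lit 0xf01001), (nat_lit 0x13bb001), (nat_lit 0xf02001), (nat_lit 0x134e001)], [(nat_lit 0x13ba001), (nat_lit 0xeff001), (nat_lit 0x13b6001), (nat_lit 0xefe001), (nat_lit 0x13b7001), (nat_lit 0x1347001)], [(nat_lit 0x134c001), (nat_lit 0xeac001), (nat_lit 0xeab001), (nat_lit 0x1345001), (nat_lit 0x1348001), (nat_lit 0xead001)], [(nat_lit 0x13b3001), (nat_lit 0x1346001), (nat_lit 0xf03001), (nat_lit 0xf04001), (nat_lit 0x13bc001), (nat_lit 0xf05001)], [(nat_lit 0x137f001), (nat_lit 0x13b8001), (nat_lit 0x13bd001), (nat_lit 0xf07001), (nat_lit 0xf06001), (nat_lit 0x13be001)], [(nat_lit 0x1398001), (nat_lit 0x1349001), (nat_lit 0xf09001), (nat_lit 0x13c0001), (nat_lit 0xf08001), (nat_lit 0xf0a001)], [(nat_lit 0xf0e001), (nat_lit 0x137b001), (nat_lit 0x13c6001), (nat_lit 0xf0f001), (nat_lit 0x13ca001), (nat_lit 0x1362001)], [(nat_lit 0xf13001), (nat_lit 0x138b001), (nat_lit 0xf14001), (nat_lit 0x1361001), (nat_lit 0x13cf001), (nat_lit 0xf15001)], [(nat_lit 0x13c5001), (nat_lit 0x12fa001), (nat_lit 0xf0b001), (nat_lit 0x13c2001), (nat_lit 0x13c3001), (nat_lit 0x12f7001)], [(nat_lit 0x13c9001), (nat_lit 0xf0d001), (nat_lit 0x13c4001), (nat_lit 0x13b9001), (nat_lit 0xf0c001), (nat_lit 0x13c7001)], [(nat_lit 0x13cd001), (nat_lit 0xf11001), (nat_lit 0xf12001), (nat_lit 0x13cb001), (nat_lit 0xf10001), (nat_lit 0x134b001)], [(nat_lit 0x1382001), (nat_lit 0x13c8001), (nat_lit 0x135b001), (nat_lit 0x13bf001), (nat_lit 0x1369001), (nat_lit 0xf18001)], [(nat_lit 0x1395001), (nat_lit 0x13cc001), (nat_lit 0x13d0001), (nat_lit 0xf19001), (nat_lit 0x1365001), (nat_lit 0x13c1001)], [(nat_lit 0xb8f001), (nat_lit 0xb8e001), (nat_lit 0xb90001), (nat_lit 0xf3e001), (nat_lit 0xb91001), (nat_lit 0xf44001)], [(nat_lit 0xd69001), (nat_lit 0xba4001), (nat_lit 0xf5b001), (nat_lit 0xba5001), (nat_lit 0xf3f001), (nat_lit 0xf5a001)], [(nat_lit 0xd5d001), (nat_lit 0xba6001), (nat_lit 0xcee001), (nat_lit 0xf59001), (nat_lit 0xd16001), (nat_lit 0xba7001)], [(nat_lit 0xb87001), (nat_lit 0xf3c001), (nat_lit 0xf35001), (nat_lit 0xb88001), (nat_lit 0xb89001), (nat_lit 0xf3b001)], [(nat_lit 0xb8a001), (nat_lit 0xf40001), (nat_lit 0xb8b001), (nat_lit 0xf3a001), (nat_lit 0xb8c001), (nat_lit 0xb8d001)], [(nat_lit 0xb9b001), (nat_lit 0xf52001), (nat_lit 0xb9c001), (nat_lit 0xb9d001), (nat_lit 0xf36001), (nat_lit 0xb9e001)], [(nat_lit 0xba0001), (nat_lit 0xf58001), (nat_lit 0xba1001), (nat_lit 0xba2001), (nat_lit 0xf57001), (nat_lit 0xba3001)], [(nat_lit 0xdac001), (nat_lit 0xbab001), (nat_lit 0xcfa001), (nat_lit 0xbac001), (nat_lit 0xdad001), (nat_lit 0xbad001)], [(nat_lit 0xb8f001), (nat_lit 0xb7b001), (nat_lit 0xb90001), (nat_lit 0xf23001), (nat_lit 0xb7a001), (nat_lit 0xf26001)], [(nat_lit 0xb7d001), (nat_lit 0xf24001), (nat_lit 0xf29001), (nat_lit 0xb7c001), (nat_lit 0xb7e001), (nat_lit 0xf2c001)], [(nat_lit 0xb80001), (nat_lit 0xf27001), (nat_lit 0xb81001), (nat_lit 0xf2e001), (nat_lit 0xb82001), (nat_lit 0xb7f001)], [(nat_lit 0xf34001), (nat_lit 0xf2f001), (nat_lit 0xb83001), (nat_lit 0xf31001), (nat_lit 0xb84001), (nat_lit 0xf32001)], [(nat_lit 0xf39001), (nat_lit 0xd35001), (nat_lit 0xf33001), (nat_lit 0xb86001), (nat_lit 0xf37001), (nat_lit 0xb85001)], [(nat_lit 0xf4b001), (nat_lit 0xb92001), (nat_lit 0xd61001), (nat_lit 0xf45001), (nat_lit 0xf30001), (nat_lit 0xf48001)], [(nat_lit 0xb96001), (nat_lit 0xf46001), (nat_lit 0xb94001), (nat_lit 0xb93001), (nat_lit 0xf4c001), (nat_lit 0xb95001)], [(nat_lit 0xb9a001), (nat_lit 0xf49001), (nat_lit 0xb98001), (nat_lit 0xb99001), (nat_lit 0xf4f001), (nat_lit 0xb97001)], [(nat_lit 0xf55001), (nat_lit 0xd4e001), (nat_lit 0xf51001), (nat_lit 0xd0d001), (nat_lit 0xb9f001), (nat_lit 0xf38001)], [(nat_lit 0xba9001), (nat_lit 0xda6001), (nat_lit 0xbaa001), (nat_lit 0xda7001), (nat_lit 0xba8001), (nat_lit 0xf5c001)], [(nat_lit 0xf81001), (nat_lit 0xfab001), (nat_lit 0xbeb001), (nat_lit 0xfb6001), (nat_lit 0xe35001), (nat_lit 0xfb5001)], [(nat_lit 0xf7d001), (nat_lit 0xbe8001), (nat_lit 0xfb4001), (nat_lit 0xbe9001), (nat_lit 0xfb3001), (nat_lit 0xbea001)], [(nat_lit 0xfa7001), (nat_lit 0xbe2001), (nat_lit 0xfaa001), (nat_lit 0xf4a001), (nat_lit 0xe3a001), (nat_lit 0xf47001)], [(nat_lit 0xbe6001), (nat_lit 0xfb2001), (nat_lit 0xf4e001), (nat_lit 0xfaf001), (nat_lit 0xbe7001), (nat_lit 0xe43001)], [(nat_lit 0xc23001), (nat_lit 0xc22001), (nat_lit 0x1002001), (nat_lit 0x1000001), (nat_lit 0xfe5001), (nat_lit 0xdae001)], [(nat_lit 0xfff001), (nat_lit 0xc2e001), (nat_lit 0x101a001), (nat_lit 0xc2f001), (nat_lit 0x1019001), (nat_lit 0xc30001)], [(nat_lit 0xc2b001), (nat_lit 0x1018001), (nat_lit 0xc2c001), (nat_lit 0xff1001), (nat_lit 0xc2d001), (nat_lit 0x1017001)], [(nat_lit 0xf86001), (nat_lit 0xbcc001), (nat_lit 0xf61001), (nat_lit 0xf82001), (nat_lit 0xbcd001), (nat_lit 0xf84001)], [(nat_lit 0xe3c001), (nat_lit 0xf83001), (nat_lit 0xdc1001), (nat_lit 0xbce001), (nat_lit 0xf88001), (nat_lit 0xdbf001)], [(nat_lit 0xe3e001), (nat_lit 0xf85001), (nat_lit 0xbd0001), (nat_lit 0xdbe001), (nat_lit 0xf8a001), (nat_lit 0xbcf001)], [(nat_lit 0xe41001), (nat_lit 0xf67001), (nat_lit 0xf8b001), (nat_lit 0xf8d001), (nat_lit 0xbd1001), (nat_lit 0xbd2001)], [(nat_lit 0xbde001), (nat_lit 0xfa6001), (nat_lit 0xf70001), (nat_lit 0xfa1001), (nat_lit 0xf87001), (nat_lit 0xfa5001)], [(nat_lit 0xfa0001), (nat_lit 0xbdb001), (nat_lit 0xf9d001), (nat_lit 0xbda001), (nat_lit 0xf9e001), (nat_lit 0xf54001)], [(nat_lit 0xfa4001), (nat_lit 0xbdd001), (nat_lit 0xf6e001), (nat_lit 0xf53001), (nat_lit 0xfa2001), (nat_lit 0xbdc001)], [(nat_lit 0xf50001), (nat_lit 0xf9f001), (nat_lit 0xf56001), (nat_lit 0xf89001), (nat_lit 0xbdf001), (nat_lit 0xfa8001)], [(nat_lit 0xf4d001), (nat_lit 0xfa3001), (nat_lit 0xbe1001), (nat_lit 0xfa9001), (nat_lit 0xbe0001), (nat_lit 0xf8c001)], [(nat_lit 0xc20001), (nat_lit 0xffe001), (nat_lit 0xd04001), (nat_lit 0xc21001), (nat_lit 0xffd001), (nat_lit 0xdaa001)], [(nat_lit 0xd05001), (nat_lit 0xff5001), (nat_lit 0xc1d001), (nat_lit 0xd0a001), (nat_lit 0xff8001), (nat_lit 0xda4001)], [(nat_lit 0xffc001), (nat_lit 0xc1f001), (nat_lit 0xff9001), (nat_lit 0xfe1001), (nat_lit 0xc1e001), (nat_lit 0xffa001)], [(nat_lit 0x1009001), (nat_lit 0xc24001), (nat_lit 0xff6001), (nat_lit 0xc25001), (nat_lit 0x1007001), (nat_lit 0xc26001)], [(nat_lit 0xc28001), (nat_lit 0x1008001), (nat_lit 0xc29001), (nat_lit 0x100d001), (nat_lit 0xc27001), (nat_lit 0x1010001)], [(nat_lit 0x1014001), (nat_lit 0xffb001), (nat_lit 0x1012001), (nat_lit 0xfef001), (nat_lit 0xf5f001), (nat_lit 0xc2a001)], [(nat_lit 0xc6c001), (nat_lit 0xc6b001), (nat_lit 0xd91001), (nat_lit 0xc6d001), (nat_lit 0x106f001), (nat_lit 0xc6e001)], [(nat_lit 0x106e001), (nat_lit 0xc8a001), (nat_lit 0xd9d001), (nat_lit 0x109a001), (nat_lit 0xc8b001), (nat_lit 0x109c001)], [(nat_lit 0xc85001), (nat_lit 0x1099001), (nat_lit 0x1091001), (nat_lit 0xc86001), (nat_lit 0x107e001), (nat_lit 0x1098001)], [(nat_lit 0xc87001), (nat_lit 0x109b001), (nat_lit 0xc88001), (nat_lit 0x1097001), (nat_lit 0x106b001), (nat_lit 0xc89001)], [(nat_lit 0xc68001), (nat_lit 0x106d001), (nat_lit 0xc69001), (nat_lit 0x1067001), (nat_lit 0xc6a001), (nat_lit 0x106c001)], [(nat_lit 0xc90001), (nat_lit 0xd99001), (nat_lit 0x106a001), (nat_lit 0x10a2001), (nat_lit 0xc91001), (nat_lit 0xc92001)], [(nat_lit 0xc95001), (nat_lit 0xc96001), (nat_lit 0x10aa001), (nat_lit 0xc97001), (nat_lit 0xc98001), (nat_lit 0x10a4001)], [(nat_lit 0xca0001), (nat_lit 0x10b5001), (nat_lit 0xca1001), (nat_lit 0xca2001), (nat_lit 0x10ab001), (nat_lit 0xca3001)], [(nat_lit 0xc5f001), (nat_lit 0xc60001), (nat_lit 0xc61001), (nat_lit 0x1059001), (nat_lit 0xc5e001), (nat_lit 0x105d001)], [(nat_lit 0x1066001), (nat_lit 0xc63001), (nat_lit 0x1062001), (nat_lit 0xc62001), (nat_lit 0x105c001), (nat_lit 0x1063001)], [(nat_lit 0x1069001), (nat_lit 0xc65001), (nat_lit 0xc66001), (nat_lit 0x1065001), (nat_lit 0xc67001), (nat_lit 0xc64001)], [(nat_lit 0x107c001), (nat_lit 0x105b001), (nat_lit 0x1078001), (nat_lit 0xc77001), (nat_lit 0xc78001), (nat_lit 0x107a001)], [(nat_lit 0x107f001), (nat_lit 0x105f001), (nat_lit 0x1076001), (nat_lit 0x107b001), (nat_lit 0x1061001), (nat_lit 0xc79001)], [(nat_lit 0x1090001), (nat_lit 0x1087001), (nat_lit 0xc82001), (nat_lit 0x1088001), (nat_lit 0x1079001), (nat_lit 0x108c001)], [(nat_lit 0x1095001), (nat_lit 0x1064001), (nat_lit 0x108d001), (nat_lit 0xc84001), (nat_lit 0x1094001), (nat_lit 0xc83001)], [(nat_lit 0x10a9001), (nat_lit 0x10a5001), (nat_lit 0xc93001), (nat_lit 0x10a8001), (nat_lit 0xc94001), (nat_lit 0x109f001)], [(nat_lit 0x10af001), (nat_lit 0xc99001), (nat_lit 0xc9a001), (nat_lit 0x10ac001), (nat_lit 0x10a7001), (nat_lit 0xc9b001)], [(nat_lit 0xc9f001), (nat_lit 0x10ad001), (nat_lit 0xc9e001), (nat_lit 0xc9c001), (nat_lit 0x10b2001), (nat_lit 0xc9d001)], [(nat_lit 0x10b9001), (nat_lit 0xca4001), (nat_lit 0x10a6001), (nat_lit 0xe5a001), (nat_lit 0xca5001), (nat_lit 0xe57001)], [(nat_lit 0xca6001), (nat_lit 0xdc6001), (nat_lit 0x10b0001), (nat_lit 0xca7001), (nat_lit 0x10ba001), (nat_lit 0xca8001)], [(nat_lit 0x10d3001), (nat_lit 0xcd7001), (nat_lit 0x1073001), (nat_lit 0x10f0001), (nat_lit 0xcd8001), (nat_lit 0x10f3001)], [(nat_lit 0x10d9001), (nat_lit 0xceb001), (nat_lit 0x110a001), (nat_lit 0xcec001), (nat_lit 0x10f1001), (nat_lit 0x1109001)], [(nat_lit 0xd76001), (nat_lit 0xced001), (nat_lit 0xcee001), (nat_lit 0x1108001), (nat_lit 0xd8b001), (nat_lit 0xcef001)], [(nat_lit 0xccf001), (nat_lit 0x10ef001), (nat_lit 0x10e8001), (nat_lit 0xcd0001), (nat_lit 0xcd1001), (nat_lit 0x10ee001)], [(nat_lit 0xcd5001), (nat_lit 0x10f2001), (nat_lit 0x1060001), (nat_lit 0x10ed001), (nat_lit 0x1077001), (nat_lit 0xcd6001)], [(nat_lit 0xce2001), (nat_lit 0x1101001), (nat_lit 0xce3001), (nat_lit 0xce4001), (nat_lit 0x10e9001), (nat_lit 0xce5001)], [(nat_lit 0xce7001), (nat_lit 0x1107001), (nat_lit 0xce8001), (nat_lit 0xce9001), (nat_lit 0x1106001), (nat_lit 0xcea001)], [(nat_lit 0xe31001), (nat_lit 0xcf9001), (nat_lit 0xcfa001), (nat_lit 0x1117001), (nat_lit 0xe33001), (nat_lit 0xcfb001)], [(nat_lit 0xcf5001), (nat_lit 0x1116001), (nat_lit 0xcf6001), (nat_lit 0xcf7001), (nat_lit 0x1115001), (nat_lit 0xcf8001)], [(nat_lit 0x1084001), (nat_lit 0xcc7001), (nat_lit 0x10be001), (nat_lit 0x10db001), (nat_lit 0xcc6001), (nat_lit 0x10dd001)], [(nat_lit 0x105a001), (nat_lit 0x10dc001), (nat_lit 0x10df001), (nat_lit 0xcc8001), (nat_lit 0x1068001), (nat_lit 0x10e0001)], [(nat_lit 0x105e001), (nat_lit 0x10de001), (nat_lit 0xcca001), (nat_lit 0x10e1001), (nat_lit 0x1081001), (nat_lit 0xcc9001)], [(nat_lit 0x10e7001), (nat_lit 0x10e2001), (nat_lit 0xccb001), (nat_lit 0x10e4001), (nat_lit 0xccc001), (nat_lit 0x10e5001)], [(nat_lit 0x10ec001), (nat_lit 0x10c9001), (nat_lit 0x10e6001), (nat_lit 0xcce001), (nat_lit 0x10ea001), (nat_lit 0xccd001)], [(nat_lit 0x10fa001), (nat_lit 0xcd9001), (nat_lit 0x10d7001), (nat_lit 0x10f4001), (nat_lit 0x10e3001), (nat_lit 0x10f7001)], [(nat_lit 0xcdd001), (nat_lit 0x10f5001), (nat_lit 0xcdb001), (nat_lit 0xcda001), (nat_lit 0x10fb001), (nat_lit 0xcdc001)], [(nat_lit 0xce1001), (nat_lit 0x10f8001), (nat_lit 0xcdf001), (nat_lit 0xce0001), (nat_lit 0x10fe001), (nat_lit 0xcde001)], [(nat_lit 0x1104001), (nat_lit 0xd70001), (nat_lit 0x1100001), (nat_lit 0xd84001), (nat_lit 0xce6001), (nat_lit 0x10eb001)], [(nat_lit 0xcf3001), (nat_lit 0x110b001), (nat_lit 0xcf0001), (nat_lit 0xcf1001), (nat_lit 0x110e001), (nat_lit 0xcf2001)], [(nat_lit 0x1113001), (nat_lit 0xe2c001), (nat_lit 0x1110001), (nat_lit 0xe2d001), (nat_lit 0xcf4001), (nat_lit 0x1111001)], [(nat_lit 0xd12001), (nat_lit 0xd11001), (nat_lit 0x1140001), (nat_lit 0xd13001), (nat_lit 0xd1a001), (nat_lit 0x113f001)], [(nat_lit 0xd15001), (nat_lit 0xd14001), (nat_lit 0xd8a001), (nat_lit 0x113e001), (nat_lit 0xd16001), (nat_lit 0xd17001)], [(nat_lit 0xd31001), (nat_lit 0xd30001), (nat_lit 0x1179001), (nat_lit 0xd32001), (nat_lit 0xd33001), (nat_lit 0x1178001)], [(nat_lit 0xd38001), (nat_lit 0xd37001), (nat_lit 0xd39001), (nat_lit 0x1177001), (nat_lit 0xf28001), (nat_lit 0xd3a001)], [(nat_lit 0x1141001), (nat_lit 0x119a001), (nat_lit 0xd56001), (nat_lit 0x11a6001), (nat_lit 0x117b001), (nat_lit 0x11a5001)], [(nat_lit 0x113d001), (nat_lit 0xd53001), (nat_lit 0x11a3001), (nat_lit 0xd54001), (nat_lit 0x11a2001), (nat_lit 0xd55001)], [(nat_lit 0xd5d001), (nat_lit 0xd5c001), (nat_lit 0xd77001), (nat_lit 0x11b4001), (nat_lit 0xd5e001), (nat_lit 0xd5f001)], [(nat_lit 0xd69001), (nat_lit 0xd68001), (nat_lit 0x11bf001), (nat_lit 0xd6a001), (nat_lit 0xf25001), (nat_lit 0x11b5001)], [(nat_lit 0xd28001), (nat_lit 0x116b001), (nat_lit 0xd29001), (nat_lit 0x1161001), (nat_lit 0xd2a001), (nat_lit 0x116a001)], [(nat_lit 0xd2d001), (nat_lit 0x1175001), (nat_lit 0x1168001), (nat_lit 0xd2e001), (nat_lit 0x1173001), (nat_lit 0xd2f001)], [(nat_lit 0x118f001), (nat_lit 0xd4a001), (nat_lit 0x1199001), (nat_lit 0xd4b001), (nat_lit 0x116c001), (nat_lit 0xd4c001)], [(nat_lit 0xd50001), (nat_lit 0x11a1001), (nat_lit 0xd51001), (nat_lit 0x119f001), (nat_lit 0xd52001), (nat_lit 0x1174001)], [(nat_lit 0xd59001), (nat_lit 0x11b2001), (nat_lit 0x11af001), (nat_lit 0xd5a001), (nat_lit 0x11a0001), (nat_lit 0xd5b001)], [(nat_lit 0xd65001), (nat_lit 0x11bd001), (nat_lit 0xd66001), (nat_lit 0xd67001), (nat_lit 0xf2b001), (nat_lit 0x11b1001)], [(nat_lit 0xd76001), (nat_lit 0xd75001), (nat_lit 0xd77001), (nat_lit 0x11ce001), (nat_lit 0xd78001), (nat_lit 0xd79001)], [(nat_lit 0xd72001), (nat_lit 0x11cc001), (nat_lit 0x11ab001), (nat_lit 0xd73001), (nat_lit 0x100f001), (nat_lit 0xd74001)], [(nat_lit 0xd89001), (nat_lit 0xd88001), (nat_lit 0xd8a001), (nat_lit 0x100b001), (nat_lit 0xd8b001), (nat_lit 0xd8c001)], [(nat_lit 0xd08001), (nat_lit 0x1137001), (nat_lit 0xd09001), (nat_lit 0xd0a001), (nat_lit 0xd1f001), (nat_lit 0x1136001)], [(nat_lit 0xd0e001), (nat_lit 0x113c001), (nat_lit 0x1134001), (nat_lit 0xd0f001), (nat_lit 0x113b001), (nat_lit 0xd10001)], [(nat_lit 0xd1e001), (nat_lit 0x1119001), (nat_lit 0xcfc001), (nat_lit 0x111c001), (nat_lit 0xcfd001), (nat_lit 0x111d001)], [(nat_lit 0xd21001), (nat_lit 0xcff001), (nat_lit 0x111e001), (nat_lit 0xd00001), (nat_lit 0x111f001), (nat_lit 0xcfe001)], [(nat_lit 0x1128001), (nat_lit 0xd01001), (nat_lit 0xd02001), (nat_lit 0x1123001), (nat_lit 0x111b001), (nat_lit 0x1125001)], [(nat_lit 0xd05001), (nat_lit 0x1124001), (nat_lit 0xd04001), (nat_lit 0xd03001), (nat_lit 0x112a001), (nat_lit 0x112d001)], [(nat_lit 0x1133001), (nat_lit 0x1126001), (nat_lit 0xd07001), (nat_lit 0x1130001), (nat_lit 0x1131001), (nat_lit 0xd06001)], [(nat_lit 0x1139001), (nat_lit 0xd0c001), (nat_lit 0x1132001), (nat_lit 0xd0d001), (nat_lit 0xd0b001), (nat_lit 0x1122001)], [(nat_lit 0xd31001), (nat_lit 0xd19001), (nat_lit 0x1142001), (nat_lit 0xd18001), (nat_lit 0xd1a001), (nat_lit 0x1144001)], [(nat_lit 0xd38001), (nat_lit 0xd1c001), (nat_lit 0xd39001), (nat_lit 0x1146001), (nat_lit 0xf43001), (nat_lit 0xd1b001)], [(nat_lit 0xd1e001), (nat_lit 0x1147001), (nat_lit 0xd1d001), (nat_lit 0x1149001), (nat_lit 0xd1f001), (nat_lit 0x114b001)], [(nat_lit 0xd21001), (nat_lit 0x1145001), (nat_lit 0x114d001), (nat_lit 0xd22001), (nat_lit 0x114e001), (nat_lit 0xd20001)], [(nat_lit 0x1155001), (nat_lit 0xd23001), (nat_lit 0x111a001), (nat_lit 0x1151001), (nat_lit 0xd24001), (nat_lit 0x1153001)], [(nat_lit 0x1160001), (nat_lit 0x1152001), (nat_lit 0x1157001), (nat_lit 0xd25001), (nat_lit 0x115a001), (nat_lit 0x115d001)], [(nat_lit 0x1167001), (nat_lit 0x1154001), (nat_lit 0xd27001), (nat_lit 0x115f001), (nat_lit 0x1163001), (nat_lit 0xd26001)], [(nat_lit 0x1171001), (nat_lit 0x1120001), (nat_lit 0x1164001), (nat_lit 0x116d001), (nat_lit 0xd2b001), (nat_lit 0xd2c001)], [(nat_lit 0xf2d001), (nat_lit 0xd35001), (nat_lit 0x117c001), (nat_lit 0xd34001), (nat_lit 0x116f001), (nat_lit 0xd36001)], [(nat_lit 0xf2a001), (nat_lit 0x117e001), (nat_lit 0xd3b001), (nat_lit 0x1181001), (nat_lit 0xd3c001), (nat_lit 0x117d001)], [(nat_lit 0xd43001), (nat_lit 0x118e001), (nat_lit 0x1129001), (nat_lit 0x1186001), (nat_lit 0x1156001), (nat_lit 0x118d001)], [(nat_lit 0x1184001), (nat_lit 0xd3e001), (nat_lit 0x10b6001), (nat_lit 0xd3d001), (nat_lit 0x1182001), (nat_lit 0xd3f001)], [(nat_lit 0x118a001), (nat_lit 0xd41001), (nat_lit 0x1127001), (nat_lit 0xd42001), (nat_lit 0x1188001), (nat_lit 0xd40001)], [(nat_lit 0xd45001), (nat_lit 0x1183001), (nat_lit 0xd46001), (nat_lit 0x115b001), (nat_lit 0xd44001), (nat_lit 0x1192001)], [(nat_lit 0xd48001), (nat_lit 0x1189001), (nat_lit 0xd49001), (nat_lit 0x1196001), (nat_lit 0xd47001), (nat_lit 0x1165001)], [(nat_lit 0x119e001), (nat_lit 0xd4e001), (nat_lit 0x119c001), (nat_lit 0xd4d001), (nat_lit 0xd4f001), (nat_lit 0x1170001)], [(nat_lit 0x11ae001), (nat_lit 0x11a7001), (nat_lit 0xd57001), (nat_lit 0x11aa001), (nat_lit 0x119d001), (nat_lit 0xd58001)], [(nat_lit 0x11b8001), (nat_lit 0xd60001), (nat_lit 0xd61001), (nat_lit 0x11b6001), (nat_lit 0x1180001), (nat_lit 0x11a9001)], [(nat_lit 0xd64001), (nat_lit 0x11b7001), (nat_lit 0xd63001), (nat_lit 0xd62001), (nat_lit 0x11ba001), (nat_lit 0x11ac001)], [(nat_lit 0x11ad001), (nat_lit 0x11c3001), (nat_lit 0xd6d001), (nat_lit 0x11b0001), (nat_lit 0x11c6001), (nat_lit 0xd6e001)], [(nat_lit 0x100e001), (nat_lit 0xd70001), (nat_lit 0x11c7001), (nat_lit 0xd71001), (nat_lit 0xd6f001), (nat_lit 0x11c8001)], [(nat_lit 0xd85001), (nat_lit 0x100a001), (nat_lit 0x11e0001), (nat_lit 0xd86001), (nat_lit 0x11e9001), (nat_lit 0xd87001)], [(nat_lit 0x11df001), (nat_lit 0x101b001), (nat_lit 0xd80001), (nat_lit 0x11d9001), (nat_lit 0x11dd001), (nat_lit 0xd81001)], [(nat_lit 0x11e7001), (nat_lit 0xd83001), (nat_lit 0x11de001), (nat_lit 0xd84001), (nat_lit 0xd82001), (nat_lit 0x11e3001)], [(nat_lit 0x1011001), (nat_lit 0x11e4001), (nat_lit 0x1015001), (nat_lit 0x11ca001), (nat_lit 0xd8e001), (nat_lit 0xd8d001)], [(nat_lit 0xdac001), (nat_lit 0xdab001), (nat_lit 0xe32001), (nat_lit 0xe1c001), (nat_lit 0xdad001), (nat_lit 0xdae001)], [(nat_lit 0xda8001), (nat_lit 0xe1b001), (nat_lit 0x112f001), (nat_lit 0xda9001), (nat_lit 0xe1f001), (nat_lit 0xdaa001)], [(nat_lit 0x112e001), (nat_lit 0xe29001), (nat_lit 0xda3001), (nat_lit 0x1135001), (nat_lit 0x1202001), (nat_lit 0xda4001)], [(nat_lit 0xe1e001), (nat_lit 0xda6001), (nat_lit 0x1203001), (nat_lit 0xda7001), (nat_lit 0xda5001), (nat_lit 0x1204001)], [(nat_lit 0x126b001), (nat_lit 0xe07001), (nat_lit 0xe06001), (nat_lit 0x110c001), (nat_lit 0x124f001), (nat_lit 0x10b8001)], [(nat_lit 0x123f001), (nat_lit 0xde1001), (nat_lit 0x124d001), (nat_lit 0x1248001), (nat_lit 0xde2001), (nat_lit 0x124c001)], [(nat_lit 0xdd9001), (nat_lit 0x1247001), (nat_lit 0x122b001), (nat_lit 0xdda001), (nat_lit 0x1198001), (nat_lit 0x1227001)], [(nat_lit 0xdde001), (nat_lit 0x124b001), (nat_lit 0xddf001), (nat_lit 0x1226001), (nat_lit 0x1195001), (nat_lit 0xde0001)], [(nat_lit 0xde3001), (nat_lit 0x10a1001), (nat_lit 0x1194001), (nat_lit 0xde4001), (nat_lit 0xde5001), (nat_lit 0xde6001)], [(nat_lit 0xe03001), (nat_lit 0xe02001), (nat_lit 0x126a001), (nat_lit 0x118c001), (nat_lit 0x1240001), (nat_lit 0x1187001)], [(nat_lit 0xe16001), (nat_lit 0xe15001), (nat_lit 0x1284001), (nat_lit 0xe17001), (nat_lit 0x1283001), (nat_lit 0x100c001)], [(nat_lit 0x1285001), (nat_lit 0xe29001), (nat_lit 0xe28001), (nat_lit 0x1298001), (nat_lit 0x1297001), (nat_lit 0xff7001)], [(nat_lit 0x1281001), (nat_lit 0xe25001), (nat_lit 0x1295001), (nat_lit 0xe26001), (nat_lit 0xe27001), (nat_lit 0x1294001)], [(nat_lit 0xe22001), (nat_lit 0x1292001), (nat_lit 0xf5e001), (nat_lit 0xe23001), (nat_lit 0x1013001), (nat_lit 0xe24001)], [(nat_lit 0x1223001), (nat_lit 0xdc9001), (nat_lit 0x1053001), (nat_lit 0x121f001), (nat_lit 0xfdb001), (nat_lit 0x1221001)], [(nat_lit 0xf9a001), (nat_lit 0x1220001), (nat_lit 0x1224001), (nat_lit 0xdca001), (nat_lit 0x1228001), (nat_lit 0x1229001)], [(nat_lit 0xf93001), (nat_lit 0x1222001), (nat_lit 0xdcc001), (nat_lit 0x122c001), (nat_lit 0x122d001), (nat_lit 0xdcb001)], [(nat_lit 0xf8e001), (nat_lit 0x1058001), (nat_lit 0x122e001), (nat_lit 0xe42001), (nat_lit 0xdcd001), (nat_lit 0xfb1001)], [(nat_lit 0xdd2001), (nat_lit 0x123e001), (nat_lit 0xe4d001), (nat_lit 0x1237001), (nat_lit 0xdd3001), (nat_lit 0x123d001)], [(nat_lit 0x1236001), (nat_lit 0xdcf001), (nat_lit 0x122f001), (nat_lit 0xdce001), (nat_lit 0x1230001), (nat_lit 0x1233001)], [(nat_lit 0x123c001), (nat_lit 0xdd1001), (nat_lit 0xe49001), (nat_lit 0x1235001), (nat_lit 0x1238001), (nat_lit 0xdd0001)], [(nat_lit 0x122a001), (nat_lit 0x1241001), (nat_lit 0xdd4001), (nat_lit 0xf95001), (nat_lit 0x1242001), (nat_lit 0xf9b001)], [(nat_lit 0x1197001), (nat_lit 0x1231001), (nat_lit 0x1243001), (nat_lit 0xdd6001), (nat_lit 0xdd5001), (nat_lit 0x1244001)], [(nat_lit 0x1225001), (nat_lit 0x1234001), (nat_lit 0xf9c001), (nat_lit 0xdd8001), (nat_lit 0x1246001), (nat_lit 0xdd7001)], [(nat_lit 0x1193001), (nat_lit 0x1239001), (nat_lit 0xddc001), (nat_lit 0x1249001), (nat_lit 0xddb001), (nat_lit 0xddd001)], [(nat_lit 0xdfa001), (nat_lit 0x118b001), (nat_lit 0x125d001), (nat_lit 0xdfb001), (nat_lit 0x1264001), (nat_lit 0x1191001)], [(nat_lit 0xdff001), (nat_lit 0x1185001), (nat_lit 0xe00001), (nat_lit 0x1190001), (nat_lit 0x1269001), (nat_lit 0xe01001)], [(nat_lit 0x125e001), (nat_lit 0x11a4001), (nat_lit 0xdf7001), (nat_lit 0x125c001), (nat_lit 0x125f001), (nat_lit 0x119b001)], [(nat_lit 0x1263001), (nat_lit 0xdf9001), (nat_lit 0x1260001), (nat_lit 0x1232001), (nat_lit 0xdf8001), (nat_lit 0x1261001)], [(nat_lit 0x1267001), (nat_lit 0xdfd001), (nat_lit 0xdfe001), (nat_lit 0x1265001), (nat_lit 0xdfc001), (nat_lit 0x123b001)], [(nat_lit 0x1166001), (nat_lit 0x1262001), (nat_lit 0x1172001), (nat_lit 0x1245001), (nat_lit 0x1169001), (nat_lit 0xe04001)], [(nat_lit 0x115c001), (nat_lit 0x1266001), (nat_lit 0x126d001), (nat_lit 0xe05001), (nat_lit 0x1162001), (nat_lit 0x124a001)], [(nat_lit 0xe0d001), (nat_lit 0x127c001), (nat_lit 0xe0e001), (nat_lit 0x1044001), (nat_lit 0x127b001), (nat_lit 0x11e2001)], [(nat_lit 0xe12001), (nat_lit 0x1280001), (nat_lit 0x127a001), (nat_lit 0xe13001), (nat_lit 0xe14001), (nat_lit 0x127f001)], [(nat_lit 0x1273001), (nat_lit 0xe08001), (nat_lit 0xe09001), (nat_lit 0x126e001), (nat_lit 0x1270001), (nat_lit 0x101c001)], [(nat_lit 0x1042001), (nat_lit 0x126f001), (nat_lit 0x1040001), (nat_lit 0xe0a001), (nat_lit 0x1275001), (nat_lit 0x11db001)], [(nat_lit 0x1279001), (nat_lit 0x1271001), (nat_lit 0xe0c001), (nat_lit 0x1276001), (nat_lit 0xe0b001), (nat_lit 0x1277001)], [(nat_lit 0x127d001), (nat_lit 0xe10001), (nat_lit 0x1278001), (nat_lit 0xe11001), (nat_lit 0x11e6001), (nat_lit 0xe0f001)], [(nat_lit 0xe1a001), (nat_lit 0xe1b001), (nat_lit 0x1274001), (nat_lit 0xe1c001), (nat_lit 0x1288001), (nat_lit 0x1001001)], [(nat_lit 0x1289001), (nat_lit 0xe19001), (nat_lit 0x1272001), (nat_lit 0x1286001), (nat_lit 0xe18001), (nat_lit 0x128a001)], [(nat_lit 0xe1e001), (nat_lit 0x1287001), (nat_lit 0x128c001), (nat_lit 0xe1d001), (nat_lit 0xe1f001), (nat_lit 0x128f001)], [(nat_lit 0xf5d001), (nat_lit 0x128b001), (nat_lit 0xe21001), (nat_lit 0x1291001), (nat_lit 0x1016001), (nat_lit 0xe20001)], [(nat_lit 0xe31001), (nat_lit 0xe30001), (nat_lit 0xe32001), (nat_lit 0x12a7001), (nat_lit 0xe33001), (nat_lit 0x1006001)], [(nat_lit 0xe2e001), (nat_lit 0x12a5001), (nat_lit 0x11da001), (nat_lit 0xe2f001), (nat_lit 0x12a4001), (nat_lit 0x103f001)], [(nat_lit 0x11dc001), (nat_lit 0x129b001), (nat_lit 0xe2a001), (nat_lit 0x11e1001), (nat_lit 0x129d001), (nat_lit 0x1043001)], [(nat_lit 0x12a2001), (nat_lit 0xe2c001), (nat_lit 0x129e001), (nat_lit 0xe2d001), (nat_lit 0xe2b001), (nat_lit 0x129f001)], [(nat_lit 0x12e2001), (nat_lit 0xe5f001), (nat_lit 0x1036001), (nat_lit 0xe6a001), (nat_lit 0xe60001), (nat_lit 0xe67001)], [(nat_lit 0xe62001), (nat_lit 0x102f001), (nat_lit 0xe6d001), (nat_lit 0xe63001), (nat_lit 0xe61001), (nat_lit 0xe64001)], [(nat_lit 0xe6b001), (nat_lit 0x12e3001), (nat_lit 0x1038001), (nat_lit 0x12eb001), (nat_lit 0x12e4001), (nat_lit 0x12f4001)], [(nat_lit 0x12ea001), (nat_lit 0xe66001), (nat_lit 0x12e5001), (nat_lit 0xe65001), (nat_lit 0x12e8001), (nat_lit 0xe67001)], [(nat_lit 0x12f1001), (nat_lit 0xe69001), (nat_lit 0x102a001), (nat_lit 0xe6a001), (nat_lit 0x12ed001), (nat_lit 0xe68001)], [(nat_lit 0xe6f001), (nat_lit 0x12e9001), (nat_lit 0xe6d001), (nat_lit 0xe71001), (nat_lit 0xe6c001), (nat_lit 0xe72001)], [(nat_lit 0xe6f001), (nat_lit 0x12ee001), (nat_lit 0xe70001), (nat_lit 0xe71001), (nat_lit 0xe6e001), (nat_lit 0xe72001)], [(nat_lit 0xe7f001), (nat_lit 0x1314001), (nat_lit 0xe80001), (nat_lit 0x130c001), (nat_lit 0xe81001), (nat_lit 0x1313001)], [(nat_lit 0xe85001), (nat_lit 0xe86001), (nat_lit 0x1312001), (nat_lit 0xe87001), (nat_lit 0x1319001), (nat_lit 0xe88001)], [(nat_lit 0x1301001), (nat_lit 0xe77001), (nat_lit 0xe78001), (nat_lit 0x12fe001), (nat_lit 0xe79001), (nat_lit 0xe7a001)], [(nat_lit 0x130b001), (nat_lit 0x12ff001), (nat_lit 0x1305001), (nat_lit 0xe7b001), (nat_lit 0x1306001), (nat_lit 0x1308001)], [(nat_lit 0x1311001), (nat_lit 0xe7d001), (nat_lit 0xe7e001), (nat_lit 0x130a001), (nat_lit 0x130d001), (nat_lit 0xe7c001)], [(nat_lit 0x1317001), (nat_lit 0xe83001), (nat_lit 0x130f001), (nat_lit 0x1030001), (nat_lit 0xe82001), (nat_lit 0xe84001)], [(nat_lit 0xea6001), (nat_lit 0xea7001), (nat_lit 0x1302001), (nat_lit 0xea8001), (nat_lit 0xea9001), (nat_lit 0xeaa001)], [(nat_lit 0x132b001), (nat_lit 0xea3001), (nat_lit 0x1315001), (nat_lit 0x133c001), (nat_lit 0x1316001), (nat_lit 0x1344001)], [(nat_lit 0xe99001), (nat_lit 0x133a001), (nat_lit 0xe9a001), (nat_lit 0xe9b001), (nat_lit 0x1336001), (nat_lit 0xe9c001)], [(nat_lit 0xe9f001), (nat_lit 0x1342001), (nat_lit 0xea0001), (nat_lit 0xea1001), (nat_lit 0x1341001), (nat_lit 0xea2001)], [(nat_lit 0xea4001), (nat_lit 0x1318001), (nat_lit 0x1340001), (nat_lit 0xfe9001), (nat_lit 0xea5001), (nat_lit 0x131a001)], [(nat_lit 0xe8e001), (nat_lit 0x132a001), (nat_lit 0xe8f001), (nat_lit 0x1322001), (nat_lit 0x1303001), (nat_lit 0x1329001)], [(nat_lit 0x1321001), (nat_lit 0xe8a001), (nat_lit 0x131b001), (nat_lit 0xe89001), (nat_lit 0x131c001), (nat_lit 0x131e001)], [(nat_lit 0x1327001), (nat_lit 0xe8c001), (nat_lit 0xe8d001), (nat_lit 0x1320001), (nat_lit 0x1323001), (nat_lit 0xe8b001)], [(nat_lit 0xe92001), (nat_lit 0x132c001), (nat_lit 0xe90001), (nat_lit 0xe91001), (nat_lit 0x1330001), (nat_lit 0xe93001)], [(nat_lit 0x1334001), (nat_lit 0x131d001), (nat_lit 0x1332001), (nat_lit 0x1307001), (nat_lit 0xe94001), (nat_lit 0x1333001)], [(nat_lit 0xe98001), (nat_lit 0x131f001), (nat_lit 0xe96001), (nat_lit 0xe97001), (nat_lit 0x1337001), (nat_lit 0xe95001)], [(nat_lit 0x133f001), (nat_lit 0x1324001), (nat_lit 0xe9e001), (nat_lit 0x133e001), (nat_lit 0xe9d001), (nat_lit 0x1310001)], [(nat_lit 0xeb2001), (nat_lit 0xeb3001), (nat_lit 0x134d001), (nat_lit 0xeb4001), (nat_lit 0x1352001), (nat_lit 0xeb5001)], [(nat_lit 0xeba001), (nat_lit 0xebb001), (nat_lit 0x1328001), (nat_lit 0xebc001), (nat_lit 0x1357001), (nat_lit 0xebd001)], [(nat_lit 0x134f001), (nat_lit 0xeaf001), (nat_lit 0x134a001), (nat_lit 0xeb0001), (nat_lit 0xeae001), (nat_lit 0xeb1001)], [(nat_lit 0x1354001), (nat_lit 0xeb7001), (nat_lit 0x1325001), (nat_lit 0xeb8001), (nat_lit 0xeb6001), (nat_lit 0xeb9001)], [(nat_lit 0xecd001), (nat_lit 0xecc001), (nat_lit 0xfe4001), (nat_lit 0x132e001), (nat_lit 0x1005001), (nat_lit 0xece001)], [(nat_lit 0x132d001), (nat_lit 0xed5001), (nat_lit 0x1377001), (nat_lit 0xed6001), (nat_lit 0x1376001), (nat_lit 0x132f001)], [(nat_lit 0xed3001), (nat_lit 0x1375001), (nat_lit 0x1339001), (nat_lit 0x1021001), (nat_lit 0xed4001), (nat_lit 0x1374001)], [(nat_lit 0x1331001), (nat_lit 0xecb001), (nat_lit 0x1335001), (nat_lit 0x1047001), (nat_lit 0xeca001), (nat_lit 0x136a001)], [(nat_lit 0x136f001), (nat_lit 0xecf001), (nat_lit 0x133b001), (nat_lit 0x1343001), (nat_lit 0x136d001), (nat_lit 0x133d001)], [(nat_lit 0x1338001), (nat_lit 0x136e001), (nat_lit 0xed1001), (nat_lit 0x1370001), (nat_lit 0xed0001), (nat_lit 0x1371001)], [(nat_lit 0x1373001), (nat_lit 0x136b001), (nat_lit 0x1372001), (nat_lit 0x104c001), (nat_lit 0x136c001), (nat_lit 0xed2001)], [(nat_lit 0xf1d001), (nat_lit 0x13d9001), (nat_lit 0xf1e001), (nat_lit 0x13d4001), (nat_lit 0x13d8001), (nat_lit 0x1304001)], [(nat_lit 0xf1f001), (nat_lit 0x1355001), (nat_lit 0x13d7001), (nat_lit 0x1356001), (nat_lit 0xf20001), (nat_lit 0x1358001)], [(nat_lit 0xf21001), (nat_lit 0x1350001), (nat_lit 0x13ce001), (nat_lit 0x1351001), (nat_lit 0xf22001), (nat_lit 0x1353001)], [(nat_lit 0x13d3001), (nat_lit 0x1309001), (nat_lit 0x13d1001), (nat_lit 0xf1a001), (nat_lit 0x13d2001), (nat_lit 0x1300001)], [(nat_lit 0x13d6001), (nat_lit 0x130e001), (nat_lit 0xf1c001), (nat_lit 0x13d5001), (nat_lit 0xf1b001), (nat_lit 0x1326001)], [(nat_lit 0x1023001), (nat_lit 0x152f001), (nat_lit 0x1022001), (nat_lit 0x108e001), (nat_lit 0x1024001), (nat_lit 0x108a001)], [(nat_lit 0x1026001), (nat_lit 0x1027001), (nat_lit 0x1089001), (nat_lit 0x1028001), (nat_lit 0x1532001), (nat_lit 0x1025001)], [(nat_lit 0xfdd001), (nat_lit 0x14e0001), (nat_lit 0xfdc001), (nat_lit 0x14e2001), (nat_lit 0xfde001), (nat_lit 0x14b7001)], [(nat_lit 0xfc3001), (nat_lit 0xfc2001), (nat_lit 0x14b5001), (nat_lit 0xfc4001), (nat_lit 0x149e001), (nat_lit 0xfc5001)], [(nat_lit 0x156d001), (nat_lit 0x1052001), (nat_lit 0x1053001), (nat_lit 0x1568001), (nat_lit 0x14e1001), (nat_lit 0x156a001)], [(nat_lit 0x108f001), (nat_lit 0x1569001), (nat_lit 0x1096001), (nat_lit 0x1054001), (nat_lit 0x156f001), (nat_lit 0x1093001)], [(nat_lit 0x108b001), (nat_lit 0x156b001), (nat_lit 0x1056001), (nat_lit 0x1092001), (nat_lit 0x1570001), (nat_lit 0x1055001)], [(nat_lit 0x1533001), (nat_lit 0x1058001), (nat_lit 0x1571001), (nat_lit 0x12b0001), (nat_lit 0x1057001), (nat_lit 0x149f001)], [(nat_lit 0x104f001), (nat_lit 0x126c001), (nat_lit 0x1050001), (nat_lit 0x1566001), (nat_lit 0x12cf001), (nat_lit 0x10b1001)], [(nat_lit 0x1565001), (nat_lit 0x104e001), (nat_lit 0x1562001), (nat_lit 0x104d001), (nat_lit 0x1563001), (nat_lit 0x10ae001)], [(nat_lit 0x110f001), (nat_lit 0x1564001), (nat_lit 0x1114001), (nat_lit 0x12d2001), (nat_lit 0x1051001), (nat_lit 0x1567001)], [(nat_lit 0x11eb001), (nat_lit 0x11ec001), (nat_lit 0x11ed001), (nat_lit 0x1770001), (nat_lit 0x11ea001), (nat_lit 0x1774001)], [(nat_lit 0x10bc001), (nat_lit 0x10bd001), (nat_lit 0x10be001), (nat_lit 0x15e8001), (nat_lit 0x10bb001), (nat_lit 0x15ec001)], [(nat_lit 0x1771001), (nat_lit 0x11f6001), (nat_lit 0x177f001), (nat_lit 0x11f5001), (nat_lit 0x15eb001), (nat_lit 0x1780001)], [(nat_lit 0x1775001), (nat_lit 0x11f8001), (nat_lit 0x11f9001), (nat_lit 0x1782001), (nat_lit 0x1778001), (nat_lit 0x11f7001)], [(nat_lit 0x10c0001), (nat_lit 0x15ea001), (nat_lit 0x15f1001), (nat_lit 0x10bf001), (nat_lit 0x10c1001), (nat_lit 0x15f4001)], [(nat_lit 0x10c3001), (nat_lit 0x15ee001), (nat_lit 0x10c4001), (nat_lit 0x15f6001), (nat_lit 0x10c5001), (nat_lit 0x10c2001)], [(nat_lit 0x11fb001), (nat_lit 0x1783001), (nat_lit 0x11fa001), (nat_lit 0x11fc001), (nat_lit 0x15f3001), (nat_lit 0x11fd001)], [(nat_lit 0x11ff001), (nat_lit 0x1781001), (nat_lit 0x1200001), (nat_lit 0x1201001), (nat_lit 0x1786001), (nat_lit 0x11fe001)], [(nat_lit 0x11f2001), (nat_lit 0x1776001), (nat_lit 0x11f3001), (nat_lit 0x177e001), (nat_lit 0x11f4001), (nat_lit 0x11f1001)], [(nat_lit 0x11ef001), (nat_lit 0x1772001), (nat_lit 0x1779001), (nat_lit 0x11ee001), (nat_lit 0x11f0001), (nat_lit 0x177c001)], [(nat_lit 0x11d1001), (nat_lit 0x11d2001), (nat_lit 0x1756001), (nat_lit 0x11d0001), (nat_lit 0x11d3001), (nat_lit 0x1759001)], [(nat_lit 0x11d5001), (nat_lit 0x11d6001), (nat_lit 0x11d7001), (nat_lit 0x175c001), (nat_lit 0x11d8001), (nat_lit 0x11d4001)], [(nat_lit 0x177a001), (nat_lit 0x1796001), (nat_lit 0x120f001), (nat_lit 0x1799001), (nat_lit 0x1758001), (nat_lit 0x179c001)], [(nat_lit 0x177d001), (nat_lit 0x1211001), (nat_lit 0x179e001), (nat_lit 0x1212001), (nat_lit 0x17a0001), (nat_lit 0x1210001)], [(nat_lit 0x10d3001), (nat_lit 0x10d2001), (nat_lit 0x10d4001), (nat_lit 0x1604001), (nat_lit 0x10d5001), (nat_lit 0x160a001)], [(nat_lit 0x10cb001), (nat_lit 0x1602001), (nat_lit 0x11bc001), (nat_lit 0x10cc001), (nat_lit 0x10cd001), (nat_lit 0x1601001)], [(nat_lit 0x10ce001), (nat_lit 0x1606001), (nat_lit 0x10cf001), (nat_lit 0x15ff001), (nat_lit 0x10d0001), (nat_lit 0x10d1001)], [(nat_lit 0x15f2001), (nat_lit 0x17a3001), (nat_lit 0x1213001), (nat_lit 0x17a5001), (nat_lit 0x1214001), (nat_lit 0x17a7001)], [(nat_lit 0x15f5001), (nat_lit 0x175b001), (nat_lit 0x17a8001), (nat_lit 0x1216001), (nat_lit 0x17aa001), (nat_lit 0x1215001)], [(nat_lit 0x17ad001), (nat_lit 0x1217001), (nat_lit 0x1797001), (nat_lit 0x1218001), (nat_lit 0x17a4001), (nat_lit 0x1219001)], [(nat_lit 0x1787001), (nat_lit 0x17a1001), (nat_lit 0x121b001), (nat_lit 0x17a2001), (nat_lit 0x121a001), (nat_lit 0x17ac001)], [(nat_lit 0x121c001), (nat_lit 0x121d001), (nat_lit 0x1268001), (nat_lit 0x12c5001), (nat_lit 0x121e001), (nat_lit 0x12c2001)], [(nat_lit 0x125a001), (nat_lit 0x180e001), (nat_lit 0x1259001), (nat_lit 0x1811001), (nat_lit 0x125b001), (nat_lit 0x1808001)], [(nat_lit 0x1256001), (nat_lit 0x1257001), (nat_lit 0x1805001), (nat_lit 0x1255001), (nat_lit 0x1809001), (nat_lit 0x1258001)], [(nat_lit 0x188f001), (nat_lit 0x12a8001), (nat_lit 0x12a9001), (nat_lit 0x188a001), (nat_lit 0x12aa001), (nat_lit 0x188c001)], [(nat_lit 0x1812001), (nat_lit 0x188b001), (nat_lit 0x1800001), (nat_lit 0x12ab001), (nat_lit 0x1892001), (nat_lit 0x1803001)], [(nat_lit 0x1806001), (nat_lit 0x188d001), (nat_lit 0x12ad001), (nat_lit 0x1804001), (nat_lit 0x1894001), (nat_lit 0x12ac001)], [(nat_lit 0x180a001), (nat_lit 0x12af001), (nat_lit 0x1895001), (nat_lit 0x12b0001), (nat_lit 0x12ae001), (nat_lit 0x12b1001)], [(nat_lit 0x12b6001), (nat_lit 0x12b7001), (nat_lit 0x1890001), (nat_lit 0x189d001), (nat_lit 0x12b8001), (nat_lit 0x18a3001)], [(nat_lit 0x189b001), (nat_lit 0x12b3001), (nat_lit 0x1897001), (nat_lit 0x12b2001), (nat_lit 0x1898001), (nat_lit 0x1785001)], [(nat_lit 0x18a1001), (nat_lit 0x12b5001), (nat_lit 0x188e001), (nat_lit 0x1784001), (nat_lit 0x189e001), (nat_lit 0x12b4001)], [(nat_lit 0x12ba001), (nat_lit 0x1899001), (nat_lit 0x1788001), (nat_lit 0x12bb001), (nat_lit 0x12b9001), (nat_lit 0x18a4001)], [(nat_lit 0x12bd001), (nat_lit 0x189f001), (nat_lit 0x12be001), (nat_lit 0x18a7001), (nat_lit 0x12bc001), (nat_lit 0x12bf001)], [(nat_lit 0x17e6001), (nat_lit 0x124e001), (nat_lit 0x124d001), (nat_lit 0x17fb001), (nat_lit 0x124f001), (nat_lit 0x17fa001)], [(nat_lit 0x1254001), (nat_lit 0x17fc001), (nat_lit 0x1801001), (nat_lit 0x1253001), (nat_lit 0x1666001), (nat_lit 0x17ff001)], [(nat_lit 0x1251001), (nat_lit 0x17f9001), (nat_lit 0x1250001), (nat_lit 0x17fd001), (nat_lit 0x15c5001), (nat_lit 0x1252001)], [(nat_lit 0x10a0001), (nat_lit 0x10a1001), (nat_lit 0x15c4001), (nat_lit 0x10a2001), (nat_lit 0x10a3001), (nat_lit 0x10a4001)], [(nat_lit 0x12cd001), (nat_lit 0x17e7001), (nat_lit 0x12ce001), (nat_lit 0x18b2001), (nat_lit 0x12cf001), (nat_lit 0x18b5001)], [(nat_lit 0x18b1001), (nat_lit 0x12c9001), (nat_lit 0x18aa001), (nat_lit 0x12c8001), (nat_lit 0x18ab001), (nat_lit 0x18ae001)], [(nat_lit 0x18b3001), (nat_lit 0x12cb001), (nat_lit 0x12cc001), (nat_lit 0x18b0001), (nat_lit 0x12d7001), (nat_lit 0x12ca001)], [(nat_lit 0x1802001), (nat_lit 0x18b6001), (nat_lit 0x12d0001), (nat_lit 0x1807001), (nat_lit 0x18b7001), (nat_lit 0x1814001)], [(nat_lit 0x1665001), (nat_lit 0x18ac001), (nat_lit 0x18b8001), (nat_lit 0x12d2001), (nat_lit 0x12d1001), (nat_lit 0x18b9001)], [(nat_lit 0x17fe001), (nat_lit 0x18af001), (nat_lit 0x1813001), (nat_lit 0x12d4001), (nat_lit 0x18bb001), (nat_lit 0x12d3001)], [(nat_lit 0x15c3001), (nat_lit 0x12d6001), (nat_lit 0x109d001), (nat_lit 0x15c1001), (nat_lit 0x109e001), (nat_lit 0x109f001)], [(nat_lit 0x12d9001), (nat_lit 0x12da001), (nat_lit 0x18c0001), (nat_lit 0x12db001), (nat_lit 0x12e0001), (nat_lit 0x12dc001)], [(nat_lit 0x12dd001), (nat_lit 0x12de001), (nat_lit 0x18b4001), (nat_lit 0x12df001), (nat_lit 0x12e0001), (nat_lit 0x12e1001)], [(nat_lit 0x18bf001), (nat_lit 0x12d6001), (nat_lit 0x12d5001), (nat_lit 0x18bc001), (nat_lit 0x12d7001), (nat_lit 0x12d8001)], [(nat_lit 0x12c3001), (nat_lit 0x12de001), (nat_lit 0x12c4001), (nat_lit 0x12c5001), (nat_lit 0x12c6001), (nat_lit 0x12c7001)], [(nat_lit 0x12c0001), (nat_lit 0x12da001), (nat_lit 0x17df001), (nat_lit 0x12c1001), (nat_lit 0x12c6001), (nat_lit 0x12c2001)], [(nat_lit 0x17de001), (nat_lit 0x1239001), (nat_lit 0x123a001), (nat_lit 0x17db001), (nat_lit 0x1238001), (nat_lit 0x123b001)], [(nat_lit 0x1071001), (nat_lit 0x1072001), (nat_lit 0x1073001), (nat_lit 0x1282001), (nat_lit 0x1070001), (nat_lit 0x158f001)], [(nat_lit 0x1590001), (nat_lit 0x11c2001), (nat_lit 0x1608001), (nat_lit 0x1293001), (nat_lit 0x1609001), (nat_lit 0x11c1001)], [(nat_lit 0x10d9001), (nat_lit 0x10d8001), (nat_lit 0x160d001), (nat_lit 0x10da001), (nat_lit 0x1605001), (nat_lit 0x11cf001)], [(nat_lit 0x1075001), (nat_lit 0x1591001), (nat_lit 0x1076001), (nat_lit 0x127e001), (nat_lit 0x1077001), (nat_lit 0x1074001)], [(nat_lit 0x1084001), (nat_lit 0x1083001), (nat_lit 0x1085001), (nat_lit 0x15a3001), (nat_lit 0x1086001), (nat_lit 0x15a9001)], [(nat_lit 0x107c001), (nat_lit 0x15a1001), (nat_lit 0x159a001), (nat_lit 0x107d001), (nat_lit 0x107e001), (nat_lit 0x15a0001)], [(nat_lit 0x107f001), (nat_lit 0x15a5001), (nat_lit 0x1080001), (nat_lit 0x159f001), (nat_lit 0x1081001), (nat_lit 0x1082001)], [(nat_lit 0x15e9001), (nat_lit 0x1209001), (nat_lit 0x1790001), (nat_lit 0x1208001), (nat_lit 0x1773001), (nat_lit 0x1791001)], [(nat_lit 0x15ed001), (nat_lit 0x120b001), (nat_lit 0x15a7001), (nat_lit 0x1793001), (nat_lit 0x15f0001), (nat_lit 0x120a001)], [(nat_lit 0x1757001), (nat_lit 0x1794001), (nat_lit 0x120c001), (nat_lit 0x178e001), (nat_lit 0x177b001), (nat_lit 0x178b001)], [(nat_lit 0x175a001), (nat_lit 0x1792001), (nat_lit 0x178a001), (nat_lit 0x120e001), (nat_lit 0x1795001), (nat_lit 0x120d001)], [(nat_lit 0x15fe001), (nat_lit 0x10c9001), (nat_lit 0x15fd001), (nat_lit 0x10ca001), (nat_lit 0x11cb001), (nat_lit 0x10c8001)], [(nat_lit 0x11bb001), (nat_lit 0x15f7001), (nat_lit 0x10c6001), (nat_lit 0x15fa001), (nat_lit 0x10c7001), (nat_lit 0x15fc001)], [(nat_lit 0x160b001), (nat_lit 0x10d6001), (nat_lit 0x10d7001), (nat_lit 0x11be001), (nat_lit 0x15f9001), (nat_lit 0x11c5001)], [(nat_lit 0x1003001), (nat_lit 0x1004001), (nat_lit 0x1002001), (nat_lit 0x150c001), (nat_lit 0x1005001), (nat_lit 0x1006001)], [(nat_lit 0x150d001), (nat_lit 0x101e001), (nat_lit 0x1528001), (nat_lit 0x101d001), (nat_lit 0x1529001), (nat_lit 0x1118001)], [(nat_lit 0x1020001), (nat_lit 0x152a001), (nat_lit 0x10b4001), (nat_lit 0x1021001), (nat_lit 0x101f001), (nat_lit 0x152c001)], [(nat_lit 0x103e001), (nat_lit 0x150e001), (nat_lit 0x1040001), (nat_lit 0x103d001), (nat_lit 0x154d001), (nat_lit 0x103f001)], [(nat_lit 0x1042001), (nat_lit 0x1551001), (nat_lit 0x1041001), (nat_lit 0x1044001), (nat_lit 0x1555001), (nat_lit 0x1043001)], [(nat_lit 0x154e001), (nat_lit 0x1046001), (nat_lit 0x1557001), (nat_lit 0x1047001), (nat_lit 0x1045001), (nat_lit 0x1558001)], [(nat_lit 0x155e001), (nat_lit 0x1048001), (nat_lit 0x1552001), (nat_lit 0x10b7001), (nat_lit 0x155c001), (nat_lit 0x110d001)], [(nat_lit 0x10b3001), (nat_lit 0x155d001), (nat_lit 0x104a001), (nat_lit 0x155f001), (nat_lit 0x1049001), (nat_lit 0x1560001)], [(nat_lit 0x152d001), (nat_lit 0x1559001), (nat_lit 0x1561001), (nat_lit 0x104c001), (nat_lit 0x1112001), (nat_lit 0x104b001)], [(nat_lit 0xfcb001), (nat_lit 0x14c1001), (nat_lit 0xfca001), (nat_lit 0x14c4001), (nat_lit 0xfcc001), (nat_lit 0x14bb001)], [(nat_lit 0xfc7001), (nat_lit 0xfc8001), (nat_lit 0x14b9001), (nat_lit 0xfc6001), (nat_lit 0x14bc001), (nat_lit 0xfc9001)], [(nat_lit 0x14ea001), (nat_lit 0xfea001), (nat_lit 0x14c2001), (nat_lit 0x10f9001), (nat_lit 0x14c3001), (nat_lit 0x10f6001)], [(nat_lit 0xfe8001), (nat_lit 0x14be001), (nat_lit 0x10fd001), (nat_lit 0xfe9001), (nat_lit 0xfe7001), (nat_lit 0x14c0001)], [(nat_lit 0xf81001), (nat_lit 0x1453001), (nat_lit 0xf80001), (nat_lit 0x145d001), (nat_lit 0x125b001), (nat_lit 0x145c001)], [(nat_lit 0xf7d001), (nat_lit 0xf7c001), (nat_lit 0x1459001), (nat_lit 0xf7e001), (nat_lit 0x1458001), (nat_lit 0xf7f001)], [(nat_lit 0x1547001), (nat_lit 0x1035001), (nat_lit 0x1036001), (nat_lit 0x1545001), (nat_lit 0x1034001), (nat_lit 0x12e7001)], [(nat_lit 0x14c5001), (nat_lit 0x1546001), (nat_lit 0x14a4001), (nat_lit 0x103a001), (nat_lit 0x154b001), (nat_lit 0x14a6001)], [(nat_lit 0x14ba001), (nat_lit 0x12e6001), (nat_lit 0x103c001), (nat_lit 0x14a7001), (nat_lit 0x153f001), (nat_lit 0x103b001)], [(nat_lit 0x14bd001), (nat_lit 0x102f001), (nat_lit 0x153e001), (nat_lit 0x1030001), (nat_lit 0x1031001), (nat_lit 0x102e001)], [(nat_lit 0x1037001), (nat_lit 0x14eb001), (nat_lit 0x1038001), (nat_lit 0x1544001), (nat_lit 0x1549001), (nat_lit 0x153b001)], [(nat_lit 0x1543001), (nat_lit 0x1033001), (nat_lit 0x1540001), (nat_lit 0x1032001), (nat_lit 0x1541001), (nat_lit 0x1103001)], [(nat_lit 0x1539001), (nat_lit 0x1029001), (nat_lit 0x102a001), (nat_lit 0x1102001), (nat_lit 0x1536001), (nat_lit 0x102b001)], [(nat_lit 0x10ff001), (nat_lit 0x1542001), (nat_lit 0x1105001), (nat_lit 0x154a001), (nat_lit 0x1039001), (nat_lit 0x154c001)], [(nat_lit 0x10fc001), (nat_lit 0x1537001), (nat_lit 0x102d001), (nat_lit 0x153c001), (nat_lit 0x102c001), (nat_lit 0x153d001)], [(nat_lit 0x1448001), (nat_lit 0xf75001), (nat_lit 0x1452001), (nat_lit 0xf76001), (nat_lit 0x13a2001), (nat_lit 0xf77001)], [(nat_lit 0xf78001), (nat_lit 0x1455001), (nat_lit 0xf79001), (nat_lit 0xf7a001), (nat_lit 0xf7b001), (nat_lit 0x13ab001)], [(nat_lit 0x1433001), (nat_lit 0xf60001), (nat_lit 0xf61001), (nat_lit 0x142e001), (nat_lit 0xf62001), (nat_lit 0x1430001)], [(nat_lit 0x13a4001), (nat_lit 0x142f001), (nat_lit 0x139f001), (nat_lit 0xf63001), (nat_lit 0x1436001), (nat_lit 0x139d001)], [(nat_lit 0x13a6001), (nat_lit 0x1431001), (nat_lit 0xf65001), (nat_lit 0x139c001), (nat_lit 0x1438001), (nat_lit 0xf64001)], [(nat_lit 0x13a9001), (nat_lit 0xf67001), (nat_lit 0x1439001), (nat_lit 0xf68001), (nat_lit 0xf66001), (nat_lit 0xf69001)], [(nat_lit 0xf6f001), (nat_lit 0x1447001), (nat_lit 0xf70001), (nat_lit 0x143f001), (nat_lit 0x1435001), (nat_lit 0x1446001)], [(nat_lit 0x143e001), (nat_lit 0xf6b001), (nat_lit 0x143b001), (nat_lit 0xf6a001), (nat_lit 0x143c001), (nat_lit 0xf77001)], [(nat_lit 0x1443001), (nat_lit 0xf6d001), (nat_lit 0xf6e001), (nat_lit 0xf76001), (nat_lit 0x1440001), (nat_lit 0xf6c001)], [(nat_lit 0xf73001), (nat_lit 0x143d001), (nat_lit 0xf79001), (nat_lit 0x1437001), (nat_lit 0xf71001), (nat_lit 0x144b001)], [(nat_lit 0xf73001), (nat_lit 0x1441001), (nat_lit 0xf74001), (nat_lit 0x144f001), (nat_lit 0xf72001), (nat_lit 0x143a001)], [(nat_lit 0x18d9001), (nat_lit 0x12f5001), (nat_lit 0x12f6001), (nat_lit 0x18d4001), (nat_lit 0x1531001), (nat_lit 0x12f7001)], [(nat_lit 0x14e3001), (nat_lit 0x18d5001), (nat_lit 0x18dd001), (nat_lit 0x12f8001), (nat_lit 0x18e1001), (nat_lit 0x18e3001)], [(nat_lit 0x14b6001), (nat_lit 0x12fa001), (nat_lit 0x12fb001), (nat_lit 0x18e7001), (nat_lit 0x18e8001), (nat_lit 0x12f9001)], [(nat_lit 0x149c001), (nat_lit 0x12fd001), (nat_lit 0x18ea001), (nat_lit 0x1457001), (nat_lit 0x12fc001), (nat_lit 0x1535001)], [(nat_lit 0x1972001), (nat_lit 0x135e001), (nat_lit 0x1530001), (nat_lit 0x196b001), (nat_lit 0x135d001), (nat_lit 0x196e001)], [(nat_lit 0x1364001), (nat_lit 0x196c001), (nat_lit 0x1975001), (nat_lit 0x1363001), (nat_lit 0x1365001), (nat_lit 0x197a001)], [(nat_lit 0x1367001), (nat_lit 0x196f001), (nat_lit 0x1368001), (nat_lit 0x197d001), (nat_lit 0x1369001), (nat_lit 0x1366001)], [(nat_lit 0x135a001), (nat_lit 0x1534001), (nat_lit 0x135b001), (nat_lit 0x13aa001), (nat_lit 0x135c001), (nat_lit 0x1359001)], [(nat_lit 0x135f001), (nat_lit 0x1360001), (nat_lit 0x18da001), (nat_lit 0x1361001), (nat_lit 0x1974001), (nat_lit 0x1362001)], [(nat_lit 0x14cc001), (nat_lit 0xfda001), (nat_lit 0x14df001), (nat_lit 0x14dd001), (nat_lit 0xfdb001), (nat_lit 0x14b4001)], [(nat_lit 0xfd6001), (nat_lit 0x14db001), (nat_lit 0xfd7001), (nat_lit 0xfd8001), (nat_lit 0x14da001), (nat_lit 0xfd9001)], [(nat_lit 0xfbe001), (nat_lit 0x14b2001), (nat_lit 0xfbf001), (nat_lit 0xfc0001), (nat_lit 0x1499001), (nat_lit 0xfc1001)], [(nat_lit 0xfae001), (nat_lit 0x149b001), (nat_lit 0x1498001), (nat_lit 0xfaf001), (nat_lit 0xfb0001), (nat_lit 0xfb1001)], [(nat_lit 0x1479001), (nat_lit 0xf96001), (nat_lit 0xf97001), (nat_lit 0x1476001), (nat_lit 0xf98001), (nat_lit 0x1475001)], [(nat_lit 0xf9a001), (nat_lit 0x1477001), (nat_lit 0xf9c001), (nat_lit 0xf99001), (nat_lit 0x147d001), (nat_lit 0xf9b001)], [(nat_lit 0xf93001), (nat_lit 0x1472001), (nat_lit 0xf92001), (nat_lit 0xf95001), (nat_lit 0x1470001), (nat_lit 0xf94001)], [(nat_lit 0xf8e001), (nat_lit 0xf8f001), (nat_lit 0x146e001), (nat_lit 0xf8d001), (nat_lit 0xf90001), (nat_lit 0xf91001)], [(nat_lit 0xfcf001), (nat_lit 0x14cb001), (nat_lit 0xfd0001), (nat_lit 0x14ca001), (nat_lit 0x147c001), (nat_lit 0x14ae001)], [(nat_lit 0x14c9001), (nat_lit 0xfce001), (nat_lit 0x14c6001), (nat_lit 0xfcd001), (nat_lit 0x14c7001), (nat_lit 0x14ab001)], [(nat_lit 0x14ac001), (nat_lit 0xfb7001), (nat_lit 0xfb8001), (nat_lit 0x14a9001), (nat_lit 0x1495001), (nat_lit 0xfb9001)], [(nat_lit 0xfd4001), (nat_lit 0x14ce001), (nat_lit 0xfd1001), (nat_lit 0xfd2001), (nat_lit 0x14d2001), (nat_lit 0xfd3001)], [(nat_lit 0x14d7001), (nat_lit 0x14c8001), (nat_lit 0x14d4001), (nat_lit 0x1480001), (nat_lit 0xfd5001), (nat_lit 0x14d6001)], [(nat_lit 0xfbd001), (nat_lit 0x14aa001), (nat_lit 0xfbc001), (nat_lit 0xfba001), (nat_lit 0x14af001), (nat_lit 0xfbb001)], [(nat_lit 0x1497001), (nat_lit 0x1493001), (nat_lit 0xfac001), (nat_lit 0x1496001), (nat_lit 0xfad001), (nat_lit 0x1471001)], [(nat_lit 0x19bf001), (nat_lit 0x13a1001), (nat_lit 0x180f001), (nat_lit 0x19bb001), (nat_lit 0x13a2001), (nat_lit 0x19bd001)], [(nat_lit 0x13a4001), (nat_lit 0x19bc001), (nat_lit 0x197c001), (nat_lit 0x13a3001), (nat_lit 0x1451001), (nat_lit 0x1979001)], [(nat_lit 0x13a6001), (nat_lit 0x19be001), (nat_lit 0x13a7001), (nat_lit 0x1977001), (nat_lit 0x144e001), (nat_lit 0x13a5001)], [(nat_lit 0x13a9001), (nat_lit 0x180b001), (nat_lit 0x144d001), (nat_lit 0x13aa001), (nat_lit 0x13a8001), (nat_lit 0x13ab001)], [(nat_lit 0x1392001), (nat_lit 0x1973001), (nat_lit 0x147b001), (nat_lit 0x19ad001), (nat_lit 0x1393001), (nat_lit 0x19af001)], [(nat_lit 0x19ac001), (nat_lit 0x138f001), (nat_lit 0x19a8001), (nat_lit 0x138e001), (nat_lit 0x19a4001), (nat_lit 0x19a9001)], [(nat_lit 0x19ae001), (nat_lit 0x1391001), (nat_lit 0x1473001), (nat_lit 0x19ab001), (nat_lit 0x1991001), (nat_lit 0x1390001)], [(nat_lit 0x1976001), (nat_lit 0x19b6001), (nat_lit 0x139b001), (nat_lit 0x139c001), (nat_lit 0x19b2001), (nat_lit 0x139d001)], [(nat_lit 0x1395001), (nat_lit 0x19a3001), (nat_lit 0x19b0001), (nat_lit 0x1394001), (nat_lit 0x1396001), (nat_lit 0x19b3001)], [(nat_lit 0x197b001), (nat_lit 0x19aa001), (nat_lit 0x139f001), (nat_lit 0x13a0001), (nat_lit 0x19b9001), (nat_lit 0x139e001)], [(nat_lit 0x1382001), (nat_lit 0x1990001), (nat_lit 0x1383001), (nat_lit 0x199a001), (nat_lit 0x1384001), (nat_lit 0x1381001)], [(nat_lit 0x138a001), (nat_lit 0x138b001), (nat_lit 0x1969001), (nat_lit 0x138c001), (nat_lit 0x19a7001), (nat_lit 0x138d001)], [(nat_lit 0x137a001), (nat_lit 0x137b001), (nat_lit 0x14ad001), (nat_lit 0x137c001), (nat_lit 0x1994001), (nat_lit 0x137d001)], [(nat_lit 0x1968001), (nat_lit 0x1386001), (nat_lit 0x1385001), (nat_lit 0x199b001), (nat_lit 0x199e001), (nat_lit 0x1387001)], [(nat_lit 0x19a5001), (nat_lit 0x1389001), (nat_lit 0x19a0001), (nat_lit 0x19a2001), (nat_lit 0x1388001), (nat_lit 0x19a1001)], [(nat_lit 0x1992001), (nat_lit 0x1379001), (nat_lit 0x1494001), (nat_lit 0x198c001), (nat_lit 0x1378001), (nat_lit 0x198f001)], [(nat_lit 0x1398001), (nat_lit 0x199f001), (nat_lit 0x1399001), (nat_lit 0x19b5001), (nat_lit 0x139a001), (nat_lit 0x1397001)], [(nat_lit 0x137f001), (nat_lit 0x198d001), (nat_lit 0x1995001), (nat_lit 0x137e001), (nat_lit 0x1380001), (nat_lit 0x1998001)], [(nat_lit 0xfe3001), (nat_lit 0xfe2001), (nat_lit 0xfe4001), (nat_lit 0x14d0001), (nat_lit 0xfe5001), (nat_lit 0xfe6001)], [(nat_lit 0x14cf001), (nat_lit 0xff3001), (nat_lit 0x14f8001), (nat_lit 0xff4001), (nat_lit 0x14f7001), (nat_lit 0x14d1001)], [(nat_lit 0xff0001), (nat_lit 0x14f5001), (nat_lit 0x14b1001), (nat_lit 0xff1001), (nat_lit 0xff2001), (nat_lit 0x14f4001)], [(nat_lit 0x14d3001), (nat_lit 0xfe0001), (nat_lit 0x14d8001), (nat_lit 0xfe1001), (nat_lit 0xfdf001), (nat_lit 0x14e6001)], [(nat_lit 0x14ee001), (nat_lit 0xfeb001), (nat_lit 0x14dc001), (nat_lit 0x14b3001), (nat_lit 0x14ec001), (nat_lit 0x14de001)], [(nat_lit 0x14b0001), (nat_lit 0x14ed001), (nat_lit 0xfed001), (nat_lit 0x14ef001), (nat_lit 0xfec001), (nat_lit 0x14f0001)], [(nat_lit 0x14f2001), (nat_lit 0x14e7001), (nat_lit 0x14f1001), (nat_lit 0xfef001), (nat_lit 0x14e9001), (nat_lit 0xfee001)], [(nat_lit 0x13ae001), (nat_lit 0x13af001), (nat_lit 0x13b0001), (nat_lit 0x19c5001), (nat_lit 0x13b1001), (nat_lit 0x196a001)], [(nat_lit 0x19c3001), (nat_lit 0x13ad001), (nat_lit 0x19c2001), (nat_lit 0x13ac001), (nat_lit 0x198e001), (nat_lit 0x199d001)], [(nat_lit 0x13b3001), (nat_lit 0x199c001), (nat_lit 0x13b2001), (nat_lit 0x13b4001), (nat_lit 0x1997001), (nat_lit 0x13b5001)], [(nat_lit 0x13ba001), (nat_lit 0x19c4001), (nat_lit 0x1918001), (nat_lit 0x13bb001), (nat_lit 0x19cd001), (nat_lit 0x195f001)], [(nat_lit 0x134c001), (nat_lit 0x1967001), (nat_lit 0x134d001), (nat_lit 0x195e001), (nat_lit 0x1965001), (nat_lit 0x134e001)], [(nat_lit 0x1919001), (nat_lit 0x1959001), (nat_lit 0x13b6001), (nat_lit 0x1921001), (nat_lit 0x19c6001), (nat_lit 0x195a001)], [(nat_lit 0x19cb001), (nat_lit 0x13b8001), (nat_lit 0x19c7001), (nat_lit 0x13b9001), (nat_lit 0x13b7001), (nat_lit 0x19c8001)], [(nat_lit 0x195d001), (nat_lit 0x1346001), (nat_lit 0x1958001), (nat_lit 0x1345001), (nat_lit 0x195b001), (nat_lit 0x1347001)], [(nat_lit 0x1963001), (nat_lit 0x1349001), (nat_lit 0x134a001), (nat_lit 0x1960001), (nat_lit 0x1348001), (nat_lit 0x134b001)], [(nat_lit 0x1996001), (nat_lit 0x195c001), (nat_lit 0x13bd001), (nat_lit 0x19ce001), (nat_lit 0x13bc001), (nat_lit 0x19d0001)], [(nat_lit 0x1999001), (nat_lit 0x19c9001), (nat_lit 0x19d1001), (nat_lit 0x13bf001), (nat_lit 0x19d2001), (nat_lit 0x13be001)], [(nat_lit 0x19b4001), (nat_lit 0x1961001), (nat_lit 0x19d3001), (nat_lit 0x13c0001), (nat_lit 0x19cf001), (nat_lit 0x13c1001)], [(nat_lit 0x13c5001), (nat_lit 0x19df001), (nat_lit 0x13c6001), (nat_lit 0x18ed001), (nat_lit 0x19de001), (nat_lit 0x18dc001)], [(nat_lit 0x13c9001), (nat_lit 0x1993001), (nat_lit 0x19dd001), (nat_lit 0x19cc001), (nat_lit 0x13ca001), (nat_lit 0x19e1001)], [(nat_lit 0x13cd001), (nat_lit 0x19a6001), (nat_lit 0x13ce001), (nat_lit 0x19e4001), (nat_lit 0x13cf001), (nat_lit 0x1966001)], [(nat_lit 0x18ef001), (nat_lit 0x18e5001), (nat_lit 0x18f4001), (nat_lit 0x13c2001), (nat_lit 0x19d6001), (nat_lit 0x18d6001)], [(nat_lit 0x19dc001), (nat_lit 0x18e9001), (nat_lit 0x13c4001), (nat_lit 0x19d7001), (nat_lit 0x13c3001), (nat_lit 0x19d8001)], [(nat_lit 0x19e0001), (nat_lit 0x13c8001), (nat_lit 0x19da001), (nat_lit 0x19ca001), (nat_lit 0x1971001), (nat_lit 0x13c7001)], [(nat_lit 0x19e3001), (nat_lit 0x13cc001), (nat_lit 0x19e2001), (nat_lit 0x13cb001), (nat_lit 0x196d001), (nat_lit 0x1962001)], [(nat_lit 0x19b1001), (nat_lit 0x19e5001), (nat_lit 0x13d0001), (nat_lit 0x19e6001), (nat_lit 0x1978001), (nat_lit 0x19d4001)], [(nat_lit 0xf3d001), (nat_lit 0xf3c001), (nat_lit 0x140f001), (nat_lit 0xf3e001), (nat_lit 0xf3f001), (nat_lit 0x140e001)], [(nat_lit 0xf41001), (nat_lit 0xf40001), (nat_lit 0xf42001), (nat_lit 0x140d001), (nat_lit 0xf43001), (nat_lit 0xf44001)], [(nat_lit 0x11c0001), (nat_lit 0x1426001), (nat_lit 0xf5b001), (nat_lit 0x142d001), (nat_lit 0x1411001), (nat_lit 0x142c001)], [(nat_lit 0x11b3001), (nat_lit 0xf58001), (nat_lit 0x142a001), (nat_lit 0xf59001), (nat_lit 0x1429001), (nat_lit 0xf5a001)], [(nat_lit 0xf34001), (nat_lit 0x1404001), (nat_lit 0xf35001), (nat_lit 0x13fa001), (nat_lit 0xf36001), (nat_lit 0x1403001)], [(nat_lit 0xf39001), (nat_lit 0x140b001), (nat_lit 0x1401001), (nat_lit 0xf3a001), (nat_lit 0x1409001), (nat_lit 0xf3b001)], [(nat_lit 0x1422001), (nat_lit 0xf52001), (nat_lit 0x1425001), (nat_lit 0xf53001), (nat_lit 0x1405001), (nat_lit 0xf54001)], [(nat_lit 0xf55001), (nat_lit 0x1428001), (nat_lit 0xf56001), (nat_lit 0x113a001), (nat_lit 0xf57001), (nat_lit 0x140a001)], [(nat_lit 0xf3d001), (nat_lit 0xf24001), (nat_lit 0x13da001), (nat_lit 0xf23001), (nat_lit 0xf25001), (nat_lit 0x13dc001)], [(nat_lit 0xf41001), (nat_lit 0xf27001), (nat_lit 0xf42001), (nat_lit 0x13de001), (nat_lit 0xf28001), (nat_lit 0xf26001)], [(nat_lit 0xf2a001), (nat_lit 0x13df001), (nat_lit 0xf29001), (nat_lit 0x13e1001), (nat_lit 0xf2b001), (nat_lit 0x13e3001)], [(nat_lit 0xf2d001), (nat_lit 0x13dd001), (nat_lit 0x13e5001), (nat_lit 0xf2e001), (nat_lit 0x13e6001), (nat_lit 0xf2c001)], [(nat_lit 0x13ee001), (nat_lit 0xf2f001), (nat_lit 0x117f001), (nat_lit 0x13ea001), (nat_lit 0xf30001), (nat_lit 0x13ec001)], [(nat_lit 0x13f9001), (nat_lit 0x13eb001), (nat_lit 0x13f0001), (nat_lit 0xf31001), (nat_lit 0x13f3001), (nat_lit 0x13f6001)], [(nat_lit 0x1400001), (nat_lit 0x13ed001), (nat_lit 0xf33001), (nat_lit 0x13f8001), (nat_lit 0x13fc001), (nat_lit 0xf32001)], [(nat_lit 0x1406001), (nat_lit 0x116e001), (nat_lit 0x13fd001), (nat_lit 0x1121001), (nat_lit 0xf37001), (nat_lit 0xf38001)], [(nat_lit 0xf4b001), (nat_lit 0x1421001), (nat_lit 0x11b9001), (nat_lit 0x1419001), (nat_lit 0x13ef001), (nat_lit 0x1420001)], [(nat_lit 0x1417001), (nat_lit 0xf46001), (nat_lit 0x1412001), (nat_lit 0xf45001), (nat_lit 0x1415001), (nat_lit 0xf47001)], [(nat_lit 0x141d001), (nat_lit 0xf49001), (nat_lit 0x11a8001), (nat_lit 0xf4a001), (nat_lit 0x141b001), (nat_lit 0xf48001)], [(nat_lit 0xf4d001), (nat_lit 0x1416001), (nat_lit 0xf4e001), (nat_lit 0x13f4001), (nat_lit 0xf4c001), (nat_lit 0x12bf001)], [(nat_lit 0xf50001), (nat_lit 0x141c001), (nat_lit 0xf51001), (nat_lit 0x12bb001), (nat_lit 0xf4f001), (nat_lit 0x13fe001)], [(nat_lit 0xf5d001), (nat_lit 0x1205001), (nat_lit 0xf5e001), (nat_lit 0x1206001), (nat_lit 0xf5f001), (nat_lit 0xf5c001)], [(nat_lit 0x148f001), (nat_lit 0xfab001), (nat_lit 0xfaa001), (nat_lit 0x1491001), (nat_lit 0x12aa001), (nat_lit 0x1414001)], [(nat_lit 0x145e001), (nat_lit 0x1492001), (nat_lit 0x14a5001), (nat_lit 0xfb6001), (nat_lit 0x14a8001), (nat_lit 0x14a3001)], [(nat_lit 0x145a001), (nat_lit 0x1413001), (nat_lit 0xfb4001), (nat_lit 0x14a2001), (nat_lit 0x14a1001), (nat_lit 0xfb5001)], [(nat_lit 0x1456001), (nat_lit 0xfb2001), (nat_lit 0x14a0001), (nat_lit 0x149d001), (nat_lit 0xfb3001), (nat_lit 0x12b1001)], [(nat_lit 0xfa7001), (nat_lit 0xfa6001), (nat_lit 0x148e001), (nat_lit 0x141f001), (nat_lit 0x12b8001), (nat_lit 0x141a001)], [(nat_lit 0xfff001), (nat_lit 0xffe001), (nat_lit 0x1509001), (nat_lit 0x1000001), (nat_lit 0x1508001), (nat_lit 0x1001001)], [(nat_lit 0x150a001), (nat_lit 0x101b001), (nat_lit 0x101a001), (nat_lit 0x1525001), (nat_lit 0x1524001), (nat_lit 0x101c001)], [(nat_lit 0x1507001), (nat_lit 0x1018001), (nat_lit 0x1522001), (nat_lit 0x14f6001), (nat_lit 0x1019001), (nat_lit 0x1521001)], [(nat_lit 0x1014001), (nat_lit 0x151f001), (nat_lit 0x1015001), (nat_lit 0x14f3001), (nat_lit 0x1016001), (nat_lit 0x1017001)], [(nat_lit 0xf86001), (nat_lit 0x12b7001), (nat_lit 0x1434001), (nat_lit 0x1464001), (nat_lit 0xf87001), (nat_lit 0x1469001)], [(nat_lit 0x1463001), (nat_lit 0xf83001), (nat_lit 0x145f001), (nat_lit 0xf82001), (nat_lit 0x1460001), (nat_lit 0x1219001)], [(nat_lit 0x1468001), (nat_lit 0xf85001), (nat_lit 0x1432001), (nat_lit 0x1218001), (nat_lit 0x1465001), (nat_lit 0xf84001)], [(nat_lit 0x12ba001), (nat_lit 0x1461001), (nat_lit 0x121b001), (nat_lit 0xf89001), (nat_lit 0xf88001), (nat_lit 0x146a001)], [(nat_lit 0x12bd001), (nat_lit 0x1466001), (nat_lit 0xf8b001), (nat_lit 0x146c001), (nat_lit 0xf8a001), (nat_lit 0xf8c001)], [(nat_lit 0xfa0001), (nat_lit 0x141e001), (nat_lit 0x1485001), (nat_lit 0xfa1001), (nat_lit 0x1489001), (nat_lit 0x1424001)], [(nat_lit 0xfa4001), (nat_lit 0x1418001), (nat_lit 0x1445001), (nat_lit 0x1423001), (nat_lit 0x148d001), (nat_lit 0xfa5001)], [(nat_lit 0x1484001), (nat_lit 0x142b001), (nat_lit 0xf9d001), (nat_lit 0x1481001), (nat_lit 0x1482001), (nat_lit 0x1427001)], [(nat_lit 0x1488001), (nat_lit 0xf9f001), (nat_lit 0x1483001), (nat_lit 0x1462001), (nat_lit 0xf9e001), (nat_lit 0x1486001)], [(nat_lit 0x148c001), (nat_lit 0xfa3001), (nat_lit 0x1442001), (nat_lit 0x148a001), (nat_lit 0xfa2001), (nat_lit 0x1467001)], [(nat_lit 0x13ff001), (nat_lit 0x1487001), (nat_lit 0x1407001), (nat_lit 0x146b001), (nat_lit 0x1402001), (nat_lit 0xfa8001)], [(nat_lit 0x13f5001), (nat_lit 0x148b001), (nat_lit 0x1490001), (nat_lit 0xfa9001), (nat_lit 0x13fb001), (nat_lit 0x146d001)], [(nat_lit 0xffc001), (nat_lit 0x1506001), (nat_lit 0x112c001), (nat_lit 0x14d5001), (nat_lit 0xffd001), (nat_lit 0x1505001)], [(nat_lit 0x14fc001), (nat_lit 0xff5001), (nat_lit 0xff6001), (nat_lit 0x1138001), (nat_lit 0x14f9001), (nat_lit 0xff7001)], [(nat_lit 0x112b001), (nat_lit 0x14fa001), (nat_lit 0xff9001), (nat_lit 0x14ff001), (nat_lit 0xff8001), (nat_lit 0x1501001)], [(nat_lit 0x1503001), (nat_lit 0xffb001), (nat_lit 0x1502001), (nat_lit 0x14e8001), (nat_lit 0x1207001), (nat_lit 0xffa001)], [(nat_lit 0x1009001), (nat_lit 0x100a001), (nat_lit 0x14fd001), (nat_lit 0x100b001), (nat_lit 0x1518001), (nat_lit 0x100c001)], [(nat_lit 0x1516001), (nat_lit 0x1008001), (nat_lit 0x14fb001), (nat_lit 0x1510001), (nat_lit 0x1007001), (nat_lit 0x1513001)], [(nat_lit 0x100e001), (nat_lit 0x1511001), (nat_lit 0x1519001), (nat_lit 0x100d001), (nat_lit 0x100f001), (nat_lit 0x151c001)], [(nat_lit 0x1011001), (nat_lit 0x1514001), (nat_lit 0x1012001), (nat_lit 0x151e001), (nat_lit 0x1013001), (nat_lit 0x1010001)], [(nat_lit 0x106e001), (nat_lit 0x106d001), (nat_lit 0x11ed001), (nat_lit 0x1589001), (nat_lit 0x106f001), (nat_lit 0x158e001)], [(nat_lit 0x1588001), (nat_lit 0x1099001), (nat_lit 0x15c0001), (nat_lit 0x109a001), (nat_lit 0x15a4001), (nat_lit 0x15bf001)], [(nat_lit 0x158c001), (nat_lit 0x109b001), (nat_lit 0x11f9001), (nat_lit 0x15be001), (nat_lit 0x158d001), (nat_lit 0x109c001)], [(nat_lit 0x1090001), (nat_lit 0x15b7001), (nat_lit 0x1091001), (nat_lit 0x1092001), (nat_lit 0x159b001), (nat_lit 0x1093001)], [(nat_lit 0x1095001), (nat_lit 0x15bd001), (nat_lit 0x1096001), (nat_lit 0x1097001), (nat_lit 0x15bc001), (nat_lit 0x1098001)], [(nat_lit 0x1069001), (nat_lit 0x158b001), (nat_lit 0x106a001), (nat_lit 0x1585001), (nat_lit 0x106b001), (nat_lit 0x106c001)], [(nat_lit 0x1066001), (nat_lit 0x1587001), (nat_lit 0x157f001), (nat_lit 0x1067001), (nat_lit 0x1068001), (nat_lit 0x1586001)], [(nat_lit 0x10a9001), (nat_lit 0x15d3001), (nat_lit 0x10aa001), (nat_lit 0x15d1001), (nat_lit 0x10ab001), (nat_lit 0x15c6001)], [(nat_lit 0x15e0001), (nat_lit 0x10b5001), (nat_lit 0x10b6001), (nat_lit 0x10b7001), (nat_lit 0x15d5001), (nat_lit 0x10b8001)], [(nat_lit 0x105a001), (nat_lit 0x105b001), (nat_lit 0x1572001), (nat_lit 0x1059001), (nat_lit 0x105c001), (nat_lit 0x1575001)], [(nat_lit 0x105e001), (nat_lit 0x105f001), (nat_lit 0x1060001), (nat_lit 0x1578001), (nat_lit 0x1061001), (nat_lit 0x105d001)], [(nat_lit 0x157e001), (nat_lit 0x1579001), (nat_lit 0x1062001), (nat_lit 0x157b001), (nat_lit 0x1574001), (nat_lit 0x157c001)], [(nat_lit 0x1584001), (nat_lit 0x1064001), (nat_lit 0x157d001), (nat_lit 0x1065001), (nat_lit 0x1581001), (nat_lit 0x1063001)], [(nat_lit 0x1599001), (nat_lit 0x1594001), (nat_lit 0x1078001), (nat_lit 0x1596001), (nat_lit 0x1079001), (nat_lit 0x1597001)], [(nat_lit 0x159e001), (nat_lit 0x1577001), (nat_lit 0x1598001), (nat_lit 0x107b001), (nat_lit 0x159c001), (nat_lit 0x107a001)], [(nat_lit 0x15b0001), (nat_lit 0x1087001), (nat_lit 0x157a001), (nat_lit 0x15aa001), (nat_lit 0x1595001), (nat_lit 0x15ad001)], [(nat_lit 0x108b001), (nat_lit 0x15ab001), (nat_lit 0x1089001), (nat_lit 0x1088001), (nat_lit 0x15b1001), (nat_lit 0x108a001)], [(nat_lit 0x108f001), (nat_lit 0x15ae001), (nat_lit 0x108d001), (nat_lit 0x108e001), (nat_lit 0x15b4001), (nat_lit 0x108c001)], [(nat_lit 0x15ba001), (nat_lit 0x1582001), (nat_lit 0x15b6001), (nat_lit 0x1583001), (nat_lit 0x1094001), (nat_lit 0x159d001)], [(nat_lit 0x15c9001), (nat_lit 0x10a5001), (nat_lit 0x10a6001), (nat_lit 0x15c7001), (nat_lit 0x10a7001), (nat_lit 0x12d8001)], [(nat_lit 0x15d0001), (nat_lit 0x15c8001), (nat_lit 0x15cc001), (nat_lit 0x10a8001), (nat_lit 0x15cd001), (nat_lit 0x15c2001)], [(nat_lit 0x10af001), (nat_lit 0x15df001), (nat_lit 0x10b0001), (nat_lit 0x15dd001), (nat_lit 0x15cb001), (nat_lit 0x10b1001)], [(nat_lit 0x15db001), (nat_lit 0x10ad001), (nat_lit 0x15d6001), (nat_lit 0x10ac001), (nat_lit 0x15d9001), (nat_lit 0x10ae001)], [(nat_lit 0x10b3001), (nat_lit 0x15da001), (nat_lit 0x10b4001), (nat_lit 0x15ce001), (nat_lit 0x10b2001), (nat_lit 0x15e4001)], [(nat_lit 0x10b9001), (nat_lit 0x121d001), (nat_lit 0x15ca001), (nat_lit 0x12df001), (nat_lit 0x10ba001), (nat_lit 0x12dc001)], [(nat_lit 0x1603001), (nat_lit 0x10ef001), (nat_lit 0x1637001), (nat_lit 0x10f0001), (nat_lit 0x10f1001), (nat_lit 0x1636001)], [(nat_lit 0x1607001), (nat_lit 0x10f2001), (nat_lit 0x1592001), (nat_lit 0x1635001), (nat_lit 0x1593001), (nat_lit 0x10f3001)], [(nat_lit 0x160e001), (nat_lit 0x1654001), (nat_lit 0x110a001), (nat_lit 0x165d001), (nat_lit 0x1638001), (nat_lit 0x165c001)], [(nat_lit 0x11cd001), (nat_lit 0x1107001), (nat_lit 0x165a001), (nat_lit 0x1108001), (nat_lit 0x1659001), (nat_lit 0x1109001)], [(nat_lit 0x10e7001), (nat_lit 0x162e001), (nat_lit 0x10e8001), (nat_lit 0x1624001), (nat_lit 0x10e9001), (nat_lit 0x162d001)], [(nat_lit 0x10ec001), (nat_lit 0x1634001), (nat_lit 0x162b001), (nat_lit 0x10ed001), (nat_lit 0x1632001), (nat_lit 0x10ee001)], [(nat_lit 0x1649001), (nat_lit 0x1101001), (nat_lit 0x1653001), (nat_lit 0x1102001), (nat_lit 0x162f001), (nat_lit 0x1103001)], [(nat_lit 0x1104001), (nat_lit 0x1656001), (nat_lit 0x1105001), (nat_lit 0x11e8001), (nat_lit 0x1106001), (nat_lit 0x1633001)], [(nat_lit 0x12a6001), (nat_lit 0x1116001), (nat_lit 0x1671001), (nat_lit 0x1117001), (nat_lit 0x1670001), (nat_lit 0x1118001)], [(nat_lit 0x1113001), (nat_lit 0x166f001), (nat_lit 0x1114001), (nat_lit 0x12a3001), (nat_lit 0x1115001), (nat_lit 0x166e001)], [(nat_lit 0x15a2001), (nat_lit 0x10dc001), (nat_lit 0x160f001), (nat_lit 0x10db001), (nat_lit 0x158a001), (nat_lit 0x1610001)], [(nat_lit 0x15a6001), (nat_lit 0x10de001), (nat_lit 0x15ef001), (nat_lit 0x1612001), (nat_lit 0x15a8001), (nat_lit 0x10dd001)], [(nat_lit 0x1573001), (nat_lit 0x1613001), (nat_lit 0x10df001), (nat_lit 0x1d22001), (nat_lit 0x1580001), (nat_lit 0x1614001)], [(nat_lit 0x1576001), (nat_lit 0x1611001), (nat_lit 0x1615001), (nat_lit 0x10e1001), (nat_lit 0x1616001), (nat_lit 0x10e0001)], [(nat_lit 0x161b001), (nat_lit 0x10e2001), (nat_lit 0x15f8001), (nat_lit 0x1617001), (nat_lit 0x10e3001), (nat_lit 0x1619001)], [(nat_lit 0x1623001), (nat_lit 0x1618001), (nat_lit 0x161d001), (nat_lit 0x10e4001), (nat_lit 0x161e001), (nat_lit 0x1621001)], [(nat_lit 0x162a001), (nat_lit 0x161a001), (nat_lit 0x10e6001), (nat_lit 0x1622001), (nat_lit 0x1626001), (nat_lit 0x10e5001)], [(nat_lit 0x1630001), (nat_lit 0x11c9001), (nat_lit 0x1627001), (nat_lit 0x11e5001), (nat_lit 0x10ea001), (nat_lit 0x10eb001)], [(nat_lit 0x10fa001), (nat_lit 0x1648001), (nat_lit 0x160c001), (nat_lit 0x1640001), (nat_lit 0x161c001), (nat_lit 0x1647001)], [(nat_lit 0x163e001), (nat_lit 0x10f5001), (nat_lit 0x1639001), (nat_lit 0x10f4001), (nat_lit 0x163c001), (nat_lit 0x10f6001)], [(nat_lit 0x1644001), (nat_lit 0x10f8001), (nat_lit 0x11c4001), (nat_lit 0x10f9001), (nat_lit 0x1642001), (nat_lit 0x10f7001)], [(nat_lit 0x10fc001), (nat_lit 0x163d001), (nat_lit 0x10fd001), (nat_lit 0x161f001), (nat_lit 0x10fb001), (nat_lit 0x164c001)], [(nat_lit 0x10ff001), (nat_lit 0x1643001), (nat_lit 0x1100001), (nat_lit 0x1650001), (nat_lit 0x10fe001), (nat_lit 0x1628001)], [(nat_lit 0x1660001), (nat_lit 0x110b001), (nat_lit 0x129c001), (nat_lit 0x110c001), (nat_lit 0x165e001), (nat_lit 0x110d001)], [(nat_lit 0x110f001), (nat_lit 0x165f001), (nat_lit 0x1110001), (nat_lit 0x1664001), (nat_lit 0x110e001), (nat_lit 0x1667001)], [(nat_lit 0x166b001), (nat_lit 0x12a0001), (nat_lit 0x1669001), (nat_lit 0x12a1001), (nat_lit 0x1112001), (nat_lit 0x1111001)], [(nat_lit 0x1141001), (nat_lit 0x169f001), (nat_lit 0x1140001), (nat_lit 0x16a0001), (nat_lit 0x1143001), (nat_lit 0x16a7001)], [(nat_lit 0x113d001), (nat_lit 0x113c001), (nat_lit 0x16a5001), (nat_lit 0x113e001), (nat_lit 0x16a4001), (nat_lit 0x113f001)], [(nat_lit 0x117a001), (nat_lit 0x16eb001), (nat_lit 0x1179001), (nat_lit 0x16f7001), (nat_lit 0x117b001), (nat_lit 0x16f6001)], [(nat_lit 0x1176001), (nat_lit 0x1175001), (nat_lit 0x16f4001), (nat_lit 0x1177001), (nat_lit 0x16f2001), (nat_lit 0x1178001)], [(nat_lit 0x1711001), (nat_lit 0x119a001), (nat_lit 0x1199001), (nat_lit 0x1713001), (nat_lit 0x16ec001), (nat_lit 0x119b001)], [(nat_lit 0x169e001), (nat_lit 0x1712001), (nat_lit 0x1695001), (nat_lit 0x11a6001), (nat_lit 0x1729001), (nat_lit 0x1728001)], [(nat_lit 0x16a6001), (nat_lit 0x11a4001), (nat_lit 0x11a3001), (nat_lit 0x1726001), (nat_lit 0x1725001), (nat_lit 0x11a5001)], [(nat_lit 0x16a2001), (nat_lit 0x11a1001), (nat_lit 0x1723001), (nat_lit 0x1721001), (nat_lit 0x11a2001), (nat_lit 0x16f3001)], [(nat_lit 0x11b3001), (nat_lit 0x11b2001), (nat_lit 0x1735001), (nat_lit 0x11b4001), (nat_lit 0x1722001), (nat_lit 0x11b5001)], [(nat_lit 0x11c0001), (nat_lit 0x1746001), (nat_lit 0x11bf001), (nat_lit 0x1747001), (nat_lit 0x13db001), (nat_lit 0x1737001)], [(nat_lit 0x16d4001), (nat_lit 0x116b001), (nat_lit 0x16ea001), (nat_lit 0x16e2001), (nat_lit 0x116c001), (nat_lit 0x16e9001)], [(nat_lit 0x1160001), (nat_lit 0x16e1001), (nat_lit 0x16be001), (nat_lit 0x1161001), (nat_lit 0x1162001), (nat_lit 0x16bb001)], [(nat_lit 0x1167001), (nat_lit 0x16e7001), (nat_lit 0x1168001), (nat_lit 0x16ba001), (nat_lit 0x1169001), (nat_lit 0x116a001)], [(nat_lit 0x1171001), (nat_lit 0x16f0001), (nat_lit 0x1172001), (nat_lit 0x13e8001), (nat_lit 0x1173001), (nat_lit 0x1174001)], [(nat_lit 0x118f001), (nat_lit 0x118e001), (nat_lit 0x1710001), (nat_lit 0x1190001), (nat_lit 0x16d5001), (nat_lit 0x1191001)], [(nat_lit 0x119e001), (nat_lit 0x171f001), (nat_lit 0x171d001), (nat_lit 0x119f001), (nat_lit 0x11a0001), (nat_lit 0x13e9001)], [(nat_lit 0x11ae001), (nat_lit 0x1732001), (nat_lit 0x11af001), (nat_lit 0x11b0001), (nat_lit 0x171e001), (nat_lit 0x11b1001)], [(nat_lit 0x1740001), (nat_lit 0x11bd001), (nat_lit 0x1745001), (nat_lit 0x11be001), (nat_lit 0x13e0001), (nat_lit 0x1734001)], [(nat_lit 0x11cd001), (nat_lit 0x11cc001), (nat_lit 0x1753001), (nat_lit 0x11ce001), (nat_lit 0x1512001), (nat_lit 0x11cf001)], [(nat_lit 0x11ad001), (nat_lit 0x172d001), (nat_lit 0x11ab001), (nat_lit 0x11aa001), (nat_lit 0x151b001), (nat_lit 0x11ac001)], [(nat_lit 0x1693001), (nat_lit 0x1137001), (nat_lit 0x169d001), (nat_lit 0x1138001), (nat_lit 0x1148001), (nat_lit 0x129a001)], [(nat_lit 0x1133001), (nat_lit 0x1299001), (nat_lit 0x1134001), (nat_lit 0x1135001), (nat_lit 0x169c001), (nat_lit 0x1136001)], [(nat_lit 0x1139001), (nat_lit 0x16a1001), (nat_lit 0x169b001), (nat_lit 0x113a001), (nat_lit 0x113b001), (nat_lit 0x1150001)], [(nat_lit 0x1679001), (nat_lit 0x1119001), (nat_lit 0x111a001), (nat_lit 0x1674001), (nat_lit 0x111b001), (nat_lit 0x1676001)], [(nat_lit 0x114a001), (nat_lit 0x1675001), (nat_lit 0x115e001), (nat_lit 0x111c001), (nat_lit 0x167c001), (nat_lit 0x1159001)], [(nat_lit 0x114c001), (nat_lit 0x1677001), (nat_lit 0x111e001), (nat_lit 0x1158001), (nat_lit 0x167f001), (nat_lit 0x111d001)], [(nat_lit 0x114f001), (nat_lit 0x1120001), (nat_lit 0x1680001), (nat_lit 0x1121001), (nat_lit 0x111f001), (nat_lit 0x1122001)], [(nat_lit 0x1128001), (nat_lit 0x1692001), (nat_lit 0x1129001), (nat_lit 0x168b001), (nat_lit 0x167b001), (nat_lit 0x1691001)], [(nat_lit 0x1689001), (nat_lit 0x1124001), (nat_lit 0x1682001), (nat_lit 0x1123001), (nat_lit 0x1684001), (nat_lit 0x1686001)], [(nat_lit 0x168f001), (nat_lit 0x1126001), (nat_lit 0x1127001), (nat_lit 0x1688001), (nat_lit 0x168c001), (nat_lit 0x1125001)], [(nat_lit 0x112b001), (nat_lit 0x1685001), (nat_lit 0x112c001), (nat_lit 0x167e001), (nat_lit 0x112a001), (nat_lit 0x1696001)], [(nat_lit 0x112e001), (nat_lit 0x1687001), (nat_lit 0x112f001), (nat_lit 0x1130001), (nat_lit 0x128e001), (nat_lit 0x112d001)], [(nat_lit 0x169a001), (nat_lit 0x168d001), (nat_lit 0x1132001), (nat_lit 0x1699001), (nat_lit 0x1131001), (nat_lit 0x1681001)], [(nat_lit 0x117a001), (nat_lit 0x16a8001), (nat_lit 0x1142001), (nat_lit 0x16ab001), (nat_lit 0x1143001), (nat_lit 0x16ac001)], [(nat_lit 0x1176001), (nat_lit 0x1145001), (nat_lit 0x16ad001), (nat_lit 0x1146001), (nat_lit 0x16ae001), (nat_lit 0x1144001)], [(nat_lit 0x16b5001), (nat_lit 0x1147001), (nat_lit 0x16a9001), (nat_lit 0x16b1001), (nat_lit 0x1148001), (nat_lit 0x16b3001)], [(nat_lit 0x114a001), (nat_lit 0x16b2001), (nat_lit 0x16b8001), (nat_lit 0x1149001), (nat_lit 0x1500001), (nat_lit 0x16bc001)], [(nat_lit 0x114c001), (nat_lit 0x16b4001), (nat_lit 0x114d001), (nat_lit 0x16bf001), (nat_lit 0x16c1001), (nat_lit 0x114b001)], [(nat_lit 0x114f001), (nat_lit 0x16af001), (nat_lit 0x16c3001), (nat_lit 0x1408001), (nat_lit 0x114e001), (nat_lit 0x1150001)], [(nat_lit 0x1155001), (nat_lit 0x16d3001), (nat_lit 0x167a001), (nat_lit 0x16cd001), (nat_lit 0x1156001), (nat_lit 0x16d2001)], [(nat_lit 0x16cc001), (nat_lit 0x1152001), (nat_lit 0x16c5001), (nat_lit 0x1151001), (nat_lit 0x16c6001), (nat_lit 0x16c9001)], [(nat_lit 0x16d1001), (nat_lit 0x1154001), (nat_lit 0x1678001), (nat_lit 0x16cb001), (nat_lit 0x16ce001), (nat_lit 0x1153001)], [(nat_lit 0x16bd001), (nat_lit 0x16d6001), (nat_lit 0x1157001), (nat_lit 0x1158001), (nat_lit 0x16d9001), (nat_lit 0x1159001)], [(nat_lit 0x115c001), (nat_lit 0x16c7001), (nat_lit 0x16db001), (nat_lit 0x115b001), (nat_lit 0x115a001), (nat_lit 0x16dc001)], [(nat_lit 0x16b9001), (nat_lit 0x16ca001), (nat_lit 0x115e001), (nat_lit 0x115f001), (nat_lit 0x16df001), (nat_lit 0x115d001)], [(nat_lit 0x1166001), (nat_lit 0x16cf001), (nat_lit 0x1164001), (nat_lit 0x16e4001), (nat_lit 0x1163001), (nat_lit 0x1165001)], [(nat_lit 0x13e7001), (nat_lit 0x116e001), (nat_lit 0x16ed001), (nat_lit 0x116d001), (nat_lit 0x116f001), (nat_lit 0x1170001)], [(nat_lit 0x13e4001), (nat_lit 0x16f9001), (nat_lit 0x117c001), (nat_lit 0x13f1001), (nat_lit 0x16ee001), (nat_lit 0x117d001)], [(nat_lit 0x16fe001), (nat_lit 0x117e001), (nat_lit 0x117f001), (nat_lit 0x16fc001), (nat_lit 0x1180001), (nat_lit 0x16fb001)], [(nat_lit 0x13e2001), (nat_lit 0x16fd001), (nat_lit 0x13f7001), (nat_lit 0x1181001), (nat_lit 0x1701001), (nat_lit 0x13f2001)], [(nat_lit 0x1184001), (nat_lit 0x1185001), (nat_lit 0x15e1001), (nat_lit 0x1186001), (nat_lit 0x1709001), (nat_lit 0x1187001)], [(nat_lit 0x118a001), (nat_lit 0x118b001), (nat_lit 0x1690001), (nat_lit 0x118c001), (nat_lit 0x170f001), (nat_lit 0x118d001)], [(nat_lit 0x1707001), (nat_lit 0x1183001), (nat_lit 0x15d4001), (nat_lit 0x16c8001), (nat_lit 0x1182001), (nat_lit 0x1704001)], [(nat_lit 0x170d001), (nat_lit 0x1189001), (nat_lit 0x168e001), (nat_lit 0x170a001), (nat_lit 0x1188001), (nat_lit 0x16d0001)], [(nat_lit 0x1193001), (nat_lit 0x1705001), (nat_lit 0x1194001), (nat_lit 0x16de001), (nat_lit 0x1195001), (nat_lit 0x1192001)], [(nat_lit 0x1197001), (nat_lit 0x170b001), (nat_lit 0x1715001), (nat_lit 0x1196001), (nat_lit 0x1198001), (nat_lit 0x16e6001)], [(nat_lit 0x171c001), (nat_lit 0x1718001), (nat_lit 0x119c001), (nat_lit 0x171b001), (nat_lit 0x119d001), (nat_lit 0x16ef001)], [(nat_lit 0x172f001), (nat_lit 0x11a7001), (nat_lit 0x11a8001), (nat_lit 0x172c001), (nat_lit 0x171a001), (nat_lit 0x11a9001)], [(nat_lit 0x11b8001), (nat_lit 0x173f001), (nat_lit 0x11b9001), (nat_lit 0x173e001), (nat_lit 0x1700001), (nat_lit 0x1731001)], [(nat_lit 0x173c001), (nat_lit 0x11b7001), (nat_lit 0x1738001), (nat_lit 0x11b6001), (nat_lit 0x173a001), (nat_lit 0x172e001)], [(nat_lit 0x11bb001), (nat_lit 0x173b001), (nat_lit 0x11bc001), (nat_lit 0x1703001), (nat_lit 0x11ba001), (nat_lit 0x1742001)], [(nat_lit 0x174c001), (nat_lit 0x11c3001), (nat_lit 0x11c4001), (nat_lit 0x1733001), (nat_lit 0x1749001), (nat_lit 0x11c5001)], [(nat_lit 0x151a001), (nat_lit 0x174a001), (nat_lit 0x11c7001), (nat_lit 0x174f001), (nat_lit 0x11c6001), (nat_lit 0x1750001)], [(nat_lit 0x151d001), (nat_lit 0x11c9001), (nat_lit 0x1751001), (nat_lit 0x11ca001), (nat_lit 0x11cb001), (nat_lit 0x11c8001)], [(nat_lit 0x11df001), (nat_lit 0x1767001), (nat_lit 0x11e0001), (nat_lit 0x11e1001), (nat_lit 0x1766001), (nat_lit 0x11e2001)], [(nat_lit 0x11e7001), (nat_lit 0x1517001), (nat_lit 0x1765001), (nat_lit 0x11e8001), (nat_lit 0x11e9001), (nat_lit 0x176f001)], [(nat_lit 0x11dc001), (nat_lit 0x1526001), (nat_lit 0x11da001), (nat_lit 0x11d9001), (nat_lit 0x175d001), (nat_lit 0x11db001)], [(nat_lit 0x1764001), (nat_lit 0x1523001), (nat_lit 0x11de001), (nat_lit 0x1760001), (nat_lit 0x11dd001), (nat_lit 0x1761001)], [(nat_lit 0x176c001), (nat_lit 0x11e4001), (nat_lit 0x1762001), (nat_lit 0x11e5001), (nat_lit 0x11e6001), (nat_lit 0x11e3001)], [(nat_lit 0x128d001), (nat_lit 0x1296001), (nat_lit 0x1203001), (nat_lit 0x1789001), (nat_lit 0x1202001), (nat_lit 0x178c001)], [(nat_lit 0x1290001), (nat_lit 0x1205001), (nat_lit 0x178d001), (nat_lit 0x1206001), (nat_lit 0x1207001), (nat_lit 0x1204001)], [(nat_lit 0x126b001), (nat_lit 0x126c001), (nat_lit 0x126a001), (nat_lit 0x1662001), (nat_lit 0x17e8001), (nat_lit 0x15e3001)], [(nat_lit 0x123f001), (nat_lit 0x123e001), (nat_lit 0x17e5001), (nat_lit 0x17da001), (nat_lit 0x1240001), (nat_lit 0x17e4001)], [(nat_lit 0x17d9001), (nat_lit 0x1247001), (nat_lit 0x17f3001), (nat_lit 0x1248001), (nat_lit 0x170c001), (nat_lit 0x17be001)], [(nat_lit 0x17e3001), (nat_lit 0x124b001), (nat_lit 0x17f8001), (nat_lit 0x17bd001), (nat_lit 0x1706001), (nat_lit 0x124c001)], [(nat_lit 0x122a001), (nat_lit 0x17b4001), (nat_lit 0x122b001), (nat_lit 0x122c001), (nat_lit 0x1717001), (nat_lit 0x1229001)], [(nat_lit 0x1225001), (nat_lit 0x17bc001), (nat_lit 0x1224001), (nat_lit 0x1226001), (nat_lit 0x17bf001), (nat_lit 0x1227001)], [(nat_lit 0x1285001), (nat_lit 0x184b001), (nat_lit 0x1284001), (nat_lit 0x1855001), (nat_lit 0x1854001), (nat_lit 0x14fe001)], [(nat_lit 0x1281001), (nat_lit 0x1280001), (nat_lit 0x1852001), (nat_lit 0x1282001), (nat_lit 0x1283001), (nat_lit 0x1851001)], [(nat_lit 0x1856001), (nat_lit 0x1299001), (nat_lit 0x1871001), (nat_lit 0x1298001), (nat_lit 0x1876001), (nat_lit 0x129a001)], [(nat_lit 0x1853001), (nat_lit 0x1296001), (nat_lit 0x1295001), (nat_lit 0x186e001), (nat_lit 0x1297001), (nat_lit 0x186c001)], [(nat_lit 0x184f001), (nat_lit 0x1292001), (nat_lit 0x186a001), (nat_lit 0x1293001), (nat_lit 0x1515001), (nat_lit 0x1294001)], [(nat_lit 0x1223001), (nat_lit 0x147a001), (nat_lit 0x156e001), (nat_lit 0x17b7001), (nat_lit 0x14cd001), (nat_lit 0x17bb001)], [(nat_lit 0x17b6001), (nat_lit 0x1220001), (nat_lit 0x17b0001), (nat_lit 0x121f001), (nat_lit 0x17b1001), (nat_lit 0x17b3001)], [(nat_lit 0x17ba001), (nat_lit 0x1222001), (nat_lit 0x156c001), (nat_lit 0x17b5001), (nat_lit 0x17b8001), (nat_lit 0x1221001)], [(nat_lit 0x147e001), (nat_lit 0x17b2001), (nat_lit 0x17c1001), (nat_lit 0x14d9001), (nat_lit 0x1228001), (nat_lit 0x17c2001)], [(nat_lit 0x146f001), (nat_lit 0x17b9001), (nat_lit 0x122e001), (nat_lit 0x17c3001), (nat_lit 0x122d001), (nat_lit 0x149a001)], [(nat_lit 0x1236001), (nat_lit 0x17d8001), (nat_lit 0x17cc001), (nat_lit 0x1237001), (nat_lit 0x17d2001), (nat_lit 0x17d7001)], [(nat_lit 0x123c001), (nat_lit 0x17e2001), (nat_lit 0x12c4001), (nat_lit 0x17d6001), (nat_lit 0x17e0001), (nat_lit 0x123d001)], [(nat_lit 0x17cb001), (nat_lit 0x17c4001), (nat_lit 0x122f001), (nat_lit 0x17c6001), (nat_lit 0x17c7001), (nat_lit 0x17c9001)], [(nat_lit 0x17d0001), (nat_lit 0x1231001), (nat_lit 0x17c8001), (nat_lit 0x1232001), (nat_lit 0x1230001), (nat_lit 0x17cd001)], [(nat_lit 0x17d5001), (nat_lit 0x1234001), (nat_lit 0x17ca001), (nat_lit 0x1235001), (nat_lit 0x17d3001), (nat_lit 0x1233001)], [(nat_lit 0x17eb001), (nat_lit 0x1241001), (nat_lit 0x17c5001), (nat_lit 0x1474001), (nat_lit 0x17e9001), (nat_lit 0x1478001)], [(nat_lit 0x1716001), (nat_lit 0x17ea001), (nat_lit 0x1243001), (nat_lit 0x17ec001), (nat_lit 0x1242001), (nat_lit 0x17ed001)], [(nat_lit 0x16e5001), (nat_lit 0x17ce001), (nat_lit 0x17ee001), (nat_lit 0x1245001), (nat_lit 0x17ef001), (nat_lit 0x1244001)], [(nat_lit 0x17c0001), (nat_lit 0x17d4001), (nat_lit 0x147f001), (nat_lit 0x17f1001), (nat_lit 0x1246001), (nat_lit 0x17f0001)], [(nat_lit 0x16dd001), (nat_lit 0x17dc001), (nat_lit 0x17f4001), (nat_lit 0x1249001), (nat_lit 0x17f2001), (nat_lit 0x124a001)], [(nat_lit 0x125e001), (nat_lit 0x1727001), (nat_lit 0x125d001), (nat_lit 0x125c001), (nat_lit 0x1815001), (nat_lit 0x1714001)], [(nat_lit 0x1263001), (nat_lit 0x170e001), (nat_lit 0x1817001), (nat_lit 0x17d1001), (nat_lit 0x1264001), (nat_lit 0x181c001)], [(nat_lit 0x1267001), (nat_lit 0x1708001), (nat_lit 0x1268001), (nat_lit 0x1822001), (nat_lit 0x1269001), (nat_lit 0x17e1001)], [(nat_lit 0x1816001), (nat_lit 0x1724001), (nat_lit 0x1260001), (nat_lit 0x1818001), (nat_lit 0x125f001), (nat_lit 0x1819001)], [(nat_lit 0x181b001), (nat_lit 0x1262001), (nat_lit 0x181a001), (nat_lit 0x17cf001), (nat_lit 0x16e8001), (nat_lit 0x1261001)], [(nat_lit 0x1820001), (nat_lit 0x1266001), (nat_lit 0x181d001), (nat_lit 0x1265001), (nat_lit 0x16e3001), (nat_lit 0x17dd001)], [(nat_lit 0x16da001), (nat_lit 0x1823001), (nat_lit 0x126d001), (nat_lit 0x1824001), (nat_lit 0x16c0001), (nat_lit 0x17f7001)], [(nat_lit 0x1836001), (nat_lit 0x127c001), (nat_lit 0x1849001), (nat_lit 0x1553001), (nat_lit 0x1848001), (nat_lit 0x176b001)], [(nat_lit 0x1279001), (nat_lit 0x1847001), (nat_lit 0x127a001), (nat_lit 0x1843001), (nat_lit 0x127b001), (nat_lit 0x1846001)], [(nat_lit 0x127d001), (nat_lit 0x184e001), (nat_lit 0x1845001), (nat_lit 0x127e001), (nat_lit 0x176e001), (nat_lit 0x127f001)], [(nat_lit 0x1273001), (nat_lit 0x1835001), (nat_lit 0x1274001), (nat_lit 0x182c001), (nat_lit 0x1834001), (nat_lit 0x150b001)], [(nat_lit 0x182b001), (nat_lit 0x126f001), (nat_lit 0x1828001), (nat_lit 0x126e001), (nat_lit 0x1829001), (nat_lit 0x1527001)], [(nat_lit 0x1832001), (nat_lit 0x1271001), (nat_lit 0x1272001), (nat_lit 0x182d001), (nat_lit 0x1270001), (nat_lit 0x182f001)], [(nat_lit 0x1556001), (nat_lit 0x182a001), (nat_lit 0x154f001), (nat_lit 0x1839001), (nat_lit 0x1275001), (nat_lit 0x183b001)], [(nat_lit 0x1842001), (nat_lit 0x182e001), (nat_lit 0x183c001), (nat_lit 0x1276001), (nat_lit 0x183a001), (nat_lit 0x183f001)], [(nat_lit 0x1844001), (nat_lit 0x1830001), (nat_lit 0x1278001), (nat_lit 0x1841001), (nat_lit 0x1763001), (nat_lit 0x1277001)], [(nat_lit 0x1289001), (nat_lit 0x1287001), (nat_lit 0x1833001), (nat_lit 0x1286001), (nat_lit 0x1288001), (nat_lit 0x185a001)], [(nat_lit 0x185b001), (nat_lit 0x128b001), (nat_lit 0x1831001), (nat_lit 0x185d001), (nat_lit 0x1520001), (nat_lit 0x128a001)], [(nat_lit 0x128d001), (nat_lit 0x185e001), (nat_lit 0x128c001), (nat_lit 0x1860001), (nat_lit 0x128e001), (nat_lit 0x1865001)], [(nat_lit 0x1290001), (nat_lit 0x185c001), (nat_lit 0x1867001), (nat_lit 0x1291001), (nat_lit 0x1504001), (nat_lit 0x128f001)], [(nat_lit 0x12a6001), (nat_lit 0x12a5001), (nat_lit 0x1888001), (nat_lit 0x12a7001), (nat_lit 0x1887001), (nat_lit 0x150f001)], [(nat_lit 0x12a2001), (nat_lit 0x1884001), (nat_lit 0x175f001), (nat_lit 0x12a3001), (nat_lit 0x12a4001), (nat_lit 0x1883001)], [(nat_lit 0x187b001), (nat_lit 0x129b001), (nat_lit 0x129c001), (nat_lit 0x176a001), (nat_lit 0x1878001), (nat_lit 0x1554001)], [(nat_lit 0x175e001), (nat_lit 0x1879001), (nat_lit 0x129e001), (nat_lit 0x187e001), (nat_lit 0x129d001), (nat_lit 0x187f001)], [(nat_lit 0x1881001), (nat_lit 0x12a0001), (nat_lit 0x1880001), (nat_lit 0x12a1001), (nat_lit 0x155b001), (nat_lit 0x129f001)], [(nat_lit 0x12e2001), (nat_lit 0x12e3001), (nat_lit 0x1548001), (nat_lit 0x12f3001), (nat_lit 0x12e4001), (nat_lit 0x12ec001)], [(nat_lit 0x12ea001), (nat_lit 0x12f2001), (nat_lit 0x18cb001), (nat_lit 0x12eb001), (nat_lit 0x18ce001), (nat_lit 0x12ec001)], [(nat_lit 0x12f1001), (nat_lit 0x12f2001), (nat_lit 0x153a001), (nat_lit 0x12f3001), (nat_lit 0x18d2001), (nat_lit 0x12f4001)], [(nat_lit 0x18ca001), (nat_lit 0x12e6001), (nat_lit 0x12e5001), (nat_lit 0x18c3001), (nat_lit 0x18c6001), (nat_lit 0x12e7001)], [(nat_lit 0x18cd001), (nat_lit 0x12e9001), (nat_lit 0x18c8001), (nat_lit 0x12ef001), (nat_lit 0x12e8001), (nat_lit 0x12f0001)], [(nat_lit 0x18cf001), (nat_lit 0x12ee001), (nat_lit 0x1538001), (nat_lit 0x12ef001), (nat_lit 0x12ed001), (nat_lit 0x12f0001)], [(nat_lit 0x18f8001), (nat_lit 0x1314001), (nat_lit 0x1315001), (nat_lit 0x1907001), (nat_lit 0x1316001), (nat_lit 0x1912001)], [(nat_lit 0x130b001), (nat_lit 0x1906001), (nat_lit 0x18e6001), (nat_lit 0x130c001), (nat_lit 0x1903001), (nat_lit 0x18e0001)], [(nat_lit 0x1311001), (nat_lit 0x190f001), (nat_lit 0x1312001), (nat_lit 0x18df001), (nat_lit 0x190d001), (nat_lit 0x1313001)], [(nat_lit 0x1317001), (nat_lit 0x1318001), (nat_lit 0x190c001), (nat_lit 0x14bf001), (nat_lit 0x1319001), (nat_lit 0x131a001)], [(nat_lit 0x1301001), (nat_lit 0x18f7001), (nat_lit 0x1302001), (nat_lit 0x18f5001), (nat_lit 0x1303001), (nat_lit 0x1304001)], [(nat_lit 0x18f3001), (nat_lit 0x12ff001), (nat_lit 0x18ec001), (nat_lit 0x12fe001), (nat_lit 0x18f0001), (nat_lit 0x1300001)], [(nat_lit 0x18e4001), (nat_lit 0x18fc001), (nat_lit 0x1305001), (nat_lit 0x14b8001), (nat_lit 0x18fd001), (nat_lit 0x14e4001)], [(nat_lit 0x1901001), (nat_lit 0x18f1001), (nat_lit 0x18fe001), (nat_lit 0x1307001), (nat_lit 0x1306001), (nat_lit 0x18ff001)], [(nat_lit 0x18de001), (nat_lit 0x1309001), (nat_lit 0x14e5001), (nat_lit 0x130a001), (nat_lit 0x1904001), (nat_lit 0x1308001)], [(nat_lit 0x190b001), (nat_lit 0x130e001), (nat_lit 0x130f001), (nat_lit 0x1908001), (nat_lit 0x130d001), (nat_lit 0x1310001)], [(nat_lit 0x132b001), (nat_lit 0x132a001), (nat_lit 0x18f9001), (nat_lit 0x192e001), (nat_lit 0x18fa001), (nat_lit 0x193c001)], [(nat_lit 0x192d001), (nat_lit 0x133a001), (nat_lit 0x133b001), (nat_lit 0x133c001), (nat_lit 0x194e001), (nat_lit 0x133d001)], [(nat_lit 0x1939001), (nat_lit 0x1342001), (nat_lit 0x1911001), (nat_lit 0x1343001), (nat_lit 0x1957001), (nat_lit 0x1344001)], [(nat_lit 0x1334001), (nat_lit 0x194c001), (nat_lit 0x1335001), (nat_lit 0x1902001), (nat_lit 0x1336001), (nat_lit 0x194b001)], [(nat_lit 0x133f001), (nat_lit 0x1956001), (nat_lit 0x1340001), (nat_lit 0x1954001), (nat_lit 0x1341001), (nat_lit 0x190e001)], [(nat_lit 0x1321001), (nat_lit 0x192c001), (nat_lit 0x1920001), (nat_lit 0x1322001), (nat_lit 0x1925001), (nat_lit 0x192b001)], [(nat_lit 0x1327001), (nat_lit 0x1938001), (nat_lit 0x1328001), (nat_lit 0x192a001), (nat_lit 0x1936001), (nat_lit 0x1329001)], [(nat_lit 0x191f001), (nat_lit 0x1913001), (nat_lit 0x131b001), (nat_lit 0x1917001), (nat_lit 0x191a001), (nat_lit 0x191c001)], [(nat_lit 0x1924001), (nat_lit 0x131d001), (nat_lit 0x191b001), (nat_lit 0x18f2001), (nat_lit 0x131c001), (nat_lit 0x1922001)], [(nat_lit 0x1928001), (nat_lit 0x131f001), (nat_lit 0x191e001), (nat_lit 0x1320001), (nat_lit 0x1926001), (nat_lit 0x131e001)], [(nat_lit 0x1934001), (nat_lit 0x1324001), (nat_lit 0x1325001), (nat_lit 0x1931001), (nat_lit 0x1323001), (nat_lit 0x1326001)], [(nat_lit 0x132d001), (nat_lit 0x132c001), (nat_lit 0x1914001), (nat_lit 0x132e001), (nat_lit 0x193d001), (nat_lit 0x132f001)], [(nat_lit 0x1331001), (nat_lit 0x193f001), (nat_lit 0x1332001), (nat_lit 0x1550001), (nat_lit 0x1330001), (nat_lit 0x1940001)], [(nat_lit 0x1948001), (nat_lit 0x1923001), (nat_lit 0x1942001), (nat_lit 0x1900001), (nat_lit 0x1944001), (nat_lit 0x1333001)], [(nat_lit 0x1338001), (nat_lit 0x1927001), (nat_lit 0x1339001), (nat_lit 0x194f001), (nat_lit 0x1337001), (nat_lit 0x1946001)], [(nat_lit 0x1953001), (nat_lit 0x1932001), (nat_lit 0x1952001), (nat_lit 0x133e001), (nat_lit 0x1951001), (nat_lit 0x190a001)], [(nat_lit 0x134f001), (nat_lit 0x1350001), (nat_lit 0x1964001), (nat_lit 0x1351001), (nat_lit 0x1352001), (nat_lit 0x1353001)], [(nat_lit 0x1354001), (nat_lit 0x1355001), (nat_lit 0x1935001), (nat_lit 0x1356001), (nat_lit 0x1357001), (nat_lit 0x1358001)], [(nat_lit 0x1915001), (nat_lit 0x191d001), (nat_lit 0x1377001), (nat_lit 0x198b001), (nat_lit 0x198a001), (nat_lit 0x1916001)], [(nat_lit 0x193e001), (nat_lit 0x1375001), (nat_lit 0x1989001), (nat_lit 0x152b001), (nat_lit 0x1376001), (nat_lit 0x1988001)], [(nat_lit 0x1373001), (nat_lit 0x1987001), (nat_lit 0x1945001), (nat_lit 0x152e001), (nat_lit 0x1943001), (nat_lit 0x1374001)], [(nat_lit 0x1941001), (nat_lit 0x136b001), (nat_lit 0x1949001), (nat_lit 0x155a001), (nat_lit 0x136c001), (nat_lit 0x136a001)], [(nat_lit 0x136f001), (nat_lit 0x1929001), (nat_lit 0x1930001), (nat_lit 0x193b001), (nat_lit 0x1983001), (nat_lit 0x192f001)], [(nat_lit 0x1982001), (nat_lit 0x136e001), (nat_lit 0x194d001), (nat_lit 0x197e001), (nat_lit 0x136d001), (nat_lit 0x1980001)], [(nat_lit 0x1950001), (nat_lit 0x197f001), (nat_lit 0x1984001), (nat_lit 0x1370001), (nat_lit 0x1955001), (nat_lit 0x1985001)], [(nat_lit 0x1947001), (nat_lit 0x1981001), (nat_lit 0x1372001), (nat_lit 0x1986001), (nat_lit 0x194a001), (nat_lit 0x1371001)], [(nat_lit 0x1910001), (nat_lit 0x13d9001), (nat_lit 0x193a001), (nat_lit 0x19f3001), (nat_lit 0x19f8001), (nat_lit 0x18fb001)], [(nat_lit 0x13d3001), (nat_lit 0x19f2001), (nat_lit 0x18d7001), (nat_lit 0x13d4001), (nat_lit 0x19f1001), (nat_lit 0x18f6001)], [(nat_lit 0x13d6001), (nat_lit 0x19f7001), (nat_lit 0x13d7001), (nat_lit 0x19f6001), (nat_lit 0x13d8001), (nat_lit 0x1937001)], [(nat_lit 0x18d8001), (nat_lit 0x19ea001), (nat_lit 0x13d1001), (nat_lit 0x18db001), (nat_lit 0x19eb001), (nat_lit 0x18ee001)], [(nat_lit 0x19f0001), (nat_lit 0x1905001), (nat_lit 0x19ec001), (nat_lit 0x19ed001), (nat_lit 0x13d2001), (nat_lit 0x19ef001)], [(nat_lit 0x19f5001), (nat_lit 0x1909001), (nat_lit 0x19f4001), (nat_lit 0x13d5001), (nat_lit 0x19ee001), (nat_lit 0x1933001)], [(nat_lit 0x1bbd001), (nat_lit 0x152f001), (nat_lit 0x1530001), (nat_lit 0x15af001), (nat_lit 0x1531001), (nat_lit 0x15ac001)], [(nat_lit 0x1533001), (nat_lit 0x1534001), (nat_lit 0x15b3001), (nat_lit 0x180c001), (nat_lit 0x1532001), (nat_lit 0x1535001)], [(nat_lit 0x1b3d001), (nat_lit 0x14e0001), (nat_lit 0x14df001), (nat_lit 0x1b54001), (nat_lit 0x14e1001), (nat_lit 0x1b1f001)], [(nat_lit 0x14e3001), (nat_lit 0x1b56001), (nat_lit 0x14e5001), (nat_lit 0x14e2001), (nat_lit 0x1b59001), (nat_lit 0x14e4001)], [(nat_lit 0x14b6001), (nat_lit 0x1b1e001), (nat_lit 0x14b5001), (nat_lit 0x14b8001), (nat_lit 0x1b02001), (nat_lit 0x14b7001)], [(nat_lit 0x149c001), (nat_lit 0x149b001), (nat_lit 0x1b00001), (nat_lit 0x149d001), (nat_lit 0x149e001), (nat_lit 0x149f001)], [(nat_lit 0x156d001), (nat_lit 0x1bbe001), (nat_lit 0x156e001), (nat_lit 0x1c07001), (nat_lit 0x1b3f001), (nat_lit 0x1c0d001)], [(nat_lit 0x1c06001), (nat_lit 0x1569001), (nat_lit 0x1c03001), (nat_lit 0x1568001), (nat_lit 0x1c04001), (nat_lit 0x15b9001)], [(nat_lit 0x1c0b001), (nat_lit 0x156b001), (nat_lit 0x156c001), (nat_lit 0x15b8001), (nat_lit 0x1c08001), (nat_lit 0x156a001)], [(nat_lit 0x15b5001), (nat_lit 0x1c05001), (nat_lit 0x15bb001), (nat_lit 0x1b5c001), (nat_lit 0x156f001), (nat_lit 0x1c0e001)], [(nat_lit 0x15b2001), (nat_lit 0x1c09001), (nat_lit 0x1571001), (nat_lit 0x1c0f001), (nat_lit 0x1570001), (nat_lit 0x1b03001)], [(nat_lit 0x1565001), (nat_lit 0x1661001), (nat_lit 0x1bfb001), (nat_lit 0x1566001), (nat_lit 0x1c02001), (nat_lit 0x15de001)], [(nat_lit 0x1bfc001), (nat_lit 0x1672001), (nat_lit 0x1562001), (nat_lit 0x1bfa001), (nat_lit 0x1bfd001), (nat_lit 0x15d8001)], [(nat_lit 0x1c01001), (nat_lit 0x1564001), (nat_lit 0x1bfe001), (nat_lit 0x18ad001), (nat_lit 0x1563001), (nat_lit 0x1bff001)], [(nat_lit 0x1668001), (nat_lit 0x1c00001), (nat_lit 0x166c001), (nat_lit 0x18ba001), (nat_lit 0x15e7001), (nat_lit 0x1567001)], [(nat_lit 0x1771001), (nat_lit 0x1772001), (nat_lit 0x1e91001), (nat_lit 0x1770001), (nat_lit 0x1773001), (nat_lit 0x1e94001)], [(nat_lit 0x1775001), (nat_lit 0x1776001), (nat_lit 0x1777001), (nat_lit 0x1e97001), (nat_lit 0x1778001), (nat_lit 0x1774001)], [(nat_lit 0x15e9001), (nat_lit 0x15ea001), (nat_lit 0x1ca8001), (nat_lit 0x15e8001), (nat_lit 0x15eb001), (nat_lit 0x1cab001)], [(nat_lit 0x15ed001), (nat_lit 0x15ee001), (nat_lit 0x15ef001), (nat_lit 0x1cae001), (nat_lit 0x15f0001), (nat_lit 0x15ec001)], [(nat_lit 0x1e92001), (nat_lit 0x1e9f001), (nat_lit 0x177f001), (nat_lit 0x1ea2001), (nat_lit 0x1caa001), (nat_lit 0x1ea3001)], [(nat_lit 0x1e95001), (nat_lit 0x1781001), (nat_lit 0x1ea5001), (nat_lit 0x1782001), (nat_lit 0x1ea6001), (nat_lit 0x1780001)], [(nat_lit 0x15f2001), (nat_lit 0x1caf001), (nat_lit 0x15f1001), (nat_lit 0x1cb1001), (nat_lit 0x15f3001), (nat_lit 0x1cb5001)], [(nat_lit 0x15f5001), (nat_lit 0x1cad001), (nat_lit 0x1cb7001), (nat_lit 0x15f6001), (nat_lit 0x1cba001), (nat_lit 0x15f4001)], [(nat_lit 0x1ea8001), (nat_lit 0x1783001), (nat_lit 0x1ea0001), (nat_lit 0x1784001), (nat_lit 0x1cb0001), (nat_lit 0x1785001)], [(nat_lit 0x1787001), (nat_lit 0x1ea7001), (nat_lit 0x1788001), (nat_lit 0x1e9d001), (nat_lit 0x1786001), (nat_lit 0x1cbe001)], [(nat_lit 0x177d001), (nat_lit 0x1e96001), (nat_lit 0x1826001), (nat_lit 0x177e001), (nat_lit 0x1e9a001), (nat_lit 0x177c001)], [(nat_lit 0x177a001), (nat_lit 0x1e98001), (nat_lit 0x1779001), (nat_lit 0x17f6001), (nat_lit 0x177b001), (nat_lit 0x1827001)], [(nat_lit 0x1757001), (nat_lit 0x1e79001), (nat_lit 0x1756001), (nat_lit 0x1868001), (nat_lit 0x1758001), (nat_lit 0x1864001)], [(nat_lit 0x175a001), (nat_lit 0x175b001), (nat_lit 0x1862001), (nat_lit 0x175c001), (nat_lit 0x1d90001), (nat_lit 0x1759001)], [(nat_lit 0x1eb4001), (nat_lit 0x1796001), (nat_lit 0x1797001), (nat_lit 0x1eb1001), (nat_lit 0x1e7b001), (nat_lit 0x1798001)], [(nat_lit 0x17f5001), (nat_lit 0x1eb2001), (nat_lit 0x179a001), (nat_lit 0x1799001), (nat_lit 0x1d79001), (nat_lit 0x179b001)], [(nat_lit 0x1825001), (nat_lit 0x179d001), (nat_lit 0x179e001), (nat_lit 0x179f001), (nat_lit 0x1d7c001), (nat_lit 0x179c001)], [(nat_lit 0x1e9b001), (nat_lit 0x17a1001), (nat_lit 0x1d7e001), (nat_lit 0x17a2001), (nat_lit 0x17a0001), (nat_lit 0x1d91001)], [(nat_lit 0x1603001), (nat_lit 0x1602001), (nat_lit 0x1cd6001), (nat_lit 0x1604001), (nat_lit 0x1605001), (nat_lit 0x1cd5001)], [(nat_lit 0x1607001), (nat_lit 0x1606001), (nat_lit 0x1608001), (nat_lit 0x1cd3001), (nat_lit 0x1609001), (nat_lit 0x160a001)], [(nat_lit 0x15fe001), (nat_lit 0x1cd1001), (nat_lit 0x1744001), (nat_lit 0x15ff001), (nat_lit 0x1600001), (nat_lit 0x1601001)], [(nat_lit 0x1ebd001), (nat_lit 0x17a3001), (nat_lit 0x1e7a001), (nat_lit 0x1eb7001), (nat_lit 0x17a4001), (nat_lit 0x1eba001)], [(nat_lit 0x1cb2001), (nat_lit 0x1eb8001), (nat_lit 0x1cce001), (nat_lit 0x17a5001), (nat_lit 0x17a6001), (nat_lit 0x1ccc001)], [(nat_lit 0x1cb6001), (nat_lit 0x1ebb001), (nat_lit 0x17a8001), (nat_lit 0x1ccb001), (nat_lit 0x17a9001), (nat_lit 0x17a7001)], [(nat_lit 0x1cbb001), (nat_lit 0x1d8f001), (nat_lit 0x17ab001), (nat_lit 0x1d92001), (nat_lit 0x17aa001), (nat_lit 0x17ac001)], [(nat_lit 0x17ad001), (nat_lit 0x1ea9001), (nat_lit 0x1eb5001), (nat_lit 0x17ae001), (nat_lit 0x1ebe001), (nat_lit 0x17af001)], [(nat_lit 0x1f33001), (nat_lit 0x180e001), (nat_lit 0x180f001), (nat_lit 0x1f30001), (nat_lit 0x1810001), (nat_lit 0x1f2b001)], [(nat_lit 0x1812001), (nat_lit 0x1f31001), (nat_lit 0x1813001), (nat_lit 0x1811001), (nat_lit 0x1f37001), (nat_lit 0x1814001)], [(nat_lit 0x1806001), (nat_lit 0x1f28001), (nat_lit 0x1805001), (nat_lit 0x1807001), (nat_lit 0x1f2c001), (nat_lit 0x1808001)], [(nat_lit 0x180a001), (nat_lit 0x180b001), (nat_lit 0x1f2e001), (nat_lit 0x180c001), (nat_lit 0x1809001), (nat_lit 0x180d001)], [(nat_lit 0x188f001), (nat_lit 0x1f34001), (nat_lit 0x1890001), (nat_lit 0x1fb0001), (nat_lit 0x1891001), (nat_lit 0x1fb7001)], [(nat_lit 0x1faf001), (nat_lit 0x188b001), (nat_lit 0x1fab001), (nat_lit 0x188a001), (nat_lit 0x1fac001), (nat_lit 0x1f27001)], [(nat_lit 0x1fb5001), (nat_lit 0x188d001), (nat_lit 0x188e001), (nat_lit 0x1f26001), (nat_lit 0x1fb1001), (nat_lit 0x188c001)], [(nat_lit 0x17fe001), (nat_lit 0x1f1f001), (nat_lit 0x1800001), (nat_lit 0x17fd001), (nat_lit 0x1f22001), (nat_lit 0x17ff001)], [(nat_lit 0x1f38001), (nat_lit 0x1fad001), (nat_lit 0x1f24001), (nat_lit 0x1893001), (nat_lit 0x1892001), (nat_lit 0x1fb8001)], [(nat_lit 0x1802001), (nat_lit 0x1f25001), (nat_lit 0x1801001), (nat_lit 0x1804001), (nat_lit 0x1d59001), (nat_lit 0x1803001)], [(nat_lit 0x1f2d001), (nat_lit 0x1fb2001), (nat_lit 0x1895001), (nat_lit 0x1fba001), (nat_lit 0x1894001), (nat_lit 0x1896001)], [(nat_lit 0x189b001), (nat_lit 0x189c001), (nat_lit 0x1fc0001), (nat_lit 0x189d001), (nat_lit 0x1fc7001), (nat_lit 0x1eab001)], [(nat_lit 0x18a1001), (nat_lit 0x18a2001), (nat_lit 0x1fb6001), (nat_lit 0x1eaa001), (nat_lit 0x1fcd001), (nat_lit 0x18a3001)], [(nat_lit 0x1fbf001), (nat_lit 0x1ea4001), (nat_lit 0x1897001), (nat_lit 0x1fbc001), (nat_lit 0x1fbd001), (nat_lit 0x1ea1001)], [(nat_lit 0x1fc4001), (nat_lit 0x1899001), (nat_lit 0x1fbe001), (nat_lit 0x189a001), (nat_lit 0x1898001), (nat_lit 0x1fc1001)], [(nat_lit 0x1fcb001), (nat_lit 0x189f001), (nat_lit 0x1fb3001), (nat_lit 0x1fc8001), (nat_lit 0x189e001), (nat_lit 0x18a0001)], [(nat_lit 0x18a5001), (nat_lit 0x1fc2001), (nat_lit 0x1cbc001), (nat_lit 0x18a6001), (nat_lit 0x1cb9001), (nat_lit 0x18a4001)], [(nat_lit 0x18a8001), (nat_lit 0x1fc9001), (nat_lit 0x1fcf001), (nat_lit 0x18a7001), (nat_lit 0x1cb3001), (nat_lit 0x18a9001)], [(nat_lit 0x17e6001), (nat_lit 0x17e7001), (nat_lit 0x17e5001), (nat_lit 0x1f0f001), (nat_lit 0x17e8001), (nat_lit 0x1f0e001)], [(nat_lit 0x1f10001), (nat_lit 0x17fc001), (nat_lit 0x1f21001), (nat_lit 0x17fb001), (nat_lit 0x1d50001), (nat_lit 0x1f20001)], [(nat_lit 0x1f0c001), (nat_lit 0x17f9001), (nat_lit 0x17f8001), (nat_lit 0x1f1e001), (nat_lit 0x1c84001), (nat_lit 0x17fa001)], [(nat_lit 0x1665001), (nat_lit 0x1d4f001), (nat_lit 0x1d57001), (nat_lit 0x1664001), (nat_lit 0x1666001), (nat_lit 0x1d5a001)], [(nat_lit 0x15c3001), (nat_lit 0x1c82001), (nat_lit 0x15c4001), (nat_lit 0x1c27001), (nat_lit 0x15c5001), (nat_lit 0x15c6001)], [(nat_lit 0x18b1001), (nat_lit 0x1f11001), (nat_lit 0x1fde001), (nat_lit 0x18b2001), (nat_lit 0x1fe5001), (nat_lit 0x1fea001)], [(nat_lit 0x18b3001), (nat_lit 0x1f0d001), (nat_lit 0x18b4001), (nat_lit 0x1fe9001), (nat_lit 0x18c1001), (nat_lit 0x18b5001)], [(nat_lit 0x1fdd001), (nat_lit 0x1fd4001), (nat_lit 0x18aa001), (nat_lit 0x1fd6001), (nat_lit 0x1fd9001), (nat_lit 0x1fdb001)], [(nat_lit 0x1fe3001), (nat_lit 0x18ac001), (nat_lit 0x1fda001), (nat_lit 0x18ad001), (nat_lit 0x18ab001), (nat_lit 0x1fe0001)], [(nat_lit 0x1fe8001), (nat_lit 0x18af001), (nat_lit 0x1fdc001), (nat_lit 0x18b0001), (nat_lit 0x1fe6001), (nat_lit 0x18ae001)], [(nat_lit 0x1fed001), (nat_lit 0x18b6001), (nat_lit 0x1fd5001), (nat_lit 0x1f2a001), (nat_lit 0x1feb001), (nat_lit 0x1f32001)], [(nat_lit 0x1d58001), (nat_lit 0x1fec001), (nat_lit 0x18b8001), (nat_lit 0x1fee001), (nat_lit 0x18b7001), (nat_lit 0x1ff1001)], [(nat_lit 0x1d5b001), (nat_lit 0x1fe1001), (nat_lit 0x1ff2001), (nat_lit 0x18ba001), (nat_lit 0x1ff4001), (nat_lit 0x18b9001)], [(nat_lit 0x1f23001), (nat_lit 0x1fe7001), (nat_lit 0x1f39001), (nat_lit 0x1c81001), (nat_lit 0x18bb001), (nat_lit 0x1ff5001)], [(nat_lit 0x1c28001), (nat_lit 0x18bd001), (nat_lit 0x1c31001), (nat_lit 0x15c1001), (nat_lit 0x1c80001), (nat_lit 0x15c2001)], [(nat_lit 0x18bf001), (nat_lit 0x1ffb001), (nat_lit 0x18c0001), (nat_lit 0x1ff9001), (nat_lit 0x18c1001), (nat_lit 0x18c2001)], [(nat_lit 0x1ff8001), (nat_lit 0x18bd001), (nat_lit 0x1ff6001), (nat_lit 0x18bc001), (nat_lit 0x23e2001), (nat_lit 0x18be001)], [(nat_lit 0x17de001), (nat_lit 0x1e20001), (nat_lit 0x17df001), (nat_lit 0x1f09001), (nat_lit 0x17e0001), (nat_lit 0x17e1001)], [(nat_lit 0x1f07001), (nat_lit 0x17dc001), (nat_lit 0x1f03001), (nat_lit 0x17db001), (nat_lit 0x1efc001), (nat_lit 0x17dd001)], [(nat_lit 0x1590001), (nat_lit 0x1591001), (nat_lit 0x1592001), (nat_lit 0x1850001), (nat_lit 0x1593001), (nat_lit 0x158f001)], [(nat_lit 0x160e001), (nat_lit 0x1739001), (nat_lit 0x160d001), (nat_lit 0x1cd9001), (nat_lit 0x1cd8001), (nat_lit 0x1755001)], [(nat_lit 0x15a2001), (nat_lit 0x15a1001), (nat_lit 0x1c66001), (nat_lit 0x15a3001), (nat_lit 0x15a4001), (nat_lit 0x1c65001)], [(nat_lit 0x15a6001), (nat_lit 0x15a5001), (nat_lit 0x15a7001), (nat_lit 0x1c64001), (nat_lit 0x15a8001), (nat_lit 0x15a9001)], [(nat_lit 0x1599001), (nat_lit 0x1c5b001), (nat_lit 0x159a001), (nat_lit 0x1c51001), (nat_lit 0x159b001), (nat_lit 0x1c5a001)], [(nat_lit 0x159e001), (nat_lit 0x1c62001), (nat_lit 0x1c58001), (nat_lit 0x159f001), (nat_lit 0x1c60001), (nat_lit 0x15a0001)], [(nat_lit 0x1ca9001), (nat_lit 0x1d10001), (nat_lit 0x1790001), (nat_lit 0x1d11001), (nat_lit 0x1e93001), (nat_lit 0x1eac001)], [(nat_lit 0x1cac001), (nat_lit 0x1792001), (nat_lit 0x1ead001), (nat_lit 0x1793001), (nat_lit 0x1eae001), (nat_lit 0x1791001)], [(nat_lit 0x1eb0001), (nat_lit 0x1794001), (nat_lit 0x1d0f001), (nat_lit 0x186d001), (nat_lit 0x1e99001), (nat_lit 0x1870001)], [(nat_lit 0x1866001), (nat_lit 0x186b001), (nat_lit 0x178d001), (nat_lit 0x178e001), (nat_lit 0x178f001), (nat_lit 0x178c001)], [(nat_lit 0x1861001), (nat_lit 0x186f001), (nat_lit 0x178a001), (nat_lit 0x1789001), (nat_lit 0x1d97001), (nat_lit 0x178b001)], [(nat_lit 0x1d93001), (nat_lit 0x1eaf001), (nat_lit 0x1d95001), (nat_lit 0x1cbd001), (nat_lit 0x1795001), (nat_lit 0x1e9e001)], [(nat_lit 0x1743001), (nat_lit 0x1cc3001), (nat_lit 0x15fd001), (nat_lit 0x1ccf001), (nat_lit 0x1752001), (nat_lit 0x15fc001)], [(nat_lit 0x1cc5001), (nat_lit 0x15f7001), (nat_lit 0x15f8001), (nat_lit 0x1cbf001), (nat_lit 0x15f9001), (nat_lit 0x1cc2001)], [(nat_lit 0x1702001), (nat_lit 0x1cc0001), (nat_lit 0x1cc8001), (nat_lit 0x15fa001), (nat_lit 0x15fb001), (nat_lit 0x1ccd001)], [(nat_lit 0x160b001), (nat_lit 0x173d001), (nat_lit 0x160c001), (nat_lit 0x1741001), (nat_lit 0x1cc7001), (nat_lit 0x174e001)], [(nat_lit 0x150d001), (nat_lit 0x150e001), (nat_lit 0x1b8e001), (nat_lit 0x150c001), (nat_lit 0x1b93001), (nat_lit 0x150f001)], [(nat_lit 0x1b8f001), (nat_lit 0x15d7001), (nat_lit 0x1528001), (nat_lit 0x1bb5001), (nat_lit 0x1bb8001), (nat_lit 0x1673001)], [(nat_lit 0x1b94001), (nat_lit 0x152a001), (nat_lit 0x1bb9001), (nat_lit 0x152b001), (nat_lit 0x1529001), (nat_lit 0x1bba001)], [(nat_lit 0x152d001), (nat_lit 0x1bbb001), (nat_lit 0x15e6001), (nat_lit 0x152e001), (nat_lit 0x166d001), (nat_lit 0x152c001)], [(nat_lit 0x154e001), (nat_lit 0x1b95001), (nat_lit 0x154f001), (nat_lit 0x1550001), (nat_lit 0x154d001), (nat_lit 0x1bdd001)], [(nat_lit 0x1be5001), (nat_lit 0x1551001), (nat_lit 0x1552001), (nat_lit 0x1553001), (nat_lit 0x1be2001), (nat_lit 0x1554001)], [(nat_lit 0x1556001), (nat_lit 0x1be3001), (nat_lit 0x1557001), (nat_lit 0x1bea001), (nat_lit 0x1555001), (nat_lit 0x1bed001)], [(nat_lit 0x1bde001), (nat_lit 0x1559001), (nat_lit 0x1bef001), (nat_lit 0x155a001), (nat_lit 0x155b001), (nat_lit 0x1558001)], [(nat_lit 0x155e001), (nat_lit 0x15dc001), (nat_lit 0x1be7001), (nat_lit 0x15e2001), (nat_lit 0x1bf6001), (nat_lit 0x1663001)]]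

theorem rows0_ok : okRows data table 16908 0 rows0 = true := by decide +kernel

theorem rows0_len : rows0.length = 2000 := by decide +kernel

end CfsgLib.CosetEnum.ONH
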