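/-
Certificate data of a coset enumeration.
-/
import Cfsg.Agent.Lib.CosetEnum.ONH.Data

set_option autoImplicit false
set_option maxRecDepth 1000000

namespace CfsgLib.CosetEnum.ONH

open CfsgLib.CosetEnum

/-- Completion of the rows from 2000. -/
noncomputable def rows1 : List (List ℕ) := [[(nat_lit 0x1bf5001), (nat_lit 0x155d001), (nat_lit 0x1be4001), (nat_lit 0x1bf1001), (nat_lit 0x155c001), (nat_lit 0x1bf3001)], [(nat_lit 0x15cf001), (nat_lit 0x1bf2001), (nat_lit 0x1bf7001), (nat_lit 0x155f001), (nat_lit 0x15d2001), (nat_lit 0x1bf8001)], [(nat_lit 0x15e5001), (nat_lit 0x1bf4001), (nat_lit 0x1561001), (nat_lit 0x1bf9001), (nat_lit 0x166a001), (nat_lit 0x1560001)], [(nat_lit 0x1b23001), (nat_lit 0x14c1001), (nat_lit 0x14c2001), (nat_lit 0x1b21001), (nat_lit 0x14c3001), (nat_lit 0x163b001)], [(nat_lit 0x14c5001), (nat_lit 0x1b22001), (nat_lit 0x1a9b001), (nat_lit 0x14c4001), (nat_lit 0x1652001), (nat_lit 0x1aa0001)], [(nat_lit 0x14ba001), (nat_lit 0x163a001), (nat_lit 0x14b9001), (nat_lit 0x1a9f001), (nat_lit 0x164f001), (nat_lit 0x14bb001)], [(nat_lit 0x14bd001), (nat_lit 0x14be001), (nat_lit 0x164e001), (nat_lit 0x14bf001), (nat_lit 0x14bc001), (nat_lit 0x14c0001)], [(nat_lit 0x14ea001), (nat_lit 0x14eb001), (nat_lit 0x1b25001), (nat_lit 0x1646001), (nat_lit 0x1b26001), (nat_lit 0x1641001)], [(nat_lit 0x1a89001), (nat_lit 0x1453001), (nat_lit 0x1452001), (nat_lit 0x1a91001), (nat_lit 0x1810001), (nat_lit 0x1454001)], [(nat_lit 0x145e001), (nat_lit 0x1a92001), (nat_lit 0x1a9d001), (nat_lit 0x145d001), (nat_lit 0x1aa1001), (nat_lit 0x1a9c001)], [(nat_lit 0x145a001), (nat_lit 0x145b001), (nat_lit 0x1459001), (nat_lit 0x1a98001), (nat_lit 0x1a97001), (nat_lit 0x145c001)], [(nat_lit 0x1456001), (nat_lit 0x1455001), (nat_lit 0x1a94001), (nat_lit 0x1457001), (nat_lit 0x1458001), (nat_lit 0x180d001)], [(nat_lit 0x1547001), (nat_lit 0x1b24001), (nat_lit 0x1548001), (nat_lit 0x1bda001), (nat_lit 0x1549001), (nat_lit 0x18cc001)], [(nat_lit 0x1bd8001), (nat_lit 0x1546001), (nat_lit 0x1bd5001), (nat_lit 0x1545001), (nat_lit 0x1bd0001), (nat_lit 0x18c5001)], [(nat_lit 0x1a99001), (nat_lit 0x1a44001), (nat_lit 0x14a4001), (nat_lit 0x14a2001), (nat_lit 0x1b05001), (nat_lit 0x14a3001)], [(nat_lit 0x1651001), (nat_lit 0x1bcf001), (nat_lit 0x1b06001), (nat_lit 0x154a001), (nat_lit 0x154b001), (nat_lit 0x1bdb001)], [(nat_lit 0x1a9e001), (nat_lit 0x18c4001), (nat_lit 0x14a5001), (nat_lit 0x14a7001), (nat_lit 0x1b07001), (nat_lit 0x14a6001)], [(nat_lit 0x164d001), (nat_lit 0x18c7001), (nat_lit 0x153e001), (nat_lit 0x1bc8001), (nat_lit 0x153f001), (nat_lit 0x153d001)], [(nat_lit 0x1543001), (nat_lit 0x1645001), (nat_lit 0x1bcd001), (nat_lit 0x1544001), (nat_lit 0x1bd4001), (nat_lit 0x164b001)], [(nat_lit 0x1539001), (nat_lit 0x163f001), (nat_lit 0x153a001), (nat_lit 0x164a001), (nat_lit 0x1bc5001), (nat_lit 0x153b001)], [(nat_lit 0x1bcc001), (nat_lit 0x165b001), (nat_lit 0x1540001), (nat_lit 0x1bc9001), (nat_lit 0x1bca001), (nat_lit 0x1655001)], [(nat_lit 0x1bd3001), (nat_lit 0x1542001), (nat_lit 0x1bcb001), (nat_lit 0x1bce001), (nat_lit 0x1541001), (nat_lit 0x1bd1001)], [(nat_lit 0x1bc3001), (nat_lit 0x1537001), (nat_lit 0x1538001), (nat_lit 0x1bc1001), (nat_lit 0x1536001), (nat_lit 0x18c9001)], [(nat_lit 0x1629001), (nat_lit 0x1bd2001), (nat_lit 0x1631001), (nat_lit 0x1bdc001), (nat_lit 0x162c001), (nat_lit 0x154c001)], [(nat_lit 0x1620001), (nat_lit 0x1bc2001), (nat_lit 0x1bc6001), (nat_lit 0x153c001), (nat_lit 0x1625001), (nat_lit 0x1bc7001)], [(nat_lit 0x1448001), (nat_lit 0x1447001), (nat_lit 0x1a88001), (nat_lit 0x1449001), (nat_lit 0x19c1001), (nat_lit 0x144a001)], [(nat_lit 0x1433001), (nat_lit 0x19c0001), (nat_lit 0x1434001), (nat_lit 0x1a66001), (nat_lit 0x1435001), (nat_lit 0x1a6d001)], [(nat_lit 0x1a65001), (nat_lit 0x142f001), (nat_lit 0x1a61001), (nat_lit 0x142e001), (nat_lit 0x1a62001), (nat_lit 0x19b8001)], [(nat_lit 0x1a6b001), (nat_lit 0x1431001), (nat_lit 0x1432001), (nat_lit 0x19b7001), (nat_lit 0x1a67001), (nat_lit 0x1430001)], [(nat_lit 0x1450001), (nat_lit 0x1a63001), (nat_lit 0x19ba001), (nat_lit 0x1437001), (nat_lit 0x1436001), (nat_lit 0x1a6e001)], [(nat_lit 0x144c001), (nat_lit 0x1a68001), (nat_lit 0x1439001), (nat_lit 0x1a71001), (nat_lit 0x1438001), (nat_lit 0x143a001)], [(nat_lit 0x143e001), (nat_lit 0x1444001), (nat_lit 0x1a7b001), (nat_lit 0x143f001), (nat_lit 0x1a80001), (nat_lit 0x144a001)], [(nat_lit 0x1443001), (nat_lit 0x1444001), (nat_lit 0x1445001), (nat_lit 0x1449001), (nat_lit 0x1a87001), (nat_lit 0x1446001)], [(nat_lit 0x1a79001), (nat_lit 0x145b001), (nat_lit 0x143b001), (nat_lit 0x1a76001), (nat_lit 0x1a77001), (nat_lit 0x1454001)], [(nat_lit 0x1a7f001), (nat_lit 0x143d001), (nat_lit 0x1a78001), (nat_lit 0x1a64001), (nat_lit 0x143c001), (nat_lit 0x1a7c001)], [(nat_lit 0x1a84001), (nat_lit 0x1441001), (nat_lit 0x1442001), (nat_lit 0x1a81001), (nat_lit 0x1440001), (nat_lit 0x1a6a001)], [(nat_lit 0x144c001), (nat_lit 0x1a7d001), (nat_lit 0x144d001), (nat_lit 0x1a6f001), (nat_lit 0x144e001), (nat_lit 0x144b001)], [(nat_lit 0x1450001), (nat_lit 0x1a82001), (nat_lit 0x1a8c001), (nat_lit 0x144f001), (nat_lit 0x1451001), (nat_lit 0x1a74001)], [(nat_lit 0x18d9001), (nat_lit 0x1b3e001), (nat_lit 0x18da001), (nat_lit 0x18db001), (nat_lit 0x1bc0001), (nat_lit 0x18dc001)], [(nat_lit 0x18d8001), (nat_lit 0x18d5001), (nat_lit 0x18d7001), (nat_lit 0x18d4001), (nat_lit 0x2012001), (nat_lit 0x18d6001)], [(nat_lit 0x18de001), (nat_lit 0x2017001), (nat_lit 0x18dd001), (nat_lit 0x18df001), (nat_lit 0x201c001), (nat_lit 0x18e0001)], [(nat_lit 0x1b5a001), (nat_lit 0x2014001), (nat_lit 0x201e001), (nat_lit 0x18e2001), (nat_lit 0x18e1001), (nat_lit 0x201f001)], [(nat_lit 0x18e4001), (nat_lit 0x18e5001), (nat_lit 0x18e6001), (nat_lit 0x18e7001), (nat_lit 0x2021001), (nat_lit 0x18e3001)], [(nat_lit 0x1b01001), (nat_lit 0x18e9001), (nat_lit 0x18ea001), (nat_lit 0x2025001), (nat_lit 0x18e8001), (nat_lit 0x18eb001)], [(nat_lit 0x1972001), (nat_lit 0x1973001), (nat_lit 0x1bbf001), (nat_lit 0x20c8001), (nat_lit 0x1974001), (nat_lit 0x20ce001)], [(nat_lit 0x20c6001), (nat_lit 0x196c001), (nat_lit 0x20c1001), (nat_lit 0x196b001), (nat_lit 0x196d001), (nat_lit 0x20c3001)], [(nat_lit 0x20ca001), (nat_lit 0x196f001), (nat_lit 0x1970001), (nat_lit 0x20c5001), (nat_lit 0x1971001), (nat_lit 0x196e001)], [(nat_lit 0x1976001), (nat_lit 0x20cf001), (nat_lit 0x1975001), (nat_lit 0x1977001), (nat_lit 0x1978001), (nat_lit 0x1979001)], [(nat_lit 0x197b001), (nat_lit 0x20c4001), (nat_lit 0x197c001), (nat_lit 0x197d001), (nat_lit 0x1a8e001), (nat_lit 0x197a001)], [(nat_lit 0x14cc001), (nat_lit 0x14cb001), (nat_lit 0x1b3c001), (nat_lit 0x1b39001), (nat_lit 0x14cd001), (nat_lit 0x1b17001)], [(nat_lit 0x1b38001), (nat_lit 0x14db001), (nat_lit 0x14dc001), (nat_lit 0x14dd001), (nat_lit 0x1b53001), (nat_lit 0x14de001)], [(nat_lit 0x1b14001), (nat_lit 0x14b2001), (nat_lit 0x1b1c001), (nat_lit 0x14b3001), (nat_lit 0x1afe001), (nat_lit 0x14b4001)], [(nat_lit 0x14d7001), (nat_lit 0x1b50001), (nat_lit 0x14d8001), (nat_lit 0x14d9001), (nat_lit 0x14da001), (nat_lit 0x1b4f001)], [(nat_lit 0x1497001), (nat_lit 0x1afd001), (nat_lit 0x1498001), (nat_lit 0x1afa001), (nat_lit 0x1499001), (nat_lit 0x149a001)], [(nat_lit 0x1479001), (nat_lit 0x147a001), (nat_lit 0x147b001), (nat_lit 0x1acd001), (nat_lit 0x147c001), (nat_lit 0x1ac4001)], [(nat_lit 0x1acb001), (nat_lit 0x1477001), (nat_lit 0x1ac5001), (nat_lit 0x1476001), (nat_lit 0x1ac8001), (nat_lit 0x1478001)], [(nat_lit 0x1ac0001), (nat_lit 0x1472001), (nat_lit 0x1473001), (nat_lit 0x1474001), (nat_lit 0x1aba001), (nat_lit 0x1475001)], [(nat_lit 0x147e001), (nat_lit 0x1ac9001), (nat_lit 0x147f001), (nat_lit 0x1480001), (nat_lit 0x147d001), (nat_lit 0x1acf001)], [(nat_lit 0x146f001), (nat_lit 0x1ab8001), (nat_lit 0x146e001), (nat_lit 0x1abc001), (nat_lit 0x1470001), (nat_lit 0x1471001)], [(nat_lit 0x14c9001), (nat_lit 0x1b37001), (nat_lit 0x1b31001), (nat_lit 0x14ca001), (nat_lit 0x1b36001), (nat_lit 0x1b12001)], [(nat_lit 0x14ac001), (nat_lit 0x1b13001), (nat_lit 0x14ad001), (nat_lit 0x1b11001), (nat_lit 0x1af4001), (nat_lit 0x14ae001)], [(nat_lit 0x1b30001), (nat_lit 0x1b27001), (nat_lit 0x14c6001), (nat_lit 0x1b2b001), (nat_lit 0x1b2e001), (nat_lit 0x1b0c001)], [(nat_lit 0x1b35001), (nat_lit 0x14c8001), (nat_lit 0x1b2f001), (nat_lit 0x1aca001), (nat_lit 0x14c7001), (nat_lit 0x1b33001)], [(nat_lit 0x1b0f001), (nat_lit 0x14aa001), (nat_lit 0x1b0a001), (nat_lit 0x14a9001), (nat_lit 0x1b0d001), (nat_lit 0x14ab001)], [(nat_lit 0x1af2001), (nat_lit 0x1493001), (nat_lit 0x1494001), (nat_lit 0x1af0001), (nat_lit 0x1495001), (nat_lit 0x1abb001)], [(nat_lit 0x14cf001), (nat_lit 0x14ce001), (nat_lit 0x1b28001), (nat_lit 0x14d0001), (nat_lit 0x1b42001), (nat_lit 0x14d1001)], [(nat_lit 0x14d3001), (nat_lit 0x1b44001), (nat_lit 0x14d4001), (nat_lit 0x14d5001), (nat_lit 0x14d2001), (nat_lit 0x1b46001)], [(nat_lit 0x1b4b001), (nat_lit 0x1b34001), (nat_lit 0x1b48001), (nat_lit 0x1ad2001), (nat_lit 0x1b1b001), (nat_lit 0x14d6001)], [(nat_lit 0x14b0001), (nat_lit 0x1b0e001), (nat_lit 0x14b1001), (nat_lit 0x1af7001), (nat_lit 0x14af001), (nat_lit 0x1b18001)], [(nat_lit 0x1af9001), (nat_lit 0x1af1001), (nat_lit 0x1af5001), (nat_lit 0x1496001), (nat_lit 0x1af6001), (nat_lit 0x1abf001)], [(nat_lit 0x19bf001), (nat_lit 0x19c0001), (nat_lit 0x1f35001), (nat_lit 0x211c001), (nat_lit 0x19c1001), (nat_lit 0x211f001)], [(nat_lit 0x211a001), (nat_lit 0x19bc001), (nat_lit 0x2119001), (nat_lit 0x19bb001), (nat_lit 0x1a83001), (nat_lit 0x20d2001)], [(nat_lit 0x211d001), (nat_lit 0x19be001), (nat_lit 0x1f29001), (nat_lit 0x20d0001), (nat_lit 0x1a7e001), (nat_lit 0x19bd001)], [(nat_lit 0x19ac001), (nat_lit 0x20c7001), (nat_lit 0x210e001), (nat_lit 0x19ad001), (nat_lit 0x2105001), (nat_lit 0x2113001)], [(nat_lit 0x19ae001), (nat_lit 0x20cb001), (nat_lit 0x1ac2001), (nat_lit 0x2112001), (nat_lit 0x20ec001), (nat_lit 0x19af001)], [(nat_lit 0x210d001), (nat_lit 0x2106001), (nat_lit 0x19a8001), (nat_lit 0x2109001), (nat_lit 0x2101001), (nat_lit 0x210a001)], [(nat_lit 0x2102001), (nat_lit 0x19a3001), (nat_lit 0x2100001), (nat_lit 0x19a2001), (nat_lit 0x19a4001), (nat_lit 0x20ff001)], [(nat_lit 0x2111001), (nat_lit 0x19aa001), (nat_lit 0x210c001), (nat_lit 0x19ab001), (nat_lit 0x210f001), (nat_lit 0x19a9001)], [(nat_lit 0x20ea001), (nat_lit 0x1990001), (nat_lit 0x1ab9001), (nat_lit 0x20e5001), (nat_lit 0x1991001), (nat_lit 0x198f001)], [(nat_lit 0x2116001), (nat_lit 0x19b6001), (nat_lit 0x2107001), (nat_lit 0x19b7001), (nat_lit 0x2115001), (nat_lit 0x19b8001)], [(nat_lit 0x19b1001), (nat_lit 0x2114001), (nat_lit 0x19b0001), (nat_lit 0x19d5001), (nat_lit 0x19b2001), (nat_lit 0x19e8001)], [(nat_lit 0x19b4001), (nat_lit 0x20fe001), (nat_lit 0x19e9001), (nat_lit 0x19b5001), (nat_lit 0x20f3001), (nat_lit 0x19b3001)], [(nat_lit 0x1a8d001), (nat_lit 0x2110001), (nat_lit 0x19ba001), (nat_lit 0x20f8001), (nat_lit 0x19b9001), (nat_lit 0x20f4001)], [(nat_lit 0x1999001), (nat_lit 0x20e4001), (nat_lit 0x20f7001), (nat_lit 0x199a001), (nat_lit 0x20f9001), (nat_lit 0x1998001)], [(nat_lit 0x1968001), (nat_lit 0x1967001), (nat_lit 0x1969001), (nat_lit 0x20b5001), (nat_lit 0x20bf001), (nat_lit 0x196a001)], [(nat_lit 0x19a5001), (nat_lit 0x19a6001), (nat_lit 0x20be001), (nat_lit 0x2104001), (nat_lit 0x19a7001), (nat_lit 0x20c0001)], [(nat_lit 0x1992001), (nat_lit 0x1993001), (nat_lit 0x1af3001), (nat_lit 0x20e8001), (nat_lit 0x1994001), (nat_lit 0x20ed001)], [(nat_lit 0x20b4001), (nat_lit 0x199c001), (nat_lit 0x20fa001), (nat_lit 0x199b001), (nat_lit 0x20ef001), (nat_lit 0x199d001)], [(nat_lit 0x20bd001), (nat_lit 0x199f001), (nat_lit 0x19a0001), (nat_lit 0x20fd001), (nat_lit 0x199e001), (nat_lit 0x19a1001)], [(nat_lit 0x20e6001), (nat_lit 0x198d001), (nat_lit 0x20e1001), (nat_lit 0x198c001), (nat_lit 0x198e001), (nat_lit 0x20e3001)], [(nat_lit 0x1996001), (nat_lit 0x20ee001), (nat_lit 0x1995001), (nat_lit 0x20f0001), (nat_lit 0x1997001), (nat_lit 0x20f5001)], [(nat_lit 0x1b2a001), (nat_lit 0x1b0b001), (nat_lit 0x14f8001), (nat_lit 0x1b6e001), (nat_lit 0x1b6d001), (nat_lit 0x1b29001)], [(nat_lit 0x1b43001), (nat_lit 0x14f5001), (nat_lit 0x1b6c001), (nat_lit 0x14f6001), (nat_lit 0x14f7001), (nat_lit 0x1b6b001)], [(nat_lit 0x14f2001), (nat_lit 0x1b69001), (nat_lit 0x1b1a001), (nat_lit 0x14f3001), (nat_lit 0x1b4a001), (nat_lit 0x14f4001)], [(nat_lit 0x1b47001), (nat_lit 0x14e7001), (nat_lit 0x1b4c001), (nat_lit 0x14e8001), (nat_lit 0x14e9001), (nat_lit 0x14e6001)], [(nat_lit 0x14ee001), (nat_lit 0x1b10001), (nat_lit 0x1b3b001), (nat_lit 0x1b16001), (nat_lit 0x1b62001), (nat_lit 0x1b3a001)], [(nat_lit 0x1b61001), (nat_lit 0x14ed001), (nat_lit 0x1b51001), (nat_lit 0x1b5d001), (nat_lit 0x14ec001), (nat_lit 0x1b5f001)], [(nat_lit 0x1af8001), (nat_lit 0x1b5e001), (nat_lit 0x1b63001), (nat_lit 0x14ef001), (nat_lit 0x1afb001), (nat_lit 0x1b66001)], [(nat_lit 0x1b19001), (nat_lit 0x1b60001), (nat_lit 0x14f1001), (nat_lit 0x1b68001), (nat_lit 0x1b4e001), (nat_lit 0x14f0001)], [(nat_lit 0x19c3001), (nat_lit 0x19c4001), (nat_lit 0x1b2c001), (nat_lit 0x19c5001), (nat_lit 0x20e9001), (nat_lit 0x20b6001)], [(nat_lit 0x1b2d001), (nat_lit 0x20fb001), (nat_lit 0x19c2001), (nat_lit 0x1b32001), (nat_lit 0x20e2001), (nat_lit 0x20fc001)], [(nat_lit 0x1919001), (nat_lit 0x205b001), (nat_lit 0x1918001), (nat_lit 0x1917001), (nat_lit 0x2061001), (nat_lit 0x2064001)], [(nat_lit 0x19cb001), (nat_lit 0x20e7001), (nat_lit 0x2063001), (nat_lit 0x19cc001), (nat_lit 0x19cd001), (nat_lit 0x2125001)], [(nat_lit 0x195d001), (nat_lit 0x20b3001), (nat_lit 0x2067001), (nat_lit 0x195e001), (nat_lit 0x20b2001), (nat_lit 0x195f001)], [(nat_lit 0x1963001), (nat_lit 0x20bc001), (nat_lit 0x1964001), (nat_lit 0x20ba001), (nat_lit 0x1965001), (nat_lit 0x1966001)], [(nat_lit 0x2065001), (nat_lit 0x1959001), (nat_lit 0x1958001), (nat_lit 0x2075001), (nat_lit 0x20a8001), (nat_lit 0x195a001)], [(nat_lit 0x191f001), (nat_lit 0x2073001), (nat_lit 0x1920001), (nat_lit 0x1921001), (nat_lit 0x206e001), (nat_lit 0x2076001)], [(nat_lit 0x2062001), (nat_lit 0x20a9001), (nat_lit 0x19c7001), (nat_lit 0x2120001), (nat_lit 0x19c6001), (nat_lit 0x2121001)], [(nat_lit 0x2123001), (nat_lit 0x19c9001), (nat_lit 0x2122001), (nat_lit 0x19ca001), (nat_lit 0x20b0001), (nat_lit 0x19c8001)], [(nat_lit 0x20b1001), (nat_lit 0x195c001), (nat_lit 0x20aa001), (nat_lit 0x20ab001), (nat_lit 0x195b001), (nat_lit 0x20ae001)], [(nat_lit 0x20b9001), (nat_lit 0x1961001), (nat_lit 0x20b7001), (nat_lit 0x1960001), (nat_lit 0x20ad001), (nat_lit 0x1962001)], [(nat_lit 0x20f1001), (nat_lit 0x20ac001), (nat_lit 0x1a75001), (nat_lit 0x19ce001), (nat_lit 0x19cf001), (nat_lit 0x1a8f001)], [(nat_lit 0x20f6001), (nat_lit 0x20af001), (nat_lit 0x19d1001), (nat_lit 0x1a90001), (nat_lit 0x19d2001), (nat_lit 0x19d0001)], [(nat_lit 0x19e7001), (nat_lit 0x2126001), (nat_lit 0x19d3001), (nat_lit 0x19d5001), (nat_lit 0x1a73001), (nat_lit 0x19d4001)], [(nat_lit 0x1b1d001), (nat_lit 0x19df001), (nat_lit 0x1b15001), (nat_lit 0x202b001), (nat_lit 0x2138001), (nat_lit 0x1b40001)], [(nat_lit 0x18ef001), (nat_lit 0x2028001), (nat_lit 0x18ec001), (nat_lit 0x18ed001), (nat_lit 0x202d001), (nat_lit 0x18ee001)], [(nat_lit 0x19dc001), (nat_lit 0x2137001), (nat_lit 0x19dd001), (nat_lit 0x2132001), (nat_lit 0x19de001), (nat_lit 0x2136001)], [(nat_lit 0x19e0001), (nat_lit 0x20eb001), (nat_lit 0x2134001), (nat_lit 0x2124001), (nat_lit 0x20cd001), (nat_lit 0x19e1001)], [(nat_lit 0x19e3001), (nat_lit 0x2103001), (nat_lit 0x213c001), (nat_lit 0x19e4001), (nat_lit 0x20c9001), (nat_lit 0x20bb001)], [(nat_lit 0x18f3001), (nat_lit 0x2038001), (nat_lit 0x18f4001), (nat_lit 0x18f5001), (nat_lit 0x2037001), (nat_lit 0x18f6001)], [(nat_lit 0x202e001), (nat_lit 0x2023001), (nat_lit 0x2035001), (nat_lit 0x2129001), (nat_lit 0x19d6001), (nat_lit 0x212b001)], [(nat_lit 0x2131001), (nat_lit 0x2026001), (nat_lit 0x212c001), (nat_lit 0x19d7001), (nat_lit 0x212a001), (nat_lit 0x212d001)], [(nat_lit 0x2133001), (nat_lit 0x19d9001), (nat_lit 0x19da001), (nat_lit 0x212f001), (nat_lit 0x19db001), (nat_lit 0x19d8001)], [(nat_lit 0x213d001), (nat_lit 0x2139001), (nat_lit 0x19e2001), (nat_lit 0x213b001), (nat_lit 0x20c2001), (nat_lit 0x20b8001)], [(nat_lit 0x2141001), (nat_lit 0x19e5001), (nat_lit 0x213a001), (nat_lit 0x213e001), (nat_lit 0x20d1001), (nat_lit 0x2128001)], [(nat_lit 0x19e7001), (nat_lit 0x213f001), (nat_lit 0x19e9001), (nat_lit 0x19e6001), (nat_lit 0x1a70001), (nat_lit 0x19e8001)], [(nat_lit 0x1410001), (nat_lit 0x1a37001), (nat_lit 0x140f001), (nat_lit 0x1a41001), (nat_lit 0x1411001), (nat_lit 0x1a40001)], [(nat_lit 0x140c001), (nat_lit 0x140b001), (nat_lit 0x1a3e001), (nat_lit 0x140d001), (nat_lit 0x1a3c001), (nat_lit 0x140e001)], [(nat_lit 0x1a53001), (nat_lit 0x1426001), (nat_lit 0x1425001), (nat_lit 0x1a55001), (nat_lit 0x1a38001), (nat_lit 0x1427001)], [(nat_lit 0x1748001), (nat_lit 0x1a56001), (nat_lit 0x1a5e001), (nat_lit 0x142d001), (nat_lit 0x1a60001), (nat_lit 0x1a5d001)], [(nat_lit 0x1736001), (nat_lit 0x142b001), (nat_lit 0x142a001), (nat_lit 0x1a5b001), (nat_lit 0x1a5a001), (nat_lit 0x142c001)], [(nat_lit 0x1720001), (nat_lit 0x1428001), (nat_lit 0x1a58001), (nat_lit 0x16a3001), (nat_lit 0x1429001), (nat_lit 0x1a3d001)], [(nat_lit 0x1a26001), (nat_lit 0x1404001), (nat_lit 0x1a36001), (nat_lit 0x1a31001), (nat_lit 0x1405001), (nat_lit 0x1a35001)], [(nat_lit 0x13f9001), (nat_lit 0x1a30001), (nat_lit 0x1a10001), (nat_lit 0x13fa001), (nat_lit 0x13fb001), (nat_lit 0x1a0d001)], [(nat_lit 0x1400001), (nat_lit 0x1a33001), (nat_lit 0x1401001), (nat_lit 0x1a0c001), (nat_lit 0x1402001), (nat_lit 0x1403001)], [(nat_lit 0x1406001), (nat_lit 0x1a39001), (nat_lit 0x1407001), (nat_lit 0x1408001), (nat_lit 0x1409001), (nat_lit 0x140a001)], [(nat_lit 0x1422001), (nat_lit 0x1421001), (nat_lit 0x1a52001), (nat_lit 0x1423001), (nat_lit 0x1a27001), (nat_lit 0x1424001)], [(nat_lit 0x1410001), (nat_lit 0x19f9001), (nat_lit 0x13da001), (nat_lit 0x19fc001), (nat_lit 0x13db001), (nat_lit 0x19fd001)], [(nat_lit 0x140c001), (nat_lit 0x13dd001), (nat_lit 0x19fe001), (nat_lit 0x13de001), (nat_lit 0x19ff001), (nat_lit 0x13dc001)], [(nat_lit 0x1a07001), (nat_lit 0x13df001), (nat_lit 0x19fa001), (nat_lit 0x1a03001), (nat_lit 0x13e0001), (nat_lit 0x1a05001)], [(nat_lit 0x13e2001), (nat_lit 0x1a04001), (nat_lit 0x1a0a001), (nat_lit 0x13e1001), (nat_lit 0x15fb001), (nat_lit 0x1a0e001)], [(nat_lit 0x13e4001), (nat_lit 0x1a06001), (nat_lit 0x13e5001), (nat_lit 0x1a11001), (nat_lit 0x1a13001), (nat_lit 0x13e3001)], [(nat_lit 0x13e7001), (nat_lit 0x1a00001), (nat_lit 0x1a15001), (nat_lit 0x13e8001), (nat_lit 0x13e6001), (nat_lit 0x13e9001)], [(nat_lit 0x13ee001), (nat_lit 0x1a25001), (nat_lit 0x16ff001), (nat_lit 0x1a1f001), (nat_lit 0x13ef001), (nat_lit 0x1a24001)], [(nat_lit 0x1a1e001), (nat_lit 0x13eb001), (nat_lit 0x1a17001), (nat_lit 0x13ea001), (nat_lit 0x1a18001), (nat_lit 0x1a1b001)], [(nat_lit 0x1a23001), (nat_lit 0x13ed001), (nat_lit 0x16fa001), (nat_lit 0x1a1d001), (nat_lit 0x1a20001), (nat_lit 0x13ec001)], [(nat_lit 0x1a0f001), (nat_lit 0x1a28001), (nat_lit 0x13f0001), (nat_lit 0x13f1001), (nat_lit 0x1a2b001), (nat_lit 0x13f2001)], [(nat_lit 0x13f5001), (nat_lit 0x1a19001), (nat_lit 0x1a2d001), (nat_lit 0x13f4001), (nat_lit 0x13f3001), (nat_lit 0x18a9001)], [(nat_lit 0x1a0b001), (nat_lit 0x1a1c001), (nat_lit 0x13f7001), (nat_lit 0x13f8001), (nat_lit 0x1a2e001), (nat_lit 0x13f6001)], [(nat_lit 0x13ff001), (nat_lit 0x1a21001), (nat_lit 0x13fd001), (nat_lit 0x18a6001), (nat_lit 0x13fc001), (nat_lit 0x13fe001)], [(nat_lit 0x1417001), (nat_lit 0x1418001), (nat_lit 0x1a4a001), (nat_lit 0x1419001), (nat_lit 0x1a4e001), (nat_lit 0x141a001)], [(nat_lit 0x141d001), (nat_lit 0x141e001), (nat_lit 0x1730001), (nat_lit 0x141f001), (nat_lit 0x1a51001), (nat_lit 0x1420001)], [(nat_lit 0x1a49001), (nat_lit 0x1413001), (nat_lit 0x1412001), (nat_lit 0x1a43001), (nat_lit 0x1a46001), (nat_lit 0x1414001)], [(nat_lit 0x1a4c001), (nat_lit 0x1416001), (nat_lit 0x1a48001), (nat_lit 0x1a1a001), (nat_lit 0x1415001), (nat_lit 0x18a0001)], [(nat_lit 0x1a4f001), (nat_lit 0x141c001), (nat_lit 0x1719001), (nat_lit 0x189a001), (nat_lit 0x141b001), (nat_lit 0x1a22001)], [(nat_lit 0x148f001), (nat_lit 0x1a8a001), (nat_lit 0x148e001), (nat_lit 0x1ae7001), (nat_lit 0x1891001), (nat_lit 0x1a4b001)], [(nat_lit 0x1ae8001), (nat_lit 0x1492001), (nat_lit 0x1aed001), (nat_lit 0x1491001), (nat_lit 0x1aee001), (nat_lit 0x1a45001)], [(nat_lit 0x1aa2001), (nat_lit 0x1aef001), (nat_lit 0x1b08001), (nat_lit 0x1893001), (nat_lit 0x14a8001), (nat_lit 0x1b09001)], [(nat_lit 0x1a95001), (nat_lit 0x1a47001), (nat_lit 0x14a0001), (nat_lit 0x1b04001), (nat_lit 0x14a1001), (nat_lit 0x1896001)], [(nat_lit 0x150a001), (nat_lit 0x1683001), (nat_lit 0x1509001), (nat_lit 0x1b8a001), (nat_lit 0x1b89001), (nat_lit 0x150b001)], [(nat_lit 0x1507001), (nat_lit 0x1506001), (nat_lit 0x1b87001), (nat_lit 0x1b45001), (nat_lit 0x1508001), (nat_lit 0x1b86001)], [(nat_lit 0x1b8b001), (nat_lit 0x1526001), (nat_lit 0x1baf001), (nat_lit 0x1525001), (nat_lit 0x1bb3001), (nat_lit 0x1527001)], [(nat_lit 0x1b88001), (nat_lit 0x1523001), (nat_lit 0x1522001), (nat_lit 0x1bad001), (nat_lit 0x1524001), (nat_lit 0x1bac001)], [(nat_lit 0x1b84001), (nat_lit 0x151f001), (nat_lit 0x1ba9001), (nat_lit 0x1b6a001), (nat_lit 0x1520001), (nat_lit 0x1521001)], [(nat_lit 0x1463001), (nat_lit 0x189c001), (nat_lit 0x1aa9001), (nat_lit 0x1464001), (nat_lit 0x1aaf001), (nat_lit 0x17af001)], [(nat_lit 0x1468001), (nat_lit 0x18a2001), (nat_lit 0x1a6c001), (nat_lit 0x17ae001), (nat_lit 0x1ab4001), (nat_lit 0x1469001)], [(nat_lit 0x1aa8001), (nat_lit 0x179d001), (nat_lit 0x145f001), (nat_lit 0x1aa3001), (nat_lit 0x1aa6001), (nat_lit 0x1798001)], [(nat_lit 0x1aad001), (nat_lit 0x1461001), (nat_lit 0x1aa7001), (nat_lit 0x1462001), (nat_lit 0x1460001), (nat_lit 0x1aaa001)], [(nat_lit 0x1ab3001), (nat_lit 0x1466001), (nat_lit 0x1a69001), (nat_lit 0x1ab0001), (nat_lit 0x1465001), (nat_lit 0x1467001)], [(nat_lit 0x18a5001), (nat_lit 0x1aab001), (nat_lit 0x17ab001), (nat_lit 0x146b001), (nat_lit 0x17a9001), (nat_lit 0x146a001)], [(nat_lit 0x18a8001), (nat_lit 0x1ab1001), (nat_lit 0x1ab6001), (nat_lit 0x146c001), (nat_lit 0x17a6001), (nat_lit 0x146d001)], [(nat_lit 0x1484001), (nat_lit 0x1ae1001), (nat_lit 0x1485001), (nat_lit 0x1ada001), (nat_lit 0x1ae0001), (nat_lit 0x1a54001)], [(nat_lit 0x1488001), (nat_lit 0x1a50001), (nat_lit 0x1adf001), (nat_lit 0x1aae001), (nat_lit 0x1489001), (nat_lit 0x1ae3001)], [(nat_lit 0x148c001), (nat_lit 0x1a4d001), (nat_lit 0x1a86001), (nat_lit 0x1ae6001), (nat_lit 0x148d001), (nat_lit 0x1ab5001)], [(nat_lit 0x1ad8001), (nat_lit 0x1a5c001), (nat_lit 0x1ad4001), (nat_lit 0x1481001), (nat_lit 0x1ad7001), (nat_lit 0x1a57001)], [(nat_lit 0x1ade001), (nat_lit 0x1a59001), (nat_lit 0x1483001), (nat_lit 0x1adb001), (nat_lit 0x1482001), (nat_lit 0x1adc001)], [(nat_lit 0x1ae2001), (nat_lit 0x1487001), (nat_lit 0x1add001), (nat_lit 0x1aac001), (nat_lit 0x1a34001), (nat_lit 0x1486001)], [(nat_lit 0x1ae5001), (nat_lit 0x148b001), (nat_lit 0x1ae4001), (nat_lit 0x148a001), (nat_lit 0x1a32001), (nat_lit 0x1ab2001)], [(nat_lit 0x1a2c001), (nat_lit 0x1aea001), (nat_lit 0x1490001), (nat_lit 0x1aeb001), (nat_lit 0x1a12001), (nat_lit 0x1ab7001)], [(nat_lit 0x1503001), (nat_lit 0x1b83001), (nat_lit 0x1698001), (nat_lit 0x1b49001), (nat_lit 0x1504001), (nat_lit 0x1505001)], [(nat_lit 0x14fc001), (nat_lit 0x168a001), (nat_lit 0x14fd001), (nat_lit 0x1694001), (nat_lit 0x1b79001), (nat_lit 0x14fe001)], [(nat_lit 0x1b77001), (nat_lit 0x14fa001), (nat_lit 0x14fb001), (nat_lit 0x1b70001), (nat_lit 0x14f9001), (nat_lit 0x1b73001)], [(nat_lit 0x167d001), (nat_lit 0x1b71001), (nat_lit 0x1b7a001), (nat_lit 0x14ff001), (nat_lit 0x1500001), (nat_lit 0x1b7f001)], [(nat_lit 0x1697001), (nat_lit 0x1b74001), (nat_lit 0x1502001), (nat_lit 0x1b81001), (nat_lit 0x178f001), (nat_lit 0x1501001)], [(nat_lit 0x1516001), (nat_lit 0x1517001), (nat_lit 0x1b78001), (nat_lit 0x1658001), (nat_lit 0x1518001), (nat_lit 0x1b9f001)], [(nat_lit 0x1657001), (nat_lit 0x1511001), (nat_lit 0x1b97001), (nat_lit 0x1510001), (nat_lit 0x1512001), (nat_lit 0x1b99001)], [(nat_lit 0x1b9c001), (nat_lit 0x1514001), (nat_lit 0x1b75001), (nat_lit 0x1b9b001), (nat_lit 0x1515001), (nat_lit 0x1513001)], [(nat_lit 0x151a001), (nat_lit 0x1ba0001), (nat_lit 0x1519001), (nat_lit 0x1ba2001), (nat_lit 0x151b001), (nat_lit 0x1ba5001)], [(nat_lit 0x151d001), (nat_lit 0x1b9a001), (nat_lit 0x1ba7001), (nat_lit 0x151e001), (nat_lit 0x1600001), (nat_lit 0x151c001)], [(nat_lit 0x1588001), (nat_lit 0x1587001), (nat_lit 0x1c44001), (nat_lit 0x1589001), (nat_lit 0x158a001), (nat_lit 0x1c43001)], [(nat_lit 0x158c001), (nat_lit 0x158b001), (nat_lit 0x1777001), (nat_lit 0x1c42001), (nat_lit 0x158d001), (nat_lit 0x158e001)], [(nat_lit 0x1c45001), (nat_lit 0x1c78001), (nat_lit 0x15c0001), (nat_lit 0x1c7f001), (nat_lit 0x1c68001), (nat_lit 0x1c7e001)], [(nat_lit 0x1c41001), (nat_lit 0x15bd001), (nat_lit 0x1c7c001), (nat_lit 0x15be001), (nat_lit 0x1c7b001), (nat_lit 0x15bf001)], [(nat_lit 0x1c74001), (nat_lit 0x15b7001), (nat_lit 0x1c77001), (nat_lit 0x15b8001), (nat_lit 0x1c5c001), (nat_lit 0x15b9001)], [(nat_lit 0x15ba001), (nat_lit 0x1c7a001), (nat_lit 0x15bb001), (nat_lit 0x1c3d001), (nat_lit 0x15bc001), (nat_lit 0x1c61001)], [(nat_lit 0x1584001), (nat_lit 0x1c40001), (nat_lit 0x1c37001), (nat_lit 0x1585001), (nat_lit 0x1c3e001), (nat_lit 0x1586001)], [(nat_lit 0x157e001), (nat_lit 0x1c3a001), (nat_lit 0x157f001), (nat_lit 0x1c32001), (nat_lit 0x1580001), (nat_lit 0x1c39001)], [(nat_lit 0x1c8d001), (nat_lit 0x15d3001), (nat_lit 0x15d4001), (nat_lit 0x1c98001), (nat_lit 0x15d5001), (nat_lit 0x1c85001)], [(nat_lit 0x15d0001), (nat_lit 0x1c97001), (nat_lit 0x1c2c001), (nat_lit 0x15d1001), (nat_lit 0x15d2001), (nat_lit 0x1c29001)], [(nat_lit 0x15e0001), (nat_lit 0x15df001), (nat_lit 0x15e1001), (nat_lit 0x15e2001), (nat_lit 0x1c8f001), (nat_lit 0x15e3001)], [(nat_lit 0x1573001), (nat_lit 0x1c10001), (nat_lit 0x1572001), (nat_lit 0x1c13001), (nat_lit 0x1574001), (nat_lit 0x1c16001)], [(nat_lit 0x1576001), (nat_lit 0x1577001), (nat_lit 0x1c18001), (nat_lit 0x1578001), (nat_lit 0x1c1a001), (nat_lit 0x1575001)], [(nat_lit 0x1c24001), (nat_lit 0x1579001), (nat_lit 0x157a001), (nat_lit 0x1c1f001), (nat_lit 0x1c12001), (nat_lit 0x1c21001)], [(nat_lit 0x1c30001), (nat_lit 0x1c20001), (nat_lit 0x1c26001), (nat_lit 0x157b001), (nat_lit 0x1c2a001), (nat_lit 0x1c2b001)], [(nat_lit 0x1c36001), (nat_lit 0x1c22001), (nat_lit 0x157d001), (nat_lit 0x1c2d001), (nat_lit 0x1c34001), (nat_lit 0x157c001)], [(nat_lit 0x1c3c001), (nat_lit 0x1582001), (nat_lit 0x1c35001), (nat_lit 0x1583001), (nat_lit 0x1581001), (nat_lit 0x1c1e001)], [(nat_lit 0x1c4b001), (nat_lit 0x1594001), (nat_lit 0x1c11001), (nat_lit 0x1c47001), (nat_lit 0x1595001), (nat_lit 0x1c49001)], [(nat_lit 0x1c50001), (nat_lit 0x1c48001), (nat_lit 0x1840001), (nat_lit 0x1596001), (nat_lit 0x1c4d001), (nat_lit 0x183e001)], [(nat_lit 0x1c57001), (nat_lit 0x1c4a001), (nat_lit 0x1598001), (nat_lit 0x183d001), (nat_lit 0x1c53001), (nat_lit 0x1597001)], [(nat_lit 0x1c5d001), (nat_lit 0x1c1c001), (nat_lit 0x1c54001), (nat_lit 0x1c1d001), (nat_lit 0x159c001), (nat_lit 0x159d001)], [(nat_lit 0x15b0001), (nat_lit 0x1c73001), (nat_lit 0x1c25001), (nat_lit 0x1c6b001), (nat_lit 0x1c4c001), (nat_lit 0x1c72001)], [(nat_lit 0x1c69001), (nat_lit 0x15ab001), (nat_lit 0x1970001), (nat_lit 0x15aa001), (nat_lit 0x19db001), (nat_lit 0x15ac001)], [(nat_lit 0x1c6f001), (nat_lit 0x15ae001), (nat_lit 0x1c23001), (nat_lit 0x15af001), (nat_lit 0x1c6d001), (nat_lit 0x15ad001)], [(nat_lit 0x15b2001), (nat_lit 0x19d9001), (nat_lit 0x15b3001), (nat_lit 0x1c4e001), (nat_lit 0x15b1001), (nat_lit 0x18eb001)], [(nat_lit 0x15b5001), (nat_lit 0x1c6e001), (nat_lit 0x15b6001), (nat_lit 0x18e2001), (nat_lit 0x15b4001), (nat_lit 0x1c55001)], [(nat_lit 0x15c9001), (nat_lit 0x1c8c001), (nat_lit 0x15ca001), (nat_lit 0x1c8b001), (nat_lit 0x15cb001), (nat_lit 0x18c2001)], [(nat_lit 0x1c8a001), (nat_lit 0x15c8001), (nat_lit 0x1c86001), (nat_lit 0x15c7001), (nat_lit 0x1c87001), (nat_lit 0x18be001)], [(nat_lit 0x1c2e001), (nat_lit 0x1c90001), (nat_lit 0x15cc001), (nat_lit 0x1c38001), (nat_lit 0x1c91001), (nat_lit 0x1c33001)], [(nat_lit 0x15cf001), (nat_lit 0x1c88001), (nat_lit 0x1c93001), (nat_lit 0x15ce001), (nat_lit 0x15cd001), (nat_lit 0x1c94001)], [(nat_lit 0x15db001), (nat_lit 0x15dc001), (nat_lit 0x1c9c001), (nat_lit 0x15dd001), (nat_lit 0x1ca7001), (nat_lit 0x15de001)], [(nat_lit 0x1c9e001), (nat_lit 0x15d7001), (nat_lit 0x15d6001), (nat_lit 0x1c9a001), (nat_lit 0x1c9f001), (nat_lit 0x15d8001)], [(nat_lit 0x1ca5001), (nat_lit 0x15da001), (nat_lit 0x1ca1001), (nat_lit 0x1c89001), (nat_lit 0x15d9001), (nat_lit 0x1ca2001)], [(nat_lit 0x15e5001), (nat_lit 0x1ca3001), (nat_lit 0x15e6001), (nat_lit 0x1c96001), (nat_lit 0x15e7001), (nat_lit 0x15e4001)], [(nat_lit 0x1cd7001), (nat_lit 0x1d05001), (nat_lit 0x1637001), (nat_lit 0x1d0e001), (nat_lit 0x1638001), (nat_lit 0x1d0d001)], [(nat_lit 0x1cd2001), (nat_lit 0x1634001), (nat_lit 0x1d0c001), (nat_lit 0x1635001), (nat_lit 0x1d0a001), (nat_lit 0x1636001)], [(nat_lit 0x1d38001), (nat_lit 0x1654001), (nat_lit 0x1653001), (nat_lit 0x1d3d001), (nat_lit 0x1d06001), (nat_lit 0x1655001)], [(nat_lit 0x1cda001), (nat_lit 0x1d3e001), (nat_lit 0x1d49001), (nat_lit 0x165d001), (nat_lit 0x1d4d001), (nat_lit 0x1d48001)], [(nat_lit 0x1754001), (nat_lit 0x165b001), (nat_lit 0x165a001), (nat_lit 0x1d44001), (nat_lit 0x1d43001), (nat_lit 0x165c001)], [(nat_lit 0x1657001), (nat_lit 0x1656001), (nat_lit 0x1d40001), (nat_lit 0x1658001), (nat_lit 0x1659001), (nat_lit 0x1d0b001)], [(nat_lit 0x1cf7001), (nat_lit 0x162e001), (nat_lit 0x1d04001), (nat_lit 0x1d12001), (nat_lit 0x162f001), (nat_lit 0x1d15001)], [(nat_lit 0x1623001), (nat_lit 0x1d13001), (nat_lit 0x1d16001), (nat_lit 0x1624001), (nat_lit 0x1625001), (nat_lit 0x1d17001)], [(nat_lit 0x162a001), (nat_lit 0x1d19001), (nat_lit 0x162b001), (nat_lit 0x1d1f001), (nat_lit 0x162c001), (nat_lit 0x162d001)], [(nat_lit 0x1630001), (nat_lit 0x1d07001), (nat_lit 0x1631001), (nat_lit 0x176d001), (nat_lit 0x1632001), (nat_lit 0x1633001)], [(nat_lit 0x1649001), (nat_lit 0x1648001), (nat_lit 0x1d37001), (nat_lit 0x164a001), (nat_lit 0x1cf8001), (nat_lit 0x164b001)], [(nat_lit 0x1889001), (nat_lit 0x1672001), (nat_lit 0x1671001), (nat_lit 0x1d63001), (nat_lit 0x1d62001), (nat_lit 0x1673001)], [(nat_lit 0x1885001), (nat_lit 0x166f001), (nat_lit 0x1d60001), (nat_lit 0x1886001), (nat_lit 0x1670001), (nat_lit 0x1d5f001)], [(nat_lit 0x166b001), (nat_lit 0x1d5d001), (nat_lit 0x166c001), (nat_lit 0x1882001), (nat_lit 0x166d001), (nat_lit 0x166e001)], [(nat_lit 0x1c67001), (nat_lit 0x1cdd001), (nat_lit 0x160f001), (nat_lit 0x1cdf001), (nat_lit 0x1c46001), (nat_lit 0x1ce0001)], [(nat_lit 0x1c63001), (nat_lit 0x1611001), (nat_lit 0x1ce1001), (nat_lit 0x1612001), (nat_lit 0x1ce2001), (nat_lit 0x1610001)], [(nat_lit 0x1d21001), (nat_lit 0x1613001), (nat_lit 0x1cde001), (nat_lit 0x1d22001), (nat_lit 0x1c3b001), (nat_lit 0x1ce4001)], [(nat_lit 0x1c17001), (nat_lit 0x1ce5001), (nat_lit 0x1615001), (nat_lit 0x1d1c001), (nat_lit 0x1ce6001), (nat_lit 0x1614001)], [(nat_lit 0x1c1b001), (nat_lit 0x1ce3001), (nat_lit 0x1ce7001), (nat_lit 0x1c5f001), (nat_lit 0x1616001), (nat_lit 0x1c3f001)], [(nat_lit 0x161b001), (nat_lit 0x1cf6001), (nat_lit 0x1cc6001), (nat_lit 0x1cf0001), (nat_lit 0x161c001), (nat_lit 0x1cf5001)], [(nat_lit 0x1cef001), (nat_lit 0x1618001), (nat_lit 0x1ce8001), (nat_lit 0x1617001), (nat_lit 0x1ce9001), (nat_lit 0x1cec001)], [(nat_lit 0x1cf4001), (nat_lit 0x161a001), (nat_lit 0x1cc4001), (nat_lit 0x1cee001), (nat_lit 0x1cf1001), (nat_lit 0x1619001)], [(nat_lit 0x1d1b001), (nat_lit 0x1cf9001), (nat_lit 0x161d001), (nat_lit 0x1c19001), (nat_lit 0x1cfa001), (nat_lit 0x1c15001)], [(nat_lit 0x1620001), (nat_lit 0x1cea001), (nat_lit 0x1cfb001), (nat_lit 0x161f001), (nat_lit 0x161e001), (nat_lit 0x1cfd001)], [(nat_lit 0x1d1e001), (nat_lit 0x1ced001), (nat_lit 0x1c14001), (nat_lit 0x1622001), (nat_lit 0x1d00001), (nat_lit 0x1621001)], [(nat_lit 0x1629001), (nat_lit 0x1cf2001), (nat_lit 0x1627001), (nat_lit 0x1d01001), (nat_lit 0x1626001), (nat_lit 0x1628001)], [(nat_lit 0x163e001), (nat_lit 0x163f001), (nat_lit 0x1d2c001), (nat_lit 0x1640001), (nat_lit 0x1d30001), (nat_lit 0x1641001)], [(nat_lit 0x1644001), (nat_lit 0x1645001), (nat_lit 0x174d001), (nat_lit 0x1646001), (nat_lit 0x1d36001), (nat_lit 0x1647001)], [(nat_lit 0x1d2a001), (nat_lit 0x163a001), (nat_lit 0x1639001), (nat_lit 0x1d23001), (nat_lit 0x1d26001), (nat_lit 0x163b001)], [(nat_lit 0x1d2e001), (nat_lit 0x163d001), (nat_lit 0x1d28001), (nat_lit 0x1ceb001), (nat_lit 0x163c001), (nat_lit 0x1d29001)], [(nat_lit 0x1d34001), (nat_lit 0x1643001), (nat_lit 0x174b001), (nat_lit 0x1d31001), (nat_lit 0x1642001), (nat_lit 0x1cf3001)], [(nat_lit 0x164d001), (nat_lit 0x1d27001), (nat_lit 0x164e001), (nat_lit 0x1cff001), (nat_lit 0x164f001), (nat_lit 0x164c001)], [(nat_lit 0x1651001), (nat_lit 0x1d32001), (nat_lit 0x1d3a001), (nat_lit 0x1650001), (nat_lit 0x1652001), (nat_lit 0x1d03001)], [(nat_lit 0x1660001), (nat_lit 0x1661001), (nat_lit 0x187c001), (nat_lit 0x1662001), (nat_lit 0x1d56001), (nat_lit 0x1663001)], [(nat_lit 0x1d54001), (nat_lit 0x165f001), (nat_lit 0x187a001), (nat_lit 0x1d4e001), (nat_lit 0x165e001), (nat_lit 0x1d51001)], [(nat_lit 0x1668001), (nat_lit 0x1d52001), (nat_lit 0x1669001), (nat_lit 0x1d5c001), (nat_lit 0x166a001), (nat_lit 0x1667001)], [(nat_lit 0x169e001), (nat_lit 0x169f001), (nat_lit 0x169d001), (nat_lit 0x16a0001), (nat_lit 0x16aa001), (nat_lit 0x1875001)], [(nat_lit 0x16a6001), (nat_lit 0x1873001), (nat_lit 0x16a5001), (nat_lit 0x1874001), (nat_lit 0x1d9a001), (nat_lit 0x16a7001)], [(nat_lit 0x16a2001), (nat_lit 0x16a1001), (nat_lit 0x1d98001), (nat_lit 0x16a3001), (nat_lit 0x16a4001), (nat_lit 0x16b0001)], [(nat_lit 0x1de3001), (nat_lit 0x16eb001), (nat_lit 0x16ea001), (nat_lit 0x1dfd001), (nat_lit 0x16ec001), (nat_lit 0x1dfc001)], [(nat_lit 0x16f8001), (nat_lit 0x1dfe001), (nat_lit 0x1e0d001), (nat_lit 0x16f7001), (nat_lit 0x1e0f001), (nat_lit 0x1e0e001)], [(nat_lit 0x16f5001), (nat_lit 0x1dfa001), (nat_lit 0x16f4001), (nat_lit 0x1e0b001), (nat_lit 0x1e09001), (nat_lit 0x16f6001)], [(nat_lit 0x16f1001), (nat_lit 0x16f0001), (nat_lit 0x1e06001), (nat_lit 0x1a01001), (nat_lit 0x16f2001), (nat_lit 0x16f3001)], [(nat_lit 0x1711001), (nat_lit 0x1712001), (nat_lit 0x1710001), (nat_lit 0x1713001), (nat_lit 0x1de5001), (nat_lit 0x1714001)], [(nat_lit 0x1693001), (nat_lit 0x1692001), (nat_lit 0x1695001), (nat_lit 0x1694001), (nat_lit 0x16b7001), (nat_lit 0x1859001)], [(nat_lit 0x172a001), (nat_lit 0x1de4001), (nat_lit 0x172b001), (nat_lit 0x1e11001), (nat_lit 0x1729001), (nat_lit 0x1e45001)], [(nat_lit 0x1872001), (nat_lit 0x1727001), (nat_lit 0x1858001), (nat_lit 0x1726001), (nat_lit 0x1e43001), (nat_lit 0x1728001)], [(nat_lit 0x1d99001), (nat_lit 0x1724001), (nat_lit 0x1723001), (nat_lit 0x1e41001), (nat_lit 0x1725001), (nat_lit 0x1e0a001)], [(nat_lit 0x1720001), (nat_lit 0x171f001), (nat_lit 0x1e3e001), (nat_lit 0x1721001), (nat_lit 0x1722001), (nat_lit 0x1a02001)], [(nat_lit 0x1736001), (nat_lit 0x1e56001), (nat_lit 0x1735001), (nat_lit 0x1d4b001), (nat_lit 0x1e40001), (nat_lit 0x1737001)], [(nat_lit 0x1e69001), (nat_lit 0x1746001), (nat_lit 0x1745001), (nat_lit 0x1e6c001), (nat_lit 0x19fb001), (nat_lit 0x1e57001)], [(nat_lit 0x1748001), (nat_lit 0x1e6d001), (nat_lit 0x1d47001), (nat_lit 0x1747001), (nat_lit 0x1e6e001), (nat_lit 0x1d4c001)], [(nat_lit 0x16d4001), (nat_lit 0x16d3001), (nat_lit 0x1de2001), (nat_lit 0x1dd5001), (nat_lit 0x16d5001), (nat_lit 0x1de1001)], [(nat_lit 0x1dd4001), (nat_lit 0x16e1001), (nat_lit 0x1df3001), (nat_lit 0x16e2001), (nat_lit 0x16e3001), (nat_lit 0x1db7001)], [(nat_lit 0x1ddf001), (nat_lit 0x16e7001), (nat_lit 0x1df9001), (nat_lit 0x1db6001), (nat_lit 0x16e8001), (nat_lit 0x16e9001)], [(nat_lit 0x16bd001), (nat_lit 0x1da9001), (nat_lit 0x16be001), (nat_lit 0x16bf001), (nat_lit 0x16c0001), (nat_lit 0x16bc001)], [(nat_lit 0x16b9001), (nat_lit 0x1db5001), (nat_lit 0x16b8001), (nat_lit 0x16ba001), (nat_lit 0x1b7c001), (nat_lit 0x16bb001)], [(nat_lit 0x171c001), (nat_lit 0x1e3c001), (nat_lit 0x171d001), (nat_lit 0x1e3a001), (nat_lit 0x171e001), (nat_lit 0x1a16001)], [(nat_lit 0x1e50001), (nat_lit 0x1732001), (nat_lit 0x1e54001), (nat_lit 0x1733001), (nat_lit 0x1e3d001), (nat_lit 0x1734001)], [(nat_lit 0x1740001), (nat_lit 0x173f001), (nat_lit 0x1e68001), (nat_lit 0x1741001), (nat_lit 0x1a09001), (nat_lit 0x1e53001)], [(nat_lit 0x1754001), (nat_lit 0x1e49001), (nat_lit 0x1753001), (nat_lit 0x1a5f001), (nat_lit 0x1b98001), (nat_lit 0x1755001)], [(nat_lit 0x1e4b001), (nat_lit 0x172d001), (nat_lit 0x1e48001), (nat_lit 0x172c001), (nat_lit 0x1ba1001), (nat_lit 0x172e001)], [(nat_lit 0x169a001), (nat_lit 0x1877001), (nat_lit 0x169b001), (nat_lit 0x1d96001), (nat_lit 0x169c001), (nat_lit 0x16c4001)], [(nat_lit 0x1679001), (nat_lit 0x16b6001), (nat_lit 0x167a001), (nat_lit 0x1d6d001), (nat_lit 0x167b001), (nat_lit 0x1d75001)], [(nat_lit 0x1d6c001), (nat_lit 0x1675001), (nat_lit 0x1d68001), (nat_lit 0x1674001), (nat_lit 0x1d69001), (nat_lit 0x16d8001)], [(nat_lit 0x1d73001), (nat_lit 0x1677001), (nat_lit 0x1678001), (nat_lit 0x16d7001), (nat_lit 0x1d6e001), (nat_lit 0x1676001)], [(nat_lit 0x167d001), (nat_lit 0x1d6a001), (nat_lit 0x16e0001), (nat_lit 0x167e001), (nat_lit 0x167c001), (nat_lit 0x1d76001)], [(nat_lit 0x16c2001), (nat_lit 0x1d6f001), (nat_lit 0x1680001), (nat_lit 0x1d7a001), (nat_lit 0x167f001), (nat_lit 0x1681001)], [(nat_lit 0x1689001), (nat_lit 0x168a001), (nat_lit 0x1769001), (nat_lit 0x168b001), (nat_lit 0x1d86001), (nat_lit 0x184c001)], [(nat_lit 0x168f001), (nat_lit 0x1857001), (nat_lit 0x1690001), (nat_lit 0x184d001), (nat_lit 0x1d8d001), (nat_lit 0x1691001)], [(nat_lit 0x1768001), (nat_lit 0x1683001), (nat_lit 0x1682001), (nat_lit 0x187d001), (nat_lit 0x1d7f001), (nat_lit 0x1838001)], [(nat_lit 0x1d84001), (nat_lit 0x1685001), (nat_lit 0x1d81001), (nat_lit 0x1d6b001), (nat_lit 0x1684001), (nat_lit 0x1d82001)], [(nat_lit 0x184a001), (nat_lit 0x1687001), (nat_lit 0x1837001), (nat_lit 0x1688001), (nat_lit 0x185f001), (nat_lit 0x1686001)], [(nat_lit 0x1d8b001), (nat_lit 0x168d001), (nat_lit 0x168e001), (nat_lit 0x1d87001), (nat_lit 0x168c001), (nat_lit 0x1d72001)], [(nat_lit 0x1697001), (nat_lit 0x1d83001), (nat_lit 0x1698001), (nat_lit 0x1d78001), (nat_lit 0x1869001), (nat_lit 0x1696001)], [(nat_lit 0x1d94001), (nat_lit 0x1d88001), (nat_lit 0x1d8e001), (nat_lit 0x1699001), (nat_lit 0x1863001), (nat_lit 0x1d7d001)], [(nat_lit 0x172a001), (nat_lit 0x16a8001), (nat_lit 0x16a9001), (nat_lit 0x1d9b001), (nat_lit 0x16aa001), (nat_lit 0x1d9e001)], [(nat_lit 0x16f8001), (nat_lit 0x1d9c001), (nat_lit 0x1da1001), (nat_lit 0x16ab001), (nat_lit 0x1d9d001), (nat_lit 0x1da3001)], [(nat_lit 0x16f5001), (nat_lit 0x1d9f001), (nat_lit 0x16ad001), (nat_lit 0x1da2001), (nat_lit 0x1da4001), (nat_lit 0x16ac001)], [(nat_lit 0x16f1001), (nat_lit 0x16af001), (nat_lit 0x1da5001), (nat_lit 0x1a3b001), (nat_lit 0x16ae001), (nat_lit 0x16b0001)], [(nat_lit 0x16b5001), (nat_lit 0x16b6001), (nat_lit 0x172b001), (nat_lit 0x1dae001), (nat_lit 0x16b7001), (nat_lit 0x1db4001)], [(nat_lit 0x1dac001), (nat_lit 0x16b2001), (nat_lit 0x1da7001), (nat_lit 0x16b1001), (nat_lit 0x1b72001), (nat_lit 0x1da8001)], [(nat_lit 0x1db2001), (nat_lit 0x16b4001), (nat_lit 0x1da0001), (nat_lit 0x1daa001), (nat_lit 0x1daf001), (nat_lit 0x16b3001)], [(nat_lit 0x16c2001), (nat_lit 0x1db0001), (nat_lit 0x16c3001), (nat_lit 0x1db8001), (nat_lit 0x16c1001), (nat_lit 0x16c4001)], [(nat_lit 0x16cc001), (nat_lit 0x1dd3001), (nat_lit 0x1dc6001), (nat_lit 0x16cd001), (nat_lit 0x1dcd001), (nat_lit 0x1dd2001)], [(nat_lit 0x16d1001), (nat_lit 0x1dde001), (nat_lit 0x1d74001), (nat_lit 0x1dd1001), (nat_lit 0x1ddc001), (nat_lit 0x16d2001)], [(nat_lit 0x1dc5001), (nat_lit 0x1dbc001), (nat_lit 0x16c5001), (nat_lit 0x1dbf001), (nat_lit 0x1dc0001), (nat_lit 0x1dc2001)], [(nat_lit 0x1dca001), (nat_lit 0x16c7001), (nat_lit 0x1dc1001), (nat_lit 0x16c8001), (nat_lit 0x16c6001), (nat_lit 0x1dc7001)], [(nat_lit 0x1dd0001), (nat_lit 0x16ca001), (nat_lit 0x1dc4001), (nat_lit 0x16cb001), (nat_lit 0x1dce001), (nat_lit 0x16c9001)], [(nat_lit 0x1dda001), (nat_lit 0x16cf001), (nat_lit 0x1d70001), (nat_lit 0x1dd7001), (nat_lit 0x16ce001), (nat_lit 0x16d0001)], [(nat_lit 0x1de6001), (nat_lit 0x16d6001), (nat_lit 0x1dbd001), (nat_lit 0x16d7001), (nat_lit 0x1aa5001), (nat_lit 0x16d8001)], [(nat_lit 0x16da001), (nat_lit 0x1aa4001), (nat_lit 0x16db001), (nat_lit 0x179f001), (nat_lit 0x16d9001), (nat_lit 0x179b001)], [(nat_lit 0x16dd001), (nat_lit 0x1dc8001), (nat_lit 0x179a001), (nat_lit 0x16de001), (nat_lit 0x1de9001), (nat_lit 0x16dc001)], [(nat_lit 0x1b7b001), (nat_lit 0x1dcf001), (nat_lit 0x16e0001), (nat_lit 0x1dee001), (nat_lit 0x16df001), (nat_lit 0x1ded001)], [(nat_lit 0x16e5001), (nat_lit 0x1dd8001), (nat_lit 0x1df5001), (nat_lit 0x16e4001), (nat_lit 0x1df1001), (nat_lit 0x16e6001)], [(nat_lit 0x1a14001), (nat_lit 0x1dff001), (nat_lit 0x16ed001), (nat_lit 0x1e03001), (nat_lit 0x16ee001), (nat_lit 0x16ef001)], [(nat_lit 0x1e12001), (nat_lit 0x16f9001), (nat_lit 0x16fa001), (nat_lit 0x1a29001), (nat_lit 0x1e01001), (nat_lit 0x16fb001)], [(nat_lit 0x16fe001), (nat_lit 0x1a08001), (nat_lit 0x16ff001), (nat_lit 0x1e1a001), (nat_lit 0x1700001), (nat_lit 0x1e14001)], [(nat_lit 0x1e19001), (nat_lit 0x16fd001), (nat_lit 0x1e15001), (nat_lit 0x16fc001), (nat_lit 0x1e16001), (nat_lit 0x1a2a001)], [(nat_lit 0x1702001), (nat_lit 0x1e17001), (nat_lit 0x1a2f001), (nat_lit 0x1703001), (nat_lit 0x1701001), (nat_lit 0x1e1b001)], [(nat_lit 0x1707001), (nat_lit 0x1708001), (nat_lit 0x1c8e001), (nat_lit 0x1dcc001), (nat_lit 0x1709001), (nat_lit 0x1e22001)], [(nat_lit 0x170d001), (nat_lit 0x170e001), (nat_lit 0x1d8c001), (nat_lit 0x1e2a001), (nat_lit 0x170f001), (nat_lit 0x1ddd001)], [(nat_lit 0x1e1f001), (nat_lit 0x1705001), (nat_lit 0x1c83001), (nat_lit 0x1dc9001), (nat_lit 0x1706001), (nat_lit 0x1704001)], [(nat_lit 0x1e27001), (nat_lit 0x170b001), (nat_lit 0x1e23001), (nat_lit 0x170a001), (nat_lit 0x170c001), (nat_lit 0x1dd9001)], [(nat_lit 0x1716001), (nat_lit 0x1e2c001), (nat_lit 0x1715001), (nat_lit 0x1e2e001), (nat_lit 0x1717001), (nat_lit 0x1df8001)], [(nat_lit 0x1e33001), (nat_lit 0x1718001), (nat_lit 0x1719001), (nat_lit 0x1e31001), (nat_lit 0x171a001), (nat_lit 0x1e02001)], [(nat_lit 0x1e39001), (nat_lit 0x1e32001), (nat_lit 0x1e36001), (nat_lit 0x171b001), (nat_lit 0x1ba4001), (nat_lit 0x1e04001)], [(nat_lit 0x172f001), (nat_lit 0x1e4f001), (nat_lit 0x1730001), (nat_lit 0x1e4d001), (nat_lit 0x1e35001), (nat_lit 0x1731001)], [(nat_lit 0x173c001), (nat_lit 0x173d001), (nat_lit 0x1e61001), (nat_lit 0x173e001), (nat_lit 0x1e67001), (nat_lit 0x1e4e001)], [(nat_lit 0x1e5f001), (nat_lit 0x1739001), (nat_lit 0x1738001), (nat_lit 0x1e58001), (nat_lit 0x1e5c001), (nat_lit 0x1e4a001)], [(nat_lit 0x1e65001), (nat_lit 0x173b001), (nat_lit 0x1e5e001), (nat_lit 0x1e18001), (nat_lit 0x173a001), (nat_lit 0x1e63001)], [(nat_lit 0x1743001), (nat_lit 0x1e64001), (nat_lit 0x1744001), (nat_lit 0x1e1e001), (nat_lit 0x1ba8001), (nat_lit 0x1742001)], [(nat_lit 0x174c001), (nat_lit 0x1e4c001), (nat_lit 0x174d001), (nat_lit 0x1e52001), (nat_lit 0x1e78001), (nat_lit 0x174e001)], [(nat_lit 0x1e76001), (nat_lit 0x174a001), (nat_lit 0x174b001), (nat_lit 0x1e70001), (nat_lit 0x1749001), (nat_lit 0x1e72001)], [(nat_lit 0x1ba3001), (nat_lit 0x1e71001), (nat_lit 0x1b67001), (nat_lit 0x174f001), (nat_lit 0x1e3b001), (nat_lit 0x1b65001)], [(nat_lit 0x1ba6001), (nat_lit 0x1e73001), (nat_lit 0x1751001), (nat_lit 0x1b64001), (nat_lit 0x1752001), (nat_lit 0x1750001)], [(nat_lit 0x1768001), (nat_lit 0x1767001), (nat_lit 0x1769001), (nat_lit 0x176a001), (nat_lit 0x1e90001), (nat_lit 0x176b001)], [(nat_lit 0x1764001), (nat_lit 0x1e8d001), (nat_lit 0x1765001), (nat_lit 0x1e87001), (nat_lit 0x1766001), (nat_lit 0x1e8c001)], [(nat_lit 0x176c001), (nat_lit 0x1b9d001), (nat_lit 0x1e8a001), (nat_lit 0x176d001), (nat_lit 0x176e001), (nat_lit 0x176f001)], [(nat_lit 0x175e001), (nat_lit 0x1bb4001), (nat_lit 0x175f001), (nat_lit 0x1e7c001), (nat_lit 0x175d001), (nat_lit 0x1e7f001)], [(nat_lit 0x1e86001), (nat_lit 0x1bae001), (nat_lit 0x1e83001), (nat_lit 0x1760001), (nat_lit 0x1e7e001), (nat_lit 0x1e84001)], [(nat_lit 0x1e89001), (nat_lit 0x1baa001), (nat_lit 0x1762001), (nat_lit 0x1e85001), (nat_lit 0x1763001), (nat_lit 0x1761001)], [(nat_lit 0x17d9001), (nat_lit 0x17d8001), (nat_lit 0x1eff001), (nat_lit 0x17da001), (nat_lit 0x1e2b001), (nat_lit 0x1edb001)], [(nat_lit 0x17e3001), (nat_lit 0x17e2001), (nat_lit 0x1f0b001), (nat_lit 0x1eda001), (nat_lit 0x1e21001), (nat_lit 0x17e4001)], [(nat_lit 0x1f00001), (nat_lit 0x1ec6001), (nat_lit 0x17f3001), (nat_lit 0x1f18001), (nat_lit 0x1e24001), (nat_lit 0x1ec1001)], [(nat_lit 0x1ed8001), (nat_lit 0x17bc001), (nat_lit 0x1ec0001), (nat_lit 0x17bd001), (nat_lit 0x1ed6001), (nat_lit 0x17be001)], [(nat_lit 0x1ece001), (nat_lit 0x17b4001), (nat_lit 0x1ec7001), (nat_lit 0x17b5001), (nat_lit 0x1e2d001), (nat_lit 0x17b3001)], [(nat_lit 0x17c0001), (nat_lit 0x1ed7001), (nat_lit 0x17c1001), (nat_lit 0x1dec001), (nat_lit 0x17bf001), (nat_lit 0x1df2001)], [(nat_lit 0x184a001), (nat_lit 0x184b001), (nat_lit 0x1849001), (nat_lit 0x184d001), (nat_lit 0x1f79001), (nat_lit 0x184c001)], [(nat_lit 0x1856001), (nat_lit 0x1857001), (nat_lit 0x1858001), (nat_lit 0x1855001), (nat_lit 0x1f81001), (nat_lit 0x1859001)], [(nat_lit 0x1853001), (nat_lit 0x1f78001), (nat_lit 0x1852001), (nat_lit 0x1f7e001), (nat_lit 0x1854001), (nat_lit 0x1f7c001)], [(nat_lit 0x184f001), (nat_lit 0x184e001), (nat_lit 0x1f7a001), (nat_lit 0x1850001), (nat_lit 0x1b9e001), (nat_lit 0x1851001)], [(nat_lit 0x1872001), (nat_lit 0x1873001), (nat_lit 0x1871001), (nat_lit 0x1874001), (nat_lit 0x1f95001), (nat_lit 0x1875001)], [(nat_lit 0x1f82001), (nat_lit 0x1877001), (nat_lit 0x1f98001), (nat_lit 0x1f94001), (nat_lit 0x1876001), (nat_lit 0x1db1001)], [(nat_lit 0x1f7f001), (nat_lit 0x186f001), (nat_lit 0x1f8e001), (nat_lit 0x186e001), (nat_lit 0x1f92001), (nat_lit 0x1870001)], [(nat_lit 0x1f7b001), (nat_lit 0x186b001), (nat_lit 0x186a001), (nat_lit 0x186d001), (nat_lit 0x1b76001), (nat_lit 0x186c001)], [(nat_lit 0x17b6001), (nat_lit 0x1acc001), (nat_lit 0x1ec9001), (nat_lit 0x17b7001), (nat_lit 0x1ecd001), (nat_lit 0x1ed1001)], [(nat_lit 0x17ba001), (nat_lit 0x1ac1001), (nat_lit 0x1c0c001), (nat_lit 0x1ed0001), (nat_lit 0x1ed5001), (nat_lit 0x17bb001)], [(nat_lit 0x1ec8001), (nat_lit 0x1ebf001), (nat_lit 0x17b0001), (nat_lit 0x1ec2001), (nat_lit 0x1ec3001), (nat_lit 0x1ec5001)], [(nat_lit 0x1ecc001), (nat_lit 0x17b2001), (nat_lit 0x1ec4001), (nat_lit 0x1b52001), (nat_lit 0x17b1001), (nat_lit 0x1eca001)], [(nat_lit 0x1ed4001), (nat_lit 0x17b9001), (nat_lit 0x1c0a001), (nat_lit 0x1ed2001), (nat_lit 0x17b8001), (nat_lit 0x1aff001)], [(nat_lit 0x1ad0001), (nat_lit 0x1ecb001), (nat_lit 0x1df0001), (nat_lit 0x1b4d001), (nat_lit 0x1df7001), (nat_lit 0x17c2001)], [(nat_lit 0x1abd001), (nat_lit 0x1ed3001), (nat_lit 0x1aec001), (nat_lit 0x17c3001), (nat_lit 0x1e30001), (nat_lit 0x1afc001)], [(nat_lit 0x17cb001), (nat_lit 0x1ef3001), (nat_lit 0x17cc001), (nat_lit 0x181e001), (nat_lit 0x1eed001), (nat_lit 0x1ef2001)], [(nat_lit 0x17d0001), (nat_lit 0x1e28001), (nat_lit 0x1eec001), (nat_lit 0x17d1001), (nat_lit 0x17d2001), (nat_lit 0x1ef9001)], [(nat_lit 0x17d5001), (nat_lit 0x1ed9001), (nat_lit 0x1ef1001), (nat_lit 0x17d6001), (nat_lit 0x1efe001), (nat_lit 0x17d7001)], [(nat_lit 0x1ee1001), (nat_lit 0x17c4001), (nat_lit 0x17c5001), (nat_lit 0x1edc001), (nat_lit 0x1ede001), (nat_lit 0x1ac7001)], [(nat_lit 0x181f001), (nat_lit 0x1edd001), (nat_lit 0x1821001), (nat_lit 0x17c6001), (nat_lit 0x1ee3001), (nat_lit 0x1ee6001)], [(nat_lit 0x1eeb001), (nat_lit 0x1edf001), (nat_lit 0x17c8001), (nat_lit 0x1ee8001), (nat_lit 0x17c7001), (nat_lit 0x1ee9001)], [(nat_lit 0x1ef0001), (nat_lit 0x1ac6001), (nat_lit 0x17ca001), (nat_lit 0x1ee7001), (nat_lit 0x1eee001), (nat_lit 0x17c9001)], [(nat_lit 0x1ef7001), (nat_lit 0x17ce001), (nat_lit 0x1eea001), (nat_lit 0x17cf001), (nat_lit 0x1ef4001), (nat_lit 0x17cd001)], [(nat_lit 0x1efd001), (nat_lit 0x17d4001), (nat_lit 0x1eef001), (nat_lit 0x1efa001), (nat_lit 0x17d3001), (nat_lit 0x1ef6001)], [(nat_lit 0x17eb001), (nat_lit 0x1ecf001), (nat_lit 0x1ee2001), (nat_lit 0x1ac3001), (nat_lit 0x1f17001), (nat_lit 0x1ace001)], [(nat_lit 0x1f16001), (nat_lit 0x17ea001), (nat_lit 0x1ee0001), (nat_lit 0x1f12001), (nat_lit 0x17e9001), (nat_lit 0x1f14001)], [(nat_lit 0x1e2f001), (nat_lit 0x1f13001), (nat_lit 0x1e05001), (nat_lit 0x17ec001), (nat_lit 0x1abe001), (nat_lit 0x1e37001)], [(nat_lit 0x1df6001), (nat_lit 0x1f15001), (nat_lit 0x17ee001), (nat_lit 0x1e38001), (nat_lit 0x1ad3001), (nat_lit 0x17ed001)], [(nat_lit 0x1def001), (nat_lit 0x1ef5001), (nat_lit 0x1ad1001), (nat_lit 0x1b7d001), (nat_lit 0x17ef001), (nat_lit 0x17f0001)], [(nat_lit 0x1dea001), (nat_lit 0x1efb001), (nat_lit 0x1b80001), (nat_lit 0x17f1001), (nat_lit 0x17f2001), (nat_lit 0x1b7e001)], [(nat_lit 0x17f5001), (nat_lit 0x1f1b001), (nat_lit 0x17f4001), (nat_lit 0x17f6001), (nat_lit 0x1b82001), (nat_lit 0x17f7001)], [(nat_lit 0x1816001), (nat_lit 0x1e44001), (nat_lit 0x1817001), (nat_lit 0x1f3b001), (nat_lit 0x1815001), (nat_lit 0x1f3e001)], [(nat_lit 0x181b001), (nat_lit 0x1ddb001), (nat_lit 0x1f40001), (nat_lit 0x1ef8001), (nat_lit 0x1de0001), (nat_lit 0x181c001)], [(nat_lit 0x1820001), (nat_lit 0x1dcb001), (nat_lit 0x1821001), (nat_lit 0x1822001), (nat_lit 0x1dd6001), (nat_lit 0x1f0a001)], [(nat_lit 0x1f3c001), (nat_lit 0x1e42001), (nat_lit 0x1f41001), (nat_lit 0x1818001), (nat_lit 0x1f3d001), (nat_lit 0x1f42001)], [(nat_lit 0x1f3f001), (nat_lit 0x1e08001), (nat_lit 0x181a001), (nat_lit 0x1f43001), (nat_lit 0x1dfb001), (nat_lit 0x1819001)], [(nat_lit 0x181f001), (nat_lit 0x1f44001), (nat_lit 0x181d001), (nat_lit 0x181e001), (nat_lit 0x1df4001), (nat_lit 0x1f05001)], [(nat_lit 0x1f4a001), (nat_lit 0x1823001), (nat_lit 0x1f45001), (nat_lit 0x1f47001), (nat_lit 0x1dab001), (nat_lit 0x1f1d001)], [(nat_lit 0x1825001), (nat_lit 0x1f48001), (nat_lit 0x1826001), (nat_lit 0x1824001), (nat_lit 0x1dba001), (nat_lit 0x1827001)], [(nat_lit 0x1836001), (nat_lit 0x1835001), (nat_lit 0x1837001), (nat_lit 0x1be8001), (nat_lit 0x1f60001), (nat_lit 0x1838001)], [(nat_lit 0x1f5e001), (nat_lit 0x1847001), (nat_lit 0x1f76001), (nat_lit 0x1f73001), (nat_lit 0x1848001), (nat_lit 0x1f75001)], [(nat_lit 0x1842001), (nat_lit 0x1f72001), (nat_lit 0x1f69001), (nat_lit 0x1843001), (nat_lit 0x1bec001), (nat_lit 0x1f71001)], [(nat_lit 0x1844001), (nat_lit 0x1f74001), (nat_lit 0x1845001), (nat_lit 0x1f70001), (nat_lit 0x1e8b001), (nat_lit 0x1846001)], [(nat_lit 0x182b001), (nat_lit 0x1be6001), (nat_lit 0x1bb7001), (nat_lit 0x182c001), (nat_lit 0x1f53001), (nat_lit 0x1b8d001)], [(nat_lit 0x1832001), (nat_lit 0x1f5d001), (nat_lit 0x1833001), (nat_lit 0x1f59001), (nat_lit 0x1834001), (nat_lit 0x1f5c001)], [(nat_lit 0x1bb6001), (nat_lit 0x1b90001), (nat_lit 0x1828001), (nat_lit 0x1b92001), (nat_lit 0x1f4b001), (nat_lit 0x1bb1001)], [(nat_lit 0x1f52001), (nat_lit 0x182a001), (nat_lit 0x1f4c001), (nat_lit 0x1f4d001), (nat_lit 0x1829001), (nat_lit 0x1f50001)], [(nat_lit 0x1f58001), (nat_lit 0x182e001), (nat_lit 0x1f54001), (nat_lit 0x182d001), (nat_lit 0x1f4f001), (nat_lit 0x1f55001)], [(nat_lit 0x1f5a001), (nat_lit 0x1830001), (nat_lit 0x1831001), (nat_lit 0x1f57001), (nat_lit 0x1bab001), (nat_lit 0x182f001)], [(nat_lit 0x1beb001), (nat_lit 0x1f4e001), (nat_lit 0x1f61001), (nat_lit 0x1839001), (nat_lit 0x183a001), (nat_lit 0x1f63001)], [(nat_lit 0x1bee001), (nat_lit 0x1f51001), (nat_lit 0x1bdf001), (nat_lit 0x1f64001), (nat_lit 0x1e82001), (nat_lit 0x183b001)], [(nat_lit 0x1f68001), (nat_lit 0x1f65001), (nat_lit 0x183c001), (nat_lit 0x183d001), (nat_lit 0x1f62001), (nat_lit 0x183e001)], [(nat_lit 0x1f6e001), (nat_lit 0x1f56001), (nat_lit 0x1840001), (nat_lit 0x1841001), (nat_lit 0x1f6c001), (nat_lit 0x183f001)], [(nat_lit 0x185b001), (nat_lit 0x185c001), (nat_lit 0x1f5b001), (nat_lit 0x185d001), (nat_lit 0x1b85001), (nat_lit 0x185a001)], [(nat_lit 0x1f77001), (nat_lit 0x185e001), (nat_lit 0x1f5f001), (nat_lit 0x1f85001), (nat_lit 0x185f001), (nat_lit 0x1f8a001)], [(nat_lit 0x1861001), (nat_lit 0x1f86001), (nat_lit 0x1862001), (nat_lit 0x1860001), (nat_lit 0x1863001), (nat_lit 0x1864001)], [(nat_lit 0x1866001), (nat_lit 0x1f8b001), (nat_lit 0x1867001), (nat_lit 0x1868001), (nat_lit 0x1869001), (nat_lit 0x1865001)], [(nat_lit 0x1889001), (nat_lit 0x1bb0001), (nat_lit 0x1888001), (nat_lit 0x1bb2001), (nat_lit 0x1faa001), (nat_lit 0x1b91001)], [(nat_lit 0x1885001), (nat_lit 0x1884001), (nat_lit 0x1fa8001), (nat_lit 0x1886001), (nat_lit 0x1887001), (nat_lit 0x1fa7001)], [(nat_lit 0x1881001), (nat_lit 0x1fa4001), (nat_lit 0x1e81001), (nat_lit 0x1882001), (nat_lit 0x1be1001), (nat_lit 0x1883001)], [(nat_lit 0x187b001), (nat_lit 0x1b8c001), (nat_lit 0x187c001), (nat_lit 0x187d001), (nat_lit 0x1fa0001), (nat_lit 0x1be9001)], [(nat_lit 0x1f9e001), (nat_lit 0x1879001), (nat_lit 0x187a001), (nat_lit 0x1f99001), (nat_lit 0x1878001), (nat_lit 0x1f9b001)], [(nat_lit 0x1e7d001), (nat_lit 0x1f9a001), (nat_lit 0x1fa1001), (nat_lit 0x187e001), (nat_lit 0x1e88001), (nat_lit 0x1fa2001)], [(nat_lit 0x1e80001), (nat_lit 0x1f9c001), (nat_lit 0x1880001), (nat_lit 0x1fa3001), (nat_lit 0x1bf0001), (nat_lit 0x187f001)], [(nat_lit 0x18ca001), (nat_lit 0x1d2b001), (nat_lit 0x18cb001), (nat_lit 0x2009001), (nat_lit 0x2010001), (nat_lit 0x18cc001)], [(nat_lit 0x18cd001), (nat_lit 0x18d0001), (nat_lit 0x200f001), (nat_lit 0x18d1001), (nat_lit 0x18ce001), (nat_lit 0x18d3001)], [(nat_lit 0x18cf001), (nat_lit 0x18d0001), (nat_lit 0x1bc4001), (nat_lit 0x18d1001), (nat_lit 0x18d2001), (nat_lit 0x18d3001)], [(nat_lit 0x2007001), (nat_lit 0x18c4001), (nat_lit 0x2000001), (nat_lit 0x18c3001), (nat_lit 0x2005001), (nat_lit 0x18c5001)], [(nat_lit 0x200e001), (nat_lit 0x18c7001), (nat_lit 0x18c8001), (nat_lit 0x200b001), (nat_lit 0x18c6001), (nat_lit 0x18c9001)], [(nat_lit 0x18f8001), (nat_lit 0x18f7001), (nat_lit 0x18f9001), (nat_lit 0x203b001), (nat_lit 0x18fa001), (nat_lit 0x18fb001)], [(nat_lit 0x2039001), (nat_lit 0x1906001), (nat_lit 0x203a001), (nat_lit 0x1907001), (nat_lit 0x204a001), (nat_lit 0x201b001)], [(nat_lit 0x1910001), (nat_lit 0x190f001), (nat_lit 0x1911001), (nat_lit 0x201a001), (nat_lit 0x2057001), (nat_lit 0x1912001)], [(nat_lit 0x1901001), (nat_lit 0x2048001), (nat_lit 0x2024001), (nat_lit 0x1902001), (nat_lit 0x1903001), (nat_lit 0x2047001)], [(nat_lit 0x190b001), (nat_lit 0x2054001), (nat_lit 0x190c001), (nat_lit 0x2052001), (nat_lit 0x190d001), (nat_lit 0x190e001)], [(nat_lit 0x2034001), (nat_lit 0x18f1001), (nat_lit 0x202f001), (nat_lit 0x18f2001), (nat_lit 0x18f0001), (nat_lit 0x2030001)], [(nat_lit 0x2029001), (nat_lit 0x18fc001), (nat_lit 0x202a001), (nat_lit 0x1b20001), (nat_lit 0x203d001), (nat_lit 0x1b57001)], [(nat_lit 0x2022001), (nat_lit 0x203e001), (nat_lit 0x18fe001), (nat_lit 0x203f001), (nat_lit 0x18fd001), (nat_lit 0x2040001)], [(nat_lit 0x2045001), (nat_lit 0x2031001), (nat_lit 0x2041001), (nat_lit 0x1900001), (nat_lit 0x2042001), (nat_lit 0x18ff001)], [(nat_lit 0x201d001), (nat_lit 0x1905001), (nat_lit 0x1b5b001), (nat_lit 0x204b001), (nat_lit 0x1904001), (nat_lit 0x2044001)], [(nat_lit 0x2051001), (nat_lit 0x1909001), (nat_lit 0x204e001), (nat_lit 0x1908001), (nat_lit 0x204d001), (nat_lit 0x190a001)], [(nat_lit 0x192d001), (nat_lit 0x192c001), (nat_lit 0x1930001), (nat_lit 0x192e001), (nat_lit 0x207e001), (nat_lit 0x192f001)], [(nat_lit 0x1939001), (nat_lit 0x1938001), (nat_lit 0x193a001), (nat_lit 0x193b001), (nat_lit 0x208e001), (nat_lit 0x193c001)], [(nat_lit 0x207d001), (nat_lit 0x194c001), (nat_lit 0x194d001), (nat_lit 0x2049001), (nat_lit 0x194e001), (nat_lit 0x209a001)], [(nat_lit 0x208c001), (nat_lit 0x1956001), (nat_lit 0x2056001), (nat_lit 0x20a6001), (nat_lit 0x1957001), (nat_lit 0x2058001)], [(nat_lit 0x1948001), (nat_lit 0x2097001), (nat_lit 0x1949001), (nat_lit 0x2046001), (nat_lit 0x194a001), (nat_lit 0x194b001)], [(nat_lit 0x1953001), (nat_lit 0x20a5001), (nat_lit 0x20a3001), (nat_lit 0x1954001), (nat_lit 0x1955001), (nat_lit 0x2053001)], [(nat_lit 0x1924001), (nat_lit 0x207c001), (nat_lit 0x206d001), (nat_lit 0x2036001), (nat_lit 0x1925001), (nat_lit 0x207b001)], [(nat_lit 0x1928001), (nat_lit 0x1929001), (nat_lit 0x2074001), (nat_lit 0x192a001), (nat_lit 0x2085001), (nat_lit 0x192b001)], [(nat_lit 0x1934001), (nat_lit 0x208b001), (nat_lit 0x1935001), (nat_lit 0x2089001), (nat_lit 0x1936001), (nat_lit 0x1937001)], [(nat_lit 0x1915001), (nat_lit 0x1913001), (nat_lit 0x1914001), (nat_lit 0x2059001), (nat_lit 0x205d001), (nat_lit 0x1916001)], [(nat_lit 0x206c001), (nat_lit 0x205f001), (nat_lit 0x191b001), (nat_lit 0x2069001), (nat_lit 0x191a001), (nat_lit 0x206a001)], [(nat_lit 0x2072001), (nat_lit 0x191d001), (nat_lit 0x191e001), (nat_lit 0x2068001), (nat_lit 0x206f001), (nat_lit 0x191c001)], [(nat_lit 0x207a001), (nat_lit 0x1923001), (nat_lit 0x206b001), (nat_lit 0x2032001), (nat_lit 0x2077001), (nat_lit 0x1922001)], [(nat_lit 0x2083001), (nat_lit 0x1927001), (nat_lit 0x2071001), (nat_lit 0x2080001), (nat_lit 0x1926001), (nat_lit 0x2079001)], [(nat_lit 0x2088001), (nat_lit 0x1932001), (nat_lit 0x2086001), (nat_lit 0x1931001), (nat_lit 0x2082001), (nat_lit 0x1933001)], [(nat_lit 0x193e001), (nat_lit 0x193f001), (nat_lit 0x2060001), (nat_lit 0x1b96001), (nat_lit 0x193d001), (nat_lit 0x2090001)], [(nat_lit 0x1941001), (nat_lit 0x2092001), (nat_lit 0x1942001), (nat_lit 0x1be0001), (nat_lit 0x1943001), (nat_lit 0x1940001)], [(nat_lit 0x1947001), (nat_lit 0x2078001), (nat_lit 0x1945001), (nat_lit 0x2094001), (nat_lit 0x1944001), (nat_lit 0x1946001)], [(nat_lit 0x1950001), (nat_lit 0x2081001), (nat_lit 0x209b001), (nat_lit 0x194f001), (nat_lit 0x1951001), (nat_lit 0x2096001)], [(nat_lit 0x20a2001), (nat_lit 0x209e001), (nat_lit 0x1952001), (nat_lit 0x209f001), (nat_lit 0x209d001), (nat_lit 0x204f001)], [(nat_lit 0x205a001), (nat_lit 0x2066001), (nat_lit 0x1b6f001), (nat_lit 0x198b001), (nat_lit 0x20e0001), (nat_lit 0x205c001)], [(nat_lit 0x205e001), (nat_lit 0x2070001), (nat_lit 0x1989001), (nat_lit 0x20df001), (nat_lit 0x198a001), (nat_lit 0x20de001)], [(nat_lit 0x2091001), (nat_lit 0x1987001), (nat_lit 0x20dd001), (nat_lit 0x1bbc001), (nat_lit 0x2093001), (nat_lit 0x1988001)], [(nat_lit 0x1982001), (nat_lit 0x2084001), (nat_lit 0x207f001), (nat_lit 0x20d5001), (nat_lit 0x1983001), (nat_lit 0x20d7001)], [(nat_lit 0x20d4001), (nat_lit 0x197f001), (nat_lit 0x20d3001), (nat_lit 0x197e001), (nat_lit 0x20a7001), (nat_lit 0x23f6001)], [(nat_lit 0x20d6001), (nat_lit 0x1981001), (nat_lit 0x2098001), (nat_lit 0x23f5001), (nat_lit 0x2099001), (nat_lit 0x1980001)], [(nat_lit 0x209c001), (nat_lit 0x20d8001), (nat_lit 0x1984001), (nat_lit 0x20d9001), (nat_lit 0x20a4001), (nat_lit 0x23ee001)], [(nat_lit 0x2095001), (nat_lit 0x23f2001), (nat_lit 0x23ed001), (nat_lit 0x1986001), (nat_lit 0x20dc001), (nat_lit 0x1985001)], [(nat_lit 0x2018001), (nat_lit 0x19f2001), (nat_lit 0x2019001), (nat_lit 0x19f3001), (nat_lit 0x2153001), (nat_lit 0x203c001)], [(nat_lit 0x2055001), (nat_lit 0x19f7001), (nat_lit 0x208d001), (nat_lit 0x2159001), (nat_lit 0x19f8001), (nat_lit 0x208f001)], [(nat_lit 0x19f0001), (nat_lit 0x2152001), (nat_lit 0x2015001), (nat_lit 0x214e001), (nat_lit 0x19f1001), (nat_lit 0x2151001)], [(nat_lit 0x19f5001), (nat_lit 0x2158001), (nat_lit 0x2156001), (nat_lit 0x19f6001), (nat_lit 0x214f001), (nat_lit 0x208a001)], [(nat_lit 0x1b55001), (nat_lit 0x19ea001), (nat_lit 0x1b58001), (nat_lit 0x1b41001), (nat_lit 0x2142001), (nat_lit 0x202c001)], [(nat_lit 0x2013001), (nat_lit 0x2143001), (nat_lit 0x19ec001), (nat_lit 0x2144001), (nat_lit 0x19eb001), (nat_lit 0x2147001)], [(nat_lit 0x214d001), (nat_lit 0x204c001), (nat_lit 0x2149001), (nat_lit 0x19ed001), (nat_lit 0x19ee001), (nat_lit 0x214b001)], [(nat_lit 0x2150001), (nat_lit 0x2043001), (nat_lit 0x2148001), (nat_lit 0x214c001), (nat_lit 0x2033001), (nat_lit 0x19ef001)], [(nat_lit 0x2157001), (nat_lit 0x2154001), (nat_lit 0x19f4001), (nat_lit 0x2155001), (nat_lit 0x214a001), (nat_lit 0x2087001)], [(nat_lit 0x1bbd001), (nat_lit 0x1bbe001), (nat_lit 0x1bbf001), (nat_lit 0x1c71001), (nat_lit 0x1bc0001), (nat_lit 0x1c6c001)], [(nat_lit 0x1b3d001), (nat_lit 0x1b3e001), (nat_lit 0x1b3c001), (nat_lit 0x1b41001), (nat_lit 0x1b3f001), (nat_lit 0x1b40001)], [(nat_lit 0x1b55001), (nat_lit 0x1b56001), (nat_lit 0x1b58001), (nat_lit 0x1b54001), (nat_lit 0x22e3001), (nat_lit 0x1b57001)], [(nat_lit 0x1b1d001), (nat_lit 0x1b1e001), (nat_lit 0x1b1c001), (nat_lit 0x1b20001), (nat_lit 0x228e001), (nat_lit 0x1b1f001)], [(nat_lit 0x1b5a001), (nat_lit 0x22e5001), (nat_lit 0x1b5b001), (nat_lit 0x1b5c001), (nat_lit 0x1b59001), (nat_lit 0x22e8001)], [(nat_lit 0x1b01001), (nat_lit 0x228d001), (nat_lit 0x1b00001), (nat_lit 0x2290001), (nat_lit 0x1b02001), (nat_lit 0x1b03001)], [(nat_lit 0x1c06001), (nat_lit 0x1c70001), (nat_lit 0x239a001), (nat_lit 0x1c07001), (nat_lit 0x23a0001), (nat_lit 0x1c76001)], [(nat_lit 0x1c0b001), (nat_lit 0x1c6a001), (nat_lit 0x1c0c001), (nat_lit 0x1c75001), (nat_lit 0x23a6001), (nat_lit 0x1c0d001)], [(nat_lit 0x2399001), (nat_lit 0x1c7d001), (nat_lit 0x1c03001), (nat_lit 0x2396001), (nat_lit 0x2397001), (nat_lit 0x1c79001)], [(nat_lit 0x239d001), (nat_lit 0x1c05001), (nat_lit 0x2398001), (nat_lit 0x22e7001), (nat_lit 0x1c04001), (nat_lit 0x239b001)], [(nat_lit 0x23a3001), (nat_lit 0x1c09001), (nat_lit 0x1c0a001), (nat_lit 0x23a1001), (nat_lit 0x1c08001), (nat_lit 0x228f001)], [(nat_lit 0x1c56001), (nat_lit 0x239c001), (nat_lit 0x1c5e001), (nat_lit 0x22eb001), (nat_lit 0x1c59001), (nat_lit 0x1c0e001)], [(nat_lit 0x1c4f001), (nat_lit 0x23a2001), (nat_lit 0x23a8001), (nat_lit 0x1c0f001), (nat_lit 0x1c52001), (nat_lit 0x2293001)], [(nat_lit 0x1bfc001), (nat_lit 0x1d65001), (nat_lit 0x1bfb001), (nat_lit 0x1bfa001), (nat_lit 0x238e001), (nat_lit 0x1c9d001)], [(nat_lit 0x1c01001), (nat_lit 0x1d55001), (nat_lit 0x2390001), (nat_lit 0x1fe4001), (nat_lit 0x1c02001), (nat_lit 0x2395001)], [(nat_lit 0x238f001), (nat_lit 0x1d61001), (nat_lit 0x1bfe001), (nat_lit 0x2391001), (nat_lit 0x1bfd001), (nat_lit 0x2392001)], [(nat_lit 0x2394001), (nat_lit 0x1c00001), (nat_lit 0x2393001), (nat_lit 0x1fe2001), (nat_lit 0x1ca4001), (nat_lit 0x1bff001)], [(nat_lit 0x1e92001), (nat_lit 0x24f7001), (nat_lit 0x1e91001), (nat_lit 0x2516001), (nat_lit 0x1e93001), (nat_lit 0x265c001)], [(nat_lit 0x1e95001), (nat_lit 0x1e96001), (nat_lit 0x265e001), (nat_lit 0x1e97001), (nat_lit 0x2660001), (nat_lit 0x1e94001)], [(nat_lit 0x1ca9001), (nat_lit 0x248d001), (nat_lit 0x1ca8001), (nat_lit 0x2490001), (nat_lit 0x1caa001), (nat_lit 0x2494001)], [(nat_lit 0x1cac001), (nat_lit 0x1cad001), (nat_lit 0x2496001), (nat_lit 0x1cae001), (nat_lit 0x2497001), (nat_lit 0x1cab001)], [(nat_lit 0x2669001), (nat_lit 0x1e9f001), (nat_lit 0x1ea0001), (nat_lit 0x2418001), (nat_lit 0x248f001), (nat_lit 0x1ea1001)], [(nat_lit 0x2513001), (nat_lit 0x2416001), (nat_lit 0x2415001), (nat_lit 0x1ea2001), (nat_lit 0x2417001), (nat_lit 0x266e001)], [(nat_lit 0x265d001), (nat_lit 0x1ea4001), (nat_lit 0x1ea5001), (nat_lit 0x2672001), (nat_lit 0x2673001), (nat_lit 0x1ea3001)], [(nat_lit 0x2661001), (nat_lit 0x1ea7001), (nat_lit 0x2675001), (nat_lit 0x2663001), (nat_lit 0x1ea6001), (nat_lit 0x249b001)], [(nat_lit 0x24a4001), (nat_lit 0x1caf001), (nat_lit 0x248e001), (nat_lit 0x249c001), (nat_lit 0x1cb0001), (nat_lit 0x24a0001)], [(nat_lit 0x1cb2001), (nat_lit 0x249d001), (nat_lit 0x1e1d001), (nat_lit 0x1cb1001), (nat_lit 0x1cb3001), (nat_lit 0x1cb4001)], [(nat_lit 0x1cb6001), (nat_lit 0x24a1001), (nat_lit 0x1cb7001), (nat_lit 0x1cb8001), (nat_lit 0x1cb9001), (nat_lit 0x1cb5001)], [(nat_lit 0x1cbb001), (nat_lit 0x2499001), (nat_lit 0x1cbc001), (nat_lit 0x1cbd001), (nat_lit 0x1cba001), (nat_lit 0x1cbe001)], [(nat_lit 0x1ea8001), (nat_lit 0x1ea9001), (nat_lit 0x266a001), (nat_lit 0x1eaa001), (nat_lit 0x24a6001), (nat_lit 0x1eab001)], [(nat_lit 0x1e9b001), (nat_lit 0x2662001), (nat_lit 0x1e9c001), (nat_lit 0x1e9d001), (nat_lit 0x1e9a001), (nat_lit 0x1e9e001)], [(nat_lit 0x2665001), (nat_lit 0x1e98001), (nat_lit 0x24f8001), (nat_lit 0x1f1c001), (nat_lit 0x1e99001), (nat_lit 0x1f49001)], [(nat_lit 0x263c001), (nat_lit 0x1e79001), (nat_lit 0x1e7a001), (nat_lit 0x1f8c001), (nat_lit 0x1e7b001), (nat_lit 0x1f89001)], [(nat_lit 0x1d93001), (nat_lit 0x1d8f001), (nat_lit 0x1d8e001), (nat_lit 0x1d92001), (nat_lit 0x1d90001), (nat_lit 0x1d91001)], [(nat_lit 0x1eb4001), (nat_lit 0x2666001), (nat_lit 0x1eb5001), (nat_lit 0x267f001), (nat_lit 0x263f001), (nat_lit 0x1eb6001)], [(nat_lit 0x267d001), (nat_lit 0x1eb2001), (nat_lit 0x2678001), (nat_lit 0x1eb1001), (nat_lit 0x2556001), (nat_lit 0x1eb3001)], [(nat_lit 0x1d77001), (nat_lit 0x2554001), (nat_lit 0x1deb001), (nat_lit 0x1d78001), (nat_lit 0x1d79001), (nat_lit 0x1d76001)], [(nat_lit 0x1db9001), (nat_lit 0x1d7b001), (nat_lit 0x1d7e001), (nat_lit 0x1d7a001), (nat_lit 0x1d7c001), (nat_lit 0x1d7d001)], [(nat_lit 0x1cd7001), (nat_lit 0x1e5d001), (nat_lit 0x1cd6001), (nat_lit 0x24bb001), (nat_lit 0x1cd8001), (nat_lit 0x24ba001)], [(nat_lit 0x1cd2001), (nat_lit 0x1cd1001), (nat_lit 0x24b7001), (nat_lit 0x1cd3001), (nat_lit 0x1cd4001), (nat_lit 0x1cd5001)], [(nat_lit 0x1ebd001), (nat_lit 0x24a5001), (nat_lit 0x263e001), (nat_lit 0x2684001), (nat_lit 0x1ebe001), (nat_lit 0x2688001)], [(nat_lit 0x2683001), (nat_lit 0x1eb8001), (nat_lit 0x2681001), (nat_lit 0x1eb7001), (nat_lit 0x1eb9001), (nat_lit 0x24b6001)], [(nat_lit 0x2686001), (nat_lit 0x1ebb001), (nat_lit 0x1f88001), (nat_lit 0x24b4001), (nat_lit 0x1ebc001), (nat_lit 0x1eba001)], [(nat_lit 0x1e1c001), (nat_lit 0x24aa001), (nat_lit 0x1cce001), (nat_lit 0x1ccf001), (nat_lit 0x1cd0001), (nat_lit 0x1ccd001)], [(nat_lit 0x1cc9001), (nat_lit 0x24b3001), (nat_lit 0x1cc8001), (nat_lit 0x1ccb001), (nat_lit 0x1cca001), (nat_lit 0x1ccc001)], [(nat_lit 0x1f33001), (nat_lit 0x1f34001), (nat_lit 0x1f35001), (nat_lit 0x2730001), (nat_lit 0x1f36001), (nat_lit 0x271d001)], [(nat_lit 0x272d001), (nat_lit 0x1f31001), (nat_lit 0x2722001), (nat_lit 0x1f30001), (nat_lit 0x2727001), (nat_lit 0x1f32001)], [(nat_lit 0x2719001), (nat_lit 0x1f28001), (nat_lit 0x1f29001), (nat_lit 0x1f2a001), (nat_lit 0x2200001), (nat_lit 0x1f2b001)], [(nat_lit 0x1f38001), (nat_lit 0x2728001), (nat_lit 0x1f39001), (nat_lit 0x1f3a001), (nat_lit 0x1f37001), (nat_lit 0x2733001)], [(nat_lit 0x1f2d001), (nat_lit 0x21fe001), (nat_lit 0x1f2e001), (nat_lit 0x271e001), (nat_lit 0x1f2c001), (nat_lit 0x1f2f001)], [(nat_lit 0x1faf001), (nat_lit 0x272e001), (nat_lit 0x241a001), (nat_lit 0x1fb0001), (nat_lit 0x241d001), (nat_lit 0x2718001)], [(nat_lit 0x1fb5001), (nat_lit 0x271a001), (nat_lit 0x1fb6001), (nat_lit 0x2717001), (nat_lit 0x27c6001), (nat_lit 0x1fb7001)], [(nat_lit 0x241c001), (nat_lit 0x270a001), (nat_lit 0x1fab001), (nat_lit 0x241e001), (nat_lit 0x241d001), (nat_lit 0x2711001)], [(nat_lit 0x241c001), (nat_lit 0x1fad001), (nat_lit 0x241a001), (nat_lit 0x1fae001), (nat_lit 0x1fac001), (nat_lit 0x27bc001)], [(nat_lit 0x2715001), (nat_lit 0x1f25001), (nat_lit 0x2710001), (nat_lit 0x1f26001), (nat_lit 0x2537001), (nat_lit 0x1f27001)], [(nat_lit 0x27c4001), (nat_lit 0x1fb2001), (nat_lit 0x1fb3001), (nat_lit 0x27c1001), (nat_lit 0x1fb1001), (nat_lit 0x1fb4001)], [(nat_lit 0x26fb001), (nat_lit 0x1f1f001), (nat_lit 0x2709001), (nat_lit 0x1f1e001), (nat_lit 0x270d001), (nat_lit 0x1f20001)], [(nat_lit 0x1f23001), (nat_lit 0x270e001), (nat_lit 0x1f24001), (nat_lit 0x23d4001), (nat_lit 0x1f22001), (nat_lit 0x2543001)], [(nat_lit 0x2734001), (nat_lit 0x27be001), (nat_lit 0x2541001), (nat_lit 0x1fb9001), (nat_lit 0x253e001), (nat_lit 0x1fb8001)], [(nat_lit 0x1d58001), (nat_lit 0x2536001), (nat_lit 0x1d57001), (nat_lit 0x2538001), (nat_lit 0x1d59001), (nat_lit 0x253b001)], [(nat_lit 0x271f001), (nat_lit 0x27c2001), (nat_lit 0x27c8001), (nat_lit 0x1fba001), (nat_lit 0x253a001), (nat_lit 0x1fbb001)], [(nat_lit 0x1fbf001), (nat_lit 0x27d7001), (nat_lit 0x1fc0001), (nat_lit 0x27cf001), (nat_lit 0x27d6001), (nat_lit 0x266d001)], [(nat_lit 0x1fc4001), (nat_lit 0x1fc5001), (nat_lit 0x27d5001), (nat_lit 0x1fc6001), (nat_lit 0x1fc7001), (nat_lit 0x27dd001)], [(nat_lit 0x1fcb001), (nat_lit 0x1fcc001), (nat_lit 0x27c5001), (nat_lit 0x27e2001), (nat_lit 0x1fcd001), (nat_lit 0x1fce001)], [(nat_lit 0x27ce001), (nat_lit 0x2670001), (nat_lit 0x241b001), (nat_lit 0x1fbc001), (nat_lit 0x27cd001), (nat_lit 0x2419001)], [(nat_lit 0x27d4001), (nat_lit 0x2674001), (nat_lit 0x1fbe001), (nat_lit 0x27d1001), (nat_lit 0x1fbd001), (nat_lit 0x27d2001)], [(nat_lit 0x27da001), (nat_lit 0x1fc2001), (nat_lit 0x27d3001), (nat_lit 0x1fc3001), (nat_lit 0x24a3001), (nat_lit 0x1fc1001)], [(nat_lit 0x27e0001), (nat_lit 0x1fc9001), (nat_lit 0x27de001), (nat_lit 0x1fc8001), (nat_lit 0x249e001), (nat_lit 0x1fca001)], [(nat_lit 0x1fd0001), (nat_lit 0x27e4001), (nat_lit 0x1fcf001), (nat_lit 0x1fd1001), (nat_lit 0x1fd2001), (nat_lit 0x1fd3001)], [(nat_lit 0x1f10001), (nat_lit 0x1f11001), (nat_lit 0x26fe001), (nat_lit 0x1f0f001), (nat_lit 0x2531001), (nat_lit 0x26fd001)], [(nat_lit 0x1f0c001), (nat_lit 0x1f0d001), (nat_lit 0x1f0b001), (nat_lit 0x26fa001), (nat_lit 0x1ffe001), (nat_lit 0x1f0e001)], [(nat_lit 0x26ff001), (nat_lit 0x270f001), (nat_lit 0x1f21001), (nat_lit 0x2712001), (nat_lit 0x252a001), (nat_lit 0x270b001)], [(nat_lit 0x252e001), (nat_lit 0x1d4f001), (nat_lit 0x2529001), (nat_lit 0x1d4e001), (nat_lit 0x1d50001), (nat_lit 0x252b001)], [(nat_lit 0x1ffc001), (nat_lit 0x1c82001), (nat_lit 0x1c83001), (nat_lit 0x23cf001), (nat_lit 0x1c84001), (nat_lit 0x1c85001)], [(nat_lit 0x1d5b001), (nat_lit 0x252c001), (nat_lit 0x253d001), (nat_lit 0x1d5c001), (nat_lit 0x253f001), (nat_lit 0x1d5a001)], [(nat_lit 0x1c28001), (nat_lit 0x23ce001), (nat_lit 0x1c26001), (nat_lit 0x1c27001), (nat_lit 0x23d1001), (nat_lit 0x1c29001)], [(nat_lit 0x1fdd001), (nat_lit 0x23ea001), (nat_lit 0x1fde001), (nat_lit 0x1fdf001), (nat_lit 0x23eb001), (nat_lit 0x23e6001)], [(nat_lit 0x1fe3001), (nat_lit 0x252f001), (nat_lit 0x23f1001), (nat_lit 0x1fe4001), (nat_lit 0x1fe5001), (nat_lit 0x23ef001)], [(nat_lit 0x1fe8001), (nat_lit 0x26fc001), (nat_lit 0x23e5001), (nat_lit 0x1fe9001), (nat_lit 0x23e9001), (nat_lit 0x1fea001)], [(nat_lit 0x27f0001), (nat_lit 0x1fd4001), (nat_lit 0x1fd5001), (nat_lit 0x27e8001), (nat_lit 0x27ea001), (nat_lit 0x2724001)], [(nat_lit 0x1fd8001), (nat_lit 0x27e9001), (nat_lit 0x1fd7001), (nat_lit 0x1fd6001), (nat_lit 0x27f5001), (nat_lit 0x27fa001)], [(nat_lit 0x23f0001), (nat_lit 0x27eb001), (nat_lit 0x1fda001), (nat_lit 0x23f3001), (nat_lit 0x1fd9001), (nat_lit 0x23ef001)], [(nat_lit 0x23e8001), (nat_lit 0x2723001), (nat_lit 0x1fdc001), (nat_lit 0x27fd001), (nat_lit 0x23e9001), (nat_lit 0x1fdb001)], [(nat_lit 0x23f0001), (nat_lit 0x1fe1001), (nat_lit 0x23f1001), (nat_lit 0x1fe2001), (nat_lit 0x23eb001), (nat_lit 0x1fe0001)], [(nat_lit 0x23e8001), (nat_lit 0x1fe7001), (nat_lit 0x23e5001), (nat_lit 0x23e1001), (nat_lit 0x1fe6001), (nat_lit 0x23e6001)], [(nat_lit 0x1fed001), (nat_lit 0x2716001), (nat_lit 0x27f2001), (nat_lit 0x271c001), (nat_lit 0x280a001), (nat_lit 0x2732001)], [(nat_lit 0x2808001), (nat_lit 0x1fec001), (nat_lit 0x27ec001), (nat_lit 0x27ff001), (nat_lit 0x1feb001), (nat_lit 0x2802001)], [(nat_lit 0x2539001), (nat_lit 0x2800001), (nat_lit 0x1fef001), (nat_lit 0x1fee001), (nat_lit 0x2720001), (nat_lit 0x1ff0001)], [(nat_lit 0x253c001), (nat_lit 0x2803001), (nat_lit 0x1ff2001), (nat_lit 0x1ff3001), (nat_lit 0x2738001), (nat_lit 0x1ff1001)], [(nat_lit 0x2540001), (nat_lit 0x23ea001), (nat_lit 0x2736001), (nat_lit 0x246e001), (nat_lit 0x1ff4001), (nat_lit 0x1ff5001)], [(nat_lit 0x23d2001), (nat_lit 0x23de001), (nat_lit 0x23db001), (nat_lit 0x1c81001), (nat_lit 0x1c80001), (nat_lit 0x246a001)], [(nat_lit 0x1c30001), (nat_lit 0x23da001), (nat_lit 0x1c31001), (nat_lit 0x1c32001), (nat_lit 0x23dd001), (nat_lit 0x1c33001)], [(nat_lit 0x1ffc001), (nat_lit 0x1ffb001), (nat_lit 0x1ffd001), (nat_lit 0x280e001), (nat_lit 0x1ffe001), (nat_lit 0x1fff001)], [(nat_lit 0x1ff8001), (nat_lit 0x280c001), (nat_lit 0x27fc001), (nat_lit 0x1ff9001), (nat_lit 0x27fe001), (nat_lit 0x1ffa001)], [(nat_lit 0x27fb001), (nat_lit 0x23de001), (nat_lit 0x1ff6001), (nat_lit 0x23e1001), (nat_lit 0x23e2001), (nat_lit 0x1ff7001)], [(nat_lit 0x1e1f001), (nat_lit 0x1e20001), (nat_lit 0x1ffd001), (nat_lit 0x25b7001), (nat_lit 0x1e21001), (nat_lit 0x1e22001)], [(nat_lit 0x1f07001), (nat_lit 0x25b6001), (nat_lit 0x1f08001), (nat_lit 0x1f09001), (nat_lit 0x26f5001), (nat_lit 0x1f0a001)], [(nat_lit 0x1f06001), (nat_lit 0x26f6001), (nat_lit 0x1f03001), (nat_lit 0x1f04001), (nat_lit 0x26f0001), (nat_lit 0x1f05001)], [(nat_lit 0x26f2001), (nat_lit 0x1efb001), (nat_lit 0x26ef001), (nat_lit 0x1efa001), (nat_lit 0x1efc001), (nat_lit 0x2312001)], [(nat_lit 0x1cda001), (nat_lit 0x1e59001), (nat_lit 0x1cdc001), (nat_lit 0x1cd9001), (nat_lit 0x24be001), (nat_lit 0x1cdb001)], [(nat_lit 0x1c67001), (nat_lit 0x243d001), (nat_lit 0x1c66001), (nat_lit 0x244d001), (nat_lit 0x1c68001), (nat_lit 0x244b001)], [(nat_lit 0x1c63001), (nat_lit 0x1c62001), (nat_lit 0x2447001), (nat_lit 0x1c64001), (nat_lit 0x2444001), (nat_lit 0x1c65001)], [(nat_lit 0x242f001), (nat_lit 0x1c5b001), (nat_lit 0x243b001), (nat_lit 0x2434001), (nat_lit 0x1c5c001), (nat_lit 0x2439001)], [(nat_lit 0x1c50001), (nat_lit 0x2433001), (nat_lit 0x1f6f001), (nat_lit 0x1c51001), (nat_lit 0x1c52001), (nat_lit 0x1f6b001)], [(nat_lit 0x1c57001), (nat_lit 0x2436001), (nat_lit 0x1c58001), (nat_lit 0x1f6a001), (nat_lit 0x1c59001), (nat_lit 0x1c5a001)], [(nat_lit 0x1c5d001), (nat_lit 0x2441001), (nat_lit 0x1c5e001), (nat_lit 0x1c5f001), (nat_lit 0x1c60001), (nat_lit 0x1c61001)], [(nat_lit 0x24bc001), (nat_lit 0x1d10001), (nat_lit 0x1d0f001), (nat_lit 0x1d0e001), (nat_lit 0x24f6001), (nat_lit 0x1f90001)], [(nat_lit 0x2491001), (nat_lit 0x1d05001), (nat_lit 0x1d04001), (nat_lit 0x1d11001), (nat_lit 0x1d06001), (nat_lit 0x24c5001)], [(nat_lit 0x2495001), (nat_lit 0x1f8f001), (nat_lit 0x1ead001), (nat_lit 0x24c3001), (nat_lit 0x2676001), (nat_lit 0x1eac001)], [(nat_lit 0x2498001), (nat_lit 0x1eaf001), (nat_lit 0x2677001), (nat_lit 0x249a001), (nat_lit 0x1eae001), (nat_lit 0x2664001)], [(nat_lit 0x1eb0001), (nat_lit 0x263d001), (nat_lit 0x24bd001), (nat_lit 0x1f7d001), (nat_lit 0x2667001), (nat_lit 0x1f80001)], [(nat_lit 0x1d94001), (nat_lit 0x1f93001), (nat_lit 0x1d95001), (nat_lit 0x1d96001), (nat_lit 0x1d97001), (nat_lit 0x1dbb001)], [(nat_lit 0x24b0001), (nat_lit 0x1cc3001), (nat_lit 0x1cc4001), (nat_lit 0x24ab001), (nat_lit 0x1e75001), (nat_lit 0x1cc2001)], [(nat_lit 0x1cc5001), (nat_lit 0x1e66001), (nat_lit 0x1cc6001), (nat_lit 0x24ae001), (nat_lit 0x1cc7001), (nat_lit 0x24b2001)], [(nat_lit 0x24ad001), (nat_lit 0x1cc0001), (nat_lit 0x24a7001), (nat_lit 0x1cbf001), (nat_lit 0x1cc1001), (nat_lit 0x24a9001)], [(nat_lit 0x1b8f001), (nat_lit 0x1b90001), (nat_lit 0x1b8e001), (nat_lit 0x1b92001), (nat_lit 0x231c001), (nat_lit 0x1b91001)], [(nat_lit 0x1b94001), (nat_lit 0x1b95001), (nat_lit 0x231f001), (nat_lit 0x1b96001), (nat_lit 0x1b93001), (nat_lit 0x2320001)], [(nat_lit 0x1bb6001), (nat_lit 0x1c9b001), (nat_lit 0x1bb7001), (nat_lit 0x1bb5001), (nat_lit 0x2341001), (nat_lit 0x1d67001)], [(nat_lit 0x231d001), (nat_lit 0x1ca0001), (nat_lit 0x1bb9001), (nat_lit 0x2344001), (nat_lit 0x1bb8001), (nat_lit 0x2345001)], [(nat_lit 0x2321001), (nat_lit 0x1bbb001), (nat_lit 0x2346001), (nat_lit 0x1bbc001), (nat_lit 0x1d5e001), (nat_lit 0x1bba001)], [(nat_lit 0x1bde001), (nat_lit 0x2322001), (nat_lit 0x1bdf001), (nat_lit 0x1be0001), (nat_lit 0x1be1001), (nat_lit 0x1bdd001)], [(nat_lit 0x1be5001), (nat_lit 0x1be6001), (nat_lit 0x1be7001), (nat_lit 0x1be8001), (nat_lit 0x2373001), (nat_lit 0x1be9001)], [(nat_lit 0x2370001), (nat_lit 0x1be3001), (nat_lit 0x1be4001), (nat_lit 0x2369001), (nat_lit 0x1be2001), (nat_lit 0x236c001)], [(nat_lit 0x1beb001), (nat_lit 0x236a001), (nat_lit 0x2374001), (nat_lit 0x1bea001), (nat_lit 0x1bec001), (nat_lit 0x2379001)], [(nat_lit 0x1bee001), (nat_lit 0x236d001), (nat_lit 0x1bef001), (nat_lit 0x237c001), (nat_lit 0x1bf0001), (nat_lit 0x1bed001)], [(nat_lit 0x1bf5001), (nat_lit 0x1ca6001), (nat_lit 0x2372001), (nat_lit 0x2382001), (nat_lit 0x1bf6001), (nat_lit 0x2384001)], [(nat_lit 0x2381001), (nat_lit 0x1bf2001), (nat_lit 0x237d001), (nat_lit 0x1bf1001), (nat_lit 0x1c99001), (nat_lit 0x237e001)], [(nat_lit 0x2383001), (nat_lit 0x1bf4001), (nat_lit 0x236e001), (nat_lit 0x2380001), (nat_lit 0x1d53001), (nat_lit 0x1bf3001)], [(nat_lit 0x1c92001), (nat_lit 0x2385001), (nat_lit 0x1bf7001), (nat_lit 0x2386001), (nat_lit 0x1c2f001), (nat_lit 0x2389001)], [(nat_lit 0x1c95001), (nat_lit 0x237f001), (nat_lit 0x238b001), (nat_lit 0x1bf9001), (nat_lit 0x238d001), (nat_lit 0x1bf8001)], [(nat_lit 0x1b23001), (nat_lit 0x1b24001), (nat_lit 0x1b25001), (nat_lit 0x22bf001), (nat_lit 0x1b26001), (nat_lit 0x1d2d001)], [(nat_lit 0x22bc001), (nat_lit 0x1b22001), (nat_lit 0x22b7001), (nat_lit 0x1b21001), (nat_lit 0x1d33001), (nat_lit 0x1d25001)], [(nat_lit 0x1a99001), (nat_lit 0x1a9a001), (nat_lit 0x1a9b001), (nat_lit 0x1a98001), (nat_lit 0x1d3c001), (nat_lit 0x1a9c001)], [(nat_lit 0x1a9e001), (nat_lit 0x1d24001), (nat_lit 0x1a9d001), (nat_lit 0x1a9f001), (nat_lit 0x2219001), (nat_lit 0x1aa0001)], [(nat_lit 0x1a89001), (nat_lit 0x1a8a001), (nat_lit 0x1a88001), (nat_lit 0x1ad5001), (nat_lit 0x1f36001), (nat_lit 0x1a8b001)], [(nat_lit 0x1ad6001), (nat_lit 0x1a92001), (nat_lit 0x1ad9001), (nat_lit 0x1a91001), (nat_lit 0x2213001), (nat_lit 0x1a93001)], [(nat_lit 0x1aa2001), (nat_lit 0x2214001), (nat_lit 0x221b001), (nat_lit 0x1f3a001), (nat_lit 0x1aa1001), (nat_lit 0x221c001)], [(nat_lit 0x1a95001), (nat_lit 0x1a96001), (nat_lit 0x1a94001), (nat_lit 0x2216001), (nat_lit 0x1a97001), (nat_lit 0x1f2f001)], [(nat_lit 0x1bd8001), (nat_lit 0x22bd001), (nat_lit 0x1bd9001), (nat_lit 0x1bda001), (nat_lit 0x2366001), (nat_lit 0x200a001)], [(nat_lit 0x1bd7001), (nat_lit 0x21c3001), (nat_lit 0x1bd5001), (nat_lit 0x1bd6001), (nat_lit 0x235e001), (nat_lit 0x2003001)], [(nat_lit 0x2363001), (nat_lit 0x1bcf001), (nat_lit 0x235d001), (nat_lit 0x1bce001), (nat_lit 0x1bd0001), (nat_lit 0x2360001)], [(nat_lit 0x21c7001), (nat_lit 0x1a44001), (nat_lit 0x21c2001), (nat_lit 0x1a43001), (nat_lit 0x21c5001), (nat_lit 0x1a45001)], [(nat_lit 0x1d3b001), (nat_lit 0x21c6001), (nat_lit 0x1b06001), (nat_lit 0x2299001), (nat_lit 0x1b05001), (nat_lit 0x229b001)], [(nat_lit 0x1d02001), (nat_lit 0x2361001), (nat_lit 0x229c001), (nat_lit 0x1bdc001), (nat_lit 0x22a3001), (nat_lit 0x1bdb001)], [(nat_lit 0x221a001), (nat_lit 0x2006001), (nat_lit 0x1b08001), (nat_lit 0x229f001), (nat_lit 0x1b07001), (nat_lit 0x22a1001)], [(nat_lit 0x1cfe001), (nat_lit 0x200c001), (nat_lit 0x234f001), (nat_lit 0x1bc8001), (nat_lit 0x22a0001), (nat_lit 0x1bc7001)], [(nat_lit 0x1bcc001), (nat_lit 0x2358001), (nat_lit 0x1bcd001), (nat_lit 0x1bd6001), (nat_lit 0x2357001), (nat_lit 0x1d39001)], [(nat_lit 0x1bd3001), (nat_lit 0x1d35001), (nat_lit 0x2356001), (nat_lit 0x2365001), (nat_lit 0x1bd4001), (nat_lit 0x2368001)], [(nat_lit 0x1bc3001), (nat_lit 0x1d2f001), (nat_lit 0x1bc4001), (nat_lit 0x2348001), (nat_lit 0x1bc5001), (nat_lit 0x2011001)], [(nat_lit 0x1bd7001), (nat_lit 0x1d46001), (nat_lit 0x1bd9001), (nat_lit 0x1bc9001), (nat_lit 0x2351001), (nat_lit 0x1d3f001)], [(nat_lit 0x2355001), (nat_lit 0x1d42001), (nat_lit 0x1bcb001), (nat_lit 0x2352001), (nat_lit 0x1bca001), (nat_lit 0x2353001)], [(nat_lit 0x2367001), (nat_lit 0x1bd2001), (nat_lit 0x2354001), (nat_lit 0x2362001), (nat_lit 0x1d1a001), (nat_lit 0x1bd1001)], [(nat_lit 0x2347001), (nat_lit 0x1bc2001), (nat_lit 0x1d18001), (nat_lit 0x1bc1001), (nat_lit 0x1d14001), (nat_lit 0x200d001)], [(nat_lit 0x1cfc001), (nat_lit 0x1d20001), (nat_lit 0x1bc6001), (nat_lit 0x2349001), (nat_lit 0x1d1d001), (nat_lit 0x234d001)], [(nat_lit 0x1a65001), (nat_lit 0x211b001), (nat_lit 0x21ea001), (nat_lit 0x1a66001), (nat_lit 0x21f1001), (nat_lit 0x2118001)], [(nat_lit 0x1a6b001), (nat_lit 0x211e001), (nat_lit 0x1a6c001), (nat_lit 0x2117001), (nat_lit 0x21f8001), (nat_lit 0x1a6d001)], [(nat_lit 0x21e9001), (nat_lit 0x210b001), (nat_lit 0x1a61001), (nat_lit 0x21e6001), (nat_lit 0x21e7001), (nat_lit 0x2108001)], [(nat_lit 0x21ef001), (nat_lit 0x1a63001), (nat_lit 0x21e8001), (nat_lit 0x1a64001), (nat_lit 0x1a62001), (nat_lit 0x21eb001)], [(nat_lit 0x21f6001), (nat_lit 0x1a68001), (nat_lit 0x1a69001), (nat_lit 0x21f2001), (nat_lit 0x1a67001), (nat_lit 0x1a6a001)], [(nat_lit 0x1a72001), (nat_lit 0x21ec001), (nat_lit 0x20f2001), (nat_lit 0x1a6f001), (nat_lit 0x1a70001), (nat_lit 0x1a6e001)], [(nat_lit 0x1a72001), (nat_lit 0x21f3001), (nat_lit 0x1a75001), (nat_lit 0x1a71001), (nat_lit 0x1a73001), (nat_lit 0x1a74001)], [(nat_lit 0x1a79001), (nat_lit 0x1a7a001), (nat_lit 0x1a7b001), (nat_lit 0x21d5001), (nat_lit 0x2204001), (nat_lit 0x1a8b001)], [(nat_lit 0x1a7f001), (nat_lit 0x1a85001), (nat_lit 0x2203001), (nat_lit 0x21f0001), (nat_lit 0x1a80001), (nat_lit 0x2208001)], [(nat_lit 0x1a84001), (nat_lit 0x1a85001), (nat_lit 0x1a86001), (nat_lit 0x220d001), (nat_lit 0x1a87001), (nat_lit 0x21f9001)], [(nat_lit 0x21d4001), (nat_lit 0x1a9a001), (nat_lit 0x21d1001), (nat_lit 0x1a76001), (nat_lit 0x21fa001), (nat_lit 0x1a93001)], [(nat_lit 0x2201001), (nat_lit 0x1a96001), (nat_lit 0x1a78001), (nat_lit 0x21fc001), (nat_lit 0x1a77001), (nat_lit 0x21fd001)], [(nat_lit 0x2205001), (nat_lit 0x1a7d001), (nat_lit 0x21ff001), (nat_lit 0x21ed001), (nat_lit 0x1a7e001), (nat_lit 0x1a7c001)], [(nat_lit 0x220b001), (nat_lit 0x1a82001), (nat_lit 0x2209001), (nat_lit 0x1a81001), (nat_lit 0x1a83001), (nat_lit 0x21f5001)], [(nat_lit 0x1a8d001), (nat_lit 0x220f001), (nat_lit 0x1a8c001), (nat_lit 0x1a90001), (nat_lit 0x1a8e001), (nat_lit 0x1a8f001)], [(nat_lit 0x2013001), (nat_lit 0x2014001), (nat_lit 0x2015001), (nat_lit 0x2016001), (nat_lit 0x2012001), (nat_lit 0x2810001)], [(nat_lit 0x2018001), (nat_lit 0x2017001), (nat_lit 0x2019001), (nat_lit 0x201a001), (nat_lit 0x2816001), (nat_lit 0x201b001)], [(nat_lit 0x201d001), (nat_lit 0x2818001), (nat_lit 0x201e001), (nat_lit 0x281a001), (nat_lit 0x201c001), (nat_lit 0x281f001)], [(nat_lit 0x22e9001), (nat_lit 0x2812001), (nat_lit 0x2821001), (nat_lit 0x2020001), (nat_lit 0x2777001), (nat_lit 0x201f001)], [(nat_lit 0x2022001), (nat_lit 0x2023001), (nat_lit 0x2024001), (nat_lit 0x277d001), (nat_lit 0x2021001), (nat_lit 0x2778001)], [(nat_lit 0x2291001), (nat_lit 0x2026001), (nat_lit 0x2780001), (nat_lit 0x2025001), (nat_lit 0x277e001), (nat_lit 0x2027001)], [(nat_lit 0x20c6001), (nat_lit 0x20c7001), (nat_lit 0x28dc001), (nat_lit 0x20c8001), (nat_lit 0x20c9001), (nat_lit 0x28e2001)], [(nat_lit 0x20ca001), (nat_lit 0x20cb001), (nat_lit 0x20cc001), (nat_lit 0x28e1001), (nat_lit 0x20cd001), (nat_lit 0x20ce001)], [(nat_lit 0x28db001), (nat_lit 0x28d0001), (nat_lit 0x20c1001), (nat_lit 0x28d4001), (nat_lit 0x20c2001), (nat_lit 0x28d8001)], [(nat_lit 0x28df001), (nat_lit 0x20c4001), (nat_lit 0x28da001), (nat_lit 0x20c5001), (nat_lit 0x2211001), (nat_lit 0x20c3001)], [(nat_lit 0x28e3001), (nat_lit 0x20cf001), (nat_lit 0x28d1001), (nat_lit 0x20d0001), (nat_lit 0x20d1001), (nat_lit 0x20d2001)], [(nat_lit 0x1b38001), (nat_lit 0x1b37001), (nat_lit 0x1b3b001), (nat_lit 0x1b39001), (nat_lit 0x22d7001), (nat_lit 0x1b3a001)], [(nat_lit 0x1b14001), (nat_lit 0x1b13001), (nat_lit 0x1b15001), (nat_lit 0x1b16001), (nat_lit 0x227a001), (nat_lit 0x1b17001)], [(nat_lit 0x22d5001), (nat_lit 0x1b50001), (nat_lit 0x1b51001), (nat_lit 0x1b52001), (nat_lit 0x1b53001), (nat_lit 0x22e2001)], [(nat_lit 0x2278001), (nat_lit 0x1afd001), (nat_lit 0x228b001), (nat_lit 0x2288001), (nat_lit 0x1afe001), (nat_lit 0x1aff001)], [(nat_lit 0x1b4b001), (nat_lit 0x22de001), (nat_lit 0x1b4c001), (nat_lit 0x1b4d001), (nat_lit 0x1b4e001), (nat_lit 0x1b4f001)], [(nat_lit 0x1af9001), (nat_lit 0x2287001), (nat_lit 0x2237001), (nat_lit 0x1afa001), (nat_lit 0x1afb001), (nat_lit 0x1afc001)], [(nat_lit 0x1acb001), (nat_lit 0x1acc001), (nat_lit 0x224a001), (nat_lit 0x1acd001), (nat_lit 0x2253001), (nat_lit 0x1ace001)], [(nat_lit 0x1ac0001), (nat_lit 0x1ac1001), (nat_lit 0x1ac2001), (nat_lit 0x1ac3001), (nat_lit 0x2241001), (nat_lit 0x1ac4001)], [(nat_lit 0x2249001), (nat_lit 0x1ac6001), (nat_lit 0x1ac5001), (nat_lit 0x2243001), (nat_lit 0x2246001), (nat_lit 0x1ac7001)], [(nat_lit 0x2250001), (nat_lit 0x1ac9001), (nat_lit 0x2248001), (nat_lit 0x1aca001), (nat_lit 0x1ac8001), (nat_lit 0x224c001)], [(nat_lit 0x223e001), (nat_lit 0x1ab8001), (nat_lit 0x1ab9001), (nat_lit 0x223a001), (nat_lit 0x1aba001), (nat_lit 0x1abb001)], [(nat_lit 0x1ad0001), (nat_lit 0x224d001), (nat_lit 0x1ad1001), (nat_lit 0x1ad2001), (nat_lit 0x1ad3001), (nat_lit 0x1acf001)], [(nat_lit 0x1abd001), (nat_lit 0x223b001), (nat_lit 0x21ad001), (nat_lit 0x1abc001), (nat_lit 0x1abe001), (nat_lit 0x1abf001)], [(nat_lit 0x1b30001), (nat_lit 0x22ad001), (nat_lit 0x1b31001), (nat_lit 0x1b32001), (nat_lit 0x22d1001), (nat_lit 0x22b0001)], [(nat_lit 0x1b35001), (nat_lit 0x22d4001), (nat_lit 0x22d0001), (nat_lit 0x2252001), (nat_lit 0x1b36001), (nat_lit 0x22d3001)], [(nat_lit 0x1b0f001), (nat_lit 0x1b10001), (nat_lit 0x22ae001), (nat_lit 0x1b11001), (nat_lit 0x22b6001), (nat_lit 0x1b12001)], [(nat_lit 0x1af2001), (nat_lit 0x2277001), (nat_lit 0x1af3001), (nat_lit 0x2276001), (nat_lit 0x1af4001), (nat_lit 0x2242001)], [(nat_lit 0x1b2a001), (nat_lit 0x1b27001), (nat_lit 0x1b28001), (nat_lit 0x22c0001), (nat_lit 0x22c5001), (nat_lit 0x1b29001)], [(nat_lit 0x1b2d001), (nat_lit 0x22c2001), (nat_lit 0x1b2c001), (nat_lit 0x1b2b001), (nat_lit 0x22c9001), (nat_lit 0x22a7001)], [(nat_lit 0x22cf001), (nat_lit 0x22c7001), (nat_lit 0x1b2f001), (nat_lit 0x22cc001), (nat_lit 0x1b2e001), (nat_lit 0x22cd001)], [(nat_lit 0x22ac001), (nat_lit 0x1b0b001), (nat_lit 0x1b0a001), (nat_lit 0x22a4001), (nat_lit 0x22a9001), (nat_lit 0x1b0c001)], [(nat_lit 0x22d2001), (nat_lit 0x1b34001), (nat_lit 0x22ce001), (nat_lit 0x224e001), (nat_lit 0x22b3001), (nat_lit 0x1b33001)], [(nat_lit 0x22b4001), (nat_lit 0x1b0e001), (nat_lit 0x22ab001), (nat_lit 0x2274001), (nat_lit 0x1b0d001), (nat_lit 0x22b1001)], [(nat_lit 0x2275001), (nat_lit 0x1af1001), (nat_lit 0x2271001), (nat_lit 0x1af0001), (nat_lit 0x2272001), (nat_lit 0x223d001)], [(nat_lit 0x1b43001), (nat_lit 0x1b44001), (nat_lit 0x22c8001), (nat_lit 0x1b45001), (nat_lit 0x1b42001), (nat_lit 0x22d9001)], [(nat_lit 0x1b47001), (nat_lit 0x22db001), (nat_lit 0x1b48001), (nat_lit 0x1b49001), (nat_lit 0x1b4a001), (nat_lit 0x1b46001)], [(nat_lit 0x1b19001), (nat_lit 0x22b2001), (nat_lit 0x1b1a001), (nat_lit 0x2285001), (nat_lit 0x1b1b001), (nat_lit 0x1b18001)], [(nat_lit 0x1af8001), (nat_lit 0x2273001), (nat_lit 0x227f001), (nat_lit 0x1af7001), (nat_lit 0x1af6001), (nat_lit 0x2282001)], [(nat_lit 0x2236001), (nat_lit 0x227c001), (nat_lit 0x1af5001), (nat_lit 0x1fd1001), (nat_lit 0x227d001), (nat_lit 0x21ac001)], [(nat_lit 0x211a001), (nat_lit 0x211b001), (nat_lit 0x292e001), (nat_lit 0x211c001), (nat_lit 0x220e001), (nat_lit 0x28e7001)], [(nat_lit 0x211d001), (nat_lit 0x211e001), (nat_lit 0x271b001), (nat_lit 0x28e5001), (nat_lit 0x2207001), (nat_lit 0x211f001)], [(nat_lit 0x292d001), (nat_lit 0x28d9001), (nat_lit 0x2119001), (nat_lit 0x292c001), (nat_lit 0x220a001), (nat_lit 0x28d3001)], [(nat_lit 0x210d001), (nat_lit 0x2924001), (nat_lit 0x210e001), (nat_lit 0x26b9001), (nat_lit 0x290c001), (nat_lit 0x2923001)], [(nat_lit 0x2102001), (nat_lit 0x2103001), (nat_lit 0x290b001), (nat_lit 0x2104001), (nat_lit 0x2105001), (nat_lit 0x28cf001)], [(nat_lit 0x2111001), (nat_lit 0x28e0001), (nat_lit 0x2922001), (nat_lit 0x2112001), (nat_lit 0x2928001), (nat_lit 0x2113001)], [(nat_lit 0x20ea001), (nat_lit 0x20eb001), (nat_lit 0x2240001), (nat_lit 0x28fe001), (nat_lit 0x20ec001), (nat_lit 0x20ed001)], [(nat_lit 0x2913001), (nat_lit 0x2106001), (nat_lit 0x2107001), (nat_lit 0x290d001), (nat_lit 0x2908001), (nat_lit 0x2108001)], [(nat_lit 0x26bb001), (nat_lit 0x290e001), (nat_lit 0x26c0001), (nat_lit 0x2109001), (nat_lit 0x2918001), (nat_lit 0x291b001)], [(nat_lit 0x290a001), (nat_lit 0x2906001), (nat_lit 0x2100001), (nat_lit 0x2909001), (nat_lit 0x2101001), (nat_lit 0x2905001)], [(nat_lit 0x2921001), (nat_lit 0x210b001), (nat_lit 0x210c001), (nat_lit 0x291d001), (nat_lit 0x291e001), (nat_lit 0x210a001)], [(nat_lit 0x28cd001), (nat_lit 0x20fe001), (nat_lit 0x2904001), (nat_lit 0x20fd001), (nat_lit 0x2902001), (nat_lit 0x20ff001)], [(nat_lit 0x2927001), (nat_lit 0x2110001), (nat_lit 0x2920001), (nat_lit 0x28fa001), (nat_lit 0x210f001), (nat_lit 0x2903001)], [(nat_lit 0x28fc001), (nat_lit 0x20e4001), (nat_lit 0x28f7001), (nat_lit 0x20e5001), (nat_lit 0x28f8001), (nat_lit 0x20e3001)], [(nat_lit 0x2116001), (nat_lit 0x28e4001), (nat_lit 0x2914001), (nat_lit 0x2117001), (nat_lit 0x292b001), (nat_lit 0x2118001)], [(nat_lit 0x2929001), (nat_lit 0x2114001), (nat_lit 0x2907001), (nat_lit 0x2127001), (nat_lit 0x2115001), (nat_lit 0x2140001)], [(nat_lit 0x20f1001), (nat_lit 0x2901001), (nat_lit 0x20f2001), (nat_lit 0x20f0001), (nat_lit 0x20f3001), (nat_lit 0x20f4001)], [(nat_lit 0x20f6001), (nat_lit 0x28f9001), (nat_lit 0x20f7001), (nat_lit 0x20f8001), (nat_lit 0x20f9001), (nat_lit 0x20f5001)], [(nat_lit 0x20b4001), (nat_lit 0x20b3001), (nat_lit 0x22a6001), (nat_lit 0x20b5001), (nat_lit 0x28c4001), (nat_lit 0x20b6001)], [(nat_lit 0x20bd001), (nat_lit 0x20bc001), (nat_lit 0x20be001), (nat_lit 0x28ce001), (nat_lit 0x20bf001), (nat_lit 0x20c0001)], [(nat_lit 0x20e6001), (nat_lit 0x20e7001), (nat_lit 0x22cb001), (nat_lit 0x20e8001), (nat_lit 0x20e9001), (nat_lit 0x28ff001)], [(nat_lit 0x22a8001), (nat_lit 0x20fb001), (nat_lit 0x20fa001), (nat_lit 0x22af001), (nat_lit 0x28f4001), (nat_lit 0x20fc001)], [(nat_lit 0x28c3001), (nat_lit 0x20ee001), (nat_lit 0x28f3001), (nat_lit 0x2900001), (nat_lit 0x20ef001), (nat_lit 0x28fb001)], [(nat_lit 0x22ca001), (nat_lit 0x28f2001), (nat_lit 0x20e1001), (nat_lit 0x28f5001), (nat_lit 0x20e2001), (nat_lit 0x28f6001)], [(nat_lit 0x22c1001), (nat_lit 0x22a5001), (nat_lit 0x1b6f001), (nat_lit 0x1b6e001), (nat_lit 0x2300001), (nat_lit 0x22c3001)], [(nat_lit 0x22c6001), (nat_lit 0x22aa001), (nat_lit 0x1b6c001), (nat_lit 0x22ff001), (nat_lit 0x1b6d001), (nat_lit 0x22fe001)], [(nat_lit 0x22da001), (nat_lit 0x1b69001), (nat_lit 0x22fd001), (nat_lit 0x1b6a001), (nat_lit 0x22dd001), (nat_lit 0x1b6b001)], [(nat_lit 0x1b61001), (nat_lit 0x22b5001), (nat_lit 0x22d8001), (nat_lit 0x22f2001), (nat_lit 0x1b62001), (nat_lit 0x22f4001)], [(nat_lit 0x22f1001), (nat_lit 0x1b5e001), (nat_lit 0x22ed001), (nat_lit 0x1b5d001), (nat_lit 0x2289001), (nat_lit 0x22ee001)], [(nat_lit 0x22f3001), (nat_lit 0x1b60001), (nat_lit 0x22df001), (nat_lit 0x22f0001), (nat_lit 0x22e1001), (nat_lit 0x1b5f001)], [(nat_lit 0x227e001), (nat_lit 0x22f5001), (nat_lit 0x1b63001), (nat_lit 0x1b64001), (nat_lit 0x2238001), (nat_lit 0x1b65001)], [(nat_lit 0x2283001), (nat_lit 0x22ef001), (nat_lit 0x1b67001), (nat_lit 0x1b68001), (nat_lit 0x22f8001), (nat_lit 0x1b66001)], [(nat_lit 0x205a001), (nat_lit 0x205b001), (nat_lit 0x22c4001), (nat_lit 0x2059001), (nat_lit 0x2853001), (nat_lit 0x205c001)], [(nat_lit 0x2062001), (nat_lit 0x2855001), (nat_lit 0x2063001), (nat_lit 0x285e001), (nat_lit 0x2061001), (nat_lit 0x2861001)], [(nat_lit 0x2065001), (nat_lit 0x2066001), (nat_lit 0x2067001), (nat_lit 0x2068001), (nat_lit 0x2864001), (nat_lit 0x2064001)], [(nat_lit 0x2123001), (nat_lit 0x28fd001), (nat_lit 0x2863001), (nat_lit 0x2124001), (nat_lit 0x28c0001), (nat_lit 0x2125001)], [(nat_lit 0x20b1001), (nat_lit 0x28c2001), (nat_lit 0x2867001), (nat_lit 0x28bd001), (nat_lit 0x20b2001), (nat_lit 0x28c1001)], [(nat_lit 0x20b9001), (nat_lit 0x28cc001), (nat_lit 0x28c9001), (nat_lit 0x20ba001), (nat_lit 0x28be001), (nat_lit 0x20bb001)], [(nat_lit 0x2072001), (nat_lit 0x2073001), (nat_lit 0x2074001), (nat_lit 0x2075001), (nat_lit 0x2878001), (nat_lit 0x2076001)], [(nat_lit 0x2865001), (nat_lit 0x20a9001), (nat_lit 0x20aa001), (nat_lit 0x28b4001), (nat_lit 0x20a8001), (nat_lit 0x28b6001)], [(nat_lit 0x206c001), (nat_lit 0x2875001), (nat_lit 0x206d001), (nat_lit 0x286c001), (nat_lit 0x206e001), (nat_lit 0x2874001)], [(nat_lit 0x285f001), (nat_lit 0x28b5001), (nat_lit 0x292f001), (nat_lit 0x2120001), (nat_lit 0x286d001), (nat_lit 0x2930001)], [(nat_lit 0x2862001), (nat_lit 0x28b7001), (nat_lit 0x2122001), (nat_lit 0x2931001), (nat_lit 0x28b9001), (nat_lit 0x2121001)], [(nat_lit 0x28bf001), (nat_lit 0x20af001), (nat_lit 0x28b8001), (nat_lit 0x2210001), (nat_lit 0x20b0001), (nat_lit 0x20ae001)], [(nat_lit 0x28bc001), (nat_lit 0x20ac001), (nat_lit 0x28ba001), (nat_lit 0x20ab001), (nat_lit 0x20ad001), (nat_lit 0x2212001)], [(nat_lit 0x28cb001), (nat_lit 0x28c5001), (nat_lit 0x20b7001), (nat_lit 0x28c8001), (nat_lit 0x28bb001), (nat_lit 0x20b8001)], [(nat_lit 0x2932001), (nat_lit 0x2126001), (nat_lit 0x28c6001), (nat_lit 0x2127001), (nat_lit 0x21f4001), (nat_lit 0x2128001)], [(nat_lit 0x2029001), (nat_lit 0x2028001), (nat_lit 0x202a001), (nat_lit 0x202b001), (nat_lit 0x2824001), (nat_lit 0x202c001)], [(nat_lit 0x228c001), (nat_lit 0x2137001), (nat_lit 0x2279001), (nat_lit 0x2943001), (nat_lit 0x2138001), (nat_lit 0x23a7001)], [(nat_lit 0x202e001), (nat_lit 0x2826001), (nat_lit 0x202f001), (nat_lit 0x2828001), (nat_lit 0x202d001), (nat_lit 0x282b001)], [(nat_lit 0x2131001), (nat_lit 0x2942001), (nat_lit 0x293d001), (nat_lit 0x2132001), (nat_lit 0x282a001), (nat_lit 0x2941001)], [(nat_lit 0x2133001), (nat_lit 0x23a4001), (nat_lit 0x2134001), (nat_lit 0x293f001), (nat_lit 0x2135001), (nat_lit 0x2136001)], [(nat_lit 0x213d001), (nat_lit 0x2945001), (nat_lit 0x213c001), (nat_lit 0x213b001), (nat_lit 0x28de001), (nat_lit 0x28ca001)], [(nat_lit 0x2039001), (nat_lit 0x2038001), (nat_lit 0x203a001), (nat_lit 0x203b001), (nat_lit 0x2838001), (nat_lit 0x203c001)], [(nat_lit 0x2034001), (nat_lit 0x2834001), (nat_lit 0x2035001), (nat_lit 0x2036001), (nat_lit 0x2037001), (nat_lit 0x2833001)], [(nat_lit 0x2829001), (nat_lit 0x277b001), (nat_lit 0x2935001), (nat_lit 0x2129001), (nat_lit 0x212a001), (nat_lit 0x2771001)], [(nat_lit 0x282c001), (nat_lit 0x2775001), (nat_lit 0x2830001), (nat_lit 0x2772001), (nat_lit 0x2815001), (nat_lit 0x212b001)], [(nat_lit 0x293c001), (nat_lit 0x2937001), (nat_lit 0x212c001), (nat_lit 0x2938001), (nat_lit 0x2936001), (nat_lit 0x2939001)], [(nat_lit 0x293e001), (nat_lit 0x212e001), (nat_lit 0x293a001), (nat_lit 0x212f001), (nat_lit 0x2130001), (nat_lit 0x212d001)], [(nat_lit 0x2946001), (nat_lit 0x2139001), (nat_lit 0x213a001), (nat_lit 0x2944001), (nat_lit 0x28d2001), (nat_lit 0x28c7001)], [(nat_lit 0x2141001), (nat_lit 0x292a001), (nat_lit 0x2947001), (nat_lit 0x294d001), (nat_lit 0x28e6001), (nat_lit 0x2934001)], [(nat_lit 0x294b001), (nat_lit 0x213f001), (nat_lit 0x2948001), (nat_lit 0x213e001), (nat_lit 0x21ee001), (nat_lit 0x2140001)], [(nat_lit 0x21a1001), (nat_lit 0x1a37001), (nat_lit 0x1a36001), (nat_lit 0x21b4001), (nat_lit 0x1a38001), (nat_lit 0x21b3001)], [(nat_lit 0x1a42001), (nat_lit 0x21b5001), (nat_lit 0x21bd001), (nat_lit 0x1a41001), (nat_lit 0x21bf001), (nat_lit 0x21be001)], [(nat_lit 0x1a3f001), (nat_lit 0x21b1001), (nat_lit 0x1a3e001), (nat_lit 0x21bb001), (nat_lit 0x21b9001), (nat_lit 0x1a40001)], [(nat_lit 0x1a3a001), (nat_lit 0x1a39001), (nat_lit 0x21b6001), (nat_lit 0x1a3b001), (nat_lit 0x1a3c001), (nat_lit 0x1a3d001)], [(nat_lit 0x1a53001), (nat_lit 0x1e6a001), (nat_lit 0x1a52001), (nat_lit 0x21cf001), (nat_lit 0x21a3001), (nat_lit 0x1a54001)], [(nat_lit 0x21d0001), (nat_lit 0x1a56001), (nat_lit 0x21d3001), (nat_lit 0x1a55001), (nat_lit 0x21d8001), (nat_lit 0x1a57001)], [(nat_lit 0x1d45001), (nat_lit 0x21de001), (nat_lit 0x1a5e001), (nat_lit 0x1a5f001), (nat_lit 0x21e3001), (nat_lit 0x1cdb001)], [(nat_lit 0x1e6f001), (nat_lit 0x21d9001), (nat_lit 0x21e4001), (nat_lit 0x21c1001), (nat_lit 0x1a60001), (nat_lit 0x21e5001)], [(nat_lit 0x1d4a001), (nat_lit 0x1a5c001), (nat_lit 0x1cdc001), (nat_lit 0x1a5b001), (nat_lit 0x21dc001), (nat_lit 0x1a5d001)], [(nat_lit 0x1e3f001), (nat_lit 0x1a59001), (nat_lit 0x1a58001), (nat_lit 0x21da001), (nat_lit 0x1a5a001), (nat_lit 0x21ba001)], [(nat_lit 0x1a26001), (nat_lit 0x1a25001), (nat_lit 0x21a0001), (nat_lit 0x2196001), (nat_lit 0x1a27001), (nat_lit 0x219f001)], [(nat_lit 0x2195001), (nat_lit 0x1a30001), (nat_lit 0x21ae001), (nat_lit 0x1a31001), (nat_lit 0x1a32001), (nat_lit 0x217a001)], [(nat_lit 0x219d001), (nat_lit 0x1a33001), (nat_lit 0x21b0001), (nat_lit 0x2179001), (nat_lit 0x1a34001), (nat_lit 0x1a35001)], [(nat_lit 0x1a0f001), (nat_lit 0x216c001), (nat_lit 0x1a10001), (nat_lit 0x1a11001), (nat_lit 0x1a12001), (nat_lit 0x1a0e001)], [(nat_lit 0x1a0b001), (nat_lit 0x2178001), (nat_lit 0x1a0a001), (nat_lit 0x1a0c001), (nat_lit 0x1cca001), (nat_lit 0x1a0d001)], [(nat_lit 0x215f001), (nat_lit 0x19f9001), (nat_lit 0x19fa001), (nat_lit 0x215a001), (nat_lit 0x19fb001), (nat_lit 0x215c001)], [(nat_lit 0x1a42001), (nat_lit 0x215b001), (nat_lit 0x2162001), (nat_lit 0x19fc001), (nat_lit 0x2165001), (nat_lit 0x2164001)], [(nat_lit 0x1a3f001), (nat_lit 0x215d001), (nat_lit 0x19fe001), (nat_lit 0x2163001), (nat_lit 0x2167001), (nat_lit 0x19fd001)], [(nat_lit 0x1a3a001), (nat_lit 0x1a00001), (nat_lit 0x2168001), (nat_lit 0x1a01001), (nat_lit 0x19ff001), (nat_lit 0x1a02001)], [(nat_lit 0x1a07001), (nat_lit 0x1a08001), (nat_lit 0x2160001), (nat_lit 0x2171001), (nat_lit 0x1a09001), (nat_lit 0x2177001)], [(nat_lit 0x216f001), (nat_lit 0x1a04001), (nat_lit 0x216a001), (nat_lit 0x1a03001), (nat_lit 0x1cc1001), (nat_lit 0x216b001)], [(nat_lit 0x2175001), (nat_lit 0x1a06001), (nat_lit 0x215e001), (nat_lit 0x216d001), (nat_lit 0x2172001), (nat_lit 0x1a05001)], [(nat_lit 0x1a14001), (nat_lit 0x2173001), (nat_lit 0x1a15001), (nat_lit 0x217b001), (nat_lit 0x1a13001), (nat_lit 0x1a16001)], [(nat_lit 0x1a1e001), (nat_lit 0x2194001), (nat_lit 0x218a001), (nat_lit 0x1a1f001), (nat_lit 0x218e001), (nat_lit 0x2193001)], [(nat_lit 0x1a23001), (nat_lit 0x219c001), (nat_lit 0x1e13001), (nat_lit 0x2192001), (nat_lit 0x219a001), (nat_lit 0x1a24001)], [(nat_lit 0x2189001), (nat_lit 0x2180001), (nat_lit 0x1a17001), (nat_lit 0x2183001), (nat_lit 0x2184001), (nat_lit 0x2186001)], [(nat_lit 0x218b001), (nat_lit 0x1a19001), (nat_lit 0x2185001), (nat_lit 0x1a1a001), (nat_lit 0x1a18001), (nat_lit 0x1fca001)], [(nat_lit 0x2191001), (nat_lit 0x1a1c001), (nat_lit 0x2188001), (nat_lit 0x1a1d001), (nat_lit 0x218f001), (nat_lit 0x1a1b001)], [(nat_lit 0x2198001), (nat_lit 0x1a21001), (nat_lit 0x1e00001), (nat_lit 0x1fc3001), (nat_lit 0x1a20001), (nat_lit 0x1a22001)], [(nat_lit 0x21a6001), (nat_lit 0x1a28001), (nat_lit 0x2181001), (nat_lit 0x1a29001), (nat_lit 0x21a4001), (nat_lit 0x1a2a001)], [(nat_lit 0x1a2c001), (nat_lit 0x21a5001), (nat_lit 0x1a2d001), (nat_lit 0x21a9001), (nat_lit 0x1a2b001), (nat_lit 0x1fd3001)], [(nat_lit 0x1cc9001), (nat_lit 0x2190001), (nat_lit 0x1a2f001), (nat_lit 0x1cb8001), (nat_lit 0x1a2e001), (nat_lit 0x1cb4001)], [(nat_lit 0x1a49001), (nat_lit 0x1a7a001), (nat_lit 0x1a4a001), (nat_lit 0x21c8001), (nat_lit 0x21ce001), (nat_lit 0x1a4b001)], [(nat_lit 0x1a4c001), (nat_lit 0x1a4d001), (nat_lit 0x21cd001), (nat_lit 0x218d001), (nat_lit 0x1a4e001), (nat_lit 0x1fce001)], [(nat_lit 0x1a4f001), (nat_lit 0x1a50001), (nat_lit 0x1e34001), (nat_lit 0x1fc6001), (nat_lit 0x1a51001), (nat_lit 0x219b001)], [(nat_lit 0x21cc001), (nat_lit 0x1a47001), (nat_lit 0x1a48001), (nat_lit 0x21ca001), (nat_lit 0x1a46001), (nat_lit 0x1fb4001)], [(nat_lit 0x1ae8001), (nat_lit 0x1ae9001), (nat_lit 0x1e5a001), (nat_lit 0x1ae7001), (nat_lit 0x2267001), (nat_lit 0x21c9001)], [(nat_lit 0x1e5b001), (nat_lit 0x2001001), (nat_lit 0x1aed001), (nat_lit 0x1e62001), (nat_lit 0x226d001), (nat_lit 0x21c4001)], [(nat_lit 0x2268001), (nat_lit 0x1aef001), (nat_lit 0x226e001), (nat_lit 0x1fae001), (nat_lit 0x1aee001), (nat_lit 0x226f001)], [(nat_lit 0x221d001), (nat_lit 0x2270001), (nat_lit 0x22a2001), (nat_lit 0x1fb9001), (nat_lit 0x229e001), (nat_lit 0x1b09001)], [(nat_lit 0x2217001), (nat_lit 0x21cb001), (nat_lit 0x2294001), (nat_lit 0x1b04001), (nat_lit 0x2297001), (nat_lit 0x1fbb001)], [(nat_lit 0x1b8b001), (nat_lit 0x1b8c001), (nat_lit 0x1d66001), (nat_lit 0x1b8a001), (nat_lit 0x2319001), (nat_lit 0x1b8d001)], [(nat_lit 0x1b88001), (nat_lit 0x1d80001), (nat_lit 0x1b87001), (nat_lit 0x2317001), (nat_lit 0x1b89001), (nat_lit 0x2316001)], [(nat_lit 0x1b84001), (nat_lit 0x1b83001), (nat_lit 0x2313001), (nat_lit 0x22dc001), (nat_lit 0x1b85001), (nat_lit 0x1b86001)], [(nat_lit 0x1d64001), (nat_lit 0x1bb0001), (nat_lit 0x1baf001), (nat_lit 0x1bb2001), (nat_lit 0x233b001), (nat_lit 0x1bb1001)], [(nat_lit 0x231a001), (nat_lit 0x1bb4001), (nat_lit 0x233d001), (nat_lit 0x233a001), (nat_lit 0x1bb3001), (nat_lit 0x233e001)], [(nat_lit 0x2318001), (nat_lit 0x1bae001), (nat_lit 0x2337001), (nat_lit 0x1bad001), (nat_lit 0x2338001), (nat_lit 0x2336001)], [(nat_lit 0x2314001), (nat_lit 0x1baa001), (nat_lit 0x1ba9001), (nat_lit 0x2334001), (nat_lit 0x1bab001), (nat_lit 0x1bac001)], [(nat_lit 0x1aa8001), (nat_lit 0x2228001), (nat_lit 0x1aa9001), (nat_lit 0x2223001), (nat_lit 0x2227001), (nat_lit 0x1eb6001)], [(nat_lit 0x1aad001), (nat_lit 0x1fc5001), (nat_lit 0x2226001), (nat_lit 0x1aae001), (nat_lit 0x1aaf001), (nat_lit 0x222d001)], [(nat_lit 0x1ab3001), (nat_lit 0x1fcc001), (nat_lit 0x21f7001), (nat_lit 0x2231001), (nat_lit 0x1ab4001), (nat_lit 0x1ab5001)], [(nat_lit 0x2221001), (nat_lit 0x1aa4001), (nat_lit 0x221e001), (nat_lit 0x1aa3001), (nat_lit 0x1aa5001), (nat_lit 0x1eb3001)], [(nat_lit 0x2225001), (nat_lit 0x1d7b001), (nat_lit 0x1aa7001), (nat_lit 0x1d71001), (nat_lit 0x1aa6001), (nat_lit 0x1d89001)], [(nat_lit 0x222b001), (nat_lit 0x1aab001), (nat_lit 0x1d8a001), (nat_lit 0x1aac001), (nat_lit 0x1ebc001), (nat_lit 0x1aaa001)], [(nat_lit 0x2230001), (nat_lit 0x1ab1001), (nat_lit 0x222e001), (nat_lit 0x1ab0001), (nat_lit 0x1eb9001), (nat_lit 0x1ab2001)], [(nat_lit 0x1fd0001), (nat_lit 0x2233001), (nat_lit 0x1ab6001), (nat_lit 0x2235001), (nat_lit 0x1cd0001), (nat_lit 0x1ab7001)], [(nat_lit 0x1e55001), (nat_lit 0x1ae1001), (nat_lit 0x1e51001), (nat_lit 0x225a001), (nat_lit 0x2261001), (nat_lit 0x1e6b001)], [(nat_lit 0x1ad8001), (nat_lit 0x2258001), (nat_lit 0x1ad9001), (nat_lit 0x1ada001), (nat_lit 0x1f1a001), (nat_lit 0x21d2001)], [(nat_lit 0x1ade001), (nat_lit 0x2260001), (nat_lit 0x1adf001), (nat_lit 0x1e25001), (nat_lit 0x1ae0001), (nat_lit 0x225f001)], [(nat_lit 0x1ae2001), (nat_lit 0x2199001), (nat_lit 0x225e001), (nat_lit 0x222c001), (nat_lit 0x219e001), (nat_lit 0x1ae3001)], [(nat_lit 0x1ae5001), (nat_lit 0x218c001), (nat_lit 0x2266001), (nat_lit 0x1ae6001), (nat_lit 0x2197001), (nat_lit 0x2232001)], [(nat_lit 0x1ad6001), (nat_lit 0x1ae9001), (nat_lit 0x1ad4001), (nat_lit 0x1ad5001), (nat_lit 0x2254001), (nat_lit 0x21d6001)], [(nat_lit 0x1f19001), (nat_lit 0x21dd001), (nat_lit 0x2256001), (nat_lit 0x1f02001), (nat_lit 0x1ad7001), (nat_lit 0x2257001)], [(nat_lit 0x1e26001), (nat_lit 0x21db001), (nat_lit 0x1e29001), (nat_lit 0x1adb001), (nat_lit 0x1f01001), (nat_lit 0x225b001)], [(nat_lit 0x225d001), (nat_lit 0x21b8001), (nat_lit 0x1add001), (nat_lit 0x225c001), (nat_lit 0x21b2001), (nat_lit 0x1adc001)], [(nat_lit 0x2265001), (nat_lit 0x2262001), (nat_lit 0x1ae4001), (nat_lit 0x2264001), (nat_lit 0x21af001), (nat_lit 0x222f001)], [(nat_lit 0x226c001), (nat_lit 0x1aea001), (nat_lit 0x2263001), (nat_lit 0x226a001), (nat_lit 0x216e001), (nat_lit 0x2234001)], [(nat_lit 0x21aa001), (nat_lit 0x226b001), (nat_lit 0x1aec001), (nat_lit 0x1aeb001), (nat_lit 0x217e001), (nat_lit 0x2239001)], [(nat_lit 0x1b77001), (nat_lit 0x1d85001), (nat_lit 0x1b78001), (nat_lit 0x2309001), (nat_lit 0x1b79001), (nat_lit 0x230e001)], [(nat_lit 0x2308001), (nat_lit 0x1b71001), (nat_lit 0x2302001), (nat_lit 0x1b70001), (nat_lit 0x1b72001), (nat_lit 0x2304001)], [(nat_lit 0x230b001), (nat_lit 0x1b74001), (nat_lit 0x1b75001), (nat_lit 0x2306001), (nat_lit 0x1b76001), (nat_lit 0x1b73001)], [(nat_lit 0x1b7b001), (nat_lit 0x230f001), (nat_lit 0x1b7a001), (nat_lit 0x1b7d001), (nat_lit 0x1b7c001), (nat_lit 0x1b7e001)], [(nat_lit 0x1d77001), (nat_lit 0x2305001), (nat_lit 0x1b80001), (nat_lit 0x1b81001), (nat_lit 0x1b82001), (nat_lit 0x1b7f001)], [(nat_lit 0x1b9c001), (nat_lit 0x1b9d001), (nat_lit 0x230c001), (nat_lit 0x1d09001), (nat_lit 0x1b9e001), (nat_lit 0x1b9f001)], [(nat_lit 0x1d41001), (nat_lit 0x2325001), (nat_lit 0x1b97001), (nat_lit 0x2328001), (nat_lit 0x1b98001), (nat_lit 0x2329001)], [(nat_lit 0x1d08001), (nat_lit 0x1b9a001), (nat_lit 0x232a001), (nat_lit 0x1b9b001), (nat_lit 0x1cd4001), (nat_lit 0x1b99001)], [(nat_lit 0x2331001), (nat_lit 0x1ba0001), (nat_lit 0x2326001), (nat_lit 0x232b001), (nat_lit 0x1ba1001), (nat_lit 0x232e001)], [(nat_lit 0x1ba3001), (nat_lit 0x232c001), (nat_lit 0x2284001), (nat_lit 0x1ba2001), (nat_lit 0x1ba4001), (nat_lit 0x2281001)], [(nat_lit 0x1ba6001), (nat_lit 0x232f001), (nat_lit 0x1ba7001), (nat_lit 0x2280001), (nat_lit 0x1ba8001), (nat_lit 0x1ba5001)], [(nat_lit 0x1c45001), (nat_lit 0x2405001), (nat_lit 0x1c44001), (nat_lit 0x241f001), (nat_lit 0x1c46001), (nat_lit 0x2413001)], [(nat_lit 0x1c41001), (nat_lit 0x1c40001), (nat_lit 0x240f001), (nat_lit 0x1c42001), (nat_lit 0x240d001), (nat_lit 0x1c43001)], [(nat_lit 0x2453001), (nat_lit 0x1c78001), (nat_lit 0x1c77001), (nat_lit 0x2457001), (nat_lit 0x243e001), (nat_lit 0x1c79001)], [(nat_lit 0x2420001), (nat_lit 0x2458001), (nat_lit 0x2465001), (nat_lit 0x1c7f001), (nat_lit 0x2466001), (nat_lit 0x2464001)], [(nat_lit 0x2410001), (nat_lit 0x1c7d001), (nat_lit 0x1c7c001), (nat_lit 0x2460001), (nat_lit 0x245e001), (nat_lit 0x1c7e001)], [(nat_lit 0x240a001), (nat_lit 0x1c7a001), (nat_lit 0x245a001), (nat_lit 0x240c001), (nat_lit 0x1c7b001), (nat_lit 0x2445001)], [(nat_lit 0x1c74001), (nat_lit 0x1c73001), (nat_lit 0x2452001), (nat_lit 0x1c75001), (nat_lit 0x2431001), (nat_lit 0x1c76001)], [(nat_lit 0x1c3c001), (nat_lit 0x2409001), (nat_lit 0x23fa001), (nat_lit 0x1c3d001), (nat_lit 0x1c3e001), (nat_lit 0x1c3f001)], [(nat_lit 0x1c36001), (nat_lit 0x23fe001), (nat_lit 0x1c37001), (nat_lit 0x1c38001), (nat_lit 0x23fb001), (nat_lit 0x1c39001)], [(nat_lit 0x23b7001), (nat_lit 0x1c3a001), (nat_lit 0x2403001), (nat_lit 0x23dc001), (nat_lit 0x1c3b001), (nat_lit 0x2401001)], [(nat_lit 0x1c8d001), (nat_lit 0x1c8c001), (nat_lit 0x1c8e001), (nat_lit 0x247b001), (nat_lit 0x1c8f001), (nat_lit 0x1fff001)], [(nat_lit 0x247a001), (nat_lit 0x1c97001), (nat_lit 0x247d001), (nat_lit 0x1c98001), (nat_lit 0x1c99001), (nat_lit 0x23d0001)], [(nat_lit 0x1c2e001), (nat_lit 0x23c5001), (nat_lit 0x1c2c001), (nat_lit 0x1c2d001), (nat_lit 0x1c2f001), (nat_lit 0x1c2b001)], [(nat_lit 0x23ad001), (nat_lit 0x1c10001), (nat_lit 0x1c11001), (nat_lit 0x23ab001), (nat_lit 0x1c12001), (nat_lit 0x23b1001)], [(nat_lit 0x1d21001), (nat_lit 0x23ac001), (nat_lit 0x1c14001), (nat_lit 0x1c13001), (nat_lit 0x23b6001), (nat_lit 0x1c15001)], [(nat_lit 0x1c17001), (nat_lit 0x23b3001), (nat_lit 0x1c18001), (nat_lit 0x1c19001), (nat_lit 0x23bb001), (nat_lit 0x1c16001)], [(nat_lit 0x1c1b001), (nat_lit 0x1c1c001), (nat_lit 0x23bd001), (nat_lit 0x1c1d001), (nat_lit 0x1c1a001), (nat_lit 0x1c1e001)], [(nat_lit 0x1c24001), (nat_lit 0x23b8001), (nat_lit 0x1c25001), (nat_lit 0x23c2001), (nat_lit 0x23b0001), (nat_lit 0x23cd001)], [(nat_lit 0x23c3001), (nat_lit 0x1c20001), (nat_lit 0x23bf001), (nat_lit 0x1c1f001), (nat_lit 0x23c0001), (nat_lit 0x23c4001)], [(nat_lit 0x23cb001), (nat_lit 0x1c22001), (nat_lit 0x1c23001), (nat_lit 0x23c6001), (nat_lit 0x23c8001), (nat_lit 0x1c21001)], [(nat_lit 0x23d9001), (nat_lit 0x23c1001), (nat_lit 0x23d3001), (nat_lit 0x23ba001), (nat_lit 0x1c2a001), (nat_lit 0x23d6001)], [(nat_lit 0x23f9001), (nat_lit 0x23c9001), (nat_lit 0x1c35001), (nat_lit 0x23f7001), (nat_lit 0x1c34001), (nat_lit 0x23be001)], [(nat_lit 0x1c4b001), (nat_lit 0x242e001), (nat_lit 0x23af001), (nat_lit 0x2426001), (nat_lit 0x1c4c001), (nat_lit 0x242c001)], [(nat_lit 0x2425001), (nat_lit 0x1c48001), (nat_lit 0x2424001), (nat_lit 0x1c47001), (nat_lit 0x2130001), (nat_lit 0x1f67001)], [(nat_lit 0x242a001), (nat_lit 0x1c4a001), (nat_lit 0x23b4001), (nat_lit 0x1f66001), (nat_lit 0x2427001), (nat_lit 0x1c49001)], [(nat_lit 0x1c4f001), (nat_lit 0x212e001), (nat_lit 0x1f6d001), (nat_lit 0x1c4e001), (nat_lit 0x1c4d001), (nat_lit 0x2027001)], [(nat_lit 0x1c56001), (nat_lit 0x2428001), (nat_lit 0x1c54001), (nat_lit 0x2020001), (nat_lit 0x1c53001), (nat_lit 0x1c55001)], [(nat_lit 0x1c69001), (nat_lit 0x1c6a001), (nat_lit 0x20cc001), (nat_lit 0x1c6b001), (nat_lit 0x2135001), (nat_lit 0x1c6c001)], [(nat_lit 0x1c6f001), (nat_lit 0x1c70001), (nat_lit 0x23cc001), (nat_lit 0x1c71001), (nat_lit 0x2146001), (nat_lit 0x1c72001)], [(nat_lit 0x2145001), (nat_lit 0x1c6e001), (nat_lit 0x23ca001), (nat_lit 0x2016001), (nat_lit 0x1c6d001), (nat_lit 0x2429001)], [(nat_lit 0x1c8a001), (nat_lit 0x2479001), (nat_lit 0x1fd7001), (nat_lit 0x1c8b001), (nat_lit 0x2478001), (nat_lit 0x1ffa001)], [(nat_lit 0x1fd8001), (nat_lit 0x246c001), (nat_lit 0x1c86001), (nat_lit 0x1fdf001), (nat_lit 0x2470001), (nat_lit 0x1ff7001)], [(nat_lit 0x2475001), (nat_lit 0x1c88001), (nat_lit 0x2472001), (nat_lit 0x1c89001), (nat_lit 0x1c87001), (nat_lit 0x2474001)], [(nat_lit 0x23e3001), (nat_lit 0x1c90001), (nat_lit 0x246d001), (nat_lit 0x23ff001), (nat_lit 0x23e0001), (nat_lit 0x23df001)], [(nat_lit 0x1c92001), (nat_lit 0x23e4001), (nat_lit 0x1c93001), (nat_lit 0x23e7001), (nat_lit 0x1c91001), (nat_lit 0x20db001)], [(nat_lit 0x1c95001), (nat_lit 0x2471001), (nat_lit 0x20da001), (nat_lit 0x1c96001), (nat_lit 0x246f001), (nat_lit 0x1c94001)], [(nat_lit 0x1c9e001), (nat_lit 0x1c9b001), (nat_lit 0x1c9c001), (nat_lit 0x1c9a001), (nat_lit 0x247f001), (nat_lit 0x1c9d001)], [(nat_lit 0x1ca5001), (nat_lit 0x1ca6001), (nat_lit 0x2482001), (nat_lit 0x2477001), (nat_lit 0x1ca7001), (nat_lit 0x248c001)], [(nat_lit 0x2480001), (nat_lit 0x1ca0001), (nat_lit 0x1ca1001), (nat_lit 0x2483001), (nat_lit 0x1c9f001), (nat_lit 0x2485001)], [(nat_lit 0x2489001), (nat_lit 0x1ca3001), (nat_lit 0x2487001), (nat_lit 0x2473001), (nat_lit 0x1ca4001), (nat_lit 0x1ca2001)], [(nat_lit 0x24b8001), (nat_lit 0x24c2001), (nat_lit 0x1d0c001), (nat_lit 0x1f91001), (nat_lit 0x24f4001), (nat_lit 0x1d0d001)], [(nat_lit 0x1d08001), (nat_lit 0x1d07001), (nat_lit 0x24f1001), (nat_lit 0x1d09001), (nat_lit 0x1d0a001), (nat_lit 0x1d0b001)], [(nat_lit 0x1d38001), (nat_lit 0x1e60001), (nat_lit 0x1d37001), (nat_lit 0x2002001), (nat_lit 0x2492001), (nat_lit 0x1d39001)], [(nat_lit 0x2004001), (nat_lit 0x1d3e001), (nat_lit 0x2008001), (nat_lit 0x1d3d001), (nat_lit 0x2512001), (nat_lit 0x1d3f001)], [(nat_lit 0x1d4a001), (nat_lit 0x251f001), (nat_lit 0x1d49001), (nat_lit 0x1d4b001), (nat_lit 0x2524001), (nat_lit 0x1d4c001)], [(nat_lit 0x24bf001), (nat_lit 0x2514001), (nat_lit 0x2526001), (nat_lit 0x24f9001), (nat_lit 0x1d4d001), (nat_lit 0x2527001)], [(nat_lit 0x1d45001), (nat_lit 0x1d46001), (nat_lit 0x1d47001), (nat_lit 0x1d44001), (nat_lit 0x251b001), (nat_lit 0x1d48001)], [(nat_lit 0x1d41001), (nat_lit 0x1d42001), (nat_lit 0x1d40001), (nat_lit 0x2518001), (nat_lit 0x1d43001), (nat_lit 0x24f5001)], [(nat_lit 0x1cf7001), (nat_lit 0x1cf6001), (nat_lit 0x2493001), (nat_lit 0x244c001), (nat_lit 0x1cf8001), (nat_lit 0x2450001)], [(nat_lit 0x2448001), (nat_lit 0x1d13001), (nat_lit 0x1ce1001), (nat_lit 0x1d12001), (nat_lit 0x1d14001), (nat_lit 0x1ce0001)], [(nat_lit 0x244e001), (nat_lit 0x1d19001), (nat_lit 0x24c1001), (nat_lit 0x1cdf001), (nat_lit 0x1d1a001), (nat_lit 0x1d15001)], [(nat_lit 0x1d1b001), (nat_lit 0x1ce5001), (nat_lit 0x1d16001), (nat_lit 0x1d1c001), (nat_lit 0x1d1d001), (nat_lit 0x1ce4001)], [(nat_lit 0x1d1e001), (nat_lit 0x1cdd001), (nat_lit 0x1cde001), (nat_lit 0x1d1f001), (nat_lit 0x2406001), (nat_lit 0x1d17001)], [(nat_lit 0x1d64001), (nat_lit 0x1d65001), (nat_lit 0x1d66001), (nat_lit 0x1d63001), (nat_lit 0x254a001), (nat_lit 0x1d67001)], [(nat_lit 0x1fa9001), (nat_lit 0x1d61001), (nat_lit 0x1d60001), (nat_lit 0x2548001), (nat_lit 0x1d62001), (nat_lit 0x2547001)], [(nat_lit 0x1fa5001), (nat_lit 0x1d5d001), (nat_lit 0x2544001), (nat_lit 0x1fa6001), (nat_lit 0x1d5e001), (nat_lit 0x1d5f001)], [(nat_lit 0x2442001), (nat_lit 0x1ce3001), (nat_lit 0x1d18001), (nat_lit 0x2443001), (nat_lit 0x1ce2001), (nat_lit 0x240e001)], [(nat_lit 0x23bc001), (nat_lit 0x1d20001), (nat_lit 0x1ce7001), (nat_lit 0x24c6001), (nat_lit 0x1ce6001), (nat_lit 0x23fc001)], [(nat_lit 0x1cef001), (nat_lit 0x2449001), (nat_lit 0x243a001), (nat_lit 0x1cf0001), (nat_lit 0x24d8001), (nat_lit 0x243f001)], [(nat_lit 0x1cf4001), (nat_lit 0x244f001), (nat_lit 0x24b1001), (nat_lit 0x2440001), (nat_lit 0x24df001), (nat_lit 0x1cf5001)], [(nat_lit 0x2437001), (nat_lit 0x242d001), (nat_lit 0x1ce8001), (nat_lit 0x24c9001), (nat_lit 0x24ca001), (nat_lit 0x2432001)], [(nat_lit 0x24d4001), (nat_lit 0x1cea001), (nat_lit 0x24cc001), (nat_lit 0x1ceb001), (nat_lit 0x1ce9001), (nat_lit 0x24ce001)], [(nat_lit 0x243c001), (nat_lit 0x1ced001), (nat_lit 0x2430001), (nat_lit 0x1cee001), (nat_lit 0x2455001), (nat_lit 0x1cec001)], [(nat_lit 0x24dd001), (nat_lit 0x1cf2001), (nat_lit 0x1e74001), (nat_lit 0x24da001), (nat_lit 0x1cf1001), (nat_lit 0x1cf3001)], [(nat_lit 0x23b2001), (nat_lit 0x1cf9001), (nat_lit 0x242b001), (nat_lit 0x23b5001), (nat_lit 0x24e1001), (nat_lit 0x23ae001)], [(nat_lit 0x1cfc001), (nat_lit 0x24e2001), (nat_lit 0x1cfb001), (nat_lit 0x2050001), (nat_lit 0x1cfa001), (nat_lit 0x20a0001)], [(nat_lit 0x1cfe001), (nat_lit 0x24cf001), (nat_lit 0x20a1001), (nat_lit 0x1cff001), (nat_lit 0x24e3001), (nat_lit 0x1cfd001)], [(nat_lit 0x2404001), (nat_lit 0x2454001), (nat_lit 0x23b9001), (nat_lit 0x24e8001), (nat_lit 0x1d00001), (nat_lit 0x24e7001)], [(nat_lit 0x1d02001), (nat_lit 0x24db001), (nat_lit 0x24ed001), (nat_lit 0x1d01001), (nat_lit 0x24ea001), (nat_lit 0x1d03001)], [(nat_lit 0x1d2a001), (nat_lit 0x1d2b001), (nat_lit 0x1d2c001), (nat_lit 0x2500001), (nat_lit 0x2507001), (nat_lit 0x1d2d001)], [(nat_lit 0x1d2e001), (nat_lit 0x1d2f001), (nat_lit 0x2505001), (nat_lit 0x24d7001), (nat_lit 0x1d30001), (nat_lit 0x2508001)], [(nat_lit 0x1d34001), (nat_lit 0x1d35001), (nat_lit 0x1e77001), (nat_lit 0x250d001), (nat_lit 0x1d36001), (nat_lit 0x24e0001)], [(nat_lit 0x24fe001), (nat_lit 0x1d24001), (nat_lit 0x2259001), (nat_lit 0x1d23001), (nat_lit 0x24fa001), (nat_lit 0x1d25001)], [(nat_lit 0x2503001), (nat_lit 0x1d27001), (nat_lit 0x1d28001), (nat_lit 0x24d1001), (nat_lit 0x1d26001), (nat_lit 0x1d29001)], [(nat_lit 0x250b001), (nat_lit 0x1d32001), (nat_lit 0x2509001), (nat_lit 0x1d31001), (nat_lit 0x1d33001), (nat_lit 0x24dc001)], [(nat_lit 0x1d3b001), (nat_lit 0x21fb001), (nat_lit 0x1d3a001), (nat_lit 0x250f001), (nat_lit 0x1d3c001), (nat_lit 0x24f0001)], [(nat_lit 0x1d54001), (nat_lit 0x1d55001), (nat_lit 0x1f9f001), (nat_lit 0x2530001), (nat_lit 0x1d56001), (nat_lit 0x2535001)], [(nat_lit 0x2532001), (nat_lit 0x1d52001), (nat_lit 0x1f9d001), (nat_lit 0x252d001), (nat_lit 0x1d53001), (nat_lit 0x1d51001)], [(nat_lit 0x1d99001), (nat_lit 0x1f97001), (nat_lit 0x1d98001), (nat_lit 0x256c001), (nat_lit 0x1d9a001), (nat_lit 0x1da6001)], [(nat_lit 0x1de3001), (nat_lit 0x1de4001), (nat_lit 0x1de2001), (nat_lit 0x25cd001), (nat_lit 0x1de5001), (nat_lit 0x25cc001)], [(nat_lit 0x25ce001), (nat_lit 0x1dfe001), (nat_lit 0x25d8001), (nat_lit 0x1dfd001), (nat_lit 0x25d0001), (nat_lit 0x25d7001)], [(nat_lit 0x25c9001), (nat_lit 0x1dfa001), (nat_lit 0x1df9001), (nat_lit 0x25d5001), (nat_lit 0x1dfb001), (nat_lit 0x1dfc001)], [(nat_lit 0x1e0c001), (nat_lit 0x25d6001), (nat_lit 0x1e0d001), (nat_lit 0x1e0b001), (nat_lit 0x25e4001), (nat_lit 0x1e0e001)], [(nat_lit 0x1e10001), (nat_lit 0x25cf001), (nat_lit 0x25e6001), (nat_lit 0x1e11001), (nat_lit 0x1e0f001), (nat_lit 0x25e7001)], [(nat_lit 0x1e07001), (nat_lit 0x1e08001), (nat_lit 0x1e06001), (nat_lit 0x25e0001), (nat_lit 0x1e09001), (nat_lit 0x1e0a001)], [(nat_lit 0x1e46001), (nat_lit 0x25ca001), (nat_lit 0x1e47001), (nat_lit 0x25e9001), (nat_lit 0x261b001), (nat_lit 0x1e45001)], [(nat_lit 0x1f96001), (nat_lit 0x1e44001), (nat_lit 0x1f84001), (nat_lit 0x2616001), (nat_lit 0x1e43001), (nat_lit 0x2617001)], [(nat_lit 0x256d001), (nat_lit 0x1e42001), (nat_lit 0x2613001), (nat_lit 0x1e41001), (nat_lit 0x2614001), (nat_lit 0x25e3001)], [(nat_lit 0x1e3f001), (nat_lit 0x260f001), (nat_lit 0x1e3e001), (nat_lit 0x2611001), (nat_lit 0x1e40001), (nat_lit 0x2169001)], [(nat_lit 0x1e55001), (nat_lit 0x1e56001), (nat_lit 0x1e54001), (nat_lit 0x2522001), (nat_lit 0x2610001), (nat_lit 0x1e57001)], [(nat_lit 0x1e69001), (nat_lit 0x1e6a001), (nat_lit 0x1e68001), (nat_lit 0x22ba001), (nat_lit 0x2161001), (nat_lit 0x1e6b001)], [(nat_lit 0x22bb001), (nat_lit 0x1e6d001), (nat_lit 0x22be001), (nat_lit 0x1e6c001), (nat_lit 0x262f001), (nat_lit 0x2523001)], [(nat_lit 0x1e6f001), (nat_lit 0x2631001), (nat_lit 0x251e001), (nat_lit 0x2166001), (nat_lit 0x1e6e001), (nat_lit 0x2633001)], [(nat_lit 0x1dd4001), (nat_lit 0x1dd3001), (nat_lit 0x1ee5001), (nat_lit 0x1dd5001), (nat_lit 0x1dd6001), (nat_lit 0x2593001)], [(nat_lit 0x1ddf001), (nat_lit 0x1dde001), (nat_lit 0x25c8001), (nat_lit 0x2592001), (nat_lit 0x1de0001), (nat_lit 0x1de1001)], [(nat_lit 0x1ee4001), (nat_lit 0x257e001), (nat_lit 0x1df3001), (nat_lit 0x25d1001), (nat_lit 0x1df4001), (nat_lit 0x257b001)], [(nat_lit 0x2590001), (nat_lit 0x1db5001), (nat_lit 0x257a001), (nat_lit 0x1db6001), (nat_lit 0x2311001), (nat_lit 0x1db7001)], [(nat_lit 0x2583001), (nat_lit 0x1da9001), (nat_lit 0x257f001), (nat_lit 0x1daa001), (nat_lit 0x1dab001), (nat_lit 0x1da8001)], [(nat_lit 0x2604001), (nat_lit 0x1e3c001), (nat_lit 0x260d001), (nat_lit 0x260b001), (nat_lit 0x1e3d001), (nat_lit 0x2174001)], [(nat_lit 0x1e39001), (nat_lit 0x260a001), (nat_lit 0x22fa001), (nat_lit 0x1e3a001), (nat_lit 0x1e3b001), (nat_lit 0x217f001)], [(nat_lit 0x1e50001), (nat_lit 0x1e4f001), (nat_lit 0x1e51001), (nat_lit 0x1e52001), (nat_lit 0x2606001), (nat_lit 0x1e53001)], [(nat_lit 0x2359001), (nat_lit 0x1e49001), (nat_lit 0x1e48001), (nat_lit 0x21e1001), (nat_lit 0x2327001), (nat_lit 0x1e4a001)], [(nat_lit 0x1e4b001), (nat_lit 0x1e4c001), (nat_lit 0x235a001), (nat_lit 0x1e4d001), (nat_lit 0x2333001), (nat_lit 0x1e4e001)], [(nat_lit 0x1d6c001), (nat_lit 0x1dad001), (nat_lit 0x2552001), (nat_lit 0x1d6d001), (nat_lit 0x255a001), (nat_lit 0x1de8001)], [(nat_lit 0x1d73001), (nat_lit 0x1db3001), (nat_lit 0x1d74001), (nat_lit 0x1de7001), (nat_lit 0x255e001), (nat_lit 0x1d75001)], [(nat_lit 0x2551001), (nat_lit 0x1dc3001), (nat_lit 0x1d68001), (nat_lit 0x254e001), (nat_lit 0x254f001), (nat_lit 0x1dbe001)], [(nat_lit 0x2557001), (nat_lit 0x1d6a001), (nat_lit 0x2550001), (nat_lit 0x1d6b001), (nat_lit 0x1d69001), (nat_lit 0x2553001)], [(nat_lit 0x255b001), (nat_lit 0x1d6f001), (nat_lit 0x1d70001), (nat_lit 0x1d71001), (nat_lit 0x1d6e001), (nat_lit 0x1d72001)], [(nat_lit 0x1d84001), (nat_lit 0x1d85001), (nat_lit 0x1e8f001), (nat_lit 0x2559001), (nat_lit 0x1d86001), (nat_lit 0x2567001)], [(nat_lit 0x1d8b001), (nat_lit 0x1f83001), (nat_lit 0x1d8c001), (nat_lit 0x256a001), (nat_lit 0x1d8d001), (nat_lit 0x255f001)], [(nat_lit 0x1e8e001), (nat_lit 0x1d80001), (nat_lit 0x1d81001), (nat_lit 0x2560001), (nat_lit 0x1d7f001), (nat_lit 0x2562001)], [(nat_lit 0x2565001), (nat_lit 0x1d83001), (nat_lit 0x2564001), (nat_lit 0x2555001), (nat_lit 0x1f8d001), (nat_lit 0x1d82001)], [(nat_lit 0x2568001), (nat_lit 0x1d88001), (nat_lit 0x1d8a001), (nat_lit 0x1d87001), (nat_lit 0x1f87001), (nat_lit 0x1d89001)], [(nat_lit 0x1e10001), (nat_lit 0x1d9c001), (nat_lit 0x256e001), (nat_lit 0x1d9b001), (nat_lit 0x1d9d001), (nat_lit 0x2570001)], [(nat_lit 0x1e46001), (nat_lit 0x1d9f001), (nat_lit 0x1da0001), (nat_lit 0x2572001), (nat_lit 0x2573001), (nat_lit 0x1d9e001)], [(nat_lit 0x1e0c001), (nat_lit 0x2571001), (nat_lit 0x1da1001), (nat_lit 0x1da2001), (nat_lit 0x256f001), (nat_lit 0x1da3001)], [(nat_lit 0x1e07001), (nat_lit 0x2574001), (nat_lit 0x1da5001), (nat_lit 0x2577001), (nat_lit 0x1da4001), (nat_lit 0x1da6001)], [(nat_lit 0x1dac001), (nat_lit 0x1dad001), (nat_lit 0x2582001), (nat_lit 0x1dae001), (nat_lit 0x230a001), (nat_lit 0x2587001)], [(nat_lit 0x1db2001), (nat_lit 0x1db3001), (nat_lit 0x1e47001), (nat_lit 0x2585001), (nat_lit 0x258e001), (nat_lit 0x1db4001)], [(nat_lit 0x2581001), (nat_lit 0x2579001), (nat_lit 0x1da7001), (nat_lit 0x257c001), (nat_lit 0x2303001), (nat_lit 0x257d001)], [(nat_lit 0x258c001), (nat_lit 0x1db0001), (nat_lit 0x2575001), (nat_lit 0x2588001), (nat_lit 0x1daf001), (nat_lit 0x1db1001)], [(nat_lit 0x1db9001), (nat_lit 0x2589001), (nat_lit 0x1e9c001), (nat_lit 0x1db8001), (nat_lit 0x1dba001), (nat_lit 0x1dbb001)], [(nat_lit 0x1dc5001), (nat_lit 0x25b0001), (nat_lit 0x1dc6001), (nat_lit 0x25a3001), (nat_lit 0x25a9001), (nat_lit 0x25af001)], [(nat_lit 0x1dca001), (nat_lit 0x1dcb001), (nat_lit 0x25a8001), (nat_lit 0x1dcc001), (nat_lit 0x1dcd001), (nat_lit 0x25b8001)], [(nat_lit 0x1dd0001), (nat_lit 0x2591001), (nat_lit 0x25ae001), (nat_lit 0x1dd1001), (nat_lit 0x25be001), (nat_lit 0x1dd2001)], [(nat_lit 0x1dda001), (nat_lit 0x1ddb001), (nat_lit 0x255c001), (nat_lit 0x25c6001), (nat_lit 0x1ddc001), (nat_lit 0x1ddd001)], [(nat_lit 0x2597001), (nat_lit 0x1dbc001), (nat_lit 0x1dbd001), (nat_lit 0x2594001), (nat_lit 0x2220001), (nat_lit 0x1dbe001)], [(nat_lit 0x25a1001), (nat_lit 0x2595001), (nat_lit 0x259a001), (nat_lit 0x1dbf001), (nat_lit 0x259d001), (nat_lit 0x259e001)], [(nat_lit 0x25a7001), (nat_lit 0x221f001), (nat_lit 0x1dc1001), (nat_lit 0x25a4001), (nat_lit 0x1dc0001), (nat_lit 0x25a5001)], [(nat_lit 0x25ad001), (nat_lit 0x1dc3001), (nat_lit 0x1dc4001), (nat_lit 0x25a0001), (nat_lit 0x25aa001), (nat_lit 0x1dc2001)], [(nat_lit 0x25b5001), (nat_lit 0x1dc8001), (nat_lit 0x25a6001), (nat_lit 0x1dc9001), (nat_lit 0x25b1001), (nat_lit 0x1dc7001)], [(nat_lit 0x25bd001), (nat_lit 0x1dcf001), (nat_lit 0x25ac001), (nat_lit 0x25b9001), (nat_lit 0x1dce001), (nat_lit 0x25b4001)], [(nat_lit 0x25c3001), (nat_lit 0x1dd8001), (nat_lit 0x25bf001), (nat_lit 0x1dd7001), (nat_lit 0x25bb001), (nat_lit 0x1dd9001)], [(nat_lit 0x1de6001), (nat_lit 0x2584001), (nat_lit 0x2598001), (nat_lit 0x1de7001), (nat_lit 0x2224001), (nat_lit 0x1de8001)], [(nat_lit 0x1dea001), (nat_lit 0x25b2001), (nat_lit 0x1deb001), (nat_lit 0x1dec001), (nat_lit 0x1de9001), (nat_lit 0x1ded001)], [(nat_lit 0x1def001), (nat_lit 0x25ba001), (nat_lit 0x1df0001), (nat_lit 0x1dee001), (nat_lit 0x1df1001), (nat_lit 0x1df2001)], [(nat_lit 0x1df6001), (nat_lit 0x25d2001), (nat_lit 0x1df5001), (nat_lit 0x22fb001), (nat_lit 0x1df7001), (nat_lit 0x1df8001)], [(nat_lit 0x25dc001), (nat_lit 0x1dff001), (nat_lit 0x1e00001), (nat_lit 0x25d9001), (nat_lit 0x1e01001), (nat_lit 0x1e02001)], [(nat_lit 0x217c001), (nat_lit 0x25da001), (nat_lit 0x1e05001), (nat_lit 0x1e03001), (nat_lit 0x21ab001), (nat_lit 0x1e04001)], [(nat_lit 0x1e12001), (nat_lit 0x2176001), (nat_lit 0x1e13001), (nat_lit 0x21a7001), (nat_lit 0x25de001), (nat_lit 0x1e14001)], [(nat_lit 0x1e19001), (nat_lit 0x2170001), (nat_lit 0x25ee001), (nat_lit 0x1e1a001), (nat_lit 0x25f5001), (nat_lit 0x21a8001)], [(nat_lit 0x25ed001), (nat_lit 0x2187001), (nat_lit 0x1e15001), (nat_lit 0x25ea001), (nat_lit 0x25eb001), (nat_lit 0x2182001)], [(nat_lit 0x25f2001), (nat_lit 0x1e17001), (nat_lit 0x25ec001), (nat_lit 0x1e18001), (nat_lit 0x1e16001), (nat_lit 0x25ef001)], [(nat_lit 0x1e1c001), (nat_lit 0x25f0001), (nat_lit 0x1e1d001), (nat_lit 0x1e1e001), (nat_lit 0x1fd2001), (nat_lit 0x1e1b001)], [(nat_lit 0x1e27001), (nat_lit 0x1e28001), (nat_lit 0x1e29001), (nat_lit 0x1e2a001), (nat_lit 0x1e2b001), (nat_lit 0x25c7001)], [(nat_lit 0x1e26001), (nat_lit 0x25f6001), (nat_lit 0x1e23001), (nat_lit 0x1e25001), (nat_lit 0x1e24001), (nat_lit 0x25c1001)], [(nat_lit 0x25fd001), (nat_lit 0x1e2c001), (nat_lit 0x25f7001), (nat_lit 0x25fa001), (nat_lit 0x1e2d001), (nat_lit 0x25d4001)], [(nat_lit 0x1e2f001), (nat_lit 0x25fb001), (nat_lit 0x217d001), (nat_lit 0x1e2e001), (nat_lit 0x1e30001), (nat_lit 0x22fc001)], [(nat_lit 0x1e33001), (nat_lit 0x2603001), (nat_lit 0x1e34001), (nat_lit 0x2602001), (nat_lit 0x1e35001), (nat_lit 0x25df001)], [(nat_lit 0x2601001), (nat_lit 0x1e32001), (nat_lit 0x2600001), (nat_lit 0x1e31001), (nat_lit 0x232d001), (nat_lit 0x25db001)], [(nat_lit 0x22f9001), (nat_lit 0x2607001), (nat_lit 0x1e36001), (nat_lit 0x1e38001), (nat_lit 0x2286001), (nat_lit 0x1e37001)], [(nat_lit 0x1e5f001), (nat_lit 0x1e60001), (nat_lit 0x1e61001), (nat_lit 0x1e62001), (nat_lit 0x262b001), (nat_lit 0x235c001)], [(nat_lit 0x1e65001), (nat_lit 0x1e66001), (nat_lit 0x2629001), (nat_lit 0x25f4001), (nat_lit 0x1e67001), (nat_lit 0x262e001)], [(nat_lit 0x1e5b001), (nat_lit 0x1e59001), (nat_lit 0x1e5a001), (nat_lit 0x1e58001), (nat_lit 0x261c001), (nat_lit 0x21e2001)], [(nat_lit 0x2627001), (nat_lit 0x1e5d001), (nat_lit 0x1e5e001), (nat_lit 0x2620001), (nat_lit 0x1e5c001), (nat_lit 0x2624001)], [(nat_lit 0x262c001), (nat_lit 0x1e64001), (nat_lit 0x2626001), (nat_lit 0x25f1001), (nat_lit 0x2330001), (nat_lit 0x1e63001)], [(nat_lit 0x1e76001), (nat_lit 0x2332001), (nat_lit 0x1e77001), (nat_lit 0x2637001), (nat_lit 0x1e78001), (nat_lit 0x263b001)], [(nat_lit 0x2636001), (nat_lit 0x1e71001), (nat_lit 0x2635001), (nat_lit 0x1e70001), (nat_lit 0x260c001), (nat_lit 0x22f7001)], [(nat_lit 0x2638001), (nat_lit 0x1e73001), (nat_lit 0x1e74001), (nat_lit 0x22f6001), (nat_lit 0x1e75001), (nat_lit 0x1e72001)], [(nat_lit 0x1e8e001), (nat_lit 0x1e8d001), (nat_lit 0x1e8f001), (nat_lit 0x2655001), (nat_lit 0x1e90001), (nat_lit 0x265b001)], [(nat_lit 0x1e86001), (nat_lit 0x2653001), (nat_lit 0x264b001), (nat_lit 0x1e87001), (nat_lit 0x1e88001), (nat_lit 0x2652001)], [(nat_lit 0x1e89001), (nat_lit 0x2657001), (nat_lit 0x1e8a001), (nat_lit 0x2651001), (nat_lit 0x1e8b001), (nat_lit 0x1e8c001)], [(nat_lit 0x1e7d001), (nat_lit 0x2339001), (nat_lit 0x2640001), (nat_lit 0x1e7c001), (nat_lit 0x1e7e001), (nat_lit 0x2645001)], [(nat_lit 0x1e80001), (nat_lit 0x233f001), (nat_lit 0x1e81001), (nat_lit 0x2648001), (nat_lit 0x1e82001), (nat_lit 0x1e7f001)], [(nat_lit 0x264a001), (nat_lit 0x2649001), (nat_lit 0x1e83001), (nat_lit 0x229d001), (nat_lit 0x2643001), (nat_lit 0x229a001)], [(nat_lit 0x264f001), (nat_lit 0x2335001), (nat_lit 0x2298001), (nat_lit 0x1e85001), (nat_lit 0x2296001), (nat_lit 0x1e84001)], [(nat_lit 0x1f00001), (nat_lit 0x26e9001), (nat_lit 0x1eff001), (nat_lit 0x1f02001), (nat_lit 0x1f01001), (nat_lit 0x2693001)], [(nat_lit 0x1ed8001), (nat_lit 0x1ed9001), (nat_lit 0x2691001), (nat_lit 0x1eda001), (nat_lit 0x26b6001), (nat_lit 0x1edb001)], [(nat_lit 0x26ab001), (nat_lit 0x1ec6001), (nat_lit 0x1ec7001), (nat_lit 0x26a0001), (nat_lit 0x25f9001), (nat_lit 0x1ec5001)], [(nat_lit 0x1f19001), (nat_lit 0x269e001), (nat_lit 0x2215001), (nat_lit 0x1f18001), (nat_lit 0x1f1a001), (nat_lit 0x268b001)], [(nat_lit 0x2690001), (nat_lit 0x1ebf001), (nat_lit 0x1ec0001), (nat_lit 0x2689001), (nat_lit 0x268d001), (nat_lit 0x1ec1001)], [(nat_lit 0x26b4001), (nat_lit 0x1ed7001), (nat_lit 0x268f001), (nat_lit 0x25b3001), (nat_lit 0x1ed6001), (nat_lit 0x25bc001)], [(nat_lit 0x1ece001), (nat_lit 0x1ecf001), (nat_lit 0x26ac001), (nat_lit 0x1ed0001), (nat_lit 0x25ff001), (nat_lit 0x1ed1001)], [(nat_lit 0x1f77001), (nat_lit 0x1f78001), (nat_lit 0x1f76001), (nat_lit 0x2795001), (nat_lit 0x1f79001), (nat_lit 0x2793001)], [(nat_lit 0x1f82001), (nat_lit 0x1f83001), (nat_lit 0x1f84001), (nat_lit 0x27a2001), (nat_lit 0x1f81001), (nat_lit 0x258f001)], [(nat_lit 0x1f7f001), (nat_lit 0x2797001), (nat_lit 0x279b001), (nat_lit 0x1f7e001), (nat_lit 0x279f001), (nat_lit 0x1f80001)], [(nat_lit 0x1f7b001), (nat_lit 0x2791001), (nat_lit 0x1f7a001), (nat_lit 0x1f7d001), (nat_lit 0x230d001), (nat_lit 0x1f7c001)], [(nat_lit 0x1f96001), (nat_lit 0x1f97001), (nat_lit 0x1f98001), (nat_lit 0x27a6001), (nat_lit 0x1f95001), (nat_lit 0x2576001)], [(nat_lit 0x27a0001), (nat_lit 0x1f93001), (nat_lit 0x27a5001), (nat_lit 0x1f94001), (nat_lit 0x1f92001), (nat_lit 0x258b001)], [(nat_lit 0x279c001), (nat_lit 0x1f8f001), (nat_lit 0x1f8e001), (nat_lit 0x1f91001), (nat_lit 0x27a3001), (nat_lit 0x1f90001)], [(nat_lit 0x1ec8001), (nat_lit 0x26ae001), (nat_lit 0x1ec9001), (nat_lit 0x26a4001), (nat_lit 0x26aa001), (nat_lit 0x26ad001)], [(nat_lit 0x1ecc001), (nat_lit 0x2251001), (nat_lit 0x26a9001), (nat_lit 0x22d6001), (nat_lit 0x1ecd001), (nat_lit 0x26b0001)], [(nat_lit 0x1ed4001), (nat_lit 0x223f001), (nat_lit 0x23a5001), (nat_lit 0x26b3001), (nat_lit 0x1ed5001), (nat_lit 0x227b001)], [(nat_lit 0x26a2001), (nat_lit 0x268a001), (nat_lit 0x2694001), (nat_lit 0x1ec2001), (nat_lit 0x269a001), (nat_lit 0x269d001)], [(nat_lit 0x26a8001), (nat_lit 0x268e001), (nat_lit 0x1ec4001), (nat_lit 0x26a5001), (nat_lit 0x1ec3001), (nat_lit 0x26a6001)], [(nat_lit 0x26af001), (nat_lit 0x1ecb001), (nat_lit 0x26a7001), (nat_lit 0x22e0001), (nat_lit 0x25d3001), (nat_lit 0x1eca001)], [(nat_lit 0x26b2001), (nat_lit 0x1ed3001), (nat_lit 0x26b1001), (nat_lit 0x1ed2001), (nat_lit 0x25fc001), (nat_lit 0x228a001)], [(nat_lit 0x26cb001), (nat_lit 0x1ef3001), (nat_lit 0x26e8001), (nat_lit 0x1f46001), (nat_lit 0x26e1001), (nat_lit 0x26e7001)], [(nat_lit 0x1eeb001), (nat_lit 0x26df001), (nat_lit 0x1eec001), (nat_lit 0x26d7001), (nat_lit 0x1eed001), (nat_lit 0x26de001)], [(nat_lit 0x1ef0001), (nat_lit 0x26e6001), (nat_lit 0x1ef1001), (nat_lit 0x1f04001), (nat_lit 0x26e5001), (nat_lit 0x1ef2001)], [(nat_lit 0x1ef7001), (nat_lit 0x25c4001), (nat_lit 0x26dd001), (nat_lit 0x1ef8001), (nat_lit 0x26ed001), (nat_lit 0x1ef9001)], [(nat_lit 0x1efd001), (nat_lit 0x26b5001), (nat_lit 0x26e4001), (nat_lit 0x26f4001), (nat_lit 0x1efe001), (nat_lit 0x26ee001)], [(nat_lit 0x1ee1001), (nat_lit 0x26ca001), (nat_lit 0x1ee2001), (nat_lit 0x26c1001), (nat_lit 0x26c9001), (nat_lit 0x224b001)], [(nat_lit 0x26bf001), (nat_lit 0x1edd001), (nat_lit 0x26b7001), (nat_lit 0x1edc001), (nat_lit 0x26bc001), (nat_lit 0x2245001)], [(nat_lit 0x26c7001), (nat_lit 0x1edf001), (nat_lit 0x1ee0001), (nat_lit 0x26c2001), (nat_lit 0x1ede001), (nat_lit 0x26c4001)], [(nat_lit 0x1ee4001), (nat_lit 0x26bd001), (nat_lit 0x1ee5001), (nat_lit 0x26cc001), (nat_lit 0x1ee3001), (nat_lit 0x26cf001)], [(nat_lit 0x1f06001), (nat_lit 0x2244001), (nat_lit 0x1f08001), (nat_lit 0x1ee7001), (nat_lit 0x26d2001), (nat_lit 0x1ee6001)], [(nat_lit 0x26d6001), (nat_lit 0x26c3001), (nat_lit 0x26d3001), (nat_lit 0x1ee8001), (nat_lit 0x26ce001), (nat_lit 0x26d4001)], [(nat_lit 0x26dc001), (nat_lit 0x26c5001), (nat_lit 0x1eea001), (nat_lit 0x26d5001), (nat_lit 0x26d9001), (nat_lit 0x1ee9001)], [(nat_lit 0x26e3001), (nat_lit 0x2247001), (nat_lit 0x1eef001), (nat_lit 0x26e2001), (nat_lit 0x1eee001), (nat_lit 0x26db001)], [(nat_lit 0x26ec001), (nat_lit 0x1ef5001), (nat_lit 0x26da001), (nat_lit 0x2310001), (nat_lit 0x1ef4001), (nat_lit 0x1ef6001)], [(nat_lit 0x1f16001), (nat_lit 0x25fe001), (nat_lit 0x26c8001), (nat_lit 0x2702001), (nat_lit 0x1f17001), (nat_lit 0x2704001)], [(nat_lit 0x2701001), (nat_lit 0x1f13001), (nat_lit 0x2700001), (nat_lit 0x1f12001), (nat_lit 0x223c001), (nat_lit 0x2609001)], [(nat_lit 0x2703001), (nat_lit 0x1f15001), (nat_lit 0x26c6001), (nat_lit 0x2608001), (nat_lit 0x224f001), (nat_lit 0x1f14001)], [(nat_lit 0x2705001), (nat_lit 0x1f1b001), (nat_lit 0x26f7001), (nat_lit 0x1f1c001), (nat_lit 0x2307001), (nat_lit 0x1f1d001)], [(nat_lit 0x1f3c001), (nat_lit 0x2615001), (nat_lit 0x2739001), (nat_lit 0x1f3b001), (nat_lit 0x1f3d001), (nat_lit 0x273c001)], [(nat_lit 0x1f3f001), (nat_lit 0x2619001), (nat_lit 0x1f40001), (nat_lit 0x273e001), (nat_lit 0x25cb001), (nat_lit 0x1f3e001)], [(nat_lit 0x273a001), (nat_lit 0x273f001), (nat_lit 0x1f41001), (nat_lit 0x2d5d001), (nat_lit 0x273b001), (nat_lit 0x2740001)], [(nat_lit 0x273d001), (nat_lit 0x25e2001), (nat_lit 0x2741001), (nat_lit 0x1f43001), (nat_lit 0x2742001), (nat_lit 0x1f42001)], [(nat_lit 0x2743001), (nat_lit 0x1f44001), (nat_lit 0x1f45001), (nat_lit 0x1f46001), (nat_lit 0x2580001), (nat_lit 0x26f9001)], [(nat_lit 0x1f4a001), (nat_lit 0x2222001), (nat_lit 0x2745001), (nat_lit 0x222a001), (nat_lit 0x2586001), (nat_lit 0x2708001)], [(nat_lit 0x2229001), (nat_lit 0x1f48001), (nat_lit 0x2747001), (nat_lit 0x1f47001), (nat_lit 0x258a001), (nat_lit 0x1f49001)], [(nat_lit 0x1f5e001), (nat_lit 0x1f5d001), (nat_lit 0x1f5f001), (nat_lit 0x2769001), (nat_lit 0x1f60001), (nat_lit 0x276e001)], [(nat_lit 0x2768001), (nat_lit 0x1f72001), (nat_lit 0x278d001), (nat_lit 0x1f73001), (nat_lit 0x236b001), (nat_lit 0x278c001)], [(nat_lit 0x276b001), (nat_lit 0x1f74001), (nat_lit 0x278f001), (nat_lit 0x278b001), (nat_lit 0x265a001), (nat_lit 0x1f75001)], [(nat_lit 0x1f68001), (nat_lit 0x2786001), (nat_lit 0x1f69001), (nat_lit 0x1f6a001), (nat_lit 0x2376001), (nat_lit 0x1f6b001)], [(nat_lit 0x1f6e001), (nat_lit 0x278a001), (nat_lit 0x1f6f001), (nat_lit 0x1f70001), (nat_lit 0x23aa001), (nat_lit 0x1f71001)], [(nat_lit 0x1f52001), (nat_lit 0x2371001), (nat_lit 0x2343001), (nat_lit 0x2754001), (nat_lit 0x1f53001), (nat_lit 0x2757001)], [(nat_lit 0x1f58001), (nat_lit 0x2767001), (nat_lit 0x2761001), (nat_lit 0x1f59001), (nat_lit 0x2755001), (nat_lit 0x2766001)], [(nat_lit 0x1f5a001), (nat_lit 0x276a001), (nat_lit 0x1f5b001), (nat_lit 0x2765001), (nat_lit 0x2315001), (nat_lit 0x1f5c001)], [(nat_lit 0x2342001), (nat_lit 0x231e001), (nat_lit 0x1f4c001), (nat_lit 0x274b001), (nat_lit 0x1f4b001), (nat_lit 0x274c001)], [(nat_lit 0x2753001), (nat_lit 0x1f4e001), (nat_lit 0x274e001), (nat_lit 0x1f4d001), (nat_lit 0x1f4f001), (nat_lit 0x2750001)], [(nat_lit 0x2756001), (nat_lit 0x1f51001), (nat_lit 0x274d001), (nat_lit 0x2752001), (nat_lit 0x2340001), (nat_lit 0x1f50001)], [(nat_lit 0x2760001), (nat_lit 0x2758001), (nat_lit 0x1f54001), (nat_lit 0x275c001), (nat_lit 0x274f001), (nat_lit 0x275f001)], [(nat_lit 0x2764001), (nat_lit 0x1f56001), (nat_lit 0x275e001), (nat_lit 0x1f57001), (nat_lit 0x2762001), (nat_lit 0x1f55001)], [(nat_lit 0x2375001), (nat_lit 0x276f001), (nat_lit 0x1f61001), (nat_lit 0x2773001), (nat_lit 0x1f62001), (nat_lit 0x2779001)], [(nat_lit 0x237a001), (nat_lit 0x2751001), (nat_lit 0x277c001), (nat_lit 0x1f64001), (nat_lit 0x277f001), (nat_lit 0x1f63001)], [(nat_lit 0x2782001), (nat_lit 0x1f65001), (nat_lit 0x2759001), (nat_lit 0x1f66001), (nat_lit 0x2770001), (nat_lit 0x1f67001)], [(nat_lit 0x23a9001), (nat_lit 0x2763001), (nat_lit 0x1f6d001), (nat_lit 0x2295001), (nat_lit 0x1f6c001), (nat_lit 0x2781001)], [(nat_lit 0x2796001), (nat_lit 0x1f86001), (nat_lit 0x1f88001), (nat_lit 0x1f85001), (nat_lit 0x1f87001), (nat_lit 0x1f89001)], [(nat_lit 0x2790001), (nat_lit 0x1f8b001), (nat_lit 0x276c001), (nat_lit 0x1f8c001), (nat_lit 0x1f8d001), (nat_lit 0x1f8a001)], [(nat_lit 0x1fa9001), (nat_lit 0x233c001), (nat_lit 0x1fa8001), (nat_lit 0x27ba001), (nat_lit 0x1faa001), (nat_lit 0x27b9001)], [(nat_lit 0x1fa5001), (nat_lit 0x1fa4001), (nat_lit 0x27b7001), (nat_lit 0x1fa6001), (nat_lit 0x2324001), (nat_lit 0x1fa7001)], [(nat_lit 0x1f9e001), (nat_lit 0x231b001), (nat_lit 0x1f9f001), (nat_lit 0x27af001), (nat_lit 0x1fa0001), (nat_lit 0x27b3001)], [(nat_lit 0x27ae001), (nat_lit 0x1f9a001), (nat_lit 0x27aa001), (nat_lit 0x1f99001), (nat_lit 0x2656001), (nat_lit 0x27ab001)], [(nat_lit 0x27b1001), (nat_lit 0x1f9c001), (nat_lit 0x1f9d001), (nat_lit 0x27ad001), (nat_lit 0x236f001), (nat_lit 0x1f9b001)], [(nat_lit 0x2641001), (nat_lit 0x27b4001), (nat_lit 0x1fa1001), (nat_lit 0x1ff3001), (nat_lit 0x264d001), (nat_lit 0x1ff0001)], [(nat_lit 0x2646001), (nat_lit 0x27ac001), (nat_lit 0x1fef001), (nat_lit 0x1fa3001), (nat_lit 0x27b5001), (nat_lit 0x1fa2001)], [(nat_lit 0x2007001), (nat_lit 0x24ff001), (nat_lit 0x2008001), (nat_lit 0x2009001), (nat_lit 0x2463001), (nat_lit 0x200a001)], [(nat_lit 0x200e001), (nat_lit 0x2504001), (nat_lit 0x200f001), (nat_lit 0x245d001), (nat_lit 0x2010001), (nat_lit 0x2011001)], [(nat_lit 0x2004001), (nat_lit 0x2001001), (nat_lit 0x2000001), (nat_lit 0x2002001), (nat_lit 0x2417001), (nat_lit 0x2003001)], [(nat_lit 0x2461001), (nat_lit 0x2006001), (nat_lit 0x2415001), (nat_lit 0x2414001), (nat_lit 0x2005001), (nat_lit 0x2423001)], [(nat_lit 0x245b001), (nat_lit 0x200c001), (nat_lit 0x240b001), (nat_lit 0x200b001), (nat_lit 0x2412001), (nat_lit 0x200d001)], [(nat_lit 0x2835001), (nat_lit 0x2048001), (nat_lit 0x2836001), (nat_lit 0x2049001), (nat_lit 0x204a001), (nat_lit 0x2845001)], [(nat_lit 0x2055001), (nat_lit 0x2054001), (nat_lit 0x2056001), (nat_lit 0x2851001), (nat_lit 0x2057001), (nat_lit 0x2058001)], [(nat_lit 0x2045001), (nat_lit 0x2843001), (nat_lit 0x2776001), (nat_lit 0x2046001), (nat_lit 0x2823001), (nat_lit 0x2047001)], [(nat_lit 0x2051001), (nat_lit 0x284f001), (nat_lit 0x234b001), (nat_lit 0x2052001), (nat_lit 0x281c001), (nat_lit 0x2053001)], [(nat_lit 0x282f001), (nat_lit 0x2031001), (nat_lit 0x282d001), (nat_lit 0x2032001), (nat_lit 0x2033001), (nat_lit 0x2030001)], [(nat_lit 0x2825001), (nat_lit 0x203e001), (nat_lit 0x2827001), (nat_lit 0x2839001), (nat_lit 0x203d001), (nat_lit 0x283b001)], [(nat_lit 0x277a001), (nat_lit 0x283a001), (nat_lit 0x237b001), (nat_lit 0x203f001), (nat_lit 0x2292001), (nat_lit 0x2378001)], [(nat_lit 0x2774001), (nat_lit 0x283c001), (nat_lit 0x2041001), (nat_lit 0x2377001), (nat_lit 0x22ec001), (nat_lit 0x2040001)], [(nat_lit 0x2820001), (nat_lit 0x2043001), (nat_lit 0x22ea001), (nat_lit 0x283d001), (nat_lit 0x2042001), (nat_lit 0x2044001)], [(nat_lit 0x281b001), (nat_lit 0x204c001), (nat_lit 0x2846001), (nat_lit 0x204b001), (nat_lit 0x204d001), (nat_lit 0x2842001)], [(nat_lit 0x234a001), (nat_lit 0x284b001), (nat_lit 0x204e001), (nat_lit 0x2050001), (nat_lit 0x2848001), (nat_lit 0x204f001)], [(nat_lit 0x207d001), (nat_lit 0x207c001), (nat_lit 0x207f001), (nat_lit 0x2837001), (nat_lit 0x207e001), (nat_lit 0x2886001)], [(nat_lit 0x208c001), (nat_lit 0x208b001), (nat_lit 0x208d001), (nat_lit 0x2897001), (nat_lit 0x208e001), (nat_lit 0x208f001)], [(nat_lit 0x2884001), (nat_lit 0x2097001), (nat_lit 0x2098001), (nat_lit 0x2844001), (nat_lit 0x2099001), (nat_lit 0x209a001)], [(nat_lit 0x2896001), (nat_lit 0x20a5001), (nat_lit 0x28b1001), (nat_lit 0x20a6001), (nat_lit 0x20a7001), (nat_lit 0x2852001)], [(nat_lit 0x20a2001), (nat_lit 0x28ab001), (nat_lit 0x20a3001), (nat_lit 0x2350001), (nat_lit 0x20a4001), (nat_lit 0x234c001)], [(nat_lit 0x207a001), (nat_lit 0x2883001), (nat_lit 0x2873001), (nat_lit 0x2831001), (nat_lit 0x2881001), (nat_lit 0x207b001)], [(nat_lit 0x2083001), (nat_lit 0x2084001), (nat_lit 0x2877001), (nat_lit 0x288c001), (nat_lit 0x2085001), (nat_lit 0x2882001)], [(nat_lit 0x2088001), (nat_lit 0x2895001), (nat_lit 0x2892001), (nat_lit 0x2089001), (nat_lit 0x288d001), (nat_lit 0x208a001)], [(nat_lit 0x205e001), (nat_lit 0x205f001), (nat_lit 0x2060001), (nat_lit 0x2856001), (nat_lit 0x205d001), (nat_lit 0x2859001)], [(nat_lit 0x286b001), (nat_lit 0x2858001), (nat_lit 0x2868001), (nat_lit 0x2069001), (nat_lit 0x2860001), (nat_lit 0x2869001)], [(nat_lit 0x2872001), (nat_lit 0x285b001), (nat_lit 0x206b001), (nat_lit 0x286a001), (nat_lit 0x286e001), (nat_lit 0x206a001)], [(nat_lit 0x2876001), (nat_lit 0x2070001), (nat_lit 0x2071001), (nat_lit 0x2879001), (nat_lit 0x206f001), (nat_lit 0x2871001)], [(nat_lit 0x287f001), (nat_lit 0x2078001), (nat_lit 0x2870001), (nat_lit 0x287b001), (nat_lit 0x2077001), (nat_lit 0x2079001)], [(nat_lit 0x288a001), (nat_lit 0x2081001), (nat_lit 0x2888001), (nat_lit 0x2080001), (nat_lit 0x2082001), (nat_lit 0x287e001)], [(nat_lit 0x2894001), (nat_lit 0x288e001), (nat_lit 0x2086001), (nat_lit 0x2891001), (nat_lit 0x2889001), (nat_lit 0x2087001)], [(nat_lit 0x2091001), (nat_lit 0x2092001), (nat_lit 0x285c001), (nat_lit 0x2323001), (nat_lit 0x2093001), (nat_lit 0x2090001)], [(nat_lit 0x2095001), (nat_lit 0x287c001), (nat_lit 0x2387001), (nat_lit 0x2094001), (nat_lit 0x2841001), (nat_lit 0x2096001)], [(nat_lit 0x209c001), (nat_lit 0x289a001), (nat_lit 0x209b001), (nat_lit 0x238c001), (nat_lit 0x209d001), (nat_lit 0x2388001)], [(nat_lit 0x28a2001), (nat_lit 0x209e001), (nat_lit 0x288f001), (nat_lit 0x289c001), (nat_lit 0x289b001), (nat_lit 0x284e001)], [(nat_lit 0x234e001), (nat_lit 0x289d001), (nat_lit 0x20a1001), (nat_lit 0x209f001), (nat_lit 0x28a5001), (nat_lit 0x20a0001)], [(nat_lit 0x2854001), (nat_lit 0x2866001), (nat_lit 0x2301001), (nat_lit 0x28f0001), (nat_lit 0x20e0001), (nat_lit 0x28f1001)], [(nat_lit 0x2857001), (nat_lit 0x287a001), (nat_lit 0x28ee001), (nat_lit 0x20df001), (nat_lit 0x28ef001), (nat_lit 0x28ed001)], [(nat_lit 0x285a001), (nat_lit 0x286f001), (nat_lit 0x20dd001), (nat_lit 0x28ec001), (nat_lit 0x285d001), (nat_lit 0x20de001)], [(nat_lit 0x20d4001), (nat_lit 0x288b001), (nat_lit 0x28e9001), (nat_lit 0x20d5001), (nat_lit 0x2898001), (nat_lit 0x28eb001)], [(nat_lit 0x20d6001), (nat_lit 0x2880001), (nat_lit 0x2887001), (nat_lit 0x28ea001), (nat_lit 0x2885001), (nat_lit 0x20d7001)], [(nat_lit 0x28e8001), (nat_lit 0x23f2001), (nat_lit 0x20d3001), (nat_lit 0x23f5001), (nat_lit 0x28b3001), (nat_lit 0x23f6001)], [(nat_lit 0x23ec001), (nat_lit 0x20d8001), (nat_lit 0x23ed001), (nat_lit 0x23e7001), (nat_lit 0x28ae001), (nat_lit 0x23ee001)], [(nat_lit 0x238a001), (nat_lit 0x23e4001), (nat_lit 0x20da001), (nat_lit 0x20d9001), (nat_lit 0x23e0001), (nat_lit 0x20db001)], [(nat_lit 0x283e001), (nat_lit 0x28b2001), (nat_lit 0x28b0001), (nat_lit 0x2822001), (nat_lit 0x20dc001), (nat_lit 0x281e001)], [(nat_lit 0x2817001), (nat_lit 0x2152001), (nat_lit 0x2819001), (nat_lit 0x2968001), (nat_lit 0x2153001), (nat_lit 0x296b001)], [(nat_lit 0x2850001), (nat_lit 0x2158001), (nat_lit 0x2967001), (nat_lit 0x2159001), (nat_lit 0x2969001), (nat_lit 0x2899001)], [(nat_lit 0x214d001), (nat_lit 0x2966001), (nat_lit 0x295d001), (nat_lit 0x214e001), (nat_lit 0x214f001), (nat_lit 0x2965001)], [(nat_lit 0x2150001), (nat_lit 0x296a001), (nat_lit 0x2813001), (nat_lit 0x2964001), (nat_lit 0x2832001), (nat_lit 0x2151001)], [(nat_lit 0x2157001), (nat_lit 0x2962001), (nat_lit 0x2156001), (nat_lit 0x2155001), (nat_lit 0x295e001), (nat_lit 0x2893001)], [(nat_lit 0x22e4001), (nat_lit 0x2143001), (nat_lit 0x22e6001), (nat_lit 0x239f001), (nat_lit 0x2142001), (nat_lit 0x294f001)], [(nat_lit 0x2145001), (nat_lit 0x239e001), (nat_lit 0x28a0001), (nat_lit 0x2144001), (nat_lit 0x2146001), (nat_lit 0x2952001)], [(nat_lit 0x2811001), (nat_lit 0x2950001), (nat_lit 0x2148001), (nat_lit 0x2956001), (nat_lit 0x282e001), (nat_lit 0x2147001)], [(nat_lit 0x295c001), (nat_lit 0x2958001), (nat_lit 0x2149001), (nat_lit 0x2960001), (nat_lit 0x214a001), (nat_lit 0x295a001)], [(nat_lit 0x2963001), (nat_lit 0x283f001), (nat_lit 0x295b001), (nat_lit 0x214c001), (nat_lit 0x287d001), (nat_lit 0x214b001)], [(nat_lit 0x2961001), (nat_lit 0x2154001), (nat_lit 0x284c001), (nat_lit 0x295f001), (nat_lit 0x2959001), (nat_lit 0x2890001)], [(nat_lit 0x22e4001), (nat_lit 0x22e5001), (nat_lit 0x22e6001), (nat_lit 0x22e7001), (nat_lit 0x22e3001), (nat_lit 0x2af8001)], [(nat_lit 0x228c001), (nat_lit 0x228d001), (nat_lit 0x228b001), (nat_lit 0x2ab8001), (nat_lit 0x228e001), (nat_lit 0x228f001)], [(nat_lit 0x22e9001), (nat_lit 0x2afa001), (nat_lit 0x22ea001), (nat_lit 0x22eb001), (nat_lit 0x22ec001), (nat_lit 0x22e8001)], [(nat_lit 0x2291001), (nat_lit 0x2aba001), (nat_lit 0x2abd001), (nat_lit 0x2290001), (nat_lit 0x2292001), (nat_lit 0x2293001)], [(nat_lit 0x2399001), (nat_lit 0x24e5001), (nat_lit 0x239a001), (nat_lit 0x24fc001), (nat_lit 0x24d2001), (nat_lit 0x2456001)], [(nat_lit 0x239d001), (nat_lit 0x239e001), (nat_lit 0x24d0001), (nat_lit 0x239f001), (nat_lit 0x23a0001), (nat_lit 0x24cd001)], [(nat_lit 0x23a3001), (nat_lit 0x23a4001), (nat_lit 0x23a5001), (nat_lit 0x2bc9001), (nat_lit 0x23a6001), (nat_lit 0x23a7001)], [(nat_lit 0x24fd001), (nat_lit 0x2462001), (nat_lit 0x2bc0001), (nat_lit 0x2396001), (nat_lit 0x2501001), (nat_lit 0x2459001)], [(nat_lit 0x24d3001), (nat_lit 0x245c001), (nat_lit 0x2398001), (nat_lit 0x2506001), (nat_lit 0x2397001), (nat_lit 0x24d9001)], [(nat_lit 0x24cb001), (nat_lit 0x239c001), (nat_lit 0x24d6001), (nat_lit 0x2afc001), (nat_lit 0x2438001), (nat_lit 0x239b001)], [(nat_lit 0x2bc7001), (nat_lit 0x23a2001), (nat_lit 0x2bc6001), (nat_lit 0x23a1001), (nat_lit 0x2435001), (nat_lit 0x2abc001)], [(nat_lit 0x23a9001), (nat_lit 0x2bcb001), (nat_lit 0x23a8001), (nat_lit 0x2a4a001), (nat_lit 0x23aa001), (nat_lit 0x2ac1001)], [(nat_lit 0x238f001), (nat_lit 0x254c001), (nat_lit 0x2390001), (nat_lit 0x2bb6001), (nat_lit 0x238e001), (nat_lit 0x2bba001)], [(nat_lit 0x2394001), (nat_lit 0x2533001), (nat_lit 0x2bbc001), (nat_lit 0x23f3001), (nat_lit 0x248b001), (nat_lit 0x2395001)], [(nat_lit 0x2bb7001), (nat_lit 0x2549001), (nat_lit 0x23f4001), (nat_lit 0x2391001), (nat_lit 0x2bb8001), (nat_lit 0x2bbd001)], [(nat_lit 0x2bbb001), (nat_lit 0x2545001), (nat_lit 0x2393001), (nat_lit 0x2bbf001), (nat_lit 0x2488001), (nat_lit 0x2392001)], [(nat_lit 0x2c32001), (nat_lit 0x24f7001), (nat_lit 0x24f8001), (nat_lit 0x24f9001), (nat_lit 0x24f6001), (nat_lit 0x2749001)], [(nat_lit 0x2513001), (nat_lit 0x2514001), (nat_lit 0x2515001), (nat_lit 0x2516001), (nat_lit 0x2512001), (nat_lit 0x2517001)], [(nat_lit 0x265d001), (nat_lit 0x2748001), (nat_lit 0x265e001), (nat_lit 0x265f001), (nat_lit 0x2d8d001), (nat_lit 0x265c001)], [(nat_lit 0x2661001), (nat_lit 0x2662001), (nat_lit 0x2d90001), (nat_lit 0x2663001), (nat_lit 0x2660001), (nat_lit 0x2664001)], [(nat_lit 0x2622001), (nat_lit 0x248d001), (nat_lit 0x248e001), (nat_lit 0x262a001), (nat_lit 0x248f001), (nat_lit 0x2c07001)], [(nat_lit 0x2491001), (nat_lit 0x2628001), (nat_lit 0x2493001), (nat_lit 0x2490001), (nat_lit 0x2492001), (nat_lit 0x2bf0001)], [(nat_lit 0x2495001), (nat_lit 0x2c08001), (nat_lit 0x2496001), (nat_lit 0x2bee001), (nat_lit 0x2c0b001), (nat_lit 0x2494001)], [(nat_lit 0x2498001), (nat_lit 0x2499001), (nat_lit 0x2c0e001), (nat_lit 0x249a001), (nat_lit 0x2497001), (nat_lit 0x249b001)], [(nat_lit 0x2669001), (nat_lit 0x2c33001), (nat_lit 0x266a001), (nat_lit 0x266b001), (nat_lit 0x266c001), (nat_lit 0x266d001)], [(nat_lit 0x261d001), (nat_lit 0x2416001), (nat_lit 0x226e001), (nat_lit 0x2418001), (nat_lit 0x226d001), (nat_lit 0x2419001)], [(nat_lit 0x266f001), (nat_lit 0x2670001), (nat_lit 0x2671001), (nat_lit 0x2672001), (nat_lit 0x2b88001), (nat_lit 0x266e001)], [(nat_lit 0x2d8e001), (nat_lit 0x2674001), (nat_lit 0x2675001), (nat_lit 0x2d92001), (nat_lit 0x2673001), (nat_lit 0x2c0f001)], [(nat_lit 0x24a4001), (nat_lit 0x24a5001), (nat_lit 0x2623001), (nat_lit 0x2c15001), (nat_lit 0x24a6001), (nat_lit 0x2c1c001)], [(nat_lit 0x2c13001), (nat_lit 0x249d001), (nat_lit 0x2c10001), (nat_lit 0x249c001), (nat_lit 0x249e001), (nat_lit 0x249f001)], [(nat_lit 0x2c18001), (nat_lit 0x24a1001), (nat_lit 0x2c09001), (nat_lit 0x24a2001), (nat_lit 0x24a3001), (nat_lit 0x24a0001)], [(nat_lit 0x2665001), (nat_lit 0x2666001), (nat_lit 0x2c34001), (nat_lit 0x2707001), (nat_lit 0x2667001), (nat_lit 0x2668001)], [(nat_lit 0x263c001), (nat_lit 0x263d001), (nat_lit 0x263e001), (nat_lit 0x2794001), (nat_lit 0x263f001), (nat_lit 0x2799001)], [(nat_lit 0x267d001), (nat_lit 0x2706001), (nat_lit 0x267e001), (nat_lit 0x267f001), (nat_lit 0x2c98001), (nat_lit 0x2680001)], [(nat_lit 0x267c001), (nat_lit 0x2679001), (nat_lit 0x2678001), (nat_lit 0x267b001), (nat_lit 0x2c8c001), (nat_lit 0x267a001)], [(nat_lit 0x2c94001), (nat_lit 0x2554001), (nat_lit 0x2c8b001), (nat_lit 0x2555001), (nat_lit 0x2556001), (nat_lit 0x2553001)], [(nat_lit 0x24bc001), (nat_lit 0x2621001), (nat_lit 0x24bd001), (nat_lit 0x24bb001), (nat_lit 0x2c31001), (nat_lit 0x279e001)], [(nat_lit 0x24b8001), (nat_lit 0x2625001), (nat_lit 0x24b7001), (nat_lit 0x279d001), (nat_lit 0x24b9001), (nat_lit 0x24ba001)], [(nat_lit 0x2683001), (nat_lit 0x2c14001), (nat_lit 0x2d97001), (nat_lit 0x2684001), (nat_lit 0x2685001), (nat_lit 0x2c30001)], [(nat_lit 0x2686001), (nat_lit 0x2c19001), (nat_lit 0x279a001), (nat_lit 0x2c2e001), (nat_lit 0x2687001), (nat_lit 0x2688001)], [(nat_lit 0x2d96001), (nat_lit 0x2c22001), (nat_lit 0x2681001), (nat_lit 0x278e001), (nat_lit 0x2682001), (nat_lit 0x2c20001)], [(nat_lit 0x2c2c001), (nat_lit 0x24b3001), (nat_lit 0x2c1e001), (nat_lit 0x24b4001), (nat_lit 0x24b5001), (nat_lit 0x24b6001)], [(nat_lit 0x2c28001), (nat_lit 0x24aa001), (nat_lit 0x2c23001), (nat_lit 0x24ab001), (nat_lit 0x24ac001), (nat_lit 0x24a9001)], [(nat_lit 0x272d001), (nat_lit 0x272e001), (nat_lit 0x272f001), (nat_lit 0x2730001), (nat_lit 0x2731001), (nat_lit 0x2732001)], [(nat_lit 0x2719001), (nat_lit 0x271a001), (nat_lit 0x271b001), (nat_lit 0x271c001), (nat_lit 0x2a33001), (nat_lit 0x271d001)], [(nat_lit 0x2725001), (nat_lit 0x2723001), (nat_lit 0x2722001), (nat_lit 0x2e0b001), (nat_lit 0x2726001), (nat_lit 0x2724001)], [(nat_lit 0x272b001), (nat_lit 0x2728001), (nat_lit 0x2729001), (nat_lit 0x272a001), (nat_lit 0x2727001), (nat_lit 0x272c001)], [(nat_lit 0x2a30001), (nat_lit 0x21fe001), (nat_lit 0x21ff001), (nat_lit 0x2a2b001), (nat_lit 0x2200001), (nat_lit 0x21fd001)], [(nat_lit 0x2734001), (nat_lit 0x2735001), (nat_lit 0x2736001), (nat_lit 0x2737001), (nat_lit 0x2738001), (nat_lit 0x2733001)], [(nat_lit 0x271f001), (nat_lit 0x2a2a001), (nat_lit 0x27b6001), (nat_lit 0x271e001), (nat_lit 0x2720001), (nat_lit 0x2721001)], [(nat_lit 0x2715001), (nat_lit 0x2716001), (nat_lit 0x27bf001), (nat_lit 0x2717001), (nat_lit 0x2c70001), (nat_lit 0x2718001)], [(nat_lit 0x27c4001), (nat_lit 0x2a31001), (nat_lit 0x27c5001), (nat_lit 0x2e77001), (nat_lit 0x27c6001), (nat_lit 0x27c7001)], [(nat_lit 0x272b001), (nat_lit 0x270a001), (nat_lit 0x2709001), (nat_lit 0x270c001), (nat_lit 0x2731001), (nat_lit 0x270b001)], [(nat_lit 0x2268001), (nat_lit 0x2269001), (nat_lit 0x261f001), (nat_lit 0x241e001), (nat_lit 0x2267001), (nat_lit 0x2a93001)], [(nat_lit 0x27bd001), (nat_lit 0x270f001), (nat_lit 0x2710001), (nat_lit 0x2a97001), (nat_lit 0x2c63001), (nat_lit 0x2711001)], [(nat_lit 0x27bd001), (nat_lit 0x27be001), (nat_lit 0x27bf001), (nat_lit 0x27c0001), (nat_lit 0x2c6b001), (nat_lit 0x27bc001)], [(nat_lit 0x2c6d001), (nat_lit 0x2536001), (nat_lit 0x2c62001), (nat_lit 0x2c66001), (nat_lit 0x2537001), (nat_lit 0x2c69001)], [(nat_lit 0x2e76001), (nat_lit 0x27c2001), (nat_lit 0x2e74001), (nat_lit 0x27c1001), (nat_lit 0x2c68001), (nat_lit 0x27c3001)], [(nat_lit 0x26fb001), (nat_lit 0x26fc001), (nat_lit 0x2729001), (nat_lit 0x26fa001), (nat_lit 0x2726001), (nat_lit 0x26fd001)], [(nat_lit 0x2725001), (nat_lit 0x270e001), (nat_lit 0x272f001), (nat_lit 0x2be0001), (nat_lit 0x270d001), (nat_lit 0x27f4001)], [(nat_lit 0x23d2001), (nat_lit 0x2bdf001), (nat_lit 0x23d3001), (nat_lit 0x23d4001), (nat_lit 0x23d1001), (nat_lit 0x23d5001)], [(nat_lit 0x2540001), (nat_lit 0x27f1001), (nat_lit 0x2541001), (nat_lit 0x2542001), (nat_lit 0x253f001), (nat_lit 0x2543001)], [(nat_lit 0x253c001), (nat_lit 0x2c6a001), (nat_lit 0x253d001), (nat_lit 0x2642001), (nat_lit 0x253e001), (nat_lit 0x253b001)], [(nat_lit 0x2539001), (nat_lit 0x2c67001), (nat_lit 0x2647001), (nat_lit 0x2538001), (nat_lit 0x253a001), (nat_lit 0x2644001)], [(nat_lit 0x27c9001), (nat_lit 0x2e79001), (nat_lit 0x27c8001), (nat_lit 0x27cc001), (nat_lit 0x27ca001), (nat_lit 0x27cb001)], [(nat_lit 0x27d8001), (nat_lit 0x27d7001), (nat_lit 0x27d9001), (nat_lit 0x2c3b001), (nat_lit 0x2e90001), (nat_lit 0x2c36001)], [(nat_lit 0x27ce001), (nat_lit 0x2c39001), (nat_lit 0x2a96001), (nat_lit 0x27cf001), (nat_lit 0x2e81001), (nat_lit 0x27d0001)], [(nat_lit 0x27d4001), (nat_lit 0x2e8d001), (nat_lit 0x27d5001), (nat_lit 0x2e87001), (nat_lit 0x27d6001), (nat_lit 0x2e8c001)], [(nat_lit 0x27da001), (nat_lit 0x27db001), (nat_lit 0x2e8a001), (nat_lit 0x27dc001), (nat_lit 0x2c1b001), (nat_lit 0x27dd001)], [(nat_lit 0x27e0001), (nat_lit 0x27e1001), (nat_lit 0x2e99001), (nat_lit 0x27e2001), (nat_lit 0x2c16001), (nat_lit 0x27e3001)], [(nat_lit 0x2a94001), (nat_lit 0x2270001), (nat_lit 0x241b001), (nat_lit 0x27c0001), (nat_lit 0x29ef001), (nat_lit 0x226f001)], [(nat_lit 0x2e7f001), (nat_lit 0x2b86001), (nat_lit 0x29ed001), (nat_lit 0x2e7d001), (nat_lit 0x27cd001), (nat_lit 0x29e6001)], [(nat_lit 0x2e86001), (nat_lit 0x2d93001), (nat_lit 0x2e83001), (nat_lit 0x27d1001), (nat_lit 0x2e7e001), (nat_lit 0x2e84001)], [(nat_lit 0x2e88001), (nat_lit 0x2c0d001), (nat_lit 0x27d3001), (nat_lit 0x2e85001), (nat_lit 0x2c0a001), (nat_lit 0x27d2001)], [(nat_lit 0x2e98001), (nat_lit 0x2e92001), (nat_lit 0x27de001), (nat_lit 0x2e96001), (nat_lit 0x2c11001), (nat_lit 0x27df001)], [(nat_lit 0x2e9b001), (nat_lit 0x27e4001), (nat_lit 0x2e93001), (nat_lit 0x27e5001), (nat_lit 0x27e6001), (nat_lit 0x27e7001)], [(nat_lit 0x26ff001), (nat_lit 0x2735001), (nat_lit 0x26fe001), (nat_lit 0x2a46001), (nat_lit 0x2806001), (nat_lit 0x272c001)], [(nat_lit 0x252e001), (nat_lit 0x252f001), (nat_lit 0x2804001), (nat_lit 0x2530001), (nat_lit 0x2531001), (nat_lit 0x27ed001)], [(nat_lit 0x2a43001), (nat_lit 0x2a95001), (nat_lit 0x2714001), (nat_lit 0x2712001), (nat_lit 0x2e07001), (nat_lit 0x2713001)], [(nat_lit 0x2807001), (nat_lit 0x2c61001), (nat_lit 0x2529001), (nat_lit 0x2c64001), (nat_lit 0x252a001), (nat_lit 0x280b001)], [(nat_lit 0x27ee001), (nat_lit 0x252c001), (nat_lit 0x2809001), (nat_lit 0x252d001), (nat_lit 0x27f3001), (nat_lit 0x252b001)], [(nat_lit 0x280d001), (nat_lit 0x23ce001), (nat_lit 0x2bd3001), (nat_lit 0x23cf001), (nat_lit 0x2bde001), (nat_lit 0x23d0001)], [(nat_lit 0x27f0001), (nat_lit 0x27f1001), (nat_lit 0x27f2001), (nat_lit 0x2ba4001), (nat_lit 0x27f3001), (nat_lit 0x27f4001)], [(nat_lit 0x2ba5001), (nat_lit 0x27e9001), (nat_lit 0x2ea0001), (nat_lit 0x27e8001), (nat_lit 0x2bab001), (nat_lit 0x2e0f001)], [(nat_lit 0x27ee001), (nat_lit 0x27eb001), (nat_lit 0x27ec001), (nat_lit 0x27ef001), (nat_lit 0x27ea001), (nat_lit 0x27ed001)], [(nat_lit 0x27f6001), (nat_lit 0x2ba9001), (nat_lit 0x27f7001), (nat_lit 0x27f8001), (nat_lit 0x27f5001), (nat_lit 0x27f9001)], [(nat_lit 0x27fb001), (nat_lit 0x2e0d001), (nat_lit 0x27fc001), (nat_lit 0x27fd001), (nat_lit 0x27fe001), (nat_lit 0x27fa001)], [(nat_lit 0x2808001), (nat_lit 0x2c6e001), (nat_lit 0x2809001), (nat_lit 0x2ea5001), (nat_lit 0x280a001), (nat_lit 0x280b001)], [(nat_lit 0x2ea4001), (nat_lit 0x2800001), (nat_lit 0x2e61001), (nat_lit 0x27ff001), (nat_lit 0x2a2c001), (nat_lit 0x2801001)], [(nat_lit 0x2807001), (nat_lit 0x2803001), (nat_lit 0x2804001), (nat_lit 0x2805001), (nat_lit 0x2806001), (nat_lit 0x2802001)], [(nat_lit 0x246b001), (nat_lit 0x246c001), (nat_lit 0x246d001), (nat_lit 0x246e001), (nat_lit 0x246f001), (nat_lit 0x246a001)], [(nat_lit 0x23d9001), (nat_lit 0x23da001), (nat_lit 0x23db001), (nat_lit 0x23dc001), (nat_lit 0x23dd001), (nat_lit 0x23df001)], [(nat_lit 0x280d001), (nat_lit 0x280c001), (nat_lit 0x2ea7001), (nat_lit 0x280e001), (nat_lit 0x2e0e001), (nat_lit 0x280f001)], [(nat_lit 0x25b5001), (nat_lit 0x25b6001), (nat_lit 0x2cdb001), (nat_lit 0x25b7001), (nat_lit 0x2ce8001), (nat_lit 0x25b8001)], [(nat_lit 0x26f2001), (nat_lit 0x2ce6001), (nat_lit 0x26f3001), (nat_lit 0x26f4001), (nat_lit 0x26f5001), (nat_lit 0x2b2c001)], [(nat_lit 0x2dff001), (nat_lit 0x26f6001), (nat_lit 0x26f7001), (nat_lit 0x26f8001), (nat_lit 0x2b20001), (nat_lit 0x26f9001)], [(nat_lit 0x26f1001), (nat_lit 0x2b1e001), (nat_lit 0x26ef001), (nat_lit 0x2dfb001), (nat_lit 0x26f0001), (nat_lit 0x2b1b001)], [(nat_lit 0x2b28001), (nat_lit 0x230f001), (nat_lit 0x2b19001), (nat_lit 0x2310001), (nat_lit 0x2311001), (nat_lit 0x2312001)], [(nat_lit 0x24bf001), (nat_lit 0x261e001), (nat_lit 0x24c0001), (nat_lit 0x2c35001), (nat_lit 0x24be001), (nat_lit 0x2c37001)], [(nat_lit 0x243c001), (nat_lit 0x243d001), (nat_lit 0x243b001), (nat_lit 0x2440001), (nat_lit 0x243e001), (nat_lit 0x243f001)], [(nat_lit 0x244e001), (nat_lit 0x244f001), (nat_lit 0x2bec001), (nat_lit 0x244d001), (nat_lit 0x2451001), (nat_lit 0x2450001)], [(nat_lit 0x2448001), (nat_lit 0x2449001), (nat_lit 0x2447001), (nat_lit 0x244c001), (nat_lit 0x244a001), (nat_lit 0x244b001)], [(nat_lit 0x2442001), (nat_lit 0x2441001), (nat_lit 0x2446001), (nat_lit 0x2443001), (nat_lit 0x2444001), (nat_lit 0x2445001)], [(nat_lit 0x242f001), (nat_lit 0x242e001), (nat_lit 0x2430001), (nat_lit 0x2be6001), (nat_lit 0x2431001), (nat_lit 0x2432001)], [(nat_lit 0x2be5001), (nat_lit 0x2433001), (nat_lit 0x2be9001), (nat_lit 0x2434001), (nat_lit 0x2435001), (nat_lit 0x2789001)], [(nat_lit 0x2437001), (nat_lit 0x2436001), (nat_lit 0x243a001), (nat_lit 0x2788001), (nat_lit 0x2438001), (nat_lit 0x2439001)], [(nat_lit 0x2bed001), (nat_lit 0x24c2001), (nat_lit 0x24c1001), (nat_lit 0x24c3001), (nat_lit 0x24c4001), (nat_lit 0x24c5001)], [(nat_lit 0x2c0c001), (nat_lit 0x27a4001), (nat_lit 0x2677001), (nat_lit 0x2d94001), (nat_lit 0x2676001), (nat_lit 0x2d91001)], [(nat_lit 0x24b0001), (nat_lit 0x262d001), (nat_lit 0x24b1001), (nat_lit 0x2c29001), (nat_lit 0x263a001), (nat_lit 0x24b2001)], [(nat_lit 0x24ad001), (nat_lit 0x25f3001), (nat_lit 0x2c26001), (nat_lit 0x24ae001), (nat_lit 0x24af001), (nat_lit 0x2c2b001)], [(nat_lit 0x2c25001), (nat_lit 0x2c1d001), (nat_lit 0x24a7001), (nat_lit 0x2beb001), (nat_lit 0x24a8001), (nat_lit 0x2c21001)], [(nat_lit 0x231d001), (nat_lit 0x231e001), (nat_lit 0x231f001), (nat_lit 0x2b3a001), (nat_lit 0x231c001), (nat_lit 0x2b3e001)], [(nat_lit 0x2321001), (nat_lit 0x2322001), (nat_lit 0x2b41001), (nat_lit 0x2323001), (nat_lit 0x2324001), (nat_lit 0x2320001)], [(nat_lit 0x2342001), (nat_lit 0x2481001), (nat_lit 0x2343001), (nat_lit 0x2b6b001), (nat_lit 0x2341001), (nat_lit 0x2b6e001)], [(nat_lit 0x2b3b001), (nat_lit 0x2484001), (nat_lit 0x2b71001), (nat_lit 0x2344001), (nat_lit 0x2b6d001), (nat_lit 0x2b72001)], [(nat_lit 0x2b3f001), (nat_lit 0x2486001), (nat_lit 0x2346001), (nat_lit 0x2b73001), (nat_lit 0x2546001), (nat_lit 0x2345001)], [(nat_lit 0x2370001), (nat_lit 0x2371001), (nat_lit 0x2372001), (nat_lit 0x2b90001), (nat_lit 0x2373001), (nat_lit 0x2b96001)], [(nat_lit 0x2b8e001), (nat_lit 0x236a001), (nat_lit 0x2b89001), (nat_lit 0x2369001), (nat_lit 0x236b001), (nat_lit 0x2b8b001)], [(nat_lit 0x2b92001), (nat_lit 0x236d001), (nat_lit 0x236e001), (nat_lit 0x2b8d001), (nat_lit 0x236f001), (nat_lit 0x236c001)], [(nat_lit 0x2375001), (nat_lit 0x2b97001), (nat_lit 0x2374001), (nat_lit 0x2377001), (nat_lit 0x2376001), (nat_lit 0x2378001)], [(nat_lit 0x237a001), (nat_lit 0x2b8c001), (nat_lit 0x237b001), (nat_lit 0x237c001), (nat_lit 0x2ac0001), (nat_lit 0x2379001)], [(nat_lit 0x2381001), (nat_lit 0x2476001), (nat_lit 0x2ba1001), (nat_lit 0x2382001), (nat_lit 0x247c001), (nat_lit 0x2bac001)], [(nat_lit 0x2383001), (nat_lit 0x248a001), (nat_lit 0x2b94001), (nat_lit 0x2baa001), (nat_lit 0x2534001), (nat_lit 0x2384001)], [(nat_lit 0x2ba0001), (nat_lit 0x2b9b001), (nat_lit 0x237d001), (nat_lit 0x2b9d001), (nat_lit 0x247e001), (nat_lit 0x2b9e001)], [(nat_lit 0x2ba8001), (nat_lit 0x237f001), (nat_lit 0x2b9f001), (nat_lit 0x2380001), (nat_lit 0x2ba2001), (nat_lit 0x237e001)], [(nat_lit 0x2bb5001), (nat_lit 0x2385001), (nat_lit 0x2b9c001), (nat_lit 0x2bad001), (nat_lit 0x23c7001), (nat_lit 0x2bb2001)], [(nat_lit 0x23ec001), (nat_lit 0x2bae001), (nat_lit 0x2387001), (nat_lit 0x2386001), (nat_lit 0x23f8001), (nat_lit 0x2388001)], [(nat_lit 0x238a001), (nat_lit 0x2bb3001), (nat_lit 0x238b001), (nat_lit 0x238c001), (nat_lit 0x23d8001), (nat_lit 0x2389001)], [(nat_lit 0x246b001), (nat_lit 0x2ba3001), (nat_lit 0x23d7001), (nat_lit 0x2542001), (nat_lit 0x238d001), (nat_lit 0x23d5001)], [(nat_lit 0x22bc001), (nat_lit 0x22bd001), (nat_lit 0x22be001), (nat_lit 0x22bf001), (nat_lit 0x250e001), (nat_lit 0x2502001)], [(nat_lit 0x22bb001), (nat_lit 0x22b8001), (nat_lit 0x22b7001), (nat_lit 0x22ba001), (nat_lit 0x250a001), (nat_lit 0x22b9001)], [(nat_lit 0x221a001), (nat_lit 0x24fb001), (nat_lit 0x221b001), (nat_lit 0x24e6001), (nat_lit 0x2219001), (nat_lit 0x24eb001)], [(nat_lit 0x2255001), (nat_lit 0x2214001), (nat_lit 0x2215001), (nat_lit 0x272a001), (nat_lit 0x2213001), (nat_lit 0x2a42001)], [(nat_lit 0x221d001), (nat_lit 0x2a44001), (nat_lit 0x24ec001), (nat_lit 0x2737001), (nat_lit 0x24ef001), (nat_lit 0x221c001)], [(nat_lit 0x2217001), (nat_lit 0x2218001), (nat_lit 0x2a48001), (nat_lit 0x2216001), (nat_lit 0x2511001), (nat_lit 0x2721001)], [(nat_lit 0x2363001), (nat_lit 0x250c001), (nat_lit 0x2364001), (nat_lit 0x2365001), (nat_lit 0x2366001), (nat_lit 0x2469001)], [(nat_lit 0x21df001), (nat_lit 0x21c3001), (nat_lit 0x21c2001), (nat_lit 0x235b001), (nat_lit 0x29e3001), (nat_lit 0x21c4001)], [(nat_lit 0x235f001), (nat_lit 0x29e4001), (nat_lit 0x235d001), (nat_lit 0x2b81001), (nat_lit 0x235e001), (nat_lit 0x2b84001)], [(nat_lit 0x2467001), (nat_lit 0x2361001), (nat_lit 0x2b87001), (nat_lit 0x2362001), (nat_lit 0x2422001), (nat_lit 0x2360001)], [(nat_lit 0x21c7001), (nat_lit 0x21d7001), (nat_lit 0x21e0001), (nat_lit 0x21c8001), (nat_lit 0x29f1001), (nat_lit 0x21c9001)], [(nat_lit 0x29f0001), (nat_lit 0x21c6001), (nat_lit 0x29e5001), (nat_lit 0x29e7001), (nat_lit 0x21c5001), (nat_lit 0x29eb001)], [(nat_lit 0x2510001), (nat_lit 0x29e8001), (nat_lit 0x2298001), (nat_lit 0x2299001), (nat_lit 0x2297001), (nat_lit 0x229a001)], [(nat_lit 0x24ee001), (nat_lit 0x29ec001), (nat_lit 0x229c001), (nat_lit 0x229d001), (nat_lit 0x229e001), (nat_lit 0x229b001)], [(nat_lit 0x24e9001), (nat_lit 0x2421001), (nat_lit 0x22a2001), (nat_lit 0x2408001), (nat_lit 0x22a3001), (nat_lit 0x22a1001)], [(nat_lit 0x24e4001), (nat_lit 0x2411001), (nat_lit 0x2402001), (nat_lit 0x229f001), (nat_lit 0x22a0001), (nat_lit 0x2407001)], [(nat_lit 0x234e001), (nat_lit 0x23fd001), (nat_lit 0x234f001), (nat_lit 0x2350001), (nat_lit 0x2400001), (nat_lit 0x234d001)], [(nat_lit 0x2359001), (nat_lit 0x2358001), (nat_lit 0x235a001), (nat_lit 0x235b001), (nat_lit 0x2b4c001), (nat_lit 0x235c001)], [(nat_lit 0x2355001), (nat_lit 0x2b4a001), (nat_lit 0x2356001), (nat_lit 0x2b7d001), (nat_lit 0x2357001), (nat_lit 0x2b80001)], [(nat_lit 0x2367001), (nat_lit 0x24de001), (nat_lit 0x2b7f001), (nat_lit 0x2468001), (nat_lit 0x2451001), (nat_lit 0x2368001)], [(nat_lit 0x2347001), (nat_lit 0x24d5001), (nat_lit 0x2446001), (nat_lit 0x2348001), (nat_lit 0x244a001), (nat_lit 0x245f001)], [(nat_lit 0x235f001), (nat_lit 0x251d001), (nat_lit 0x2364001), (nat_lit 0x2b74001), (nat_lit 0x2351001), (nat_lit 0x2b76001)], [(nat_lit 0x2b7c001), (nat_lit 0x251a001), (nat_lit 0x2b79001), (nat_lit 0x2352001), (nat_lit 0x2b75001), (nat_lit 0x2b7a001)], [(nat_lit 0x2b7e001), (nat_lit 0x24f3001), (nat_lit 0x2354001), (nat_lit 0x2b7b001), (nat_lit 0x24c4001), (nat_lit 0x2353001)], [(nat_lit 0x234a001), (nat_lit 0x24c7001), (nat_lit 0x234b001), (nat_lit 0x2349001), (nat_lit 0x24c8001), (nat_lit 0x234c001)], [(nat_lit 0x21e9001), (nat_lit 0x2a13001), (nat_lit 0x21ea001), (nat_lit 0x267b001), (nat_lit 0x2a12001), (nat_lit 0x2916001)], [(nat_lit 0x21ef001), (nat_lit 0x220c001), (nat_lit 0x2a11001), (nat_lit 0x21f0001), (nat_lit 0x21f1001), (nat_lit 0x2a19001)], [(nat_lit 0x21f6001), (nat_lit 0x2206001), (nat_lit 0x21f7001), (nat_lit 0x2a20001), (nat_lit 0x21f8001), (nat_lit 0x21f9001)], [(nat_lit 0x267c001), (nat_lit 0x291c001), (nat_lit 0x267e001), (nat_lit 0x21e6001), (nat_lit 0x2a0b001), (nat_lit 0x2910001)], [(nat_lit 0x2a10001), (nat_lit 0x291f001), (nat_lit 0x21e8001), (nat_lit 0x2a0c001), (nat_lit 0x21e7001), (nat_lit 0x2a0d001)], [(nat_lit 0x2a16001), (nat_lit 0x21ec001), (nat_lit 0x2a0e001), (nat_lit 0x21ed001), (nat_lit 0x21ee001), (nat_lit 0x21eb001)], [(nat_lit 0x2a1e001), (nat_lit 0x21f3001), (nat_lit 0x2a1a001), (nat_lit 0x21f2001), (nat_lit 0x21f4001), (nat_lit 0x21f5001)], [(nat_lit 0x21d4001), (nat_lit 0x21d7001), (nat_lit 0x21d3001), (nat_lit 0x21d5001), (nat_lit 0x29f9001), (nat_lit 0x21d6001)], [(nat_lit 0x2201001), (nat_lit 0x2202001), (nat_lit 0x2203001), (nat_lit 0x2a2f001), (nat_lit 0x2204001), (nat_lit 0x2a34001)], [(nat_lit 0x2205001), (nat_lit 0x2206001), (nat_lit 0x2a32001), (nat_lit 0x2a17001), (nat_lit 0x2207001), (nat_lit 0x2208001)], [(nat_lit 0x220b001), (nat_lit 0x220c001), (nat_lit 0x2a3b001), (nat_lit 0x220d001), (nat_lit 0x220e001), (nat_lit 0x2a22001)], [(nat_lit 0x21d0001), (nat_lit 0x22b8001), (nat_lit 0x21d1001), (nat_lit 0x21cf001), (nat_lit 0x29f5001), (nat_lit 0x21d2001)], [(nat_lit 0x29fa001), (nat_lit 0x21fb001), (nat_lit 0x29f8001), (nat_lit 0x2a23001), (nat_lit 0x21fa001), (nat_lit 0x2a26001)], [(nat_lit 0x2a2d001), (nat_lit 0x2218001), (nat_lit 0x2a28001), (nat_lit 0x21fc001), (nat_lit 0x2a25001), (nat_lit 0x2a29001)], [(nat_lit 0x2a3a001), (nat_lit 0x2a35001), (nat_lit 0x2209001), (nat_lit 0x2a39001), (nat_lit 0x220a001), (nat_lit 0x2a1d001)], [(nat_lit 0x2a3d001), (nat_lit 0x220f001), (nat_lit 0x2a36001), (nat_lit 0x2210001), (nat_lit 0x2211001), (nat_lit 0x2212001)], [(nat_lit 0x2811001), (nat_lit 0x2812001), (nat_lit 0x2813001), (nat_lit 0x2814001), (nat_lit 0x2815001), (nat_lit 0x2810001)], [(nat_lit 0x2817001), (nat_lit 0x2818001), (nat_lit 0x2819001), (nat_lit 0x2eab001), (nat_lit 0x2816001), (nat_lit 0x2eb1001)], [(nat_lit 0x281b001), (nat_lit 0x2ead001), (nat_lit 0x281d001), (nat_lit 0x281a001), (nat_lit 0x281c001), (nat_lit 0x281e001)], [(nat_lit 0x2820001), (nat_lit 0x2eb3001), (nat_lit 0x2821001), (nat_lit 0x2822001), (nat_lit 0x2823001), (nat_lit 0x281f001)], [(nat_lit 0x2774001), (nat_lit 0x2775001), (nat_lit 0x2776001), (nat_lit 0x2773001), (nat_lit 0x2777001), (nat_lit 0x2778001)], [(nat_lit 0x277a001), (nat_lit 0x277b001), (nat_lit 0x277c001), (nat_lit 0x277d001), (nat_lit 0x277e001), (nat_lit 0x2779001)], [(nat_lit 0x2abe001), (nat_lit 0x2e2b001), (nat_lit 0x2780001), (nat_lit 0x27cc001), (nat_lit 0x277f001), (nat_lit 0x2781001)], [(nat_lit 0x28db001), (nat_lit 0x2f57001), (nat_lit 0x28dc001), (nat_lit 0x28dd001), (nat_lit 0x28de001), (nat_lit 0x2f55001)], [(nat_lit 0x28df001), (nat_lit 0x28e0001), (nat_lit 0x2f53001), (nat_lit 0x28e1001), (nat_lit 0x2a40001), (nat_lit 0x28e2001)], [(nat_lit 0x2f48001), (nat_lit 0x28d0001), (nat_lit 0x28d1001), (nat_lit 0x2f43001), (nat_lit 0x28d2001), (nat_lit 0x28d3001)], [(nat_lit 0x28d6001), (nat_lit 0x2f44001), (nat_lit 0x28d5001), (nat_lit 0x28d4001), (nat_lit 0x28d7001), (nat_lit 0x2f4d001)], [(nat_lit 0x2f52001), (nat_lit 0x28d9001), (nat_lit 0x28da001), (nat_lit 0x2f51001), (nat_lit 0x2a37001), (nat_lit 0x28d8001)], [(nat_lit 0x28e3001), (nat_lit 0x28e4001), (nat_lit 0x2f49001), (nat_lit 0x28e5001), (nat_lit 0x28e6001), (nat_lit 0x28e7001)], [(nat_lit 0x22d5001), (nat_lit 0x22d4001), (nat_lit 0x22d8001), (nat_lit 0x22d6001), (nat_lit 0x22d7001), (nat_lit 0x2af6001)], [(nat_lit 0x2278001), (nat_lit 0x2277001), (nat_lit 0x2279001), (nat_lit 0x2aad001), (nat_lit 0x227a001), (nat_lit 0x227b001)], [(nat_lit 0x2af3001), (nat_lit 0x22de001), (nat_lit 0x22df001), (nat_lit 0x22e0001), (nat_lit 0x22e1001), (nat_lit 0x22e2001)], [(nat_lit 0x2aac001), (nat_lit 0x2287001), (nat_lit 0x2ab5001), (nat_lit 0x2288001), (nat_lit 0x2289001), (nat_lit 0x228a001)], [(nat_lit 0x2236001), (nat_lit 0x2a5b001), (nat_lit 0x2237001), (nat_lit 0x2235001), (nat_lit 0x2238001), (nat_lit 0x2239001)], [(nat_lit 0x2249001), (nat_lit 0x2a7b001), (nat_lit 0x224a001), (nat_lit 0x2a70001), (nat_lit 0x2a7a001), (nat_lit 0x224b001)], [(nat_lit 0x2250001), (nat_lit 0x2251001), (nat_lit 0x2a79001), (nat_lit 0x2252001), (nat_lit 0x2253001), (nat_lit 0x2a83001)], [(nat_lit 0x223e001), (nat_lit 0x223f001), (nat_lit 0x2240001), (nat_lit 0x2a65001), (nat_lit 0x2241001), (nat_lit 0x2242001)], [(nat_lit 0x2a6e001), (nat_lit 0x2244001), (nat_lit 0x2a68001), (nat_lit 0x2243001), (nat_lit 0x2a6c001), (nat_lit 0x2245001)], [(nat_lit 0x2a78001), (nat_lit 0x2247001), (nat_lit 0x2248001), (nat_lit 0x2a72001), (nat_lit 0x2246001), (nat_lit 0x2a74001)], [(nat_lit 0x2a7f001), (nat_lit 0x224d001), (nat_lit 0x2a76001), (nat_lit 0x224e001), (nat_lit 0x224f001), (nat_lit 0x224c001)], [(nat_lit 0x2a63001), (nat_lit 0x223b001), (nat_lit 0x2a60001), (nat_lit 0x223a001), (nat_lit 0x223c001), (nat_lit 0x223d001)], [(nat_lit 0x21aa001), (nat_lit 0x29cb001), (nat_lit 0x21ad001), (nat_lit 0x21a9001), (nat_lit 0x21ab001), (nat_lit 0x21ac001)], [(nat_lit 0x22ac001), (nat_lit 0x22ad001), (nat_lit 0x22ae001), (nat_lit 0x22af001), (nat_lit 0x2ad2001), (nat_lit 0x22b0001)], [(nat_lit 0x22cf001), (nat_lit 0x2ad0001), (nat_lit 0x22d0001), (nat_lit 0x2aed001), (nat_lit 0x22d1001), (nat_lit 0x2af1001)], [(nat_lit 0x22d2001), (nat_lit 0x2af2001), (nat_lit 0x2af0001), (nat_lit 0x2a81001), (nat_lit 0x2ad5001), (nat_lit 0x22d3001)], [(nat_lit 0x22b4001), (nat_lit 0x22b5001), (nat_lit 0x2ad1001), (nat_lit 0x2aa9001), (nat_lit 0x22b6001), (nat_lit 0x2ad6001)], [(nat_lit 0x2275001), (nat_lit 0x2aab001), (nat_lit 0x2aa2001), (nat_lit 0x2276001), (nat_lit 0x2aaa001), (nat_lit 0x2a67001)], [(nat_lit 0x22c1001), (nat_lit 0x22c2001), (nat_lit 0x22c4001), (nat_lit 0x22c0001), (nat_lit 0x2ad7001), (nat_lit 0x22c3001)], [(nat_lit 0x22c6001), (nat_lit 0x22c7001), (nat_lit 0x22c8001), (nat_lit 0x2adb001), (nat_lit 0x22c5001), (nat_lit 0x2ade001)], [(nat_lit 0x22ca001), (nat_lit 0x2ad9001), (nat_lit 0x22cb001), (nat_lit 0x2ae3001), (nat_lit 0x22c9001), (nat_lit 0x2ae6001)], [(nat_lit 0x22a8001), (nat_lit 0x22a5001), (nat_lit 0x22a6001), (nat_lit 0x22a4001), (nat_lit 0x2ac5001), (nat_lit 0x22a7001)], [(nat_lit 0x2aec001), (nat_lit 0x2add001), (nat_lit 0x2ae9001), (nat_lit 0x22cc001), (nat_lit 0x2ae5001), (nat_lit 0x2aea001)], [(nat_lit 0x2aef001), (nat_lit 0x2ae0001), (nat_lit 0x22ce001), (nat_lit 0x2aeb001), (nat_lit 0x2ace001), (nat_lit 0x22cd001)], [(nat_lit 0x2acf001), (nat_lit 0x22aa001), (nat_lit 0x22ab001), (nat_lit 0x2ac9001), (nat_lit 0x22a9001), (nat_lit 0x2acb001)], [(nat_lit 0x2ad3001), (nat_lit 0x22b2001), (nat_lit 0x2acd001), (nat_lit 0x2aa5001), (nat_lit 0x22b3001), (nat_lit 0x22b1001)], [(nat_lit 0x2aa7001), (nat_lit 0x2273001), (nat_lit 0x2aa0001), (nat_lit 0x2274001), (nat_lit 0x2272001), (nat_lit 0x2aa3001)], [(nat_lit 0x2aa1001), (nat_lit 0x2a9c001), (nat_lit 0x2271001), (nat_lit 0x2a9e001), (nat_lit 0x2a9f001), (nat_lit 0x2a62001)], [(nat_lit 0x22da001), (nat_lit 0x22db001), (nat_lit 0x2ae1001), (nat_lit 0x22dc001), (nat_lit 0x22dd001), (nat_lit 0x22d9001)], [(nat_lit 0x2283001), (nat_lit 0x2aa4001), (nat_lit 0x2284001), (nat_lit 0x2285001), (nat_lit 0x2286001), (nat_lit 0x2282001)], [(nat_lit 0x227e001), (nat_lit 0x2ab1001), (nat_lit 0x227f001), (nat_lit 0x2280001), (nat_lit 0x227d001), (nat_lit 0x2281001)], [(nat_lit 0x2ab4001), (nat_lit 0x227c001), (nat_lit 0x2a9d001), (nat_lit 0x27e5001), (nat_lit 0x2ab0001), (nat_lit 0x29cd001)], [(nat_lit 0x292d001), (nat_lit 0x2f90001), (nat_lit 0x292e001), (nat_lit 0x2ea3001), (nat_lit 0x2a3c001), (nat_lit 0x2f4b001)], [(nat_lit 0x2ea1001), (nat_lit 0x2f4f001), (nat_lit 0x2ba6001), (nat_lit 0x292c001), (nat_lit 0x2ba7001), (nat_lit 0x2f46001)], [(nat_lit 0x2925001), (nat_lit 0x2924001), (nat_lit 0x2f59001), (nat_lit 0x2926001), (nat_lit 0x2f83001), (nat_lit 0x2f8f001)], [(nat_lit 0x26bb001), (nat_lit 0x26b8001), (nat_lit 0x26b7001), (nat_lit 0x26b9001), (nat_lit 0x26ba001), (nat_lit 0x2a6a001)], [(nat_lit 0x290a001), (nat_lit 0x2f7f001), (nat_lit 0x290b001), (nat_lit 0x2f7d001), (nat_lit 0x290c001), (nat_lit 0x2f42001)], [(nat_lit 0x2921001), (nat_lit 0x2f8b001), (nat_lit 0x2922001), (nat_lit 0x2a69001), (nat_lit 0x2f8a001), (nat_lit 0x2923001)], [(nat_lit 0x28cd001), (nat_lit 0x28cc001), (nat_lit 0x2f40001), (nat_lit 0x28ce001), (nat_lit 0x2f33001), (nat_lit 0x28cf001)], [(nat_lit 0x2927001), (nat_lit 0x2a3e001), (nat_lit 0x2f89001), (nat_lit 0x2f37001), (nat_lit 0x2928001), (nat_lit 0x2f34001)], [(nat_lit 0x28fc001), (nat_lit 0x28fd001), (nat_lit 0x2ae8001), (nat_lit 0x28fe001), (nat_lit 0x2f38001), (nat_lit 0x28ff001)], [(nat_lit 0x2913001), (nat_lit 0x2917001), (nat_lit 0x2914001), (nat_lit 0x2915001), (nat_lit 0x2f78001), (nat_lit 0x2916001)], [(nat_lit 0x2911001), (nat_lit 0x290e001), (nat_lit 0x290f001), (nat_lit 0x290d001), (nat_lit 0x2912001), (nat_lit 0x2910001)], [(nat_lit 0x2f75001), (nat_lit 0x2906001), (nat_lit 0x2907001), (nat_lit 0x2cc7001), (nat_lit 0x2908001), (nat_lit 0x294a001)], [(nat_lit 0x26bf001), (nat_lit 0x2744001), (nat_lit 0x26c0001), (nat_lit 0x26c1001), (nat_lit 0x2dc3001), (nat_lit 0x2a71001)], [(nat_lit 0x2919001), (nat_lit 0x291a001), (nat_lit 0x2dc2001), (nat_lit 0x2cc1001), (nat_lit 0x2918001), (nat_lit 0x2c93001)], [(nat_lit 0x2a6b001), (nat_lit 0x291c001), (nat_lit 0x2a6f001), (nat_lit 0x291d001), (nat_lit 0x2f84001), (nat_lit 0x291b001)], [(nat_lit 0x2f7e001), (nat_lit 0x2cc5001), (nat_lit 0x2f7a001), (nat_lit 0x2909001), (nat_lit 0x2cc2001), (nat_lit 0x2f74001)], [(nat_lit 0x2f41001), (nat_lit 0x2949001), (nat_lit 0x2904001), (nat_lit 0x2f73001), (nat_lit 0x2f71001), (nat_lit 0x2905001)], [(nat_lit 0x2f88001), (nat_lit 0x291f001), (nat_lit 0x2920001), (nat_lit 0x2f86001), (nat_lit 0x291e001), (nat_lit 0x2f72001)], [(nat_lit 0x2f31001), (nat_lit 0x2901001), (nat_lit 0x2f6f001), (nat_lit 0x2900001), (nat_lit 0x2902001), (nat_lit 0x2903001)], [(nat_lit 0x2f36001), (nat_lit 0x28f9001), (nat_lit 0x2f6a001), (nat_lit 0x28fa001), (nat_lit 0x28f8001), (nat_lit 0x28fb001)], [(nat_lit 0x2ae7001), (nat_lit 0x2f69001), (nat_lit 0x28f7001), (nat_lit 0x2f6e001), (nat_lit 0x2f6b001), (nat_lit 0x28f6001)], [(nat_lit 0x2929001), (nat_lit 0x292a001), (nat_lit 0x2f76001), (nat_lit 0x2933001), (nat_lit 0x292b001), (nat_lit 0x294e001)], [(nat_lit 0x28c3001), (nat_lit 0x28c2001), (nat_lit 0x2ac8001), (nat_lit 0x2f32001), (nat_lit 0x28c4001), (nat_lit 0x2f39001)], [(nat_lit 0x2ac6001), (nat_lit 0x28f2001), (nat_lit 0x28f3001), (nat_lit 0x2f66001), (nat_lit 0x28f4001), (nat_lit 0x2f68001)], [(nat_lit 0x2ae4001), (nat_lit 0x2f67001), (nat_lit 0x2f6c001), (nat_lit 0x28f5001), (nat_lit 0x2aee001), (nat_lit 0x2f6d001)], [(nat_lit 0x2ad8001), (nat_lit 0x2ac7001), (nat_lit 0x2301001), (nat_lit 0x2b15001), (nat_lit 0x2300001), (nat_lit 0x2b16001)], [(nat_lit 0x2adc001), (nat_lit 0x2aca001), (nat_lit 0x2b13001), (nat_lit 0x22ff001), (nat_lit 0x2b14001), (nat_lit 0x2b12001)], [(nat_lit 0x2adf001), (nat_lit 0x2acc001), (nat_lit 0x22fd001), (nat_lit 0x2b11001), (nat_lit 0x2ae2001), (nat_lit 0x22fe001)], [(nat_lit 0x22f1001), (nat_lit 0x2aa8001), (nat_lit 0x2b06001), (nat_lit 0x22f2001), (nat_lit 0x2aae001), (nat_lit 0x2b0d001)], [(nat_lit 0x22f3001), (nat_lit 0x2ad4001), (nat_lit 0x2af7001), (nat_lit 0x2b0c001), (nat_lit 0x2af5001), (nat_lit 0x22f4001)], [(nat_lit 0x2b05001), (nat_lit 0x2afe001), (nat_lit 0x22ed001), (nat_lit 0x2b01001), (nat_lit 0x2ab6001), (nat_lit 0x2b02001)], [(nat_lit 0x2b0b001), (nat_lit 0x22ef001), (nat_lit 0x2b04001), (nat_lit 0x22f0001), (nat_lit 0x2b07001), (nat_lit 0x22ee001)], [(nat_lit 0x2b0e001), (nat_lit 0x22f5001), (nat_lit 0x2aff001), (nat_lit 0x22f6001), (nat_lit 0x2a5c001), (nat_lit 0x22f7001)], [(nat_lit 0x22f9001), (nat_lit 0x2b08001), (nat_lit 0x22fa001), (nat_lit 0x22fb001), (nat_lit 0x22f8001), (nat_lit 0x22fc001)], [(nat_lit 0x2854001), (nat_lit 0x2855001), (nat_lit 0x2ada001), (nat_lit 0x2ed2001), (nat_lit 0x2853001), (nat_lit 0x2ed6001)], [(nat_lit 0x285f001), (nat_lit 0x2ed4001), (nat_lit 0x2ee0001), (nat_lit 0x285e001), (nat_lit 0x2860001), (nat_lit 0x2ee5001)], [(nat_lit 0x2862001), (nat_lit 0x2ed8001), (nat_lit 0x2863001), (nat_lit 0x2ee8001), (nat_lit 0x2ee9001), (nat_lit 0x2861001)], [(nat_lit 0x2865001), (nat_lit 0x2866001), (nat_lit 0x2867001), (nat_lit 0x2eee001), (nat_lit 0x2864001), (nat_lit 0x2eed001)], [(nat_lit 0x28bf001), (nat_lit 0x2f35001), (nat_lit 0x2eec001), (nat_lit 0x2a3f001), (nat_lit 0x28c0001), (nat_lit 0x28c1001)], [(nat_lit 0x28bc001), (nat_lit 0x2f30001), (nat_lit 0x2f2e001), (nat_lit 0x28bd001), (nat_lit 0x28be001), (nat_lit 0x2a41001)], [(nat_lit 0x28cb001), (nat_lit 0x2f3b001), (nat_lit 0x28c9001), (nat_lit 0x28c8001), (nat_lit 0x2f2f001), (nat_lit 0x28ca001)], [(nat_lit 0x2876001), (nat_lit 0x2875001), (nat_lit 0x2877001), (nat_lit 0x2efe001), (nat_lit 0x2878001), (nat_lit 0x2f07001)], [(nat_lit 0x2eef001), (nat_lit 0x28b5001), (nat_lit 0x2f28001), (nat_lit 0x28b4001), (nat_lit 0x2eff001), (nat_lit 0x2f29001)], [(nat_lit 0x2eea001), (nat_lit 0x28b7001), (nat_lit 0x28b8001), (nat_lit 0x2f2b001), (nat_lit 0x28b9001), (nat_lit 0x28b6001)], [(nat_lit 0x286b001), (nat_lit 0x2efc001), (nat_lit 0x2ef6001), (nat_lit 0x286c001), (nat_lit 0x286d001), (nat_lit 0x2efb001)], [(nat_lit 0x2872001), (nat_lit 0x2f04001), (nat_lit 0x2873001), (nat_lit 0x2efa001), (nat_lit 0x2f06001), (nat_lit 0x2874001)], [(nat_lit 0x2ee1001), (nat_lit 0x2f95001), (nat_lit 0x292f001), (nat_lit 0x2f96001), (nat_lit 0x2ef7001), (nat_lit 0x2f9b001)], [(nat_lit 0x2ee6001), (nat_lit 0x2f2a001), (nat_lit 0x2f9d001), (nat_lit 0x2931001), (nat_lit 0x2f9f001), (nat_lit 0x2930001)], [(nat_lit 0x2f2d001), (nat_lit 0x2a1b001), (nat_lit 0x28ba001), (nat_lit 0x2f2c001), (nat_lit 0x28bb001), (nat_lit 0x2a38001)], [(nat_lit 0x2f3d001), (nat_lit 0x28c5001), (nat_lit 0x28c6001), (nat_lit 0x2f3a001), (nat_lit 0x2a1c001), (nat_lit 0x28c7001)], [(nat_lit 0x2932001), (nat_lit 0x294c001), (nat_lit 0x2f3e001), (nat_lit 0x2933001), (nat_lit 0x2a21001), (nat_lit 0x2934001)], [(nat_lit 0x2825001), (nat_lit 0x2826001), (nat_lit 0x2827001), (nat_lit 0x2eb7001), (nat_lit 0x2824001), (nat_lit 0x2ebc001)], [(nat_lit 0x2ab9001), (nat_lit 0x2942001), (nat_lit 0x2fa5001), (nat_lit 0x2943001), (nat_lit 0x2eba001), (nat_lit 0x2bca001)], [(nat_lit 0x2829001), (nat_lit 0x2eb9001), (nat_lit 0x2ec2001), (nat_lit 0x2828001), (nat_lit 0x282a001), (nat_lit 0x2e4b001)], [(nat_lit 0x282c001), (nat_lit 0x2ebe001), (nat_lit 0x282d001), (nat_lit 0x2e49001), (nat_lit 0x282e001), (nat_lit 0x282b001)], [(nat_lit 0x293c001), (nat_lit 0x2fa4001), (nat_lit 0x293d001), (nat_lit 0x2f9e001), (nat_lit 0x2ec4001), (nat_lit 0x2f99001)], [(nat_lit 0x293e001), (nat_lit 0x2bc8001), (nat_lit 0x2f98001), (nat_lit 0x293f001), (nat_lit 0x2940001), (nat_lit 0x2941001)], [(nat_lit 0x2fa6001), (nat_lit 0x2945001), (nat_lit 0x2f81001), (nat_lit 0x2944001), (nat_lit 0x2f5b001), (nat_lit 0x2f3c001)], [(nat_lit 0x2835001), (nat_lit 0x2834001), (nat_lit 0x2836001), (nat_lit 0x2837001), (nat_lit 0x2838001), (nat_lit 0x2eca001)], [(nat_lit 0x282f001), (nat_lit 0x2ec5001), (nat_lit 0x2830001), (nat_lit 0x2831001), (nat_lit 0x2832001), (nat_lit 0x2833001)], [(nat_lit 0x2ec3001), (nat_lit 0x2e24001), (nat_lit 0x2935001), (nat_lit 0x2ef4001), (nat_lit 0x2936001), (nat_lit 0x2e1f001)], [(nat_lit 0x2e47001), (nat_lit 0x276f001), (nat_lit 0x2e1d001), (nat_lit 0x2772001), (nat_lit 0x2770001), (nat_lit 0x2771001)], [(nat_lit 0x2fa2001), (nat_lit 0x2937001), (nat_lit 0x2e2c001), (nat_lit 0x2fa0001), (nat_lit 0x2e26001), (nat_lit 0x2e38001)], [(nat_lit 0x2f9c001), (nat_lit 0x2fa1001), (nat_lit 0x2ee7001), (nat_lit 0x2938001), (nat_lit 0x2fa3001), (nat_lit 0x2ee4001)], [(nat_lit 0x2f97001), (nat_lit 0x2e36001), (nat_lit 0x293a001), (nat_lit 0x2ee3001), (nat_lit 0x293b001), (nat_lit 0x2939001)], [(nat_lit 0x2946001), (nat_lit 0x2fa7001), (nat_lit 0x2947001), (nat_lit 0x2fa9001), (nat_lit 0x2f4a001), (nat_lit 0x2f3f001)], [(nat_lit 0x294b001), (nat_lit 0x294c001), (nat_lit 0x2fb0001), (nat_lit 0x294d001), (nat_lit 0x2a18001), (nat_lit 0x294e001)], [(nat_lit 0x2faf001), (nat_lit 0x2949001), (nat_lit 0x2948001), (nat_lit 0x2fab001), (nat_lit 0x2a0f001), (nat_lit 0x294a001)], [(nat_lit 0x21a1001), (nat_lit 0x21a2001), (nat_lit 0x21a0001), (nat_lit 0x29c7001), (nat_lit 0x21a3001), (nat_lit 0x29c6001)], [(nat_lit 0x29c8001), (nat_lit 0x21b5001), (nat_lit 0x29d5001), (nat_lit 0x21b4001), (nat_lit 0x29d6001), (nat_lit 0x29d4001)], [(nat_lit 0x29c3001), (nat_lit 0x21b1001), (nat_lit 0x21b0001), (nat_lit 0x29d2001), (nat_lit 0x21b2001), (nat_lit 0x21b3001)], [(nat_lit 0x21bc001), (nat_lit 0x29d3001), (nat_lit 0x21bd001), (nat_lit 0x21bb001), (nat_lit 0x29dd001), (nat_lit 0x21be001)], [(nat_lit 0x21c0001), (nat_lit 0x29d7001), (nat_lit 0x29df001), (nat_lit 0x21c1001), (nat_lit 0x21bf001), (nat_lit 0x29e0001)], [(nat_lit 0x21b7001), (nat_lit 0x21b8001), (nat_lit 0x21b6001), (nat_lit 0x29d9001), (nat_lit 0x21b9001), (nat_lit 0x21ba001)], [(nat_lit 0x29f6001), (nat_lit 0x21d9001), (nat_lit 0x29fc001), (nat_lit 0x29d8001), (nat_lit 0x21d8001), (nat_lit 0x29fd001)], [(nat_lit 0x21df001), (nat_lit 0x21de001), (nat_lit 0x21e0001), (nat_lit 0x21e1001), (nat_lit 0x2a03001), (nat_lit 0x21e2001)], [(nat_lit 0x251c001), (nat_lit 0x2a05001), (nat_lit 0x21e4001), (nat_lit 0x2a07001), (nat_lit 0x21e3001), (nat_lit 0x2a09001)], [(nat_lit 0x2634001), (nat_lit 0x29fe001), (nat_lit 0x2a0a001), (nat_lit 0x29e2001), (nat_lit 0x2a02001), (nat_lit 0x21e5001)], [(nat_lit 0x2525001), (nat_lit 0x21dd001), (nat_lit 0x24c0001), (nat_lit 0x26eb001), (nat_lit 0x21dc001), (nat_lit 0x2a00001)], [(nat_lit 0x2612001), (nat_lit 0x21db001), (nat_lit 0x26e0001), (nat_lit 0x21da001), (nat_lit 0x26ea001), (nat_lit 0x29dc001)], [(nat_lit 0x2195001), (nat_lit 0x2194001), (nat_lit 0x29bf001), (nat_lit 0x2196001), (nat_lit 0x2197001), (nat_lit 0x299c001)], [(nat_lit 0x219d001), (nat_lit 0x219c001), (nat_lit 0x29c2001), (nat_lit 0x299b001), (nat_lit 0x219e001), (nat_lit 0x219f001)], [(nat_lit 0x29c0001), (nat_lit 0x2987001), (nat_lit 0x21ae001), (nat_lit 0x29d1001), (nat_lit 0x21af001), (nat_lit 0x2984001)], [(nat_lit 0x2999001), (nat_lit 0x2178001), (nat_lit 0x2983001), (nat_lit 0x2179001), (nat_lit 0x24b5001), (nat_lit 0x217a001)], [(nat_lit 0x298c001), (nat_lit 0x216c001), (nat_lit 0x2988001), (nat_lit 0x216d001), (nat_lit 0x216e001), (nat_lit 0x216b001)], [(nat_lit 0x215f001), (nat_lit 0x21a2001), (nat_lit 0x2160001), (nat_lit 0x2974001), (nat_lit 0x2161001), (nat_lit 0x297b001)], [(nat_lit 0x2973001), (nat_lit 0x215b001), (nat_lit 0x296c001), (nat_lit 0x215a001), (nat_lit 0x296d001), (nat_lit 0x2970001)], [(nat_lit 0x2979001), (nat_lit 0x215d001), (nat_lit 0x215e001), (nat_lit 0x2972001), (nat_lit 0x2975001), (nat_lit 0x215c001)], [(nat_lit 0x21bc001), (nat_lit 0x2971001), (nat_lit 0x2162001), (nat_lit 0x2163001), (nat_lit 0x297c001), (nat_lit 0x2164001)], [(nat_lit 0x21c0001), (nat_lit 0x296e001), (nat_lit 0x297d001), (nat_lit 0x2166001), (nat_lit 0x2165001), (nat_lit 0x297e001)], [(nat_lit 0x21b7001), (nat_lit 0x2976001), (nat_lit 0x2168001), (nat_lit 0x2980001), (nat_lit 0x2167001), (nat_lit 0x2169001)], [(nat_lit 0x216f001), (nat_lit 0x2170001), (nat_lit 0x298b001), (nat_lit 0x2171001), (nat_lit 0x24af001), (nat_lit 0x2990001)], [(nat_lit 0x2175001), (nat_lit 0x2176001), (nat_lit 0x297a001), (nat_lit 0x298e001), (nat_lit 0x2997001), (nat_lit 0x2177001)], [(nat_lit 0x298a001), (nat_lit 0x2982001), (nat_lit 0x216a001), (nat_lit 0x2985001), (nat_lit 0x24a8001), (nat_lit 0x2986001)], [(nat_lit 0x2995001), (nat_lit 0x2173001), (nat_lit 0x2977001), (nat_lit 0x2991001), (nat_lit 0x2172001), (nat_lit 0x2174001)], [(nat_lit 0x217c001), (nat_lit 0x2992001), (nat_lit 0x217d001), (nat_lit 0x217b001), (nat_lit 0x217e001), (nat_lit 0x217f001)], [(nat_lit 0x2189001), (nat_lit 0x29bc001), (nat_lit 0x218a001), (nat_lit 0x29af001), (nat_lit 0x29b3001), (nat_lit 0x29bb001)], [(nat_lit 0x218b001), (nat_lit 0x218c001), (nat_lit 0x29b2001), (nat_lit 0x218d001), (nat_lit 0x218e001), (nat_lit 0x27e3001)], [(nat_lit 0x2191001), (nat_lit 0x299a001), (nat_lit 0x29ba001), (nat_lit 0x2192001), (nat_lit 0x29be001), (nat_lit 0x2193001)], [(nat_lit 0x2198001), (nat_lit 0x2199001), (nat_lit 0x25dd001), (nat_lit 0x27dc001), (nat_lit 0x219a001), (nat_lit 0x219b001)], [(nat_lit 0x29a3001), (nat_lit 0x2180001), (nat_lit 0x2181001), (nat_lit 0x299d001), (nat_lit 0x29a0001), (nat_lit 0x2182001)], [(nat_lit 0x29ad001), (nat_lit 0x299e001), (nat_lit 0x29a6001), (nat_lit 0x2183001), (nat_lit 0x29a9001), (nat_lit 0x29aa001)], [(nat_lit 0x29b1001), (nat_lit 0x29a1001), (nat_lit 0x2185001), (nat_lit 0x29b0001), (nat_lit 0x2184001), (nat_lit 0x27df001)], [(nat_lit 0x29b9001), (nat_lit 0x2187001), (nat_lit 0x2188001), (nat_lit 0x29ac001), (nat_lit 0x29b4001), (nat_lit 0x2186001)], [(nat_lit 0x29bd001), (nat_lit 0x2190001), (nat_lit 0x29b6001), (nat_lit 0x24a2001), (nat_lit 0x218f001), (nat_lit 0x249f001)], [(nat_lit 0x21a6001), (nat_lit 0x298d001), (nat_lit 0x29a4001), (nat_lit 0x21a7001), (nat_lit 0x29d0001), (nat_lit 0x21a8001)], [(nat_lit 0x29ce001), (nat_lit 0x21a5001), (nat_lit 0x29a2001), (nat_lit 0x29ca001), (nat_lit 0x21a4001), (nat_lit 0x27e7001)], [(nat_lit 0x21cc001), (nat_lit 0x2202001), (nat_lit 0x21cd001), (nat_lit 0x29f4001), (nat_lit 0x21ce001), (nat_lit 0x27c7001)], [(nat_lit 0x29f3001), (nat_lit 0x21cb001), (nat_lit 0x29f2001), (nat_lit 0x21ca001), (nat_lit 0x29e9001), (nat_lit 0x27c3001)], [(nat_lit 0x2a49001), (nat_lit 0x2ac2001), (nat_lit 0x2294001), (nat_lit 0x2295001), (nat_lit 0x2296001), (nat_lit 0x27cb001)], [(nat_lit 0x231a001), (nat_lit 0x231b001), (nat_lit 0x254d001), (nat_lit 0x2b35001), (nat_lit 0x2319001), (nat_lit 0x2b36001)], [(nat_lit 0x2318001), (nat_lit 0x2561001), (nat_lit 0x2b30001), (nat_lit 0x2317001), (nat_lit 0x2b32001), (nat_lit 0x2b2f001)], [(nat_lit 0x2314001), (nat_lit 0x2563001), (nat_lit 0x2313001), (nat_lit 0x2b2d001), (nat_lit 0x2315001), (nat_lit 0x2316001)], [(nat_lit 0x254b001), (nat_lit 0x233c001), (nat_lit 0x233d001), (nat_lit 0x2b64001), (nat_lit 0x233b001), (nat_lit 0x2b67001)], [(nat_lit 0x2b33001), (nat_lit 0x2339001), (nat_lit 0x2b60001), (nat_lit 0x233a001), (nat_lit 0x2338001), (nat_lit 0x2b61001)], [(nat_lit 0x2b37001), (nat_lit 0x233f001), (nat_lit 0x2b69001), (nat_lit 0x2b63001), (nat_lit 0x2340001), (nat_lit 0x233e001)], [(nat_lit 0x2b31001), (nat_lit 0x2b5c001), (nat_lit 0x2337001), (nat_lit 0x2b5e001), (nat_lit 0x2b5f001), (nat_lit 0x2b5b001)], [(nat_lit 0x2b2e001), (nat_lit 0x2335001), (nat_lit 0x2b5a001), (nat_lit 0x2334001), (nat_lit 0x2ac4001), (nat_lit 0x2336001)], [(nat_lit 0x2229001), (nat_lit 0x2228001), (nat_lit 0x27d9001), (nat_lit 0x222a001), (nat_lit 0x2a50001), (nat_lit 0x2668001)], [(nat_lit 0x2221001), (nat_lit 0x2222001), (nat_lit 0x290f001), (nat_lit 0x2223001), (nat_lit 0x2224001), (nat_lit 0x2680001)], [(nat_lit 0x2225001), (nat_lit 0x2a4d001), (nat_lit 0x2226001), (nat_lit 0x255d001), (nat_lit 0x2227001), (nat_lit 0x256b001)], [(nat_lit 0x222b001), (nat_lit 0x27db001), (nat_lit 0x2569001), (nat_lit 0x222c001), (nat_lit 0x2687001), (nat_lit 0x222d001)], [(nat_lit 0x2230001), (nat_lit 0x27e1001), (nat_lit 0x2a58001), (nat_lit 0x2231001), (nat_lit 0x2685001), (nat_lit 0x2232001)], [(nat_lit 0x2911001), (nat_lit 0x221f001), (nat_lit 0x221e001), (nat_lit 0x2915001), (nat_lit 0x2220001), (nat_lit 0x267a001)], [(nat_lit 0x2a57001), (nat_lit 0x2a52001), (nat_lit 0x222e001), (nat_lit 0x2a55001), (nat_lit 0x2682001), (nat_lit 0x222f001)], [(nat_lit 0x2a5e001), (nat_lit 0x2233001), (nat_lit 0x2a53001), (nat_lit 0x2a5a001), (nat_lit 0x24ac001), (nat_lit 0x2234001)], [(nat_lit 0x2520001), (nat_lit 0x2258001), (nat_lit 0x2259001), (nat_lit 0x225a001), (nat_lit 0x26a1001), (nat_lit 0x22b9001)], [(nat_lit 0x260e001), (nat_lit 0x2260001), (nat_lit 0x2605001), (nat_lit 0x25f8001), (nat_lit 0x2261001), (nat_lit 0x2a89001)], [(nat_lit 0x225d001), (nat_lit 0x2a85001), (nat_lit 0x225e001), (nat_lit 0x25c0001), (nat_lit 0x29c5001), (nat_lit 0x225f001)], [(nat_lit 0x2265001), (nat_lit 0x2a92001), (nat_lit 0x2266001), (nat_lit 0x2a91001), (nat_lit 0x29c1001), (nat_lit 0x2a59001)], [(nat_lit 0x2255001), (nat_lit 0x2269001), (nat_lit 0x2256001), (nat_lit 0x270c001), (nat_lit 0x2254001), (nat_lit 0x2713001)], [(nat_lit 0x268c001), (nat_lit 0x2a01001), (nat_lit 0x2714001), (nat_lit 0x2692001), (nat_lit 0x29ff001), (nat_lit 0x2257001)], [(nat_lit 0x25c2001), (nat_lit 0x29db001), (nat_lit 0x25c5001), (nat_lit 0x225c001), (nat_lit 0x2a84001), (nat_lit 0x225b001)], [(nat_lit 0x2a8c001), (nat_lit 0x2262001), (nat_lit 0x2263001), (nat_lit 0x2a8a001), (nat_lit 0x2989001), (nat_lit 0x2a54001)], [(nat_lit 0x2a90001), (nat_lit 0x2a8b001), (nat_lit 0x2a8e001), (nat_lit 0x2264001), (nat_lit 0x2a8f001), (nat_lit 0x2a56001)], [(nat_lit 0x226c001), (nat_lit 0x29cf001), (nat_lit 0x2a8d001), (nat_lit 0x2a9b001), (nat_lit 0x298f001), (nat_lit 0x2a5f001)], [(nat_lit 0x2a9a001), (nat_lit 0x226b001), (nat_lit 0x2a98001), (nat_lit 0x226a001), (nat_lit 0x2993001), (nat_lit 0x2a5d001)], [(nat_lit 0x2308001), (nat_lit 0x2558001), (nat_lit 0x2b22001), (nat_lit 0x2309001), (nat_lit 0x230a001), (nat_lit 0x2b27001)], [(nat_lit 0x230b001), (nat_lit 0x2566001), (nat_lit 0x230c001), (nat_lit 0x2b25001), (nat_lit 0x230d001), (nat_lit 0x230e001)], [(nat_lit 0x2b21001), (nat_lit 0x2b18001), (nat_lit 0x2302001), (nat_lit 0x2b1c001), (nat_lit 0x2303001), (nat_lit 0x2b1d001)], [(nat_lit 0x2b24001), (nat_lit 0x2305001), (nat_lit 0x2b1f001), (nat_lit 0x2306001), (nat_lit 0x2307001), (nat_lit 0x2304001)], [(nat_lit 0x2b49001), (nat_lit 0x2325001), (nat_lit 0x2326001), (nat_lit 0x2b43001), (nat_lit 0x2327001), (nat_lit 0x2b45001)], [(nat_lit 0x2519001), (nat_lit 0x2b44001), (nat_lit 0x2b4d001), (nat_lit 0x2328001), (nat_lit 0x2a08001), (nat_lit 0x2b4e001)], [(nat_lit 0x24f2001), (nat_lit 0x2b46001), (nat_lit 0x232a001), (nat_lit 0x2b4f001), (nat_lit 0x24b9001), (nat_lit 0x2329001)], [(nat_lit 0x2331001), (nat_lit 0x2332001), (nat_lit 0x2b4b001), (nat_lit 0x2b54001), (nat_lit 0x2333001), (nat_lit 0x2b59001)], [(nat_lit 0x2b52001), (nat_lit 0x232c001), (nat_lit 0x2b50001), (nat_lit 0x232b001), (nat_lit 0x232d001), (nat_lit 0x2ab3001)], [(nat_lit 0x2b56001), (nat_lit 0x232f001), (nat_lit 0x2b47001), (nat_lit 0x2ab2001), (nat_lit 0x2330001), (nat_lit 0x232e001)], [(nat_lit 0x2404001), (nat_lit 0x2405001), (nat_lit 0x2403001), (nat_lit 0x2408001), (nat_lit 0x2406001), (nat_lit 0x2407001)], [(nat_lit 0x2420001), (nat_lit 0x2421001), (nat_lit 0x2671001), (nat_lit 0x241f001), (nat_lit 0x2422001), (nat_lit 0x2423001)], [(nat_lit 0x2410001), (nat_lit 0x2411001), (nat_lit 0x240f001), (nat_lit 0x2414001), (nat_lit 0x2412001), (nat_lit 0x2413001)], [(nat_lit 0x240a001), (nat_lit 0x2409001), (nat_lit 0x240b001), (nat_lit 0x240c001), (nat_lit 0x240d001), (nat_lit 0x240e001)], [(nat_lit 0x2453001), (nat_lit 0x2454001), (nat_lit 0x2452001), (nat_lit 0x2695001), (nat_lit 0x2455001), (nat_lit 0x2456001)], [(nat_lit 0x2696001), (nat_lit 0x2458001), (nat_lit 0x26a3001), (nat_lit 0x2457001), (nat_lit 0x2bf1001), (nat_lit 0x2459001)], [(nat_lit 0x266f001), (nat_lit 0x2528001), (nat_lit 0x2465001), (nat_lit 0x265f001), (nat_lit 0x2b78001), (nat_lit 0x2517001)], [(nat_lit 0x2467001), (nat_lit 0x2bf3001), (nat_lit 0x2b77001), (nat_lit 0x2468001), (nat_lit 0x2466001), (nat_lit 0x2469001)], [(nat_lit 0x2461001), (nat_lit 0x2462001), (nat_lit 0x2515001), (nat_lit 0x2460001), (nat_lit 0x2463001), (nat_lit 0x2464001)], [(nat_lit 0x245b001), (nat_lit 0x245c001), (nat_lit 0x245a001), (nat_lit 0x245d001), (nat_lit 0x245e001), (nat_lit 0x245f001)], [(nat_lit 0x23f9001), (nat_lit 0x23fd001), (nat_lit 0x23fa001), (nat_lit 0x28ad001), (nat_lit 0x23fb001), (nat_lit 0x23fc001)], [(nat_lit 0x28a6001), (nat_lit 0x23fe001), (nat_lit 0x2402001), (nat_lit 0x23ff001), (nat_lit 0x2400001), (nat_lit 0x2401001)], [(nat_lit 0x23b7001), (nat_lit 0x23b8001), (nat_lit 0x23b9001), (nat_lit 0x23ba001), (nat_lit 0x23b6001), (nat_lit 0x28aa001)], [(nat_lit 0x247a001), (nat_lit 0x2479001), (nat_lit 0x2bf6001), (nat_lit 0x247b001), (nat_lit 0x247c001), (nat_lit 0x280f001)], [(nat_lit 0x2bf7001), (nat_lit 0x2bd6001), (nat_lit 0x247d001), (nat_lit 0x2bf9001), (nat_lit 0x247e001), (nat_lit 0x2bd4001)], [(nat_lit 0x2bda001), (nat_lit 0x23c5001), (nat_lit 0x2bd7001), (nat_lit 0x23c6001), (nat_lit 0x23c7001), (nat_lit 0x23c4001)], [(nat_lit 0x23ad001), (nat_lit 0x23ac001), (nat_lit 0x23af001), (nat_lit 0x23ab001), (nat_lit 0x23b0001), (nat_lit 0x23ae001)], [(nat_lit 0x23b2001), (nat_lit 0x23b3001), (nat_lit 0x23b4001), (nat_lit 0x23b5001), (nat_lit 0x2bcd001), (nat_lit 0x23b1001)], [(nat_lit 0x23bc001), (nat_lit 0x2bcf001), (nat_lit 0x23bd001), (nat_lit 0x284a001), (nat_lit 0x23bb001), (nat_lit 0x23be001)], [(nat_lit 0x23c3001), (nat_lit 0x23c1001), (nat_lit 0x28d5001), (nat_lit 0x23c2001), (nat_lit 0x23c0001), (nat_lit 0x2bd9001)], [(nat_lit 0x23cb001), (nat_lit 0x28a7001), (nat_lit 0x23cc001), (nat_lit 0x2bdc001), (nat_lit 0x28a1001), (nat_lit 0x23cd001)], [(nat_lit 0x28d6001), (nat_lit 0x2bd2001), (nat_lit 0x23bf001), (nat_lit 0x28dd001), (nat_lit 0x28d7001), (nat_lit 0x2bd5001)], [(nat_lit 0x289f001), (nat_lit 0x23c9001), (nat_lit 0x23ca001), (nat_lit 0x28a3001), (nat_lit 0x23c8001), (nat_lit 0x2bd1001)], [(nat_lit 0x23e3001), (nat_lit 0x2bdb001), (nat_lit 0x23d7001), (nat_lit 0x28a9001), (nat_lit 0x23d8001), (nat_lit 0x23d6001)], [(nat_lit 0x28ac001), (nat_lit 0x28a4001), (nat_lit 0x2840001), (nat_lit 0x23f7001), (nat_lit 0x23f8001), (nat_lit 0x2849001)], [(nat_lit 0x2425001), (nat_lit 0x2be4001), (nat_lit 0x2be3001), (nat_lit 0x2426001), (nat_lit 0x2940001), (nat_lit 0x2784001)], [(nat_lit 0x242a001), (nat_lit 0x242d001), (nat_lit 0x242b001), (nat_lit 0x2783001), (nat_lit 0x2957001), (nat_lit 0x242c001)], [(nat_lit 0x2be2001), (nat_lit 0x275d001), (nat_lit 0x2424001), (nat_lit 0x275b001), (nat_lit 0x293b001), (nat_lit 0x275a001)], [(nat_lit 0x2953001), (nat_lit 0x2428001), (nat_lit 0x2bd0001), (nat_lit 0x2814001), (nat_lit 0x2427001), (nat_lit 0x2429001)], [(nat_lit 0x2475001), (nat_lit 0x2476001), (nat_lit 0x27f7001), (nat_lit 0x2477001), (nat_lit 0x2478001), (nat_lit 0x27f9001)], [(nat_lit 0x27f6001), (nat_lit 0x2471001), (nat_lit 0x2472001), (nat_lit 0x2473001), (nat_lit 0x2470001), (nat_lit 0x2474001)], [(nat_lit 0x2480001), (nat_lit 0x2481001), (nat_lit 0x2482001), (nat_lit 0x2bfa001), (nat_lit 0x247f001), (nat_lit 0x2bff001)], [(nat_lit 0x2489001), (nat_lit 0x248a001), (nat_lit 0x2c02001), (nat_lit 0x27f8001), (nat_lit 0x248b001), (nat_lit 0x248c001)], [(nat_lit 0x2bfb001), (nat_lit 0x2484001), (nat_lit 0x2bfe001), (nat_lit 0x2483001), (nat_lit 0x2bfd001), (nat_lit 0x2c04001)], [(nat_lit 0x2c00001), (nat_lit 0x2486001), (nat_lit 0x2487001), (nat_lit 0x2c06001), (nat_lit 0x2488001), (nat_lit 0x2485001)], [(nat_lit 0x24f2001), (nat_lit 0x24f3001), (nat_lit 0x24f1001), (nat_lit 0x2c40001), (nat_lit 0x24f4001), (nat_lit 0x24f5001)], [(nat_lit 0x2520001), (nat_lit 0x251f001), (nat_lit 0x2521001), (nat_lit 0x2522001), (nat_lit 0x2bc4001), (nat_lit 0x2523001)], [(nat_lit 0x2525001), (nat_lit 0x2bc2001), (nat_lit 0x2526001), (nat_lit 0x2c55001), (nat_lit 0x2524001), (nat_lit 0x2c5b001)], [(nat_lit 0x2c38001), (nat_lit 0x2528001), (nat_lit 0x2c5e001), (nat_lit 0x274a001), (nat_lit 0x2c54001), (nat_lit 0x2527001)], [(nat_lit 0x251c001), (nat_lit 0x251d001), (nat_lit 0x251e001), (nat_lit 0x2c4f001), (nat_lit 0x251b001), (nat_lit 0x2c50001)], [(nat_lit 0x2519001), (nat_lit 0x251a001), (nat_lit 0x2c48001), (nat_lit 0x2518001), (nat_lit 0x2c4c001), (nat_lit 0x2c43001)], [(nat_lit 0x254b001), (nat_lit 0x254c001), (nat_lit 0x254d001), (nat_lit 0x2c7a001), (nat_lit 0x254a001), (nat_lit 0x2c7b001)], [(nat_lit 0x27bb001), (nat_lit 0x2549001), (nat_lit 0x2c75001), (nat_lit 0x2548001), (nat_lit 0x2c77001), (nat_lit 0x2c74001)], [(nat_lit 0x27b8001), (nat_lit 0x2545001), (nat_lit 0x2544001), (nat_lit 0x2c72001), (nat_lit 0x2546001), (nat_lit 0x2547001)], [(nat_lit 0x2847001), (nat_lit 0x24c7001), (nat_lit 0x281d001), (nat_lit 0x24c6001), (nat_lit 0x24c8001), (nat_lit 0x28af001)], [(nat_lit 0x24d4001), (nat_lit 0x24d5001), (nat_lit 0x24d6001), (nat_lit 0x24d7001), (nat_lit 0x24d8001), (nat_lit 0x24d9001)], [(nat_lit 0x24dd001), (nat_lit 0x24de001), (nat_lit 0x2639001), (nat_lit 0x2bf4001), (nat_lit 0x24df001), (nat_lit 0x24e0001)], [(nat_lit 0x2787001), (nat_lit 0x2785001), (nat_lit 0x2c3d001), (nat_lit 0x24c9001), (nat_lit 0x2c3e001), (nat_lit 0x2be8001)], [(nat_lit 0x24cb001), (nat_lit 0x2954001), (nat_lit 0x24cc001), (nat_lit 0x2951001), (nat_lit 0x24ca001), (nat_lit 0x24cd001)], [(nat_lit 0x24d3001), (nat_lit 0x24cf001), (nat_lit 0x24d0001), (nat_lit 0x24d1001), (nat_lit 0x24d2001), (nat_lit 0x24ce001)], [(nat_lit 0x2bf2001), (nat_lit 0x24db001), (nat_lit 0x269b001), (nat_lit 0x24da001), (nat_lit 0x2698001), (nat_lit 0x24dc001)], [(nat_lit 0x2bce001), (nat_lit 0x24e2001), (nat_lit 0x2955001), (nat_lit 0x284d001), (nat_lit 0x24e1001), (nat_lit 0x289e001)], [(nat_lit 0x24e4001), (nat_lit 0x24e5001), (nat_lit 0x28a8001), (nat_lit 0x24e6001), (nat_lit 0x24e3001), (nat_lit 0x24e7001)], [(nat_lit 0x24e9001), (nat_lit 0x2697001), (nat_lit 0x24ec001), (nat_lit 0x24e8001), (nat_lit 0x24ea001), (nat_lit 0x24eb001)], [(nat_lit 0x24ee001), (nat_lit 0x2a27001), (nat_lit 0x24ed001), (nat_lit 0x264c001), (nat_lit 0x24ef001), (nat_lit 0x24f0001)], [(nat_lit 0x24fe001), (nat_lit 0x24ff001), (nat_lit 0x2521001), (nat_lit 0x2500001), (nat_lit 0x2501001), (nat_lit 0x2502001)], [(nat_lit 0x2503001), (nat_lit 0x2504001), (nat_lit 0x2505001), (nat_lit 0x2506001), (nat_lit 0x2507001), (nat_lit 0x2508001)], [(nat_lit 0x250b001), (nat_lit 0x250c001), (nat_lit 0x2632001), (nat_lit 0x250d001), (nat_lit 0x250e001), (nat_lit 0x2bf5001)], [(nat_lit 0x24fd001), (nat_lit 0x24fb001), (nat_lit 0x269f001), (nat_lit 0x24fc001), (nat_lit 0x24fa001), (nat_lit 0x2699001)], [(nat_lit 0x2630001), (nat_lit 0x29f7001), (nat_lit 0x2509001), (nat_lit 0x2c45001), (nat_lit 0x250a001), (nat_lit 0x269c001)], [(nat_lit 0x2510001), (nat_lit 0x2a24001), (nat_lit 0x2650001), (nat_lit 0x250f001), (nat_lit 0x2511001), (nat_lit 0x264e001)], [(nat_lit 0x2532001), (nat_lit 0x2533001), (nat_lit 0x27b2001), (nat_lit 0x27ef001), (nat_lit 0x2534001), (nat_lit 0x2535001)], [(nat_lit 0x256d001), (nat_lit 0x27a8001), (nat_lit 0x2c9e001), (nat_lit 0x256c001), (nat_lit 0x27a9001), (nat_lit 0x2578001)], [(nat_lit 0x25ce001), (nat_lit 0x25cf001), (nat_lit 0x2cfe001), (nat_lit 0x25cd001), (nat_lit 0x25d0001), (nat_lit 0x2cfd001)], [(nat_lit 0x25c9001), (nat_lit 0x25ca001), (nat_lit 0x25c8001), (nat_lit 0x2cfa001), (nat_lit 0x25cb001), (nat_lit 0x25cc001)], [(nat_lit 0x2cff001), (nat_lit 0x2d07001), (nat_lit 0x25d8001), (nat_lit 0x2d0c001), (nat_lit 0x2d00001), (nat_lit 0x2d08001)], [(nat_lit 0x2cfb001), (nat_lit 0x25d6001), (nat_lit 0x2d06001), (nat_lit 0x25d5001), (nat_lit 0x2d09001), (nat_lit 0x25d7001)], [(nat_lit 0x25e5001), (nat_lit 0x2d0a001), (nat_lit 0x25e6001), (nat_lit 0x2d1d001), (nat_lit 0x25e4001), (nat_lit 0x2d1f001)], [(nat_lit 0x25e8001), (nat_lit 0x2cfc001), (nat_lit 0x2d21001), (nat_lit 0x25e9001), (nat_lit 0x2d23001), (nat_lit 0x25e7001)], [(nat_lit 0x25e1001), (nat_lit 0x25e2001), (nat_lit 0x2d13001), (nat_lit 0x25e0001), (nat_lit 0x2d19001), (nat_lit 0x25e3001)], [(nat_lit 0x2618001), (nat_lit 0x2619001), (nat_lit 0x261a001), (nat_lit 0x2d69001), (nat_lit 0x261b001), (nat_lit 0x2617001)], [(nat_lit 0x27a7001), (nat_lit 0x2615001), (nat_lit 0x2d63001), (nat_lit 0x2616001), (nat_lit 0x2614001), (nat_lit 0x2d65001)], [(nat_lit 0x2c9f001), (nat_lit 0x2d58001), (nat_lit 0x2613001), (nat_lit 0x2d5e001), (nat_lit 0x2d62001), (nat_lit 0x2d15001)], [(nat_lit 0x260e001), (nat_lit 0x260f001), (nat_lit 0x260d001), (nat_lit 0x2d3c001), (nat_lit 0x2610001), (nat_lit 0x2978001)], [(nat_lit 0x2612001), (nat_lit 0x2d3a001), (nat_lit 0x2d53001), (nat_lit 0x2611001), (nat_lit 0x2c58001), (nat_lit 0x2981001)], [(nat_lit 0x2630001), (nat_lit 0x2631001), (nat_lit 0x2632001), (nat_lit 0x296f001), (nat_lit 0x262f001), (nat_lit 0x2d75001)], [(nat_lit 0x2634001), (nat_lit 0x2d77001), (nat_lit 0x2c53001), (nat_lit 0x297f001), (nat_lit 0x2c60001), (nat_lit 0x2633001)], [(nat_lit 0x2590001), (nat_lit 0x2591001), (nat_lit 0x26d1001), (nat_lit 0x2592001), (nat_lit 0x2b2b001), (nat_lit 0x2593001)], [(nat_lit 0x2cb5001), (nat_lit 0x257e001), (nat_lit 0x257f001), (nat_lit 0x2cb2001), (nat_lit 0x2580001), (nat_lit 0x257d001)], [(nat_lit 0x26cd001), (nat_lit 0x2cb1001), (nat_lit 0x2d01001), (nat_lit 0x25d1001), (nat_lit 0x26d8001), (nat_lit 0x2cad001)], [(nat_lit 0x26d0001), (nat_lit 0x2579001), (nat_lit 0x257a001), (nat_lit 0x2cab001), (nat_lit 0x2b1a001), (nat_lit 0x257b001)], [(nat_lit 0x2583001), (nat_lit 0x2584001), (nat_lit 0x2cb6001), (nat_lit 0x2585001), (nat_lit 0x2586001), (nat_lit 0x2587001)], [(nat_lit 0x2604001), (nat_lit 0x2603001), (nat_lit 0x2605001), (nat_lit 0x2d4c001), (nat_lit 0x2606001), (nat_lit 0x2998001)], [(nat_lit 0x2d4b001), (nat_lit 0x260a001), (nat_lit 0x2d51001), (nat_lit 0x260b001), (nat_lit 0x260c001), (nat_lit 0x2994001)], [(nat_lit 0x2551001), (nat_lit 0x2c92001), (nat_lit 0x2552001), (nat_lit 0x2c87001), (nat_lit 0x2c90001), (nat_lit 0x2599001)], [(nat_lit 0x2557001), (nat_lit 0x2558001), (nat_lit 0x2c8f001), (nat_lit 0x2559001), (nat_lit 0x255a001), (nat_lit 0x2c99001)], [(nat_lit 0x255b001), (nat_lit 0x258d001), (nat_lit 0x255c001), (nat_lit 0x255d001), (nat_lit 0x255e001), (nat_lit 0x255f001)], [(nat_lit 0x2c85001), (nat_lit 0x259f001), (nat_lit 0x2c80001), (nat_lit 0x254e001), (nat_lit 0x2c84001), (nat_lit 0x2596001)], [(nat_lit 0x2c8e001), (nat_lit 0x25ab001), (nat_lit 0x2550001), (nat_lit 0x2c89001), (nat_lit 0x254f001), (nat_lit 0x2c8a001)], [(nat_lit 0x2565001), (nat_lit 0x2566001), (nat_lit 0x2659001), (nat_lit 0x2c97001), (nat_lit 0x2792001), (nat_lit 0x2567001)], [(nat_lit 0x2568001), (nat_lit 0x27a1001), (nat_lit 0x2569001), (nat_lit 0x256a001), (nat_lit 0x2798001), (nat_lit 0x256b001)], [(nat_lit 0x2654001), (nat_lit 0x2561001), (nat_lit 0x2c9a001), (nat_lit 0x2560001), (nat_lit 0x27b0001), (nat_lit 0x2c9b001)], [(nat_lit 0x2658001), (nat_lit 0x2563001), (nat_lit 0x2564001), (nat_lit 0x2c9d001), (nat_lit 0x276d001), (nat_lit 0x2562001)], [(nat_lit 0x25e5001), (nat_lit 0x2ca0001), (nat_lit 0x256e001), (nat_lit 0x2ca4001), (nat_lit 0x256f001), (nat_lit 0x2ca3001)], [(nat_lit 0x25e8001), (nat_lit 0x2571001), (nat_lit 0x2ca1001), (nat_lit 0x2572001), (nat_lit 0x2ca2001), (nat_lit 0x2570001)], [(nat_lit 0x2618001), (nat_lit 0x2574001), (nat_lit 0x2575001), (nat_lit 0x2ca6001), (nat_lit 0x2573001), (nat_lit 0x2576001)], [(nat_lit 0x25e1001), (nat_lit 0x2ca7001), (nat_lit 0x2ca9001), (nat_lit 0x2577001), (nat_lit 0x2ca5001), (nat_lit 0x2578001)], [(nat_lit 0x2581001), (nat_lit 0x2cb9001), (nat_lit 0x2582001), (nat_lit 0x2cb4001), (nat_lit 0x2b23001), (nat_lit 0x2cb8001)], [(nat_lit 0x258c001), (nat_lit 0x258d001), (nat_lit 0x261a001), (nat_lit 0x2a4f001), (nat_lit 0x258e001), (nat_lit 0x258f001)], [(nat_lit 0x2cb3001), (nat_lit 0x2cac001), (nat_lit 0x2cae001), (nat_lit 0x257c001), (nat_lit 0x2caf001), (nat_lit 0x2cb0001)], [(nat_lit 0x2a4e001), (nat_lit 0x2589001), (nat_lit 0x2cbb001), (nat_lit 0x2588001), (nat_lit 0x258a001), (nat_lit 0x258b001)], [(nat_lit 0x2919001), (nat_lit 0x25b0001), (nat_lit 0x26be001), (nat_lit 0x2cd3001), (nat_lit 0x26ba001), (nat_lit 0x2ce4001)], [(nat_lit 0x25a1001), (nat_lit 0x2cd0001), (nat_lit 0x25a2001), (nat_lit 0x25a3001), (nat_lit 0x2ccd001), (nat_lit 0x2c82001)], [(nat_lit 0x25a7001), (nat_lit 0x26b8001), (nat_lit 0x25a8001), (nat_lit 0x2926001), (nat_lit 0x25a9001), (nat_lit 0x2cdc001)], [(nat_lit 0x25ad001), (nat_lit 0x2ce2001), (nat_lit 0x25ae001), (nat_lit 0x2c81001), (nat_lit 0x2ce1001), (nat_lit 0x25af001)], [(nat_lit 0x25bd001), (nat_lit 0x2b29001), (nat_lit 0x2ce0001), (nat_lit 0x2cf2001), (nat_lit 0x25be001), (nat_lit 0x2ce9001)], [(nat_lit 0x25c3001), (nat_lit 0x25c4001), (nat_lit 0x25c5001), (nat_lit 0x25c6001), (nat_lit 0x2cf3001), (nat_lit 0x25c7001)], [(nat_lit 0x2597001), (nat_lit 0x291a001), (nat_lit 0x2598001), (nat_lit 0x259b001), (nat_lit 0x2912001), (nat_lit 0x2599001)], [(nat_lit 0x259c001), (nat_lit 0x2595001), (nat_lit 0x25a2001), (nat_lit 0x2594001), (nat_lit 0x2cbe001), (nat_lit 0x2596001)], [(nat_lit 0x259c001), (nat_lit 0x2cc0001), (nat_lit 0x259a001), (nat_lit 0x259b001), (nat_lit 0x2cc3001), (nat_lit 0x2c88001)], [(nat_lit 0x2ccb001), (nat_lit 0x2cbf001), (nat_lit 0x2cc6001), (nat_lit 0x2cc8001), (nat_lit 0x259d001), (nat_lit 0x2cca001)], [(nat_lit 0x2c83001), (nat_lit 0x259f001), (nat_lit 0x2c86001), (nat_lit 0x25a0001), (nat_lit 0x2cce001), (nat_lit 0x259e001)], [(nat_lit 0x2925001), (nat_lit 0x2917001), (nat_lit 0x2cd4001), (nat_lit 0x25a4001), (nat_lit 0x2cc9001), (nat_lit 0x2a15001)], [(nat_lit 0x2cd9001), (nat_lit 0x2679001), (nat_lit 0x25a6001), (nat_lit 0x2a14001), (nat_lit 0x2cd5001), (nat_lit 0x25a5001)], [(nat_lit 0x2cdf001), (nat_lit 0x25ab001), (nat_lit 0x25ac001), (nat_lit 0x2cdd001), (nat_lit 0x25aa001), (nat_lit 0x2cd8001)], [(nat_lit 0x2ce5001), (nat_lit 0x25b2001), (nat_lit 0x2cd7001), (nat_lit 0x25b3001), (nat_lit 0x25b1001), (nat_lit 0x25b4001)], [(nat_lit 0x2cef001), (nat_lit 0x25ba001), (nat_lit 0x2cea001), (nat_lit 0x25b9001), (nat_lit 0x25bb001), (nat_lit 0x25bc001)], [(nat_lit 0x25c2001), (nat_lit 0x2cf5001), (nat_lit 0x25bf001), (nat_lit 0x25c0001), (nat_lit 0x2cec001), (nat_lit 0x25c1001)], [(nat_lit 0x2d02001), (nat_lit 0x25d2001), (nat_lit 0x2cf6001), (nat_lit 0x2b09001), (nat_lit 0x25d3001), (nat_lit 0x25d4001)], [(nat_lit 0x25dc001), (nat_lit 0x2996001), (nat_lit 0x25dd001), (nat_lit 0x2d11001), (nat_lit 0x25de001), (nat_lit 0x25df001)], [(nat_lit 0x2d10001), (nat_lit 0x25da001), (nat_lit 0x2d0d001), (nat_lit 0x25d9001), (nat_lit 0x29cc001), (nat_lit 0x25db001)], [(nat_lit 0x25ed001), (nat_lit 0x2d34001), (nat_lit 0x25ee001), (nat_lit 0x2d2a001), (nat_lit 0x2d33001), (nat_lit 0x29a5001)], [(nat_lit 0x25f2001), (nat_lit 0x25f3001), (nat_lit 0x2d32001), (nat_lit 0x25f4001), (nat_lit 0x25f5001), (nat_lit 0x2d38001)], [(nat_lit 0x2d28001), (nat_lit 0x29ab001), (nat_lit 0x2d24001), (nat_lit 0x25ea001), (nat_lit 0x29b8001), (nat_lit 0x299f001)], [(nat_lit 0x2d31001), (nat_lit 0x29b5001), (nat_lit 0x25ec001), (nat_lit 0x29b7001), (nat_lit 0x25eb001), (nat_lit 0x2d2d001)], [(nat_lit 0x2d35001), (nat_lit 0x25f0001), (nat_lit 0x2d2f001), (nat_lit 0x25f1001), (nat_lit 0x27e6001), (nat_lit 0x25ef001)], [(nat_lit 0x2d39001), (nat_lit 0x25f6001), (nat_lit 0x25f7001), (nat_lit 0x25f8001), (nat_lit 0x25f9001), (nat_lit 0x2cf9001)], [(nat_lit 0x25fd001), (nat_lit 0x25fe001), (nat_lit 0x2d3b001), (nat_lit 0x2d42001), (nat_lit 0x25ff001), (nat_lit 0x2d05001)], [(nat_lit 0x2d40001), (nat_lit 0x25fb001), (nat_lit 0x2d3e001), (nat_lit 0x25fa001), (nat_lit 0x25fc001), (nat_lit 0x2b0a001)], [(nat_lit 0x2601001), (nat_lit 0x2d4a001), (nat_lit 0x2d49001), (nat_lit 0x2602001), (nat_lit 0x2b55001), (nat_lit 0x2d12001)], [(nat_lit 0x2d48001), (nat_lit 0x2d44001), (nat_lit 0x2600001), (nat_lit 0x2d47001), (nat_lit 0x2b51001), (nat_lit 0x2d0f001)], [(nat_lit 0x2d4e001), (nat_lit 0x2607001), (nat_lit 0x2d45001), (nat_lit 0x2608001), (nat_lit 0x2aa6001), (nat_lit 0x2609001)], [(nat_lit 0x2627001), (nat_lit 0x2628001), (nat_lit 0x2629001), (nat_lit 0x262a001), (nat_lit 0x262b001), (nat_lit 0x2d74001)], [(nat_lit 0x262c001), (nat_lit 0x262d001), (nat_lit 0x2d72001), (nat_lit 0x2d37001), (nat_lit 0x2b58001), (nat_lit 0x262e001)], [(nat_lit 0x261d001), (nat_lit 0x261e001), (nat_lit 0x261f001), (nat_lit 0x266b001), (nat_lit 0x261c001), (nat_lit 0x27d0001)], [(nat_lit 0x2622001), (nat_lit 0x2621001), (nat_lit 0x2623001), (nat_lit 0x2620001), (nat_lit 0x266c001), (nat_lit 0x2d6b001)], [(nat_lit 0x2d70001), (nat_lit 0x2625001), (nat_lit 0x2626001), (nat_lit 0x2d6f001), (nat_lit 0x2b48001), (nat_lit 0x2624001)], [(nat_lit 0x2636001), (nat_lit 0x2b53001), (nat_lit 0x2d7c001), (nat_lit 0x2637001), (nat_lit 0x2d4d001), (nat_lit 0x2b10001)], [(nat_lit 0x2638001), (nat_lit 0x2b57001), (nat_lit 0x2639001), (nat_lit 0x2b0f001), (nat_lit 0x263a001), (nat_lit 0x263b001)], [(nat_lit 0x2d7b001), (nat_lit 0x2b03001), (nat_lit 0x2635001), (nat_lit 0x2d7a001), (nat_lit 0x2d52001), (nat_lit 0x2b00001)], [(nat_lit 0x2654001), (nat_lit 0x2653001), (nat_lit 0x2d8a001), (nat_lit 0x2655001), (nat_lit 0x2656001), (nat_lit 0x2d89001)], [(nat_lit 0x2658001), (nat_lit 0x2657001), (nat_lit 0x2659001), (nat_lit 0x2d88001), (nat_lit 0x265a001), (nat_lit 0x265b001)], [(nat_lit 0x264a001), (nat_lit 0x2d82001), (nat_lit 0x264b001), (nat_lit 0x264c001), (nat_lit 0x264d001), (nat_lit 0x264e001)], [(nat_lit 0x264f001), (nat_lit 0x2d86001), (nat_lit 0x2650001), (nat_lit 0x2651001), (nat_lit 0x2a4b001), (nat_lit 0x2652001)], [(nat_lit 0x2641001), (nat_lit 0x2d7d001), (nat_lit 0x2640001), (nat_lit 0x2642001), (nat_lit 0x2643001), (nat_lit 0x2644001)], [(nat_lit 0x2646001), (nat_lit 0x2b62001), (nat_lit 0x2647001), (nat_lit 0x2648001), (nat_lit 0x27ca001), (nat_lit 0x2645001)], [(nat_lit 0x2d81001), (nat_lit 0x2649001), (nat_lit 0x2b5d001), (nat_lit 0x29ee001), (nat_lit 0x2d7f001), (nat_lit 0x29ea001)], [(nat_lit 0x2c56001), (nat_lit 0x26e9001), (nat_lit 0x26e8001), (nat_lit 0x26eb001), (nat_lit 0x26ea001), (nat_lit 0x2da8001)], [(nat_lit 0x2690001), (nat_lit 0x2da4001), (nat_lit 0x2691001), (nat_lit 0x2692001), (nat_lit 0x2da2001), (nat_lit 0x2693001)], [(nat_lit 0x26b4001), (nat_lit 0x26b5001), (nat_lit 0x2da1001), (nat_lit 0x2ce7001), (nat_lit 0x26b6001), (nat_lit 0x2cf4001)], [(nat_lit 0x26ab001), (nat_lit 0x2c57001), (nat_lit 0x26ac001), (nat_lit 0x2bc3001), (nat_lit 0x2d3d001), (nat_lit 0x26ad001)], [(nat_lit 0x2bc1001), (nat_lit 0x269e001), (nat_lit 0x269f001), (nat_lit 0x26a0001), (nat_lit 0x26a1001), (nat_lit 0x269d001)], [(nat_lit 0x268c001), (nat_lit 0x268a001), (nat_lit 0x2a45001), (nat_lit 0x2689001), (nat_lit 0x2d99001), (nat_lit 0x268b001)], [(nat_lit 0x2da0001), (nat_lit 0x268e001), (nat_lit 0x268f001), (nat_lit 0x2d9e001), (nat_lit 0x268d001), (nat_lit 0x2ced001)], [(nat_lit 0x2796001), (nat_lit 0x2797001), (nat_lit 0x279a001), (nat_lit 0x2795001), (nat_lit 0x2798001), (nat_lit 0x2799001)], [(nat_lit 0x2790001), (nat_lit 0x2791001), (nat_lit 0x278f001), (nat_lit 0x2794001), (nat_lit 0x2792001), (nat_lit 0x2793001)], [(nat_lit 0x27a0001), (nat_lit 0x27a1001), (nat_lit 0x2e57001), (nat_lit 0x27a2001), (nat_lit 0x279f001), (nat_lit 0x2a51001)], [(nat_lit 0x279c001), (nat_lit 0x2d6d001), (nat_lit 0x279b001), (nat_lit 0x279d001), (nat_lit 0x2e55001), (nat_lit 0x279e001)], [(nat_lit 0x27a7001), (nat_lit 0x27a8001), (nat_lit 0x2e5b001), (nat_lit 0x27a6001), (nat_lit 0x27a9001), (nat_lit 0x2ca8001)], [(nat_lit 0x2e56001), (nat_lit 0x27a4001), (nat_lit 0x27a5001), (nat_lit 0x2e58001), (nat_lit 0x27a3001), (nat_lit 0x2cbd001)], [(nat_lit 0x2da5001), (nat_lit 0x26ae001), (nat_lit 0x2a7d001), (nat_lit 0x2c5f001), (nat_lit 0x2db5001), (nat_lit 0x2c5a001)], [(nat_lit 0x26a2001), (nat_lit 0x2c5d001), (nat_lit 0x26a3001), (nat_lit 0x26a4001), (nat_lit 0x2d79001), (nat_lit 0x2bc5001)], [(nat_lit 0x26a8001), (nat_lit 0x2db4001), (nat_lit 0x26a9001), (nat_lit 0x2db0001), (nat_lit 0x26aa001), (nat_lit 0x2db3001)], [(nat_lit 0x26af001), (nat_lit 0x2a80001), (nat_lit 0x2db2001), (nat_lit 0x2af4001), (nat_lit 0x2d04001), (nat_lit 0x26b0001)], [(nat_lit 0x26b2001), (nat_lit 0x2a64001), (nat_lit 0x2db8001), (nat_lit 0x26b3001), (nat_lit 0x2d43001), (nat_lit 0x2aaf001)], [(nat_lit 0x2696001), (nat_lit 0x2697001), (nat_lit 0x2694001), (nat_lit 0x2695001), (nat_lit 0x2698001), (nat_lit 0x2699001)], [(nat_lit 0x2d76001), (nat_lit 0x2d9b001), (nat_lit 0x269b001), (nat_lit 0x2da9001), (nat_lit 0x269a001), (nat_lit 0x269c001)], [(nat_lit 0x2daf001), (nat_lit 0x2d9f001), (nat_lit 0x2dac001), (nat_lit 0x26a5001), (nat_lit 0x2daa001), (nat_lit 0x2dad001)], [(nat_lit 0x2db1001), (nat_lit 0x2ceb001), (nat_lit 0x26a7001), (nat_lit 0x2dae001), (nat_lit 0x2cf8001), (nat_lit 0x26a6001)], [(nat_lit 0x2db7001), (nat_lit 0x2a99001), (nat_lit 0x26b1001), (nat_lit 0x2db6001), (nat_lit 0x2d3f001), (nat_lit 0x2ab7001)], [(nat_lit 0x26cb001), (nat_lit 0x26ca001), (nat_lit 0x2c59001), (nat_lit 0x2746001), (nat_lit 0x2d56001), (nat_lit 0x2a7e001)], [(nat_lit 0x2d54001), (nat_lit 0x26df001), (nat_lit 0x26e0001), (nat_lit 0x2d16001), (nat_lit 0x26e1001), (nat_lit 0x2d61001)], [(nat_lit 0x2a7c001), (nat_lit 0x26e6001), (nat_lit 0x2da6001), (nat_lit 0x26f8001), (nat_lit 0x2dfa001), (nat_lit 0x26e7001)], [(nat_lit 0x26d6001), (nat_lit 0x2d17001), (nat_lit 0x2dea001), (nat_lit 0x26d7001), (nat_lit 0x26d8001), (nat_lit 0x2d5a001)], [(nat_lit 0x26dc001), (nat_lit 0x2d5f001), (nat_lit 0x26dd001), (nat_lit 0x2d5c001), (nat_lit 0x2df4001), (nat_lit 0x26de001)], [(nat_lit 0x26e3001), (nat_lit 0x2df9001), (nat_lit 0x26e4001), (nat_lit 0x2df8001), (nat_lit 0x26e5001), (nat_lit 0x2df5001)], [(nat_lit 0x26ec001), (nat_lit 0x2cf0001), (nat_lit 0x2df3001), (nat_lit 0x2b2a001), (nat_lit 0x26ed001), (nat_lit 0x26ee001)], [(nat_lit 0x26c7001), (nat_lit 0x2d55001), (nat_lit 0x26c8001), (nat_lit 0x2dcb001), (nat_lit 0x26c9001), (nat_lit 0x2dce001)], [(nat_lit 0x2dc0001), (nat_lit 0x26bd001), (nat_lit 0x26be001), (nat_lit 0x2db9001), (nat_lit 0x26bc001), (nat_lit 0x2dbc001)], [(nat_lit 0x2dc9001), (nat_lit 0x26c3001), (nat_lit 0x2dc5001), (nat_lit 0x26c2001), (nat_lit 0x2dbb001), (nat_lit 0x2dc6001)], [(nat_lit 0x2dcc001), (nat_lit 0x26c5001), (nat_lit 0x26c6001), (nat_lit 0x2dc8001), (nat_lit 0x2a77001), (nat_lit 0x26c4001)], [(nat_lit 0x26cd001), (nat_lit 0x2dba001), (nat_lit 0x2dcf001), (nat_lit 0x26cc001), (nat_lit 0x26ce001), (nat_lit 0x2dd5001)], [(nat_lit 0x26d0001), (nat_lit 0x2dbd001), (nat_lit 0x26d1001), (nat_lit 0x2dd8001), (nat_lit 0x2dd9001), (nat_lit 0x26cf001)], [(nat_lit 0x26f1001), (nat_lit 0x2a6d001), (nat_lit 0x26f3001), (nat_lit 0x2ddd001), (nat_lit 0x26d2001), (nat_lit 0x2ddc001)], [(nat_lit 0x2de9001), (nat_lit 0x2ddf001), (nat_lit 0x26d3001), (nat_lit 0x2de1001), (nat_lit 0x2dd1001), (nat_lit 0x2de5001)], [(nat_lit 0x2d5b001), (nat_lit 0x2dc7001), (nat_lit 0x2de6001), (nat_lit 0x26d5001), (nat_lit 0x2def001), (nat_lit 0x26d4001)], [(nat_lit 0x2df2001), (nat_lit 0x2a75001), (nat_lit 0x26da001), (nat_lit 0x2df0001), (nat_lit 0x26d9001), (nat_lit 0x26db001)], [(nat_lit 0x2df7001), (nat_lit 0x2a73001), (nat_lit 0x2df6001), (nat_lit 0x26e2001), (nat_lit 0x2dde001), (nat_lit 0x2df1001)], [(nat_lit 0x2701001), (nat_lit 0x2d41001), (nat_lit 0x2e06001), (nat_lit 0x2702001), (nat_lit 0x2a66001), (nat_lit 0x2d50001)], [(nat_lit 0x2703001), (nat_lit 0x2d03001), (nat_lit 0x2dcd001), (nat_lit 0x2d4f001), (nat_lit 0x2a82001), (nat_lit 0x2704001)], [(nat_lit 0x2e05001), (nat_lit 0x2d0e001), (nat_lit 0x2700001), (nat_lit 0x2e04001), (nat_lit 0x2a61001), (nat_lit 0x2d46001)], [(nat_lit 0x2705001), (nat_lit 0x2706001), (nat_lit 0x2e01001), (nat_lit 0x2707001), (nat_lit 0x2b26001), (nat_lit 0x2708001)], [(nat_lit 0x273a001), (nat_lit 0x2e10001), (nat_lit 0x2739001), (nat_lit 0x2de7001), (nat_lit 0x273b001), (nat_lit 0x2de3001)], [(nat_lit 0x273d001), (nat_lit 0x2d67001), (nat_lit 0x2de2001), (nat_lit 0x273e001), (nat_lit 0x2e12001), (nat_lit 0x273c001)], [(nat_lit 0x2de8001), (nat_lit 0x273f001), (nat_lit 0x2d59001), (nat_lit 0x2d5d001), (nat_lit 0x2e11001), (nat_lit 0x2ded001)], [(nat_lit 0x2de4001), (nat_lit 0x2dee001), (nat_lit 0x2741001), (nat_lit 0x2deb001), (nat_lit 0x2e16001), (nat_lit 0x2740001)], [(nat_lit 0x2e13001), (nat_lit 0x2d1b001), (nat_lit 0x2e18001), (nat_lit 0x2d0b001), (nat_lit 0x2742001), (nat_lit 0x2e15001)], [(nat_lit 0x2743001), (nat_lit 0x2744001), (nat_lit 0x2745001), (nat_lit 0x2746001), (nat_lit 0x2cb7001), (nat_lit 0x2e03001)], [(nat_lit 0x27d8001), (nat_lit 0x2748001), (nat_lit 0x2747001), (nat_lit 0x274a001), (nat_lit 0x2cbc001), (nat_lit 0x2749001)], [(nat_lit 0x2768001), (nat_lit 0x2767001), (nat_lit 0x2e44001), (nat_lit 0x2769001), (nat_lit 0x2b91001), (nat_lit 0x2e43001)], [(nat_lit 0x276b001), (nat_lit 0x276a001), (nat_lit 0x276c001), (nat_lit 0x2e42001), (nat_lit 0x276d001), (nat_lit 0x276e001)], [(nat_lit 0x2e45001), (nat_lit 0x2e4e001), (nat_lit 0x278d001), (nat_lit 0x278e001), (nat_lit 0x2b8a001), (nat_lit 0x2e54001)], [(nat_lit 0x2e41001), (nat_lit 0x278a001), (nat_lit 0x2e51001), (nat_lit 0x278b001), (nat_lit 0x2bcc001), (nat_lit 0x278c001)], [(nat_lit 0x2787001), (nat_lit 0x2786001), (nat_lit 0x2e4c001), (nat_lit 0x2788001), (nat_lit 0x2b99001), (nat_lit 0x2789001)], [(nat_lit 0x2753001), (nat_lit 0x2b8f001), (nat_lit 0x2e28001), (nat_lit 0x2754001), (nat_lit 0x2755001), (nat_lit 0x2e30001)], [(nat_lit 0x2756001), (nat_lit 0x2b93001), (nat_lit 0x2b70001), (nat_lit 0x2e2f001), (nat_lit 0x2b39001), (nat_lit 0x2757001)], [(nat_lit 0x2760001), (nat_lit 0x2e3d001), (nat_lit 0x2761001), (nat_lit 0x2e3b001), (nat_lit 0x2e29001), (nat_lit 0x2e3c001)], [(nat_lit 0x2764001), (nat_lit 0x2e40001), (nat_lit 0x2e3a001), (nat_lit 0x2765001), (nat_lit 0x2e3f001), (nat_lit 0x2766001)], [(nat_lit 0x2b6c001), (nat_lit 0x2b3c001), (nat_lit 0x2e19001), (nat_lit 0x274b001), (nat_lit 0x2b3d001), (nat_lit 0x2e1a001)], [(nat_lit 0x2b6f001), (nat_lit 0x2b40001), (nat_lit 0x274d001), (nat_lit 0x2e1b001), (nat_lit 0x2b6a001), (nat_lit 0x274c001)], [(nat_lit 0x2e27001), (nat_lit 0x2e1c001), (nat_lit 0x274e001), (nat_lit 0x2e21001), (nat_lit 0x274f001), (nat_lit 0x2e23001)], [(nat_lit 0x2e2e001), (nat_lit 0x2751001), (nat_lit 0x2e25001), (nat_lit 0x2752001), (nat_lit 0x2e2a001), (nat_lit 0x2750001)], [(nat_lit 0x2e31001), (nat_lit 0x2758001), (nat_lit 0x2759001), (nat_lit 0x275b001), (nat_lit 0x2e1e001), (nat_lit 0x275a001)], [(nat_lit 0x2e39001), (nat_lit 0x275d001), (nat_lit 0x275e001), (nat_lit 0x275c001), (nat_lit 0x2e35001), (nat_lit 0x275f001)], [(nat_lit 0x2e3e001), (nat_lit 0x2763001), (nat_lit 0x2e37001), (nat_lit 0x2ac3001), (nat_lit 0x2762001), (nat_lit 0x2e2d001)], [(nat_lit 0x2782001), (nat_lit 0x2785001), (nat_lit 0x2e32001), (nat_lit 0x2783001), (nat_lit 0x2e4a001), (nat_lit 0x2784001)], [(nat_lit 0x27bb001), (nat_lit 0x2b65001), (nat_lit 0x2e72001), (nat_lit 0x27ba001), (nat_lit 0x2b66001), (nat_lit 0x2e71001)], [(nat_lit 0x27b8001), (nat_lit 0x2b68001), (nat_lit 0x27b7001), (nat_lit 0x2e6f001), (nat_lit 0x2b42001), (nat_lit 0x27b9001)], [(nat_lit 0x27ae001), (nat_lit 0x2b34001), (nat_lit 0x2e68001), (nat_lit 0x27af001), (nat_lit 0x27b0001), (nat_lit 0x2e6e001)], [(nat_lit 0x27b1001), (nat_lit 0x2b38001), (nat_lit 0x27b2001), (nat_lit 0x2e6d001), (nat_lit 0x2b95001), (nat_lit 0x27b3001)], [(nat_lit 0x2e67001), (nat_lit 0x2e5e001), (nat_lit 0x27aa001), (nat_lit 0x2e60001), (nat_lit 0x2d8c001), (nat_lit 0x2e63001)], [(nat_lit 0x2e6c001), (nat_lit 0x27ac001), (nat_lit 0x2e65001), (nat_lit 0x27ad001), (nat_lit 0x2e6a001), (nat_lit 0x27ab001)], [(nat_lit 0x2c65001), (nat_lit 0x27b4001), (nat_lit 0x2e5f001), (nat_lit 0x2805001), (nat_lit 0x2d84001), (nat_lit 0x2801001)], [(nat_lit 0x27c9001), (nat_lit 0x2e6b001), (nat_lit 0x27b6001), (nat_lit 0x2abf001), (nat_lit 0x27b5001), (nat_lit 0x2a4c001)], [(nat_lit 0x2ec6001), (nat_lit 0x2843001), (nat_lit 0x2ec7001), (nat_lit 0x2844001), (nat_lit 0x2eb6001), (nat_lit 0x2845001)], [(nat_lit 0x2850001), (nat_lit 0x284f001), (nat_lit 0x2eaf001), (nat_lit 0x2851001), (nat_lit 0x2eae001), (nat_lit 0x2852001)], [(nat_lit 0x2eb8001), (nat_lit 0x283a001), (nat_lit 0x2ecb001), (nat_lit 0x2839001), (nat_lit 0x2abb001), (nat_lit 0x2b9a001)], [(nat_lit 0x2ebd001), (nat_lit 0x283c001), (nat_lit 0x2ebf001), (nat_lit 0x2b98001), (nat_lit 0x2afd001), (nat_lit 0x283b001)], [(nat_lit 0x283e001), (nat_lit 0x283f001), (nat_lit 0x2840001), (nat_lit 0x283d001), (nat_lit 0x2841001), (nat_lit 0x2842001)], [(nat_lit 0x2847001), (nat_lit 0x2ecc001), (nat_lit 0x2846001), (nat_lit 0x284a001), (nat_lit 0x2848001), (nat_lit 0x2849001)], [(nat_lit 0x2ecd001), (nat_lit 0x284b001), (nat_lit 0x284c001), (nat_lit 0x284d001), (nat_lit 0x2ed0001), (nat_lit 0x284e001)], [(nat_lit 0x2884001), (nat_lit 0x2883001), (nat_lit 0x2887001), (nat_lit 0x2ec8001), (nat_lit 0x2885001), (nat_lit 0x2886001)], [(nat_lit 0x2896001), (nat_lit 0x2895001), (nat_lit 0x2f22001), (nat_lit 0x2897001), (nat_lit 0x2898001), (nat_lit 0x2899001)], [(nat_lit 0x2f23001), (nat_lit 0x28b2001), (nat_lit 0x28b1001), (nat_lit 0x2eb5001), (nat_lit 0x28b3001), (nat_lit 0x2eb0001)], [(nat_lit 0x28ac001), (nat_lit 0x28ab001), (nat_lit 0x28b0001), (nat_lit 0x28ad001), (nat_lit 0x28ae001), (nat_lit 0x28af001)], [(nat_lit 0x287f001), (nat_lit 0x2880001), (nat_lit 0x2f05001), (nat_lit 0x2f0e001), (nat_lit 0x2881001), (nat_lit 0x2882001)], [(nat_lit 0x288a001), (nat_lit 0x288b001), (nat_lit 0x2f16001), (nat_lit 0x288c001), (nat_lit 0x288d001), (nat_lit 0x2f10001)], [(nat_lit 0x2894001), (nat_lit 0x2f19001), (nat_lit 0x2892001), (nat_lit 0x2891001), (nat_lit 0x2f17001), (nat_lit 0x2893001)], [(nat_lit 0x2857001), (nat_lit 0x2858001), (nat_lit 0x2eda001), (nat_lit 0x2856001), (nat_lit 0x2ed5001), (nat_lit 0x2edc001)], [(nat_lit 0x285a001), (nat_lit 0x285b001), (nat_lit 0x285c001), (nat_lit 0x2edf001), (nat_lit 0x285d001), (nat_lit 0x2859001)], [(nat_lit 0x2ef5001), (nat_lit 0x2e22001), (nat_lit 0x2868001), (nat_lit 0x2e20001), (nat_lit 0x2ee2001), (nat_lit 0x2ef2001)], [(nat_lit 0x2ef9001), (nat_lit 0x2ede001), (nat_lit 0x2ef3001), (nat_lit 0x286a001), (nat_lit 0x2ef8001), (nat_lit 0x2869001)], [(nat_lit 0x2f03001), (nat_lit 0x286f001), (nat_lit 0x2870001), (nat_lit 0x2f00001), (nat_lit 0x286e001), (nat_lit 0x2871001)], [(nat_lit 0x2efd001), (nat_lit 0x287a001), (nat_lit 0x2f08001), (nat_lit 0x2879001), (nat_lit 0x2ef1001), (nat_lit 0x2f02001)], [(nat_lit 0x2f0c001), (nat_lit 0x287c001), (nat_lit 0x2f09001), (nat_lit 0x287b001), (nat_lit 0x287d001), (nat_lit 0x287e001)], [(nat_lit 0x2f15001), (nat_lit 0x2f11001), (nat_lit 0x2888001), (nat_lit 0x2f14001), (nat_lit 0x2889001), (nat_lit 0x2f0b001)], [(nat_lit 0x2f1d001), (nat_lit 0x288e001), (nat_lit 0x288f001), (nat_lit 0x2f18001), (nat_lit 0x2f13001), (nat_lit 0x2890001)], [(nat_lit 0x2bb0001), (nat_lit 0x289a001), (nat_lit 0x2f12001), (nat_lit 0x2bb4001), (nat_lit 0x289b001), (nat_lit 0x2bb1001)], [(nat_lit 0x28a2001), (nat_lit 0x28a4001), (nat_lit 0x2f1f001), (nat_lit 0x28a3001), (nat_lit 0x2baf001), (nat_lit 0x2ed1001)], [(nat_lit 0x289f001), (nat_lit 0x289d001), (nat_lit 0x28a0001), (nat_lit 0x289c001), (nat_lit 0x28a1001), (nat_lit 0x289e001)], [(nat_lit 0x28a6001), (nat_lit 0x28a7001), (nat_lit 0x28a8001), (nat_lit 0x28a9001), (nat_lit 0x28a5001), (nat_lit 0x28aa001)], [(nat_lit 0x2ed3001), (nat_lit 0x2ef0001), (nat_lit 0x2f63001), (nat_lit 0x28f0001), (nat_lit 0x28ef001), (nat_lit 0x2f64001)], [(nat_lit 0x2ed7001), (nat_lit 0x2eeb001), (nat_lit 0x2b17001), (nat_lit 0x2f65001), (nat_lit 0x2ed9001), (nat_lit 0x28f1001)], [(nat_lit 0x2edb001), (nat_lit 0x2f60001), (nat_lit 0x28ee001), (nat_lit 0x2f61001), (nat_lit 0x2f62001), (nat_lit 0x2f5e001)], [(nat_lit 0x2edd001), (nat_lit 0x2f01001), (nat_lit 0x2f5d001), (nat_lit 0x28ec001), (nat_lit 0x2f5f001), (nat_lit 0x28ed001)], [(nat_lit 0x28e8001), (nat_lit 0x2f0d001), (nat_lit 0x28e9001), (nat_lit 0x28ea001), (nat_lit 0x2f26001), (nat_lit 0x28eb001)], [(nat_lit 0x2eac001), (nat_lit 0x2966001), (nat_lit 0x2967001), (nat_lit 0x2968001), (nat_lit 0x2969001), (nat_lit 0x2f27001)], [(nat_lit 0x2eb2001), (nat_lit 0x296a001), (nat_lit 0x2eb4001), (nat_lit 0x2f25001), (nat_lit 0x2ec9001), (nat_lit 0x296b001)], [(nat_lit 0x295c001), (nat_lit 0x2962001), (nat_lit 0x295d001), (nat_lit 0x295f001), (nat_lit 0x295e001), (nat_lit 0x2f1b001)], [(nat_lit 0x2963001), (nat_lit 0x2f24001), (nat_lit 0x2f1a001), (nat_lit 0x2964001), (nat_lit 0x2f0f001), (nat_lit 0x2965001)], [(nat_lit 0x2af9001), (nat_lit 0x2950001), (nat_lit 0x2afb001), (nat_lit 0x2951001), (nat_lit 0x2ec1001), (nat_lit 0x294f001)], [(nat_lit 0x2953001), (nat_lit 0x2954001), (nat_lit 0x2955001), (nat_lit 0x2956001), (nat_lit 0x2957001), (nat_lit 0x2952001)], [(nat_lit 0x2961001), (nat_lit 0x2958001), (nat_lit 0x2ece001), (nat_lit 0x2960001), (nat_lit 0x2959001), (nat_lit 0x2f21001)], [(nat_lit 0x2f1c001), (nat_lit 0x2f1e001), (nat_lit 0x295b001), (nat_lit 0x2f20001), (nat_lit 0x2f0a001), (nat_lit 0x295a001)], [(nat_lit 0x2af9001), (nat_lit 0x2afa001), (nat_lit 0x2afb001), (nat_lit 0x2afc001), (nat_lit 0x2afd001), (nat_lit 0x2af8001)], [(nat_lit 0x2ab9001), (nat_lit 0x2aba001), (nat_lit 0x312b001), (nat_lit 0x2ab8001), (nat_lit 0x2abb001), (nat_lit 0x2abc001)], [(nat_lit 0x2abe001), (nat_lit 0x312f001), (nat_lit 0x2abd001), (nat_lit 0x2abf001), (nat_lit 0x2ac0001), (nat_lit 0x2ac1001)], [(nat_lit 0x2bc7001), (nat_lit 0x2bc8001), (nat_lit 0x3238001), (nat_lit 0x2bc9001), (nat_lit 0x2be7001), (nat_lit 0x2bca001)], [(nat_lit 0x2bc1001), (nat_lit 0x2bc2001), (nat_lit 0x2bc0001), (nat_lit 0x2bc3001), (nat_lit 0x2bc4001), (nat_lit 0x2bc5001)], [(nat_lit 0x3237001), (nat_lit 0x3234001), (nat_lit 0x2bc6001), (nat_lit 0x2fea001), (nat_lit 0x2bea001), (nat_lit 0x312e001)], [(nat_lit 0x323a001), (nat_lit 0x2bcb001), (nat_lit 0x3235001), (nat_lit 0x30b5001), (nat_lit 0x2bcc001), (nat_lit 0x3132001)], [(nat_lit 0x2a49001), (nat_lit 0x30b3001), (nat_lit 0x2a48001), (nat_lit 0x2a4a001), (nat_lit 0x2a4b001), (nat_lit 0x2a4c001)], [(nat_lit 0x2bb7001), (nat_lit 0x2c79001), (nat_lit 0x2bb9001), (nat_lit 0x2bb6001), (nat_lit 0x2bb8001), (nat_lit 0x322e001)], [(nat_lit 0x2bbb001), (nat_lit 0x2c7d001), (nat_lit 0x2bbc001), (nat_lit 0x3231001), (nat_lit 0x2c03001), (nat_lit 0x2bba001)], [(nat_lit 0x322f001), (nat_lit 0x2c73001), (nat_lit 0x2bbe001), (nat_lit 0x2bbf001), (nat_lit 0x3232001), (nat_lit 0x2bbd001)], [(nat_lit 0x2c32001), (nat_lit 0x2c33001), (nat_lit 0x2c34001), (nat_lit 0x2c35001), (nat_lit 0x2c31001), (nat_lit 0x2c36001)], [(nat_lit 0x2d8e001), (nat_lit 0x2d8f001), (nat_lit 0x2d90001), (nat_lit 0x3362001), (nat_lit 0x2d8d001), (nat_lit 0x2d91001)], [(nat_lit 0x2d6c001), (nat_lit 0x2c08001), (nat_lit 0x2c09001), (nat_lit 0x2d73001), (nat_lit 0x2c0a001), (nat_lit 0x2c07001)], [(nat_lit 0x2bed001), (nat_lit 0x2d71001), (nat_lit 0x2bec001), (nat_lit 0x2bee001), (nat_lit 0x2bef001), (nat_lit 0x2bf0001)], [(nat_lit 0x2c0c001), (nat_lit 0x2c0d001), (nat_lit 0x2c0e001), (nat_lit 0x324f001), (nat_lit 0x2c0b001), (nat_lit 0x2c0f001)], [(nat_lit 0x2b85001), (nat_lit 0x2b86001), (nat_lit 0x2b87001), (nat_lit 0x3209001), (nat_lit 0x2b88001), (nat_lit 0x2b84001)], [(nat_lit 0x3363001), (nat_lit 0x2d93001), (nat_lit 0x3367001), (nat_lit 0x2d92001), (nat_lit 0x320a001), (nat_lit 0x3253001)], [(nat_lit 0x2c13001), (nat_lit 0x2c14001), (nat_lit 0x3255001), (nat_lit 0x2c15001), (nat_lit 0x2c16001), (nat_lit 0x2c17001)], [(nat_lit 0x2c18001), (nat_lit 0x2c19001), (nat_lit 0x2d6e001), (nat_lit 0x2c1a001), (nat_lit 0x2c1b001), (nat_lit 0x2c1c001)], [(nat_lit 0x3254001), (nat_lit 0x2d2e001), (nat_lit 0x2c10001), (nat_lit 0x2d30001), (nat_lit 0x2c11001), (nat_lit 0x2c12001)], [(nat_lit 0x2c94001), (nat_lit 0x2c95001), (nat_lit 0x2c96001), (nat_lit 0x2c97001), (nat_lit 0x2c98001), (nat_lit 0x2c99001)], [(nat_lit 0x2c8d001), (nat_lit 0x2cd6001), (nat_lit 0x2c8b001), (nat_lit 0x32aa001), (nat_lit 0x2c8c001), (nat_lit 0x2c8a001)], [(nat_lit 0x2d96001), (nat_lit 0x336a001), (nat_lit 0x2d97001), (nat_lit 0x2e46001), (nat_lit 0x2d98001), (nat_lit 0x325b001)], [(nat_lit 0x2c2c001), (nat_lit 0x2c2d001), (nat_lit 0x3259001), (nat_lit 0x2c2e001), (nat_lit 0x2c2f001), (nat_lit 0x2c30001)], [(nat_lit 0x325c001), (nat_lit 0x2c22001), (nat_lit 0x2c23001), (nat_lit 0x2e50001), (nat_lit 0x2c24001), (nat_lit 0x2c21001)], [(nat_lit 0x3258001), (nat_lit 0x2c1d001), (nat_lit 0x2c1e001), (nat_lit 0x2e53001), (nat_lit 0x2c1f001), (nat_lit 0x2c20001)], [(nat_lit 0x2c28001), (nat_lit 0x2d36001), (nat_lit 0x325d001), (nat_lit 0x2c29001), (nat_lit 0x2c2a001), (nat_lit 0x2c2b001)], [(nat_lit 0x2a30001), (nat_lit 0x2a31001), (nat_lit 0x2a32001), (nat_lit 0x309b001), (nat_lit 0x2a33001), (nat_lit 0x2a34001)], [(nat_lit 0x2e0c001), (nat_lit 0x2e0d001), (nat_lit 0x33c9001), (nat_lit 0x2e0b001), (nat_lit 0x2e0e001), (nat_lit 0x2e0f001)], [(nat_lit 0x3099001), (nat_lit 0x2a2a001), (nat_lit 0x3095001), (nat_lit 0x2a2b001), (nat_lit 0x2a2c001), (nat_lit 0x2a29001)], [(nat_lit 0x2c6d001), (nat_lit 0x2c6e001), (nat_lit 0x2c6f001), (nat_lit 0x3285001), (nat_lit 0x2c70001), (nat_lit 0x2c71001)], [(nat_lit 0x2e76001), (nat_lit 0x309a001), (nat_lit 0x3434001), (nat_lit 0x2e77001), (nat_lit 0x3286001), (nat_lit 0x2e78001)], [(nat_lit 0x2a94001), (nat_lit 0x2a95001), (nat_lit 0x2a96001), (nat_lit 0x2a97001), (nat_lit 0x3065001), (nat_lit 0x2a93001)], [(nat_lit 0x2c6c001), (nat_lit 0x2c61001), (nat_lit 0x2c62001), (nat_lit 0x3274001), (nat_lit 0x2c63001), (nat_lit 0x2c71001)], [(nat_lit 0x2c6c001), (nat_lit 0x2c6a001), (nat_lit 0x2c6f001), (nat_lit 0x2d7e001), (nat_lit 0x2c6b001), (nat_lit 0x2c69001)], [(nat_lit 0x3283001), (nat_lit 0x2c67001), (nat_lit 0x327f001), (nat_lit 0x2c66001), (nat_lit 0x2c68001), (nat_lit 0x2d80001)], [(nat_lit 0x3433001), (nat_lit 0x342b001), (nat_lit 0x2e74001), (nat_lit 0x342f001), (nat_lit 0x3281001), (nat_lit 0x2e75001)], [(nat_lit 0x2e0c001), (nat_lit 0x2bdf001), (nat_lit 0x2f45001), (nat_lit 0x2be0001), (nat_lit 0x2bde001), (nat_lit 0x2be1001)], [(nat_lit 0x3437001), (nat_lit 0x2e79001), (nat_lit 0x342c001), (nat_lit 0x2e7a001), (nat_lit 0x2e7b001), (nat_lit 0x2e7c001)], [(nat_lit 0x2c38001), (nat_lit 0x2c39001), (nat_lit 0x2c3a001), (nat_lit 0x2c3b001), (nat_lit 0x2c3c001), (nat_lit 0x2c37001)], [(nat_lit 0x2e8e001), (nat_lit 0x2e8d001), (nat_lit 0x2e8f001), (nat_lit 0x344c001), (nat_lit 0x2e90001), (nat_lit 0x2e91001)], [(nat_lit 0x2e7f001), (nat_lit 0x2e80001), (nat_lit 0x3063001), (nat_lit 0x3440001), (nat_lit 0x2e81001), (nat_lit 0x2e82001)], [(nat_lit 0x2e86001), (nat_lit 0x3449001), (nat_lit 0x3312001), (nat_lit 0x2e87001), (nat_lit 0x3441001), (nat_lit 0x3333001)], [(nat_lit 0x2e88001), (nat_lit 0x2e89001), (nat_lit 0x2e8a001), (nat_lit 0x3332001), (nat_lit 0x2e8b001), (nat_lit 0x2e8c001)], [(nat_lit 0x2e98001), (nat_lit 0x345f001), (nat_lit 0x2e99001), (nat_lit 0x345d001), (nat_lit 0x3256001), (nat_lit 0x2e9a001)], [(nat_lit 0x3061001), (nat_lit 0x29ec001), (nat_lit 0x29ed001), (nat_lit 0x29ee001), (nat_lit 0x29ef001), (nat_lit 0x29eb001)], [(nat_lit 0x343e001), (nat_lit 0x3208001), (nat_lit 0x343c001), (nat_lit 0x2e7d001), (nat_lit 0x2e7e001), (nat_lit 0x3058001)], [(nat_lit 0x2a04001), (nat_lit 0x29e4001), (nat_lit 0x29e5001), (nat_lit 0x3056001), (nat_lit 0x29e3001), (nat_lit 0x29e6001)], [(nat_lit 0x3313001), (nat_lit 0x3443001), (nat_lit 0x2e83001), (nat_lit 0x3316001), (nat_lit 0x343d001), (nat_lit 0x333d001)], [(nat_lit 0x3334001), (nat_lit 0x3251001), (nat_lit 0x333b001), (nat_lit 0x2e85001), (nat_lit 0x3444001), (nat_lit 0x2e84001)], [(nat_lit 0x3453001), (nat_lit 0x2e92001), (nat_lit 0x2e93001), (nat_lit 0x344f001), (nat_lit 0x2e94001), (nat_lit 0x2e95001)], [(nat_lit 0x345b001), (nat_lit 0x3450001), (nat_lit 0x3457001), (nat_lit 0x2e96001), (nat_lit 0x3451001), (nat_lit 0x2e97001)], [(nat_lit 0x2e9b001), (nat_lit 0x2e9c001), (nat_lit 0x3454001), (nat_lit 0x2e9d001), (nat_lit 0x2e9e001), (nat_lit 0x2e9f001)], [(nat_lit 0x2a43001), (nat_lit 0x2a44001), (nat_lit 0x2a45001), (nat_lit 0x2a46001), (nat_lit 0x2a47001), (nat_lit 0x2a42001)], [(nat_lit 0x2e08001), (nat_lit 0x3062001), (nat_lit 0x2e09001), (nat_lit 0x327d001), (nat_lit 0x2e07001), (nat_lit 0x2e0a001)], [(nat_lit 0x2c65001), (nat_lit 0x3276001), (nat_lit 0x3278001), (nat_lit 0x2c64001), (nat_lit 0x327a001), (nat_lit 0x2ea6001)], [(nat_lit 0x2ea8001), (nat_lit 0x2bd2001), (nat_lit 0x2bd3001), (nat_lit 0x2f5a001), (nat_lit 0x2f47001), (nat_lit 0x2bd4001)], [(nat_lit 0x2ba5001), (nat_lit 0x2ba3001), (nat_lit 0x2ba6001), (nat_lit 0x2ba4001), (nat_lit 0x2ba2001), (nat_lit 0x2be1001)], [(nat_lit 0x2ea1001), (nat_lit 0x2ea2001), (nat_lit 0x2ea0001), (nat_lit 0x2ea3001), (nat_lit 0x3227001), (nat_lit 0x33ce001)], [(nat_lit 0x2ba8001), (nat_lit 0x2ba9001), (nat_lit 0x3226001), (nat_lit 0x2baa001), (nat_lit 0x2bab001), (nat_lit 0x2bac001)], [(nat_lit 0x2ea4001), (nat_lit 0x3284001), (nat_lit 0x3413001), (nat_lit 0x2ea5001), (nat_lit 0x309c001), (nat_lit 0x2ea6001)], [(nat_lit 0x3412001), (nat_lit 0x2e64001), (nat_lit 0x2e61001), (nat_lit 0x2e60001), (nat_lit 0x3096001), (nat_lit 0x2e62001)], [(nat_lit 0x2ea8001), (nat_lit 0x33cb001), (nat_lit 0x2ea7001), (nat_lit 0x2eaa001), (nat_lit 0x33cd001), (nat_lit 0x2ea9001)], [(nat_lit 0x2cd9001), (nat_lit 0x2cda001), (nat_lit 0x2cdb001), (nat_lit 0x2f8e001), (nat_lit 0x32f4001), (nat_lit 0x2cdc001)], [(nat_lit 0x2ce5001), (nat_lit 0x2ce6001), (nat_lit 0x32f3001), (nat_lit 0x2ce7001), (nat_lit 0x2ce8001), (nat_lit 0x2ce9001)], [(nat_lit 0x2b28001), (nat_lit 0x2b29001), (nat_lit 0x2ddb001), (nat_lit 0x2b2a001), (nat_lit 0x2b2b001), (nat_lit 0x2b2c001)], [(nat_lit 0x2dff001), (nat_lit 0x2e00001), (nat_lit 0x2e01001), (nat_lit 0x2e02001), (nat_lit 0x31a2001), (nat_lit 0x2e03001)], [(nat_lit 0x319e001), (nat_lit 0x2b1e001), (nat_lit 0x2b1f001), (nat_lit 0x2c4b001), (nat_lit 0x2b20001), (nat_lit 0x2b1d001)], [(nat_lit 0x2dfc001), (nat_lit 0x2dfd001), (nat_lit 0x31f7001), (nat_lit 0x2dfb001), (nat_lit 0x2dfe001), (nat_lit 0x3196001)], [(nat_lit 0x2dda001), (nat_lit 0x2b18001), (nat_lit 0x2b19001), (nat_lit 0x3194001), (nat_lit 0x2b1a001), (nat_lit 0x2b1b001)], [(nat_lit 0x2be5001), (nat_lit 0x2be4001), (nat_lit 0x323e001), (nat_lit 0x2be6001), (nat_lit 0x2be7001), (nat_lit 0x2be8001)], [(nat_lit 0x323f001), (nat_lit 0x2e52001), (nat_lit 0x2be9001), (nat_lit 0x2beb001), (nat_lit 0x2bea001), (nat_lit 0x2e4f001)], [(nat_lit 0x3250001), (nat_lit 0x2e59001), (nat_lit 0x3368001), (nat_lit 0x2d94001), (nat_lit 0x2d95001), (nat_lit 0x3366001)], [(nat_lit 0x2c25001), (nat_lit 0x3261001), (nat_lit 0x2c26001), (nat_lit 0x3240001), (nat_lit 0x2c27001), (nat_lit 0x3260001)], [(nat_lit 0x2b3b001), (nat_lit 0x2b3c001), (nat_lit 0x31b0001), (nat_lit 0x2b3a001), (nat_lit 0x2b3d001), (nat_lit 0x31b5001)], [(nat_lit 0x2b3f001), (nat_lit 0x2b40001), (nat_lit 0x2b41001), (nat_lit 0x31b9001), (nat_lit 0x2b42001), (nat_lit 0x2b3e001)], [(nat_lit 0x2b6c001), (nat_lit 0x2bfc001), (nat_lit 0x31e2001), (nat_lit 0x2b6b001), (nat_lit 0x2b6d001), (nat_lit 0x31e6001)], [(nat_lit 0x2b6f001), (nat_lit 0x2c01001), (nat_lit 0x2b70001), (nat_lit 0x31e8001), (nat_lit 0x2c7f001), (nat_lit 0x2b6e001)], [(nat_lit 0x31b1001), (nat_lit 0x31e4001), (nat_lit 0x2b71001), (nat_lit 0x31e9001), (nat_lit 0x31e5001), (nat_lit 0x31ed001)], [(nat_lit 0x31b6001), (nat_lit 0x2c05001), (nat_lit 0x31ef001), (nat_lit 0x2b73001), (nat_lit 0x31f1001), (nat_lit 0x2b72001)], [(nat_lit 0x2b8e001), (nat_lit 0x2b8f001), (nat_lit 0x3213001), (nat_lit 0x2b90001), (nat_lit 0x2b91001), (nat_lit 0x3218001)], [(nat_lit 0x2b92001), (nat_lit 0x2b93001), (nat_lit 0x2b94001), (nat_lit 0x3217001), (nat_lit 0x2b95001), (nat_lit 0x2b96001)], [(nat_lit 0x3212001), (nat_lit 0x320b001), (nat_lit 0x2b89001), (nat_lit 0x30bf001), (nat_lit 0x2b8a001), (nat_lit 0x320f001)], [(nat_lit 0x3215001), (nat_lit 0x2b8c001), (nat_lit 0x3211001), (nat_lit 0x2b8d001), (nat_lit 0x3131001), (nat_lit 0x2b8b001)], [(nat_lit 0x2c3f001), (nat_lit 0x2b97001), (nat_lit 0x320c001), (nat_lit 0x2b98001), (nat_lit 0x2b99001), (nat_lit 0x2b9a001)], [(nat_lit 0x2ba0001), (nat_lit 0x3225001), (nat_lit 0x2ba1001), (nat_lit 0x3223001), (nat_lit 0x2bf8001), (nat_lit 0x3228001)], [(nat_lit 0x321f001), (nat_lit 0x2b9b001), (nat_lit 0x2b9c001), (nat_lit 0x3219001), (nat_lit 0x2bd8001), (nat_lit 0x321b001)], [(nat_lit 0x3222001), (nat_lit 0x321a001), (nat_lit 0x3220001), (nat_lit 0x2b9d001), (nat_lit 0x3221001), (nat_lit 0x30ab001)], [(nat_lit 0x3224001), (nat_lit 0x321c001), (nat_lit 0x2b9f001), (nat_lit 0x30aa001), (nat_lit 0x2ba7001), (nat_lit 0x2b9e001)], [(nat_lit 0x2bb5001), (nat_lit 0x2bb3001), (nat_lit 0x321d001), (nat_lit 0x2bb4001), (nat_lit 0x2bdd001), (nat_lit 0x2bb2001)], [(nat_lit 0x2bb0001), (nat_lit 0x2bae001), (nat_lit 0x3229001), (nat_lit 0x2bad001), (nat_lit 0x2baf001), (nat_lit 0x2bb1001)], [(nat_lit 0x2b82001), (nat_lit 0x3057001), (nat_lit 0x3203001), (nat_lit 0x2b81001), (nat_lit 0x2b83001), (nat_lit 0x3206001)], [(nat_lit 0x29f0001), (nat_lit 0x29fb001), (nat_lit 0x2a06001), (nat_lit 0x305e001), (nat_lit 0x29f1001), (nat_lit 0x3066001)], [(nat_lit 0x305d001), (nat_lit 0x29e8001), (nat_lit 0x3059001), (nat_lit 0x29e7001), (nat_lit 0x29e9001), (nat_lit 0x29ea001)], [(nat_lit 0x2b49001), (nat_lit 0x2b4a001), (nat_lit 0x2b4b001), (nat_lit 0x31c0001), (nat_lit 0x2b4c001), (nat_lit 0x31c6001)], [(nat_lit 0x2b7c001), (nat_lit 0x31bf001), (nat_lit 0x31ff001), (nat_lit 0x2b7d001), (nat_lit 0x2b83001), (nat_lit 0x3202001)], [(nat_lit 0x2b7e001), (nat_lit 0x31c3001), (nat_lit 0x2b7f001), (nat_lit 0x3201001), (nat_lit 0x2bef001), (nat_lit 0x2b80001)], [(nat_lit 0x2b82001), (nat_lit 0x2c4e001), (nat_lit 0x31f2001), (nat_lit 0x2b74001), (nat_lit 0x2b75001), (nat_lit 0x31f4001)], [(nat_lit 0x2b85001), (nat_lit 0x2c52001), (nat_lit 0x2b77001), (nat_lit 0x31f5001), (nat_lit 0x2b78001), (nat_lit 0x2b76001)], [(nat_lit 0x31fe001), (nat_lit 0x31f6001), (nat_lit 0x2b79001), (nat_lit 0x31f8001), (nat_lit 0x31f3001), (nat_lit 0x31fb001)], [(nat_lit 0x3200001), (nat_lit 0x2c42001), (nat_lit 0x31fc001), (nat_lit 0x2b7b001), (nat_lit 0x2d95001), (nat_lit 0x2b7a001)], [(nat_lit 0x2f8c001), (nat_lit 0x2a13001), (nat_lit 0x2f92001), (nat_lit 0x2a14001), (nat_lit 0x3085001), (nat_lit 0x2a15001)], [(nat_lit 0x2a10001), (nat_lit 0x3084001), (nat_lit 0x2a11001), (nat_lit 0x307f001), (nat_lit 0x2a12001), (nat_lit 0x3083001)], [(nat_lit 0x2a16001), (nat_lit 0x2a1f001), (nat_lit 0x3081001), (nat_lit 0x2a17001), (nat_lit 0x2a18001), (nat_lit 0x2a19001)], [(nat_lit 0x2a1e001), (nat_lit 0x2a1f001), (nat_lit 0x308c001), (nat_lit 0x2a20001), (nat_lit 0x2a21001), (nat_lit 0x2a22001)], [(nat_lit 0x2c8d001), (nat_lit 0x2f85001), (nat_lit 0x2c96001), (nat_lit 0x3079001), (nat_lit 0x2a0b001), (nat_lit 0x2c91001)], [(nat_lit 0x307e001), (nat_lit 0x2f87001), (nat_lit 0x307b001), (nat_lit 0x2a0c001), (nat_lit 0x307a001), (nat_lit 0x307c001)], [(nat_lit 0x3080001), (nat_lit 0x2f70001), (nat_lit 0x2a0e001), (nat_lit 0x307d001), (nat_lit 0x2a0f001), (nat_lit 0x2a0d001)], [(nat_lit 0x308b001), (nat_lit 0x2a1b001), (nat_lit 0x2a1a001), (nat_lit 0x3086001), (nat_lit 0x2a1c001), (nat_lit 0x2a1d001)], [(nat_lit 0x29fa001), (nat_lit 0x29fb001), (nat_lit 0x29fc001), (nat_lit 0x306d001), (nat_lit 0x29f9001), (nat_lit 0x2e0a001)], [(nat_lit 0x2a2d001), (nat_lit 0x2a2e001), (nat_lit 0x3098001), (nat_lit 0x2a2f001), (nat_lit 0x3070001), (nat_lit 0x309d001)], [(nat_lit 0x2a3a001), (nat_lit 0x30b0001), (nat_lit 0x2a3b001), (nat_lit 0x30ae001), (nat_lit 0x2a3c001), (nat_lit 0x308f001)], [(nat_lit 0x29f6001), (nat_lit 0x29f7001), (nat_lit 0x29f8001), (nat_lit 0x3035001), (nat_lit 0x29f5001), (nat_lit 0x2d9d001)], [(nat_lit 0x306e001), (nat_lit 0x2a24001), (nat_lit 0x3090001), (nat_lit 0x2a23001), (nat_lit 0x2a25001), (nat_lit 0x2d85001)], [(nat_lit 0x2e08001), (nat_lit 0x2a27001), (nat_lit 0x2d9c001), (nat_lit 0x2d83001), (nat_lit 0x2a47001), (nat_lit 0x2a26001)], [(nat_lit 0x3097001), (nat_lit 0x3092001), (nat_lit 0x2a28001), (nat_lit 0x3093001), (nat_lit 0x3091001), (nat_lit 0x3094001)], [(nat_lit 0x30a1001), (nat_lit 0x2a35001), (nat_lit 0x2a36001), (nat_lit 0x309e001), (nat_lit 0x2a37001), (nat_lit 0x2a38001)], [(nat_lit 0x30ac001), (nat_lit 0x309f001), (nat_lit 0x30a5001), (nat_lit 0x2a39001), (nat_lit 0x30a9001), (nat_lit 0x3088001)], [(nat_lit 0x2a3d001), (nat_lit 0x2a3e001), (nat_lit 0x30a2001), (nat_lit 0x2a3f001), (nat_lit 0x2a40001), (nat_lit 0x2a41001)], [(nat_lit 0x2eac001), (nat_lit 0x2ead001), (nat_lit 0x2eaf001), (nat_lit 0x2eab001), (nat_lit 0x2eae001), (nat_lit 0x2eb0001)], [(nat_lit 0x2eb2001), (nat_lit 0x2eb3001), (nat_lit 0x2eb4001), (nat_lit 0x2eb5001), (nat_lit 0x2eb6001), (nat_lit 0x2eb1001)], [(nat_lit 0x33f0001), (nat_lit 0x2e2b001), (nat_lit 0x2e2c001), (nat_lit 0x2e7a001), (nat_lit 0x2e2a001), (nat_lit 0x2e2d001)], [(nat_lit 0x2f58001), (nat_lit 0x2f57001), (nat_lit 0x2f59001), (nat_lit 0x2f5a001), (nat_lit 0x2f5b001), (nat_lit 0x2f5c001)], [(nat_lit 0x2f52001), (nat_lit 0x2f56001), (nat_lit 0x2f53001), (nat_lit 0x2f54001), (nat_lit 0x30a3001), (nat_lit 0x2f55001)], [(nat_lit 0x2f48001), (nat_lit 0x2f4c001), (nat_lit 0x2f49001), (nat_lit 0x33cc001), (nat_lit 0x2f4a001), (nat_lit 0x2f4b001)], [(nat_lit 0x33ca001), (nat_lit 0x2f44001), (nat_lit 0x2f45001), (nat_lit 0x2f43001), (nat_lit 0x2f47001), (nat_lit 0x2f46001)], [(nat_lit 0x2f4e001), (nat_lit 0x2f4f001), (nat_lit 0x2f50001), (nat_lit 0x2f51001), (nat_lit 0x321e001), (nat_lit 0x2f4d001)], [(nat_lit 0x2af3001), (nat_lit 0x2af2001), (nat_lit 0x2af7001), (nat_lit 0x2af4001), (nat_lit 0x2af5001), (nat_lit 0x2af6001)], [(nat_lit 0x2aac001), (nat_lit 0x2aab001), (nat_lit 0x3120001), (nat_lit 0x2aad001), (nat_lit 0x2aae001), (nat_lit 0x2aaf001)], [(nat_lit 0x3121001), (nat_lit 0x30c3001), (nat_lit 0x2ab5001), (nat_lit 0x3129001), (nat_lit 0x2ab6001), (nat_lit 0x2ab7001)], [(nat_lit 0x30c6001), (nat_lit 0x2a5b001), (nat_lit 0x30c2001), (nat_lit 0x2a5a001), (nat_lit 0x2a5c001), (nat_lit 0x2a5d001)], [(nat_lit 0x2a7c001), (nat_lit 0x2a7b001), (nat_lit 0x2a7d001), (nat_lit 0x2e02001), (nat_lit 0x30ee001), (nat_lit 0x2a7e001)], [(nat_lit 0x2a6e001), (nat_lit 0x2e00001), (nat_lit 0x2a6f001), (nat_lit 0x2a70001), (nat_lit 0x30e0001), (nat_lit 0x2a71001)], [(nat_lit 0x2a78001), (nat_lit 0x30eb001), (nat_lit 0x2a79001), (nat_lit 0x30e6001), (nat_lit 0x2a7a001), (nat_lit 0x30ea001)], [(nat_lit 0x2a7f001), (nat_lit 0x2a80001), (nat_lit 0x30e8001), (nat_lit 0x2a81001), (nat_lit 0x2a82001), (nat_lit 0x2a83001)], [(nat_lit 0x2a63001), (nat_lit 0x2a64001), (nat_lit 0x30d1001), (nat_lit 0x2a65001), (nat_lit 0x2a66001), (nat_lit 0x2a67001)], [(nat_lit 0x2a6b001), (nat_lit 0x2cda001), (nat_lit 0x2a68001), (nat_lit 0x2a69001), (nat_lit 0x30d5001), (nat_lit 0x2a6a001)], [(nat_lit 0x30de001), (nat_lit 0x2a6d001), (nat_lit 0x30d7001), (nat_lit 0x30d8001), (nat_lit 0x2a6c001), (nat_lit 0x30db001)], [(nat_lit 0x30e5001), (nat_lit 0x2a73001), (nat_lit 0x30e1001), (nat_lit 0x2a72001), (nat_lit 0x30da001), (nat_lit 0x30e2001)], [(nat_lit 0x30e7001), (nat_lit 0x2a75001), (nat_lit 0x2a76001), (nat_lit 0x30e4001), (nat_lit 0x2a77001), (nat_lit 0x2a74001)], [(nat_lit 0x30d0001), (nat_lit 0x3037001), (nat_lit 0x2a60001), (nat_lit 0x30cb001), (nat_lit 0x2a61001), (nat_lit 0x2a62001)], [(nat_lit 0x303a001), (nat_lit 0x29cb001), (nat_lit 0x3036001), (nat_lit 0x29ca001), (nat_lit 0x29cc001), (nat_lit 0x29cd001)], [(nat_lit 0x2acf001), (nat_lit 0x2ad0001), (nat_lit 0x2ad1001), (nat_lit 0x3145001), (nat_lit 0x2ad2001), (nat_lit 0x314b001)], [(nat_lit 0x2aec001), (nat_lit 0x3144001), (nat_lit 0x3164001), (nat_lit 0x2aed001), (nat_lit 0x2aee001), (nat_lit 0x3169001)], [(nat_lit 0x2aef001), (nat_lit 0x3148001), (nat_lit 0x2af0001), (nat_lit 0x3168001), (nat_lit 0x314a001), (nat_lit 0x2af1001)], [(nat_lit 0x2ad3001), (nat_lit 0x2ad4001), (nat_lit 0x3149001), (nat_lit 0x311d001), (nat_lit 0x2ad5001), (nat_lit 0x2ad6001)], [(nat_lit 0x2aa7001), (nat_lit 0x2aa8001), (nat_lit 0x3118001), (nat_lit 0x2aa9001), (nat_lit 0x2aaa001), (nat_lit 0x311f001)], [(nat_lit 0x2aa1001), (nat_lit 0x311a001), (nat_lit 0x2aa2001), (nat_lit 0x3110001), (nat_lit 0x3119001), (nat_lit 0x30d4001)], [(nat_lit 0x2ad8001), (nat_lit 0x2ad9001), (nat_lit 0x2ada001), (nat_lit 0x314c001), (nat_lit 0x2ad7001), (nat_lit 0x3150001)], [(nat_lit 0x2adc001), (nat_lit 0x2add001), (nat_lit 0x3155001), (nat_lit 0x2adb001), (nat_lit 0x314f001), (nat_lit 0x3159001)], [(nat_lit 0x2adf001), (nat_lit 0x2ae0001), (nat_lit 0x2ae1001), (nat_lit 0x315d001), (nat_lit 0x2ae2001), (nat_lit 0x2ade001)], [(nat_lit 0x2ae4001), (nat_lit 0x314e001), (nat_lit 0x30cd001), (nat_lit 0x2ae3001), (nat_lit 0x2ae5001), (nat_lit 0x310b001)], [(nat_lit 0x2ae7001), (nat_lit 0x3152001), (nat_lit 0x2ae8001), (nat_lit 0x310a001), (nat_lit 0x313e001), (nat_lit 0x2ae6001)], [(nat_lit 0x2ac6001), (nat_lit 0x2ac7001), (nat_lit 0x2ac8001), (nat_lit 0x3136001), (nat_lit 0x2ac5001), (nat_lit 0x313a001)], [(nat_lit 0x3163001), (nat_lit 0x315e001), (nat_lit 0x2ae9001), (nat_lit 0x315f001), (nat_lit 0x30cf001), (nat_lit 0x3161001)], [(nat_lit 0x3167001), (nat_lit 0x315b001), (nat_lit 0x3162001), (nat_lit 0x2aeb001), (nat_lit 0x3166001), (nat_lit 0x2aea001)], [(nat_lit 0x3147001), (nat_lit 0x2acc001), (nat_lit 0x2acd001), (nat_lit 0x3142001), (nat_lit 0x2ace001), (nat_lit 0x2acb001)], [(nat_lit 0x3143001), (nat_lit 0x2aca001), (nat_lit 0x313f001), (nat_lit 0x2ac9001), (nat_lit 0x3139001), (nat_lit 0x3140001)], [(nat_lit 0x311b001), (nat_lit 0x2aa4001), (nat_lit 0x3115001), (nat_lit 0x2aa5001), (nat_lit 0x2aa6001), (nat_lit 0x2aa3001)], [(nat_lit 0x3117001), (nat_lit 0x3104001), (nat_lit 0x2aa0001), (nat_lit 0x3112001), (nat_lit 0x2a9f001), (nat_lit 0x3113001)], [(nat_lit 0x3107001), (nat_lit 0x2a9c001), (nat_lit 0x2a9d001), (nat_lit 0x3101001), (nat_lit 0x3103001), (nat_lit 0x3039001)], [(nat_lit 0x310e001), (nat_lit 0x3102001), (nat_lit 0x3109001), (nat_lit 0x2a9e001), (nat_lit 0x310d001), (nat_lit 0x30cc001)], [(nat_lit 0x3124001), (nat_lit 0x2ab1001), (nat_lit 0x3105001), (nat_lit 0x2ab2001), (nat_lit 0x2ab0001), (nat_lit 0x2ab3001)], [(nat_lit 0x2ab4001), (nat_lit 0x30c7001), (nat_lit 0x3108001), (nat_lit 0x2e9d001), (nat_lit 0x3127001), (nat_lit 0x303e001)], [(nat_lit 0x2f91001), (nat_lit 0x2f90001), (nat_lit 0x2f92001), (nat_lit 0x2f93001), (nat_lit 0x30b2001), (nat_lit 0x2f94001)], [(nat_lit 0x2f80001), (nat_lit 0x2f7f001), (nat_lit 0x2f81001), (nat_lit 0x2f82001), (nat_lit 0x2f83001), (nat_lit 0x34be001)], [(nat_lit 0x2f8c001), (nat_lit 0x2f8b001), (nat_lit 0x2f8d001), (nat_lit 0x2f8e001), (nat_lit 0x34ec001), (nat_lit 0x2f8f001)], [(nat_lit 0x2f7e001), (nat_lit 0x2f7b001), (nat_lit 0x2f7a001), (nat_lit 0x2f7d001), (nat_lit 0x2f7c001), (nat_lit 0x34c9001)], [(nat_lit 0x2f41001), (nat_lit 0x34bc001), (nat_lit 0x2f40001), (nat_lit 0x34c5001), (nat_lit 0x34b9001), (nat_lit 0x2f42001)], [(nat_lit 0x2f88001), (nat_lit 0x34e9001), (nat_lit 0x2f89001), (nat_lit 0x34e8001), (nat_lit 0x2f8a001), (nat_lit 0x34ba001)], [(nat_lit 0x2f31001), (nat_lit 0x2f30001), (nat_lit 0x34b7001), (nat_lit 0x2f32001), (nat_lit 0x2f33001), (nat_lit 0x2f34001)], [(nat_lit 0x2f36001), (nat_lit 0x2f35001), (nat_lit 0x313d001), (nat_lit 0x2f37001), (nat_lit 0x2f38001), (nat_lit 0x2f39001)], [(nat_lit 0x2f75001), (nat_lit 0x2f79001), (nat_lit 0x2f76001), (nat_lit 0x2f77001), (nat_lit 0x2f78001), (nat_lit 0x2fb1001)], [(nat_lit 0x2cc4001), (nat_lit 0x2cc5001), (nat_lit 0x2cc6001), (nat_lit 0x2cc7001), (nat_lit 0x2cc3001), (nat_lit 0x2fad001)], [(nat_lit 0x2dc0001), (nat_lit 0x2dc1001), (nat_lit 0x2dc2001), (nat_lit 0x338c001), (nat_lit 0x2dc3001), (nat_lit 0x2dc4001)], [(nat_lit 0x2cd1001), (nat_lit 0x2cc0001), (nat_lit 0x2cd2001), (nat_lit 0x2cc1001), (nat_lit 0x2cc2001), (nat_lit 0x32a7001)], [(nat_lit 0x2ce3001), (nat_lit 0x2c92001), (nat_lit 0x2cba001), (nat_lit 0x32a6001), (nat_lit 0x32b2001), (nat_lit 0x2c93001)], [(nat_lit 0x30d6001), (nat_lit 0x2f85001), (nat_lit 0x30df001), (nat_lit 0x34e3001), (nat_lit 0x2f84001), (nat_lit 0x32b3001)], [(nat_lit 0x34c6001), (nat_lit 0x2fac001), (nat_lit 0x34c8001), (nat_lit 0x2f73001), (nat_lit 0x34e2001), (nat_lit 0x2f74001)], [(nat_lit 0x34b8001), (nat_lit 0x2f70001), (nat_lit 0x2f6f001), (nat_lit 0x34df001), (nat_lit 0x2f71001), (nat_lit 0x2f72001)], [(nat_lit 0x34e7001), (nat_lit 0x2f87001), (nat_lit 0x34e6001), (nat_lit 0x2f86001), (nat_lit 0x34e5001), (nat_lit 0x34e1001)], [(nat_lit 0x313b001), (nat_lit 0x2f69001), (nat_lit 0x2f6a001), (nat_lit 0x34dc001), (nat_lit 0x2f6b001), (nat_lit 0x2f68001)], [(nat_lit 0x310c001), (nat_lit 0x34db001), (nat_lit 0x310f001), (nat_lit 0x2f6e001), (nat_lit 0x34de001), (nat_lit 0x2f6d001)], [(nat_lit 0x3137001), (nat_lit 0x2f67001), (nat_lit 0x34d9001), (nat_lit 0x2f66001), (nat_lit 0x3146001), (nat_lit 0x34da001)], [(nat_lit 0x30ce001), (nat_lit 0x34dd001), (nat_lit 0x2f6c001), (nat_lit 0x30d2001), (nat_lit 0x3165001), (nat_lit 0x3111001)], [(nat_lit 0x314d001), (nat_lit 0x3138001), (nat_lit 0x3191001), (nat_lit 0x2b15001), (nat_lit 0x2b14001), (nat_lit 0x3192001)], [(nat_lit 0x3151001), (nat_lit 0x313c001), (nat_lit 0x2b17001), (nat_lit 0x3193001), (nat_lit 0x3154001), (nat_lit 0x2b16001)], [(nat_lit 0x3156001), (nat_lit 0x318b001), (nat_lit 0x2b13001), (nat_lit 0x318c001), (nat_lit 0x3190001), (nat_lit 0x3189001)], [(nat_lit 0x315a001), (nat_lit 0x3141001), (nat_lit 0x3186001), (nat_lit 0x2b11001), (nat_lit 0x318a001), (nat_lit 0x2b12001)], [(nat_lit 0x2b05001), (nat_lit 0x3180001), (nat_lit 0x2b06001), (nat_lit 0x3175001), (nat_lit 0x3122001), (nat_lit 0x317f001)], [(nat_lit 0x2b0b001), (nat_lit 0x311c001), (nat_lit 0x317d001), (nat_lit 0x2b0c001), (nat_lit 0x3184001), (nat_lit 0x2b0d001)], [(nat_lit 0x316a001), (nat_lit 0x2afe001), (nat_lit 0x2aff001), (nat_lit 0x2fb8001), (nat_lit 0x30c4001), (nat_lit 0x2b00001)], [(nat_lit 0x3173001), (nat_lit 0x2fb9001), (nat_lit 0x2fc6001), (nat_lit 0x2b01001), (nat_lit 0x2fbb001), (nat_lit 0x316d001)], [(nat_lit 0x317c001), (nat_lit 0x2b03001), (nat_lit 0x2b04001), (nat_lit 0x3170001), (nat_lit 0x3177001), (nat_lit 0x2b02001)], [(nat_lit 0x3181001), (nat_lit 0x2b08001), (nat_lit 0x3179001), (nat_lit 0x2b09001), (nat_lit 0x2b07001), (nat_lit 0x2b0a001)], [(nat_lit 0x2b0e001), (nat_lit 0x3125001), (nat_lit 0x316b001), (nat_lit 0x2b0f001), (nat_lit 0x30c9001), (nat_lit 0x2b10001)], [(nat_lit 0x2ed3001), (nat_lit 0x2ed4001), (nat_lit 0x346d001), (nat_lit 0x2ed2001), (nat_lit 0x2ed5001), (nat_lit 0x3470001)], [(nat_lit 0x2ed7001), (nat_lit 0x2ed8001), (nat_lit 0x3153001), (nat_lit 0x3473001), (nat_lit 0x2ed9001), (nat_lit 0x2ed6001)], [(nat_lit 0x2ee1001), (nat_lit 0x33e2001), (nat_lit 0x2ee0001), (nat_lit 0x2ee3001), (nat_lit 0x2ee2001), (nat_lit 0x2ee4001)], [(nat_lit 0x2ee6001), (nat_lit 0x3472001), (nat_lit 0x2ee7001), (nat_lit 0x2ee8001), (nat_lit 0x3478001), (nat_lit 0x2ee5001)], [(nat_lit 0x2eea001), (nat_lit 0x2eeb001), (nat_lit 0x2eec001), (nat_lit 0x347c001), (nat_lit 0x2ee9001), (nat_lit 0x2eed001)], [(nat_lit 0x2eef001), (nat_lit 0x2ef0001), (nat_lit 0x3480001), (nat_lit 0x2eee001), (nat_lit 0x2ef1001), (nat_lit 0x347f001)], [(nat_lit 0x2f2d001), (nat_lit 0x34b4001), (nat_lit 0x2f2e001), (nat_lit 0x34b2001), (nat_lit 0x2f2f001), (nat_lit 0x30a4001)], [(nat_lit 0x34c0001), (nat_lit 0x2f3b001), (nat_lit 0x34bb001), (nat_lit 0x2f3a001), (nat_lit 0x34b5001), (nat_lit 0x2f3c001)], [(nat_lit 0x2efd001), (nat_lit 0x2efc001), (nat_lit 0x3493001), (nat_lit 0x2efe001), (nat_lit 0x2eff001), (nat_lit 0x3492001)], [(nat_lit 0x2f03001), (nat_lit 0x2f04001), (nat_lit 0x2f05001), (nat_lit 0x3491001), (nat_lit 0x2f06001), (nat_lit 0x2f07001)], [(nat_lit 0x3481001), (nat_lit 0x34a8001), (nat_lit 0x2f28001), (nat_lit 0x34aa001), (nat_lit 0x3495001), (nat_lit 0x34ab001)], [(nat_lit 0x347d001), (nat_lit 0x2f2a001), (nat_lit 0x34ac001), (nat_lit 0x2f2b001), (nat_lit 0x34ad001), (nat_lit 0x2f29001)], [(nat_lit 0x2ef5001), (nat_lit 0x3487001), (nat_lit 0x2ef6001), (nat_lit 0x33dc001), (nat_lit 0x2ef7001), (nat_lit 0x346b001)], [(nat_lit 0x2ef9001), (nat_lit 0x348f001), (nat_lit 0x346a001), (nat_lit 0x2efa001), (nat_lit 0x348d001), (nat_lit 0x2efb001)], [(nat_lit 0x34f4001), (nat_lit 0x2f95001), (nat_lit 0x34a9001), (nat_lit 0x34ed001), (nat_lit 0x3488001), (nat_lit 0x34f1001)], [(nat_lit 0x2f97001), (nat_lit 0x34ee001), (nat_lit 0x2f98001), (nat_lit 0x2f96001), (nat_lit 0x2f9a001), (nat_lit 0x2f99001)], [(nat_lit 0x2f9c001), (nat_lit 0x34f2001), (nat_lit 0x2f9d001), (nat_lit 0x2f9e001), (nat_lit 0x34f5001), (nat_lit 0x2f9b001)], [(nat_lit 0x3479001), (nat_lit 0x34ae001), (nat_lit 0x34f7001), (nat_lit 0x34af001), (nat_lit 0x2f9f001), (nat_lit 0x348e001)], [(nat_lit 0x34b3001), (nat_lit 0x3087001), (nat_lit 0x34b0001), (nat_lit 0x2f2c001), (nat_lit 0x34b1001), (nat_lit 0x30a0001)], [(nat_lit 0x2f3d001), (nat_lit 0x34c1001), (nat_lit 0x2f3e001), (nat_lit 0x34c3001), (nat_lit 0x308e001), (nat_lit 0x2f3f001)], [(nat_lit 0x2eb8001), (nat_lit 0x2eb9001), (nat_lit 0x3462001), (nat_lit 0x2eb7001), (nat_lit 0x2eba001), (nat_lit 0x2ebb001)], [(nat_lit 0x2ebd001), (nat_lit 0x2ebe001), (nat_lit 0x2ebf001), (nat_lit 0x2ec0001), (nat_lit 0x2ec1001), (nat_lit 0x2ebc001)], [(nat_lit 0x312c001), (nat_lit 0x3500001), (nat_lit 0x2fa5001), (nat_lit 0x337f001), (nat_lit 0x3464001), (nat_lit 0x3239001)], [(nat_lit 0x2ec3001), (nat_lit 0x3466001), (nat_lit 0x2ec2001), (nat_lit 0x3468001), (nat_lit 0x2ec4001), (nat_lit 0x33de001)], [(nat_lit 0x2e47001), (nat_lit 0x2e48001), (nat_lit 0x33db001), (nat_lit 0x2e49001), (nat_lit 0x2e4a001), (nat_lit 0x2e4b001)], [(nat_lit 0x34fe001), (nat_lit 0x2fa4001), (nat_lit 0x34ff001), (nat_lit 0x34f3001), (nat_lit 0x3467001), (nat_lit 0x34f0001)], [(nat_lit 0x2fa6001), (nat_lit 0x2fa7001), (nat_lit 0x2fa8001), (nat_lit 0x2fa9001), (nat_lit 0x2faa001), (nat_lit 0x34c4001)], [(nat_lit 0x2ec6001), (nat_lit 0x2ec5001), (nat_lit 0x2ec7001), (nat_lit 0x2ec8001), (nat_lit 0x2ec9001), (nat_lit 0x2eca001)], [(nat_lit 0x33ea001), (nat_lit 0x2e24001), (nat_lit 0x2e25001), (nat_lit 0x33e7001), (nat_lit 0x2e26001), (nat_lit 0x2e23001)], [(nat_lit 0x3469001), (nat_lit 0x33e6001), (nat_lit 0x2ef3001), (nat_lit 0x2ef4001), (nat_lit 0x3483001), (nat_lit 0x2ef2001)], [(nat_lit 0x33da001), (nat_lit 0x2e1c001), (nat_lit 0x2e1d001), (nat_lit 0x2e20001), (nat_lit 0x2e1e001), (nat_lit 0x2e1f001)], [(nat_lit 0x2fa2001), (nat_lit 0x34fd001), (nat_lit 0x33f1001), (nat_lit 0x34fc001), (nat_lit 0x33ec001), (nat_lit 0x33fc001)], [(nat_lit 0x34fb001), (nat_lit 0x2fa1001), (nat_lit 0x34f8001), (nat_lit 0x2fa0001), (nat_lit 0x34f9001), (nat_lit 0x33e4001)], [(nat_lit 0x33f9001), (nat_lit 0x2e36001), (nat_lit 0x2e37001), (nat_lit 0x33e3001), (nat_lit 0x2e35001), (nat_lit 0x2e38001)], [(nat_lit 0x34f6001), (nat_lit 0x34fa001), (nat_lit 0x347a001), (nat_lit 0x3485001), (nat_lit 0x2fa3001), (nat_lit 0x3486001)], [(nat_lit 0x2faf001), (nat_lit 0x32e3001), (nat_lit 0x2fb0001), (nat_lit 0x32e0001), (nat_lit 0x3082001), (nat_lit 0x2fb1001)], [(nat_lit 0x32de001), (nat_lit 0x2fac001), (nat_lit 0x2fae001), (nat_lit 0x2fab001), (nat_lit 0x3501001), (nat_lit 0x2fad001)], [(nat_lit 0x29c8001), (nat_lit 0x29c9001), (nat_lit 0x3030001), (nat_lit 0x29c7001), (nat_lit 0x3032001), (nat_lit 0x302f001)], [(nat_lit 0x29c3001), (nat_lit 0x29c4001), (nat_lit 0x29c2001), (nat_lit 0x302c001), (nat_lit 0x29c5001), (nat_lit 0x29c6001)], [(nat_lit 0x3031001), (nat_lit 0x3043001), (nat_lit 0x29d5001), (nat_lit 0x3048001), (nat_lit 0x3049001), (nat_lit 0x3044001)], [(nat_lit 0x3033001), (nat_lit 0x29d7001), (nat_lit 0x304a001), (nat_lit 0x29d8001), (nat_lit 0x29d6001), (nat_lit 0x304b001)], [(nat_lit 0x302d001), (nat_lit 0x29d3001), (nat_lit 0x3042001), (nat_lit 0x29d2001), (nat_lit 0x3045001), (nat_lit 0x29d4001)], [(nat_lit 0x29de001), (nat_lit 0x3046001), (nat_lit 0x29df001), (nat_lit 0x3051001), (nat_lit 0x29dd001), (nat_lit 0x3052001)], [(nat_lit 0x29e1001), (nat_lit 0x304c001), (nat_lit 0x3054001), (nat_lit 0x29e2001), (nat_lit 0x3055001), (nat_lit 0x29e0001)], [(nat_lit 0x29da001), (nat_lit 0x29db001), (nat_lit 0x2d60001), (nat_lit 0x29d9001), (nat_lit 0x304e001), (nat_lit 0x29dc001)], [(nat_lit 0x2d9a001), (nat_lit 0x29fe001), (nat_lit 0x2e09001), (nat_lit 0x304d001), (nat_lit 0x29ff001), (nat_lit 0x29fd001)], [(nat_lit 0x2a04001), (nat_lit 0x2a05001), (nat_lit 0x2a06001), (nat_lit 0x3071001), (nat_lit 0x2a03001), (nat_lit 0x2e82001)], [(nat_lit 0x2c4d001), (nat_lit 0x3073001), (nat_lit 0x3075001), (nat_lit 0x2a07001), (nat_lit 0x2a08001), (nat_lit 0x3077001)], [(nat_lit 0x2c51001), (nat_lit 0x2e80001), (nat_lit 0x2a0a001), (nat_lit 0x3078001), (nat_lit 0x2c3c001), (nat_lit 0x2a09001)], [(nat_lit 0x2c5c001), (nat_lit 0x2a01001), (nat_lit 0x2c3a001), (nat_lit 0x2da7001), (nat_lit 0x2a02001), (nat_lit 0x2a00001)], [(nat_lit 0x29c0001), (nat_lit 0x3028001), (nat_lit 0x29bf001), (nat_lit 0x302a001), (nat_lit 0x29c1001), (nat_lit 0x2fe7001)], [(nat_lit 0x2999001), (nat_lit 0x299a001), (nat_lit 0x2fe6001), (nat_lit 0x299b001), (nat_lit 0x2c2f001), (nat_lit 0x299c001)], [(nat_lit 0x2ff0001), (nat_lit 0x2987001), (nat_lit 0x2988001), (nat_lit 0x2fed001), (nat_lit 0x2989001), (nat_lit 0x2986001)], [(nat_lit 0x302b001), (nat_lit 0x2fec001), (nat_lit 0x303f001), (nat_lit 0x29d1001), (nat_lit 0x3040001), (nat_lit 0x2fe4001)], [(nat_lit 0x2fe5001), (nat_lit 0x2982001), (nat_lit 0x2983001), (nat_lit 0x2fe2001), (nat_lit 0x2c1f001), (nat_lit 0x2984001)], [(nat_lit 0x298c001), (nat_lit 0x298d001), (nat_lit 0x2ff1001), (nat_lit 0x298e001), (nat_lit 0x298f001), (nat_lit 0x2990001)], [(nat_lit 0x2973001), (nat_lit 0x29c9001), (nat_lit 0x2fbd001), (nat_lit 0x2974001), (nat_lit 0x2c47001), (nat_lit 0x2fcd001)], [(nat_lit 0x2979001), (nat_lit 0x29c4001), (nat_lit 0x297a001), (nat_lit 0x2fcb001), (nat_lit 0x2a88001), (nat_lit 0x297b001)], [(nat_lit 0x2fbc001), (nat_lit 0x2fb2001), (nat_lit 0x296c001), (nat_lit 0x2fb5001), (nat_lit 0x2fb6001), (nat_lit 0x2fb4001)], [(nat_lit 0x2c46001), (nat_lit 0x296e001), (nat_lit 0x2fb7001), (nat_lit 0x296f001), (nat_lit 0x296d001), (nat_lit 0x2fbe001)], [(nat_lit 0x2fca001), (nat_lit 0x2971001), (nat_lit 0x2fb3001), (nat_lit 0x2972001), (nat_lit 0x2fc4001), (nat_lit 0x2970001)], [(nat_lit 0x2a86001), (nat_lit 0x2976001), (nat_lit 0x2977001), (nat_lit 0x2fce001), (nat_lit 0x2975001), (nat_lit 0x2978001)], [(nat_lit 0x29de001), (nat_lit 0x2fc5001), (nat_lit 0x297d001), (nat_lit 0x2fd4001), (nat_lit 0x297c001), (nat_lit 0x2fd8001)], [(nat_lit 0x29e1001), (nat_lit 0x2fc0001), (nat_lit 0x2fda001), (nat_lit 0x297f001), (nat_lit 0x2fdc001), (nat_lit 0x297e001)], [(nat_lit 0x29da001), (nat_lit 0x2fd0001), (nat_lit 0x2fdd001), (nat_lit 0x2980001), (nat_lit 0x2fd6001), (nat_lit 0x2981001)]]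

theorem rows1_ok : okRows data table 16908 2000 rows1 = true := by decide +kernel

theorem rows1_len : rows1.length = 2000 := by decide +kernel

end CfsgLib.CosetEnum.ONH
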