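/-
Certificate data of a coset enumeration.
-/
import Cfsg.Agent.Lib.CosetEnum.ONH.Data

set_option autoImplicit false
set_option maxRecDepth 1000000

namespace CfsgLib.CosetEnum.ONH

open CfsgLib.CosetEnum

/-- Completion of the rows from 4000. -/
noncomputable def rows2 : List (List ℕ) := [[(nat_lit 0x298a001), (nat_lit 0x2ff4001), (nat_lit 0x298b001), (nat_lit 0x2fef001), (nat_lit 0x2c27001), (nat_lit 0x2ff3001)], [(nat_lit 0x2995001), (nat_lit 0x2996001), (nat_lit 0x2a87001), (nat_lit 0x2ffd001), (nat_lit 0x2997001), (nat_lit 0x2998001)], [(nat_lit 0x2fee001), (nat_lit 0x2fe3001), (nat_lit 0x2fe8001), (nat_lit 0x2985001), (nat_lit 0x2fe9001), (nat_lit 0x2feb001)], [(nat_lit 0x2ffb001), (nat_lit 0x2992001), (nat_lit 0x2ff6001), (nat_lit 0x2991001), (nat_lit 0x2993001), (nat_lit 0x2994001)], [(nat_lit 0x3009001), (nat_lit 0x29bc001), (nat_lit 0x3027001), (nat_lit 0x3019001), (nat_lit 0x301f001), (nat_lit 0x3026001)], [(nat_lit 0x29ad001), (nat_lit 0x3016001), (nat_lit 0x29ae001), (nat_lit 0x29af001), (nat_lit 0x3014001), (nat_lit 0x2d26001)], [(nat_lit 0x29b1001), (nat_lit 0x301d001), (nat_lit 0x29b2001), (nat_lit 0x301c001), (nat_lit 0x29b3001), (nat_lit 0x2e9a001)], [(nat_lit 0x29b9001), (nat_lit 0x3024001), (nat_lit 0x29ba001), (nat_lit 0x2d25001), (nat_lit 0x3023001), (nat_lit 0x29bb001)], [(nat_lit 0x29bd001), (nat_lit 0x2c2d001), (nat_lit 0x3021001), (nat_lit 0x2c1a001), (nat_lit 0x29be001), (nat_lit 0x2c17001)], [(nat_lit 0x29a3001), (nat_lit 0x3008001), (nat_lit 0x29a4001), (nat_lit 0x29a7001), (nat_lit 0x3007001), (nat_lit 0x29a5001)], [(nat_lit 0x29a8001), (nat_lit 0x299e001), (nat_lit 0x29ae001), (nat_lit 0x299d001), (nat_lit 0x3000001), (nat_lit 0x299f001)], [(nat_lit 0x3005001), (nat_lit 0x29a1001), (nat_lit 0x29a2001), (nat_lit 0x3003001), (nat_lit 0x29a0001), (nat_lit 0x2e95001)], [(nat_lit 0x29a8001), (nat_lit 0x300b001), (nat_lit 0x29a6001), (nat_lit 0x29a7001), (nat_lit 0x300d001), (nat_lit 0x2d2c001)], [(nat_lit 0x3012001), (nat_lit 0x3001001), (nat_lit 0x300f001), (nat_lit 0x3010001), (nat_lit 0x29a9001), (nat_lit 0x3002001)], [(nat_lit 0x2d27001), (nat_lit 0x29ab001), (nat_lit 0x2d29001), (nat_lit 0x29ac001), (nat_lit 0x29b8001), (nat_lit 0x29aa001)], [(nat_lit 0x301b001), (nat_lit 0x3004001), (nat_lit 0x301a001), (nat_lit 0x29b0001), (nat_lit 0x3011001), (nat_lit 0x2e97001)], [(nat_lit 0x3020001), (nat_lit 0x29b5001), (nat_lit 0x29b6001), (nat_lit 0x29b7001), (nat_lit 0x29b4001), (nat_lit 0x2c12001)], [(nat_lit 0x29ce001), (nat_lit 0x29cf001), (nat_lit 0x3006001), (nat_lit 0x303c001), (nat_lit 0x29d0001), (nat_lit 0x2e9f001)], [(nat_lit 0x29f3001), (nat_lit 0x2a2e001), (nat_lit 0x306c001), (nat_lit 0x29f4001), (nat_lit 0x305f001), (nat_lit 0x2e78001)], [(nat_lit 0x306b001), (nat_lit 0x3067001), (nat_lit 0x29f2001), (nat_lit 0x306a001), (nat_lit 0x305b001), (nat_lit 0x2e75001)], [(nat_lit 0x3133001), (nat_lit 0x2ac2001), (nat_lit 0x3068001), (nat_lit 0x2ac3001), (nat_lit 0x2ac4001), (nat_lit 0x2e7c001)], [(nat_lit 0x2b33001), (nat_lit 0x2b34001), (nat_lit 0x31ab001), (nat_lit 0x2b35001), (nat_lit 0x2b32001), (nat_lit 0x31ac001)], [(nat_lit 0x2b37001), (nat_lit 0x2b38001), (nat_lit 0x2c7e001), (nat_lit 0x31af001), (nat_lit 0x2b39001), (nat_lit 0x2b36001)], [(nat_lit 0x2b31001), (nat_lit 0x31a8001), (nat_lit 0x2b30001), (nat_lit 0x3188001), (nat_lit 0x31a9001), (nat_lit 0x318f001)], [(nat_lit 0x2b2e001), (nat_lit 0x2c9c001), (nat_lit 0x318e001), (nat_lit 0x2b2d001), (nat_lit 0x3135001), (nat_lit 0x2b2f001)], [(nat_lit 0x2c78001), (nat_lit 0x2b65001), (nat_lit 0x31dd001), (nat_lit 0x2b64001), (nat_lit 0x2b66001), (nat_lit 0x31df001)], [(nat_lit 0x2c7c001), (nat_lit 0x2b68001), (nat_lit 0x2b69001), (nat_lit 0x31e1001), (nat_lit 0x2b6a001), (nat_lit 0x2b67001)], [(nat_lit 0x31aa001), (nat_lit 0x31d5001), (nat_lit 0x2b60001), (nat_lit 0x31da001), (nat_lit 0x2b5f001), (nat_lit 0x31db001)], [(nat_lit 0x31ad001), (nat_lit 0x2b62001), (nat_lit 0x31dc001), (nat_lit 0x2b63001), (nat_lit 0x2e7b001), (nat_lit 0x2b61001)], [(nat_lit 0x31d7001), (nat_lit 0x2b5c001), (nat_lit 0x2b5d001), (nat_lit 0x31d2001), (nat_lit 0x31d4001), (nat_lit 0x305c001)], [(nat_lit 0x3187001), (nat_lit 0x31d3001), (nat_lit 0x315c001), (nat_lit 0x2b5e001), (nat_lit 0x31d9001), (nat_lit 0x3158001)], [(nat_lit 0x318d001), (nat_lit 0x305a001), (nat_lit 0x2b5a001), (nat_lit 0x3157001), (nat_lit 0x3069001), (nat_lit 0x2b5b001)], [(nat_lit 0x2a4e001), (nat_lit 0x2a4d001), (nat_lit 0x2e8f001), (nat_lit 0x2a4f001), (nat_lit 0x2a50001), (nat_lit 0x2a51001)], [(nat_lit 0x2a57001), (nat_lit 0x30c0001), (nat_lit 0x2a58001), (nat_lit 0x30a6001), (nat_lit 0x2d98001), (nat_lit 0x2a59001)], [(nat_lit 0x30bb001), (nat_lit 0x2a52001), (nat_lit 0x2a53001), (nat_lit 0x30b8001), (nat_lit 0x2c24001), (nat_lit 0x2a54001)], [(nat_lit 0x30a8001), (nat_lit 0x30b9001), (nat_lit 0x30ad001), (nat_lit 0x2a55001), (nat_lit 0x30be001), (nat_lit 0x2a56001)], [(nat_lit 0x2a5e001), (nat_lit 0x2e9c001), (nat_lit 0x30bc001), (nat_lit 0x30c8001), (nat_lit 0x2c2a001), (nat_lit 0x2a5f001)], [(nat_lit 0x2a86001), (nat_lit 0x2a85001), (nat_lit 0x2a87001), (nat_lit 0x2cf7001), (nat_lit 0x2a88001), (nat_lit 0x2a89001)], [(nat_lit 0x30f5001), (nat_lit 0x2a92001), (nat_lit 0x301e001), (nat_lit 0x30fb001), (nat_lit 0x3029001), (nat_lit 0x30c1001)], [(nat_lit 0x2a90001), (nat_lit 0x30fa001), (nat_lit 0x3089001), (nat_lit 0x2a91001), (nat_lit 0x30f9001), (nat_lit 0x30a7001)], [(nat_lit 0x2cee001), (nat_lit 0x3050001), (nat_lit 0x2cf1001), (nat_lit 0x3047001), (nat_lit 0x2a84001), (nat_lit 0x2da3001)], [(nat_lit 0x2a8c001), (nat_lit 0x30f4001), (nat_lit 0x2a8d001), (nat_lit 0x30f3001), (nat_lit 0x2ff2001), (nat_lit 0x30bd001)], [(nat_lit 0x30f2001), (nat_lit 0x2a8b001), (nat_lit 0x30f1001), (nat_lit 0x2a8a001), (nat_lit 0x35d8001), (nat_lit 0x30ba001)], [(nat_lit 0x308a001), (nat_lit 0x30f6001), (nat_lit 0x2a8e001), (nat_lit 0x308d001), (nat_lit 0x35d5001), (nat_lit 0x30af001)], [(nat_lit 0x30f8001), (nat_lit 0x35d6001), (nat_lit 0x35d4001), (nat_lit 0x3041001), (nat_lit 0x2a8f001), (nat_lit 0x30f7001)], [(nat_lit 0x2a9a001), (nat_lit 0x303b001), (nat_lit 0x3100001), (nat_lit 0x2a9b001), (nat_lit 0x2ffe001), (nat_lit 0x30ca001)], [(nat_lit 0x30ff001), (nat_lit 0x2a99001), (nat_lit 0x2a98001), (nat_lit 0x30fc001), (nat_lit 0x2ff8001), (nat_lit 0x30c5001)], [(nat_lit 0x2b21001), (nat_lit 0x31a4001), (nat_lit 0x2b22001), (nat_lit 0x319c001), (nat_lit 0x2b23001), (nat_lit 0x31a3001)], [(nat_lit 0x2b24001), (nat_lit 0x2c95001), (nat_lit 0x31a0001), (nat_lit 0x2b25001), (nat_lit 0x2b26001), (nat_lit 0x2b27001)], [(nat_lit 0x319a001), (nat_lit 0x3195001), (nat_lit 0x2c44001), (nat_lit 0x2b1c001), (nat_lit 0x3197001), (nat_lit 0x2c4a001)], [(nat_lit 0x31be001), (nat_lit 0x2b44001), (nat_lit 0x31ba001), (nat_lit 0x2b43001), (nat_lit 0x3074001), (nat_lit 0x31bb001)], [(nat_lit 0x31c2001), (nat_lit 0x2b46001), (nat_lit 0x2b47001), (nat_lit 0x31bd001), (nat_lit 0x2b48001), (nat_lit 0x2b45001)], [(nat_lit 0x2c49001), (nat_lit 0x31c7001), (nat_lit 0x2b4d001), (nat_lit 0x31a1001), (nat_lit 0x3076001), (nat_lit 0x319d001)], [(nat_lit 0x2c41001), (nat_lit 0x31bc001), (nat_lit 0x319b001), (nat_lit 0x2b4f001), (nat_lit 0x31cb001), (nat_lit 0x2b4e001)], [(nat_lit 0x2b52001), (nat_lit 0x2b53001), (nat_lit 0x31d0001), (nat_lit 0x2b54001), (nat_lit 0x2b55001), (nat_lit 0x3128001)], [(nat_lit 0x2b56001), (nat_lit 0x2b57001), (nat_lit 0x31c4001), (nat_lit 0x3126001), (nat_lit 0x2b58001), (nat_lit 0x2b59001)], [(nat_lit 0x31cf001), (nat_lit 0x3114001), (nat_lit 0x2b50001), (nat_lit 0x31ce001), (nat_lit 0x2b51001), (nat_lit 0x3106001)], [(nat_lit 0x2bf2001), (nat_lit 0x2bf3001), (nat_lit 0x2d78001), (nat_lit 0x2bf4001), (nat_lit 0x2bf1001), (nat_lit 0x2bf5001)], [(nat_lit 0x2bf7001), (nat_lit 0x2ea2001), (nat_lit 0x2bf6001), (nat_lit 0x2f93001), (nat_lit 0x2bf8001), (nat_lit 0x2ea9001)], [(nat_lit 0x2f4e001), (nat_lit 0x2bd6001), (nat_lit 0x2bd7001), (nat_lit 0x2f54001), (nat_lit 0x2bd8001), (nat_lit 0x2bd5001)], [(nat_lit 0x2f91001), (nat_lit 0x2f56001), (nat_lit 0x2f8d001), (nat_lit 0x2bf9001), (nat_lit 0x3243001), (nat_lit 0x2f5c001)], [(nat_lit 0x2bda001), (nat_lit 0x2bdb001), (nat_lit 0x2f50001), (nat_lit 0x2bdc001), (nat_lit 0x2bdd001), (nat_lit 0x2bd9001)], [(nat_lit 0x2bce001), (nat_lit 0x2bcf001), (nat_lit 0x2bd0001), (nat_lit 0x2ecf001), (nat_lit 0x2bcd001), (nat_lit 0x2bd1001)], [(nat_lit 0x2be2001), (nat_lit 0x323d001), (nat_lit 0x2be3001), (nat_lit 0x2e33001), (nat_lit 0x2f9a001), (nat_lit 0x2e34001)], [(nat_lit 0x2bfb001), (nat_lit 0x2bfc001), (nat_lit 0x2bfe001), (nat_lit 0x2bfa001), (nat_lit 0x2bfd001), (nat_lit 0x3247001)], [(nat_lit 0x2c00001), (nat_lit 0x2c01001), (nat_lit 0x2c02001), (nat_lit 0x324b001), (nat_lit 0x2c03001), (nat_lit 0x2bff001)], [(nat_lit 0x3248001), (nat_lit 0x2c05001), (nat_lit 0x324a001), (nat_lit 0x2c06001), (nat_lit 0x324c001), (nat_lit 0x2c04001)], [(nat_lit 0x2c41001), (nat_lit 0x2c42001), (nat_lit 0x2c44001), (nat_lit 0x2c40001), (nat_lit 0x2e5a001), (nat_lit 0x2c43001)], [(nat_lit 0x2c56001), (nat_lit 0x2c57001), (nat_lit 0x2c59001), (nat_lit 0x2c55001), (nat_lit 0x2c58001), (nat_lit 0x2c5a001)], [(nat_lit 0x2c5c001), (nat_lit 0x2c5d001), (nat_lit 0x2c5e001), (nat_lit 0x2c5f001), (nat_lit 0x2c60001), (nat_lit 0x2c5b001)], [(nat_lit 0x2c51001), (nat_lit 0x2c52001), (nat_lit 0x2c53001), (nat_lit 0x3273001), (nat_lit 0x2c54001), (nat_lit 0x2c50001)], [(nat_lit 0x2c4d001), (nat_lit 0x2c4e001), (nat_lit 0x326e001), (nat_lit 0x2c4f001), (nat_lit 0x2c4c001), (nat_lit 0x3270001)], [(nat_lit 0x2c49001), (nat_lit 0x2dfd001), (nat_lit 0x2c48001), (nat_lit 0x2c4b001), (nat_lit 0x326b001), (nat_lit 0x2c4a001)], [(nat_lit 0x2c78001), (nat_lit 0x2c79001), (nat_lit 0x3292001), (nat_lit 0x2c7a001), (nat_lit 0x2c77001), (nat_lit 0x3293001)], [(nat_lit 0x2c7c001), (nat_lit 0x2c7d001), (nat_lit 0x2c7e001), (nat_lit 0x3296001), (nat_lit 0x2c7f001), (nat_lit 0x2c7b001)], [(nat_lit 0x2e73001), (nat_lit 0x2c76001), (nat_lit 0x2c75001), (nat_lit 0x328b001), (nat_lit 0x328f001), (nat_lit 0x328a001)], [(nat_lit 0x2e70001), (nat_lit 0x2c73001), (nat_lit 0x3288001), (nat_lit 0x2c72001), (nat_lit 0x328c001), (nat_lit 0x2c74001)], [(nat_lit 0x2e4d001), (nat_lit 0x3263001), (nat_lit 0x2c3d001), (nat_lit 0x325e001), (nat_lit 0x3264001), (nat_lit 0x3242001)], [(nat_lit 0x2c3f001), (nat_lit 0x2e48001), (nat_lit 0x3266001), (nat_lit 0x2ec0001), (nat_lit 0x2c3e001), (nat_lit 0x2ebb001)], [(nat_lit 0x2c46001), (nat_lit 0x3034001), (nat_lit 0x3267001), (nat_lit 0x2c45001), (nat_lit 0x2c47001), (nat_lit 0x2dab001)], [(nat_lit 0x2c9f001), (nat_lit 0x32bf001), (nat_lit 0x2c9e001), (nat_lit 0x2fe0001), (nat_lit 0x2e5d001), (nat_lit 0x2caa001)], [(nat_lit 0x2cff001), (nat_lit 0x330c001), (nat_lit 0x2cfe001), (nat_lit 0x32d4001), (nat_lit 0x2d00001), (nat_lit 0x3306001)], [(nat_lit 0x2cfb001), (nat_lit 0x2cfc001), (nat_lit 0x3303001), (nat_lit 0x2cfa001), (nat_lit 0x3307001), (nat_lit 0x2cfd001)], [(nat_lit 0x3304001), (nat_lit 0x2d07001), (nat_lit 0x2d06001), (nat_lit 0x2dd2001), (nat_lit 0x330e001), (nat_lit 0x2d08001)], [(nat_lit 0x32d3001), (nat_lit 0x2dd4001), (nat_lit 0x2dd7001), (nat_lit 0x2d0c001), (nat_lit 0x2de0001), (nat_lit 0x2dd3001)], [(nat_lit 0x3308001), (nat_lit 0x2d0a001), (nat_lit 0x330d001), (nat_lit 0x2d0b001), (nat_lit 0x2d09001), (nat_lit 0x330b001)], [(nat_lit 0x2d1a001), (nat_lit 0x2d1b001), (nat_lit 0x2d1c001), (nat_lit 0x2d1d001), (nat_lit 0x2d19001), (nat_lit 0x2d1e001)], [(nat_lit 0x2d20001), (nat_lit 0x3309001), (nat_lit 0x2d21001), (nat_lit 0x2d22001), (nat_lit 0x2d23001), (nat_lit 0x2d1f001)], [(nat_lit 0x2d14001), (nat_lit 0x2d17001), (nat_lit 0x2d13001), (nat_lit 0x2d16001), (nat_lit 0x2d18001), (nat_lit 0x2d15001)], [(nat_lit 0x2d66001), (nat_lit 0x2d67001), (nat_lit 0x2d68001), (nat_lit 0x2d69001), (nat_lit 0x2d6a001), (nat_lit 0x2d65001)], [(nat_lit 0x2e5c001), (nat_lit 0x3344001), (nat_lit 0x2d63001), (nat_lit 0x334b001), (nat_lit 0x2d62001), (nat_lit 0x2d64001)], [(nat_lit 0x2d5b001), (nat_lit 0x2d58001), (nat_lit 0x2d59001), (nat_lit 0x2d5c001), (nat_lit 0x3342001), (nat_lit 0x2d5a001)], [(nat_lit 0x2fde001), (nat_lit 0x2d5f001), (nat_lit 0x2d60001), (nat_lit 0x2d5e001), (nat_lit 0x3347001), (nat_lit 0x2d61001)], [(nat_lit 0x2d39001), (nat_lit 0x2d3a001), (nat_lit 0x2d3b001), (nat_lit 0x2d3c001), (nat_lit 0x2d3d001), (nat_lit 0x2fd2001)], [(nat_lit 0x2d54001), (nat_lit 0x2d55001), (nat_lit 0x2d53001), (nat_lit 0x2d57001), (nat_lit 0x2d56001), (nat_lit 0x2fe1001)], [(nat_lit 0x2d76001), (nat_lit 0x2d77001), (nat_lit 0x2d78001), (nat_lit 0x2fc2001), (nat_lit 0x2d79001), (nat_lit 0x2d75001)], [(nat_lit 0x2cb5001), (nat_lit 0x2dc1001), (nat_lit 0x2cb6001), (nat_lit 0x32cb001), (nat_lit 0x2cb7001), (nat_lit 0x2cb8001)], [(nat_lit 0x32ca001), (nat_lit 0x2cb1001), (nat_lit 0x2d1c001), (nat_lit 0x2cb2001), (nat_lit 0x2d18001), (nat_lit 0x2cb0001)], [(nat_lit 0x2dd0001), (nat_lit 0x2e17001), (nat_lit 0x2d01001), (nat_lit 0x3305001), (nat_lit 0x2dec001), (nat_lit 0x32d5001)], [(nat_lit 0x2dd6001), (nat_lit 0x2cac001), (nat_lit 0x32d2001), (nat_lit 0x2cab001), (nat_lit 0x32d6001), (nat_lit 0x2cad001)], [(nat_lit 0x2d4b001), (nat_lit 0x2d4a001), (nat_lit 0x333f001), (nat_lit 0x2d4c001), (nat_lit 0x2d4d001), (nat_lit 0x2fff001)], [(nat_lit 0x3340001), (nat_lit 0x3178001), (nat_lit 0x2d51001), (nat_lit 0x317a001), (nat_lit 0x2d52001), (nat_lit 0x2ff9001)], [(nat_lit 0x2c85001), (nat_lit 0x32a3001), (nat_lit 0x2c86001), (nat_lit 0x2c87001), (nat_lit 0x32a2001), (nat_lit 0x2c88001)], [(nat_lit 0x2c8e001), (nat_lit 0x32b0001), (nat_lit 0x2c8f001), (nat_lit 0x32ae001), (nat_lit 0x2c90001), (nat_lit 0x2c91001)], [(nat_lit 0x2c83001), (nat_lit 0x3297001), (nat_lit 0x2c80001), (nat_lit 0x2c81001), (nat_lit 0x329a001), (nat_lit 0x2c82001)], [(nat_lit 0x32a0001), (nat_lit 0x2ccf001), (nat_lit 0x329c001), (nat_lit 0x329d001), (nat_lit 0x2c84001), (nat_lit 0x329f001)], [(nat_lit 0x32ad001), (nat_lit 0x2cde001), (nat_lit 0x32a8001), (nat_lit 0x2c89001), (nat_lit 0x329e001), (nat_lit 0x32a9001)], [(nat_lit 0x2d8b001), (nat_lit 0x32b4001), (nat_lit 0x2c9a001), (nat_lit 0x32b6001), (nat_lit 0x2e69001), (nat_lit 0x32b9001)], [(nat_lit 0x2d87001), (nat_lit 0x2c9c001), (nat_lit 0x32ba001), (nat_lit 0x2c9d001), (nat_lit 0x32bb001), (nat_lit 0x2c9b001)], [(nat_lit 0x2d20001), (nat_lit 0x2ca0001), (nat_lit 0x2ca1001), (nat_lit 0x32c3001), (nat_lit 0x2ca2001), (nat_lit 0x2ca3001)], [(nat_lit 0x2d1a001), (nat_lit 0x32c5001), (nat_lit 0x32c9001), (nat_lit 0x2ca4001), (nat_lit 0x2ca5001), (nat_lit 0x32c8001)], [(nat_lit 0x2d66001), (nat_lit 0x2ca7001), (nat_lit 0x32ce001), (nat_lit 0x2ca6001), (nat_lit 0x32c7001), (nat_lit 0x2ca8001)], [(nat_lit 0x2d14001), (nat_lit 0x2dca001), (nat_lit 0x2ca9001), (nat_lit 0x2d57001), (nat_lit 0x32cc001), (nat_lit 0x2caa001)], [(nat_lit 0x2dbf001), (nat_lit 0x2cb9001), (nat_lit 0x2cba001), (nat_lit 0x32d9001), (nat_lit 0x31a6001), (nat_lit 0x2dc4001)], [(nat_lit 0x2cb3001), (nat_lit 0x32d8001), (nat_lit 0x32c6001), (nat_lit 0x2cb4001), (nat_lit 0x32d0001), (nat_lit 0x32cd001)], [(nat_lit 0x32c4001), (nat_lit 0x2e14001), (nat_lit 0x2cae001), (nat_lit 0x2d22001), (nat_lit 0x2d6a001), (nat_lit 0x2d1e001)], [(nat_lit 0x32cf001), (nat_lit 0x32d7001), (nat_lit 0x2d68001), (nat_lit 0x3199001), (nat_lit 0x2caf001), (nat_lit 0x2d64001)], [(nat_lit 0x2e8e001), (nat_lit 0x2d8f001), (nat_lit 0x2cbb001), (nat_lit 0x32da001), (nat_lit 0x2cbc001), (nat_lit 0x2cbd001)], [(nat_lit 0x2cd1001), (nat_lit 0x2cd0001), (nat_lit 0x2cd2001), (nat_lit 0x2cd3001), (nat_lit 0x2f7c001), (nat_lit 0x3299001)], [(nat_lit 0x2ce3001), (nat_lit 0x2ce2001), (nat_lit 0x2dbe001), (nat_lit 0x3298001), (nat_lit 0x32fc001), (nat_lit 0x2ce4001)], [(nat_lit 0x2ccb001), (nat_lit 0x2f7b001), (nat_lit 0x2ccc001), (nat_lit 0x2f82001), (nat_lit 0x2ccd001), (nat_lit 0x32ea001)], [(nat_lit 0x2cdf001), (nat_lit 0x32f9001), (nat_lit 0x2ce0001), (nat_lit 0x32f8001), (nat_lit 0x2ce1001), (nat_lit 0x32f5001)], [(nat_lit 0x2cef001), (nat_lit 0x2cf0001), (nat_lit 0x2cf1001), (nat_lit 0x2cf2001), (nat_lit 0x2cf3001), (nat_lit 0x2cf4001)], [(nat_lit 0x2cc4001), (nat_lit 0x2cbf001), (nat_lit 0x2ccc001), (nat_lit 0x2f77001), (nat_lit 0x2cbe001), (nat_lit 0x32dd001)], [(nat_lit 0x2f80001), (nat_lit 0x2f79001), (nat_lit 0x2fa8001), (nat_lit 0x2cc8001), (nat_lit 0x2cc9001), (nat_lit 0x32e2001)], [(nat_lit 0x32e8001), (nat_lit 0x32df001), (nat_lit 0x2fae001), (nat_lit 0x32e4001), (nat_lit 0x32e5001), (nat_lit 0x2cca001)], [(nat_lit 0x329b001), (nat_lit 0x2ccf001), (nat_lit 0x32a1001), (nat_lit 0x32eb001), (nat_lit 0x2cce001), (nat_lit 0x32e7001)], [(nat_lit 0x2f58001), (nat_lit 0x2f4c001), (nat_lit 0x2cd4001), (nat_lit 0x2eaa001), (nat_lit 0x2faa001), (nat_lit 0x2f94001)], [(nat_lit 0x32f1001), (nat_lit 0x2cd6001), (nat_lit 0x2cd7001), (nat_lit 0x32ee001), (nat_lit 0x2cd5001), (nat_lit 0x2cd8001)], [(nat_lit 0x32f7001), (nat_lit 0x2cde001), (nat_lit 0x32f6001), (nat_lit 0x2cdd001), (nat_lit 0x32ed001), (nat_lit 0x32f0001)], [(nat_lit 0x2cee001), (nat_lit 0x2ceb001), (nat_lit 0x2cea001), (nat_lit 0x32fe001), (nat_lit 0x2cec001), (nat_lit 0x2ced001)], [(nat_lit 0x2fcf001), (nat_lit 0x2cf5001), (nat_lit 0x2cf6001), (nat_lit 0x2cf7001), (nat_lit 0x2cf8001), (nat_lit 0x2cf9001)], [(nat_lit 0x2d02001), (nat_lit 0x2d03001), (nat_lit 0x2fd3001), (nat_lit 0x3183001), (nat_lit 0x2d04001), (nat_lit 0x2d05001)], [(nat_lit 0x2d10001), (nat_lit 0x2ffc001), (nat_lit 0x3315001), (nat_lit 0x2d11001), (nat_lit 0x303d001), (nat_lit 0x2d12001)], [(nat_lit 0x3314001), (nat_lit 0x2d0e001), (nat_lit 0x2d0d001), (nat_lit 0x330f001), (nat_lit 0x3038001), (nat_lit 0x2d0f001)], [(nat_lit 0x3025001), (nat_lit 0x2d34001), (nat_lit 0x2ff5001), (nat_lit 0x331e001), (nat_lit 0x3327001), (nat_lit 0x300a001)], [(nat_lit 0x2d28001), (nat_lit 0x331b001), (nat_lit 0x2d29001), (nat_lit 0x2d2a001), (nat_lit 0x2d2b001), (nat_lit 0x2d2c001)], [(nat_lit 0x2d31001), (nat_lit 0x3325001), (nat_lit 0x2d32001), (nat_lit 0x3022001), (nat_lit 0x2d33001), (nat_lit 0x3324001)], [(nat_lit 0x2d35001), (nat_lit 0x2d36001), (nat_lit 0x3322001), (nat_lit 0x2d37001), (nat_lit 0x2e9e001), (nat_lit 0x2d38001)], [(nat_lit 0x2d27001), (nat_lit 0x3318001), (nat_lit 0x2d24001), (nat_lit 0x2d25001), (nat_lit 0x2d2b001), (nat_lit 0x2d26001)], [(nat_lit 0x3321001), (nat_lit 0x2d2e001), (nat_lit 0x2d2f001), (nat_lit 0x2d30001), (nat_lit 0x2e94001), (nat_lit 0x2d2d001)], [(nat_lit 0x2d40001), (nat_lit 0x2d41001), (nat_lit 0x3329001), (nat_lit 0x2d42001), (nat_lit 0x2d43001), (nat_lit 0x3185001)], [(nat_lit 0x3328001), (nat_lit 0x2ff7001), (nat_lit 0x2d3e001), (nat_lit 0x2ffa001), (nat_lit 0x2d3f001), (nat_lit 0x317b001)], [(nat_lit 0x2d48001), (nat_lit 0x333e001), (nat_lit 0x2d49001), (nat_lit 0x333c001), (nat_lit 0x31d1001), (nat_lit 0x3317001)], [(nat_lit 0x332e001), (nat_lit 0x2d44001), (nat_lit 0x2d45001), (nat_lit 0x332b001), (nat_lit 0x3116001), (nat_lit 0x2d46001)], [(nat_lit 0x333a001), (nat_lit 0x332c001), (nat_lit 0x3331001), (nat_lit 0x2d47001), (nat_lit 0x3337001), (nat_lit 0x3311001)], [(nat_lit 0x2d4e001), (nat_lit 0x3182001), (nat_lit 0x332f001), (nat_lit 0x2d4f001), (nat_lit 0x311e001), (nat_lit 0x2d50001)], [(nat_lit 0x2d70001), (nat_lit 0x2d71001), (nat_lit 0x2d72001), (nat_lit 0x2d73001), (nat_lit 0x31c5001), (nat_lit 0x2d74001)], [(nat_lit 0x2d6c001), (nat_lit 0x2d6d001), (nat_lit 0x2d6e001), (nat_lit 0x2d6f001), (nat_lit 0x2e8b001), (nat_lit 0x2d6b001)], [(nat_lit 0x2d7b001), (nat_lit 0x3353001), (nat_lit 0x2d7c001), (nat_lit 0x3350001), (nat_lit 0x3341001), (nat_lit 0x316c001)], [(nat_lit 0x334e001), (nat_lit 0x316e001), (nat_lit 0x2fc1001), (nat_lit 0x2d7a001), (nat_lit 0x3171001), (nat_lit 0x2fba001)], [(nat_lit 0x2d8b001), (nat_lit 0x3355001), (nat_lit 0x2d8a001), (nat_lit 0x335e001), (nat_lit 0x2d8c001), (nat_lit 0x335d001)], [(nat_lit 0x2d87001), (nat_lit 0x2d86001), (nat_lit 0x3358001), (nat_lit 0x2d88001), (nat_lit 0x30b6001), (nat_lit 0x2d89001)], [(nat_lit 0x327b001), (nat_lit 0x2d82001), (nat_lit 0x3354001), (nat_lit 0x2d83001), (nat_lit 0x2d84001), (nat_lit 0x2d85001)], [(nat_lit 0x3275001), (nat_lit 0x2d7d001), (nat_lit 0x31d6001), (nat_lit 0x2d7e001), (nat_lit 0x2d7f001), (nat_lit 0x2d80001)], [(nat_lit 0x2d81001), (nat_lit 0x327c001), (nat_lit 0x31d8001), (nat_lit 0x3064001), (nat_lit 0x3277001), (nat_lit 0x3060001)], [(nat_lit 0x2da5001), (nat_lit 0x2da4001), (nat_lit 0x2da6001), (nat_lit 0x2da7001), (nat_lit 0x337b001), (nat_lit 0x2da8001)], [(nat_lit 0x2da0001), (nat_lit 0x3377001), (nat_lit 0x2da1001), (nat_lit 0x3374001), (nat_lit 0x2da2001), (nat_lit 0x2da3001)], [(nat_lit 0x2d9a001), (nat_lit 0x2d9b001), (nat_lit 0x2d9c001), (nat_lit 0x336c001), (nat_lit 0x2d99001), (nat_lit 0x2d9d001)], [(nat_lit 0x3372001), (nat_lit 0x2d9f001), (nat_lit 0x3371001), (nat_lit 0x2d9e001), (nat_lit 0x336f001), (nat_lit 0x3302001)], [(nat_lit 0x2e56001), (nat_lit 0x2e89001), (nat_lit 0x2e57001), (nat_lit 0x31cd001), (nat_lit 0x2e55001), (nat_lit 0x2e91001)], [(nat_lit 0x2e5c001), (nat_lit 0x3409001), (nat_lit 0x2e5b001), (nat_lit 0x340f001), (nat_lit 0x2e5d001), (nat_lit 0x32d1001)], [(nat_lit 0x31cc001), (nat_lit 0x2e59001), (nat_lit 0x3198001), (nat_lit 0x2e58001), (nat_lit 0x2e5a001), (nat_lit 0x32dc001)], [(nat_lit 0x3378001), (nat_lit 0x2db4001), (nat_lit 0x30ed001), (nat_lit 0x2fdb001), (nat_lit 0x2db5001), (nat_lit 0x2fd7001)], [(nat_lit 0x2daf001), (nat_lit 0x2fd9001), (nat_lit 0x316f001), (nat_lit 0x2db0001), (nat_lit 0x2fc3001), (nat_lit 0x2fc7001)], [(nat_lit 0x2db1001), (nat_lit 0x2fd5001), (nat_lit 0x2db2001), (nat_lit 0x2fc8001), (nat_lit 0x2fd1001), (nat_lit 0x2db3001)], [(nat_lit 0x2db7001), (nat_lit 0x3382001), (nat_lit 0x2db8001), (nat_lit 0x3381001), (nat_lit 0x332a001), (nat_lit 0x3123001)], [(nat_lit 0x2fbf001), (nat_lit 0x336e001), (nat_lit 0x334f001), (nat_lit 0x2da9001), (nat_lit 0x2daa001), (nat_lit 0x2dab001)], [(nat_lit 0x3172001), (nat_lit 0x337d001), (nat_lit 0x2dac001), (nat_lit 0x317e001), (nat_lit 0x3351001), (nat_lit 0x3176001)], [(nat_lit 0x2fc9001), (nat_lit 0x3300001), (nat_lit 0x3174001), (nat_lit 0x2dae001), (nat_lit 0x2fcc001), (nat_lit 0x2dad001)], [(nat_lit 0x3380001), (nat_lit 0x30fd001), (nat_lit 0x337e001), (nat_lit 0x2db6001), (nat_lit 0x30fe001), (nat_lit 0x312a001)], [(nat_lit 0x30ec001), (nat_lit 0x2df9001), (nat_lit 0x3379001), (nat_lit 0x326f001), (nat_lit 0x2dfa001), (nat_lit 0x334a001)], [(nat_lit 0x2de9001), (nat_lit 0x2dee001), (nat_lit 0x2dea001), (nat_lit 0x2deb001), (nat_lit 0x2dec001), (nat_lit 0x2ded001)], [(nat_lit 0x2df2001), (nat_lit 0x3348001), (nat_lit 0x2df3001), (nat_lit 0x33bb001), (nat_lit 0x2df4001), (nat_lit 0x2df5001)], [(nat_lit 0x2df7001), (nat_lit 0x326d001), (nat_lit 0x33c2001), (nat_lit 0x2df8001), (nat_lit 0x2dfe001), (nat_lit 0x33bc001)], [(nat_lit 0x2dc9001), (nat_lit 0x2dca001), (nat_lit 0x339b001), (nat_lit 0x2dcb001), (nat_lit 0x338d001), (nat_lit 0x32c2001)], [(nat_lit 0x2dcc001), (nat_lit 0x2fdf001), (nat_lit 0x2dcd001), (nat_lit 0x32c1001), (nat_lit 0x30e9001), (nat_lit 0x2dce001)], [(nat_lit 0x3389001), (nat_lit 0x2dba001), (nat_lit 0x3383001), (nat_lit 0x2db9001), (nat_lit 0x2dbb001), (nat_lit 0x3388001)], [(nat_lit 0x2dbf001), (nat_lit 0x2dbd001), (nat_lit 0x2dbe001), (nat_lit 0x3386001), (nat_lit 0x30dd001), (nat_lit 0x2dbc001)], [(nat_lit 0x3399001), (nat_lit 0x338f001), (nat_lit 0x2dc5001), (nat_lit 0x3394001), (nat_lit 0x3385001), (nat_lit 0x3395001)], [(nat_lit 0x32c0001), (nat_lit 0x2dc7001), (nat_lit 0x3397001), (nat_lit 0x2dc8001), (nat_lit 0x3398001), (nat_lit 0x2dc6001)], [(nat_lit 0x2dd0001), (nat_lit 0x2dd4001), (nat_lit 0x2dcf001), (nat_lit 0x2dd2001), (nat_lit 0x2dd1001), (nat_lit 0x2dd3001)], [(nat_lit 0x2dd6001), (nat_lit 0x3384001), (nat_lit 0x2dd7001), (nat_lit 0x2dd8001), (nat_lit 0x3391001), (nat_lit 0x2dd5001)], [(nat_lit 0x2dda001), (nat_lit 0x30dc001), (nat_lit 0x2ddb001), (nat_lit 0x339d001), (nat_lit 0x2dd9001), (nat_lit 0x2ddc001)], [(nat_lit 0x2dfc001), (nat_lit 0x30d9001), (nat_lit 0x33a0001), (nat_lit 0x2ddd001), (nat_lit 0x2dde001), (nat_lit 0x339f001)], [(nat_lit 0x33a6001), (nat_lit 0x2ddf001), (nat_lit 0x3390001), (nat_lit 0x33a3001), (nat_lit 0x2de0001), (nat_lit 0x33a9001)], [(nat_lit 0x2de4001), (nat_lit 0x33a4001), (nat_lit 0x2de2001), (nat_lit 0x2de1001), (nat_lit 0x33af001), (nat_lit 0x2de3001)], [(nat_lit 0x2de8001), (nat_lit 0x33ab001), (nat_lit 0x2de6001), (nat_lit 0x2de7001), (nat_lit 0x33ae001), (nat_lit 0x2de5001)], [(nat_lit 0x3343001), (nat_lit 0x3396001), (nat_lit 0x33ac001), (nat_lit 0x33b5001), (nat_lit 0x2def001), (nat_lit 0x3393001)], [(nat_lit 0x33ba001), (nat_lit 0x30e3001), (nat_lit 0x33b7001), (nat_lit 0x2df0001), (nat_lit 0x33b6001), (nat_lit 0x2df1001)], [(nat_lit 0x33c1001), (nat_lit 0x33bd001), (nat_lit 0x2df6001), (nat_lit 0x33be001), (nat_lit 0x33a2001), (nat_lit 0x33b8001)], [(nat_lit 0x2e05001), (nat_lit 0x33c8001), (nat_lit 0x2e06001), (nat_lit 0x33c7001), (nat_lit 0x30d3001), (nat_lit 0x3330001)], [(nat_lit 0x33c6001), (nat_lit 0x3310001), (nat_lit 0x33c5001), (nat_lit 0x2e04001), (nat_lit 0x3160001), (nat_lit 0x332d001)], [(nat_lit 0x33aa001), (nat_lit 0x2e10001), (nat_lit 0x3345001), (nat_lit 0x33ad001), (nat_lit 0x2e11001), (nat_lit 0x33a8001)], [(nat_lit 0x2e13001), (nat_lit 0x2e14001), (nat_lit 0x33b2001), (nat_lit 0x330a001), (nat_lit 0x2e12001), (nat_lit 0x2e15001)], [(nat_lit 0x33b0001), (nat_lit 0x2e17001), (nat_lit 0x2e18001), (nat_lit 0x33cf001), (nat_lit 0x2e16001), (nat_lit 0x33b4001)], [(nat_lit 0x2e45001), (nat_lit 0x3403001), (nat_lit 0x2e44001), (nat_lit 0x2e46001), (nat_lit 0x3214001), (nat_lit 0x3408001)], [(nat_lit 0x2e41001), (nat_lit 0x2e40001), (nat_lit 0x3405001), (nat_lit 0x2e42001), (nat_lit 0x323c001), (nat_lit 0x2e43001)], [(nat_lit 0x2e4d001), (nat_lit 0x2e4e001), (nat_lit 0x2e4c001), (nat_lit 0x2e50001), (nat_lit 0x320d001), (nat_lit 0x2e4f001)], [(nat_lit 0x3406001), (nat_lit 0x2e52001), (nat_lit 0x2e51001), (nat_lit 0x2e53001), (nat_lit 0x3236001), (nat_lit 0x2e54001)], [(nat_lit 0x2e27001), (nat_lit 0x33ee001), (nat_lit 0x2e28001), (nat_lit 0x33e9001), (nat_lit 0x2e29001), (nat_lit 0x33ed001)], [(nat_lit 0x2e2e001), (nat_lit 0x3216001), (nat_lit 0x33eb001), (nat_lit 0x2e2f001), (nat_lit 0x33f2001), (nat_lit 0x2e30001)], [(nat_lit 0x33f5001), (nat_lit 0x2e3d001), (nat_lit 0x3401001), (nat_lit 0x33ff001), (nat_lit 0x33ef001), (nat_lit 0x3400001)], [(nat_lit 0x2e39001), (nat_lit 0x33fd001), (nat_lit 0x2e3a001), (nat_lit 0x2e3b001), (nat_lit 0x33fb001), (nat_lit 0x2e3c001)], [(nat_lit 0x2e3e001), (nat_lit 0x323b001), (nat_lit 0x33fa001), (nat_lit 0x3134001), (nat_lit 0x2e3f001), (nat_lit 0x33f3001)], [(nat_lit 0x31e3001), (nat_lit 0x33d5001), (nat_lit 0x2e19001), (nat_lit 0x33d6001), (nat_lit 0x31b2001), (nat_lit 0x33d7001)], [(nat_lit 0x31e7001), (nat_lit 0x31b7001), (nat_lit 0x33d8001), (nat_lit 0x2e1b001), (nat_lit 0x33d9001), (nat_lit 0x2e1a001)], [(nat_lit 0x33e8001), (nat_lit 0x2e22001), (nat_lit 0x33df001), (nat_lit 0x2e21001), (nat_lit 0x33e1001), (nat_lit 0x33e5001)], [(nat_lit 0x2e31001), (nat_lit 0x33f4001), (nat_lit 0x2e32001), (nat_lit 0x2e33001), (nat_lit 0x33dd001), (nat_lit 0x2e34001)], [(nat_lit 0x2e73001), (nat_lit 0x3429001), (nat_lit 0x2e72001), (nat_lit 0x3425001), (nat_lit 0x31de001), (nat_lit 0x3426001)], [(nat_lit 0x2e70001), (nat_lit 0x31e0001), (nat_lit 0x3423001), (nat_lit 0x2e6f001), (nat_lit 0x3427001), (nat_lit 0x2e71001)], [(nat_lit 0x2e67001), (nat_lit 0x341e001), (nat_lit 0x2e68001), (nat_lit 0x3414001), (nat_lit 0x2e69001), (nat_lit 0x341d001)], [(nat_lit 0x2e6c001), (nat_lit 0x31ae001), (nat_lit 0x341b001), (nat_lit 0x2e6d001), (nat_lit 0x3421001), (nat_lit 0x2e6e001)], [(nat_lit 0x3279001), (nat_lit 0x2e5e001), (nat_lit 0x2e5f001), (nat_lit 0x2e66001), (nat_lit 0x3356001), (nat_lit 0x2e62001)], [(nat_lit 0x341a001), (nat_lit 0x2e64001), (nat_lit 0x2e65001), (nat_lit 0x2e66001), (nat_lit 0x3416001), (nat_lit 0x2e63001)], [(nat_lit 0x3420001), (nat_lit 0x2e6b001), (nat_lit 0x3418001), (nat_lit 0x3130001), (nat_lit 0x2e6a001), (nat_lit 0x30b7001)], [(nat_lit 0x3463001), (nat_lit 0x3210001), (nat_lit 0x2ecb001), (nat_lit 0x346c001), (nat_lit 0x312d001), (nat_lit 0x320e001)], [(nat_lit 0x2ecd001), (nat_lit 0x2ecc001), (nat_lit 0x2ece001), (nat_lit 0x2ecf001), (nat_lit 0x2ed0001), (nat_lit 0x2ed1001)], [(nat_lit 0x2f23001), (nat_lit 0x2f24001), (nat_lit 0x2f22001), (nat_lit 0x2f25001), (nat_lit 0x2f26001), (nat_lit 0x2f27001)], [(nat_lit 0x2f0c001), (nat_lit 0x2f0d001), (nat_lit 0x349f001), (nat_lit 0x2f0e001), (nat_lit 0x2f0f001), (nat_lit 0x2f10001)], [(nat_lit 0x2f15001), (nat_lit 0x349e001), (nat_lit 0x2f16001), (nat_lit 0x34a6001), (nat_lit 0x2f17001), (nat_lit 0x34a1001)], [(nat_lit 0x2f1c001), (nat_lit 0x2f19001), (nat_lit 0x2f1a001), (nat_lit 0x2f18001), (nat_lit 0x34a0001), (nat_lit 0x2f1b001)], [(nat_lit 0x2edb001), (nat_lit 0x33e0001), (nat_lit 0x2eda001), (nat_lit 0x31f0001), (nat_lit 0x346f001), (nat_lit 0x31ec001)], [(nat_lit 0x2edd001), (nat_lit 0x2ede001), (nat_lit 0x31eb001), (nat_lit 0x2edf001), (nat_lit 0x3474001), (nat_lit 0x2edc001)], [(nat_lit 0x348c001), (nat_lit 0x3476001), (nat_lit 0x3484001), (nat_lit 0x3489001), (nat_lit 0x2ef8001), (nat_lit 0x347b001)], [(nat_lit 0x3490001), (nat_lit 0x2f01001), (nat_lit 0x3496001), (nat_lit 0x2f00001), (nat_lit 0x348b001), (nat_lit 0x2f02001)], [(nat_lit 0x3494001), (nat_lit 0x3498001), (nat_lit 0x2f08001), (nat_lit 0x349a001), (nat_lit 0x3482001), (nat_lit 0x3497001)], [(nat_lit 0x349d001), (nat_lit 0x322b001), (nat_lit 0x2f09001), (nat_lit 0x349b001), (nat_lit 0x2f0a001), (nat_lit 0x2f0b001)], [(nat_lit 0x322a001), (nat_lit 0x2f11001), (nat_lit 0x2f12001), (nat_lit 0x34a2001), (nat_lit 0x2f13001), (nat_lit 0x322d001)], [(nat_lit 0x34a7001), (nat_lit 0x34a3001), (nat_lit 0x34a4001), (nat_lit 0x2f14001), (nat_lit 0x34a5001), (nat_lit 0x349c001)], [(nat_lit 0x2f1d001), (nat_lit 0x2f1e001), (nat_lit 0x2f1f001), (nat_lit 0x2f20001), (nat_lit 0x322c001), (nat_lit 0x2f21001)], [(nat_lit 0x346e001), (nat_lit 0x34d3001), (nat_lit 0x2f63001), (nat_lit 0x34d6001), (nat_lit 0x2f62001), (nat_lit 0x34d7001)], [(nat_lit 0x3471001), (nat_lit 0x347e001), (nat_lit 0x34d8001), (nat_lit 0x2f65001), (nat_lit 0x34cf001), (nat_lit 0x2f64001)], [(nat_lit 0x34d4001), (nat_lit 0x2f60001), (nat_lit 0x3499001), (nat_lit 0x34d0001), (nat_lit 0x34d2001), (nat_lit 0x34cb001)], [(nat_lit 0x31ee001), (nat_lit 0x34d1001), (nat_lit 0x31b8001), (nat_lit 0x2f61001), (nat_lit 0x34d5001), (nat_lit 0x31b4001)], [(nat_lit 0x31ea001), (nat_lit 0x34ca001), (nat_lit 0x2f5d001), (nat_lit 0x31b3001), (nat_lit 0x34cc001), (nat_lit 0x2f5e001)], [(nat_lit 0x3475001), (nat_lit 0x348a001), (nat_lit 0x34cd001), (nat_lit 0x3477001), (nat_lit 0x2f5f001), (nat_lit 0x34ce001)], [(nat_lit 0x312c001), (nat_lit 0x3696001), (nat_lit 0x312b001), (nat_lit 0x353a001), (nat_lit 0x312d001), (nat_lit 0x312e001)], [(nat_lit 0x369a001), (nat_lit 0x312f001), (nat_lit 0x3697001), (nat_lit 0x3130001), (nat_lit 0x3131001), (nat_lit 0x3132001)], [(nat_lit 0x3237001), (nat_lit 0x3786001), (nat_lit 0x3238001), (nat_lit 0x353e001), (nat_lit 0x3241001), (nat_lit 0x3239001)], [(nat_lit 0x3783001), (nat_lit 0x3234001), (nat_lit 0x3235001), (nat_lit 0x3529001), (nat_lit 0x3236001), (nat_lit 0x3699001)], [(nat_lit 0x353c001), (nat_lit 0x3528001), (nat_lit 0x3535001), (nat_lit 0x2fea001), (nat_lit 0x2fe9001), (nat_lit 0x3538001)], [(nat_lit 0x323a001), (nat_lit 0x323b001), (nat_lit 0x3784001), (nat_lit 0x32be001), (nat_lit 0x323c001), (nat_lit 0x369e001)], [(nat_lit 0x32bc001), (nat_lit 0x30b3001), (nat_lit 0x30b4001), (nat_lit 0x30b5001), (nat_lit 0x30b6001), (nat_lit 0x30b7001)], [(nat_lit 0x322f001), (nat_lit 0x3295001), (nat_lit 0x3230001), (nat_lit 0x3231001), (nat_lit 0x377f001), (nat_lit 0x322e001)], [(nat_lit 0x3780001), (nat_lit 0x328d001), (nat_lit 0x3233001), (nat_lit 0x324e001), (nat_lit 0x3232001), (nat_lit 0x3782001)], [(nat_lit 0x3363001), (nat_lit 0x3364001), (nat_lit 0x375f001), (nat_lit 0x3362001), (nat_lit 0x3365001), (nat_lit 0x3366001)], [(nat_lit 0x3250001), (nat_lit 0x3251001), (nat_lit 0x3794001), (nat_lit 0x324f001), (nat_lit 0x3252001), (nat_lit 0x3253001)], [(nat_lit 0x3207001), (nat_lit 0x3208001), (nat_lit 0x3764001), (nat_lit 0x3209001), (nat_lit 0x320a001), (nat_lit 0x3206001)], [(nat_lit 0x3762001), (nat_lit 0x385a001), (nat_lit 0x3367001), (nat_lit 0x3796001), (nat_lit 0x3766001), (nat_lit 0x3798001)], [(nat_lit 0x3254001), (nat_lit 0x3799001), (nat_lit 0x3255001), (nat_lit 0x3323001), (nat_lit 0x3256001), (nat_lit 0x3257001)], [(nat_lit 0x32ab001), (nat_lit 0x32ef001), (nat_lit 0x3361001), (nat_lit 0x32aa001), (nat_lit 0x32ac001), (nat_lit 0x32a9001)], [(nat_lit 0x37a3001), (nat_lit 0x336a001), (nat_lit 0x379a001), (nat_lit 0x3404001), (nat_lit 0x336b001), (nat_lit 0x37a1001)], [(nat_lit 0x3258001), (nat_lit 0x379d001), (nat_lit 0x3259001), (nat_lit 0x3407001), (nat_lit 0x325a001), (nat_lit 0x325b001)], [(nat_lit 0x325c001), (nat_lit 0x37a2001), (nat_lit 0x325d001), (nat_lit 0x325e001), (nat_lit 0x325f001), (nat_lit 0x3260001)], [(nat_lit 0x3099001), (nat_lit 0x309a001), (nat_lit 0x35b6001), (nat_lit 0x309b001), (nat_lit 0x309c001), (nat_lit 0x309d001)], [(nat_lit 0x33ca001), (nat_lit 0x33cb001), (nat_lit 0x33c9001), (nat_lit 0x33cc001), (nat_lit 0x33cd001), (nat_lit 0x33ce001)], [(nat_lit 0x35b8001), (nat_lit 0x3417001), (nat_lit 0x3095001), (nat_lit 0x35bf001), (nat_lit 0x3096001), (nat_lit 0x3094001)], [(nat_lit 0x3283001), (nat_lit 0x3284001), (nat_lit 0x37c2001), (nat_lit 0x3285001), (nat_lit 0x3286001), (nat_lit 0x3287001)], [(nat_lit 0x3433001), (nat_lit 0x38dd001), (nat_lit 0x3434001), (nat_lit 0x3435001), (nat_lit 0x37c3001), (nat_lit 0x3436001)], [(nat_lit 0x3061001), (nat_lit 0x3062001), (nat_lit 0x3063001), (nat_lit 0x3064001), (nat_lit 0x3065001), (nat_lit 0x3066001)], [(nat_lit 0x3275001), (nat_lit 0x3276001), (nat_lit 0x3732001), (nat_lit 0x3274001), (nat_lit 0x3277001), (nat_lit 0x3287001)], [(nat_lit 0x37c1001), (nat_lit 0x3280001), (nat_lit 0x327f001), (nat_lit 0x37bd001), (nat_lit 0x3281001), (nat_lit 0x3282001)], [(nat_lit 0x38d6001), (nat_lit 0x342b001), (nat_lit 0x342c001), (nat_lit 0x38d3001), (nat_lit 0x342d001), (nat_lit 0x342e001)], [(nat_lit 0x3432001), (nat_lit 0x38d4001), (nat_lit 0x3431001), (nat_lit 0x342f001), (nat_lit 0x38da001), (nat_lit 0x3430001)], [(nat_lit 0x3437001), (nat_lit 0x3438001), (nat_lit 0x38d7001), (nat_lit 0x3439001), (nat_lit 0x343a001), (nat_lit 0x343b001)], [(nat_lit 0x344a001), (nat_lit 0x3449001), (nat_lit 0x344b001), (nat_lit 0x344c001), (nat_lit 0x344d001), (nat_lit 0x344e001)], [(nat_lit 0x343e001), (nat_lit 0x343f001), (nat_lit 0x36c1001), (nat_lit 0x3440001), (nat_lit 0x3441001), (nat_lit 0x3442001)], [(nat_lit 0x3313001), (nat_lit 0x3310001), (nat_lit 0x3312001), (nat_lit 0x330f001), (nat_lit 0x36c0001), (nat_lit 0x3311001)], [(nat_lit 0x3334001), (nat_lit 0x3335001), (nat_lit 0x3331001), (nat_lit 0x3332001), (nat_lit 0x3336001), (nat_lit 0x3333001)], [(nat_lit 0x38ec001), (nat_lit 0x345f001), (nat_lit 0x3460001), (nat_lit 0x38f4001), (nat_lit 0x379b001), (nat_lit 0x3461001)], [(nat_lit 0x345b001), (nat_lit 0x38f3001), (nat_lit 0x345c001), (nat_lit 0x345d001), (nat_lit 0x38e9001), (nat_lit 0x345e001)], [(nat_lit 0x36c3001), (nat_lit 0x38e0001), (nat_lit 0x343c001), (nat_lit 0x36c9001), (nat_lit 0x343d001), (nat_lit 0x3599001)], [(nat_lit 0x3072001), (nat_lit 0x3057001), (nat_lit 0x3598001), (nat_lit 0x3056001), (nat_lit 0x31c1001), (nat_lit 0x3058001)], [(nat_lit 0x387f001), (nat_lit 0x3443001), (nat_lit 0x385b001), (nat_lit 0x3826001), (nat_lit 0x38e1001), (nat_lit 0x3848001)], [(nat_lit 0x3314001), (nat_lit 0x3824001), (nat_lit 0x3315001), (nat_lit 0x3316001), (nat_lit 0x358a001), (nat_lit 0x3317001)], [(nat_lit 0x333a001), (nat_lit 0x3846001), (nat_lit 0x333b001), (nat_lit 0x333c001), (nat_lit 0x3844001), (nat_lit 0x333d001)], [(nat_lit 0x3445001), (nat_lit 0x3446001), (nat_lit 0x3842001), (nat_lit 0x3447001), (nat_lit 0x3444001), (nat_lit 0x3448001)], [(nat_lit 0x3453001), (nat_lit 0x38eb001), (nat_lit 0x3454001), (nat_lit 0x38e8001), (nat_lit 0x3455001), (nat_lit 0x3456001)], [(nat_lit 0x38e6001), (nat_lit 0x3450001), (nat_lit 0x38e2001), (nat_lit 0x344f001), (nat_lit 0x3451001), (nat_lit 0x3452001)], [(nat_lit 0x345a001), (nat_lit 0x38f0001), (nat_lit 0x3457001), (nat_lit 0x3458001), (nat_lit 0x38e3001), (nat_lit 0x3459001)], [(nat_lit 0x327b001), (nat_lit 0x327c001), (nat_lit 0x37bb001), (nat_lit 0x327d001), (nat_lit 0x327a001), (nat_lit 0x327e001)], [(nat_lit 0x3279001), (nat_lit 0x37b7001), (nat_lit 0x3278001), (nat_lit 0x341c001), (nat_lit 0x37b9001), (nat_lit 0x3415001)], [(nat_lit 0x3224001), (nat_lit 0x3225001), (nat_lit 0x3226001), (nat_lit 0x3603001), (nat_lit 0x3227001), (nat_lit 0x3228001)], [(nat_lit 0x3412001), (nat_lit 0x38bd001), (nat_lit 0x3413001), (nat_lit 0x3414001), (nat_lit 0x35b5001), (nat_lit 0x3415001)], [(nat_lit 0x32f1001), (nat_lit 0x32f2001), (nat_lit 0x32f3001), (nat_lit 0x380d001), (nat_lit 0x32f4001), (nat_lit 0x32f5001)], [(nat_lit 0x319e001), (nat_lit 0x319f001), (nat_lit 0x31a0001), (nat_lit 0x31a1001), (nat_lit 0x31a2001), (nat_lit 0x31a3001)], [(nat_lit 0x33a1001), (nat_lit 0x31f6001), (nat_lit 0x31f7001), (nat_lit 0x3759001), (nat_lit 0x33c3001), (nat_lit 0x36f3001)], [(nat_lit 0x339e001), (nat_lit 0x3195001), (nat_lit 0x36ef001), (nat_lit 0x3194001), (nat_lit 0x36f4001), (nat_lit 0x3196001)], [(nat_lit 0x323f001), (nat_lit 0x378a001), (nat_lit 0x323e001), (nat_lit 0x3240001), (nat_lit 0x3241001), (nat_lit 0x3242001)], [(nat_lit 0x3795001), (nat_lit 0x385c001), (nat_lit 0x3368001), (nat_lit 0x3760001), (nat_lit 0x3369001), (nat_lit 0x3761001)], [(nat_lit 0x379e001), (nat_lit 0x3261001), (nat_lit 0x3326001), (nat_lit 0x378d001), (nat_lit 0x3262001), (nat_lit 0x37a6001)], [(nat_lit 0x31b1001), (nat_lit 0x370a001), (nat_lit 0x31b0001), (nat_lit 0x31b3001), (nat_lit 0x31b2001), (nat_lit 0x31b4001)], [(nat_lit 0x31b6001), (nat_lit 0x31b7001), (nat_lit 0x31b8001), (nat_lit 0x31b9001), (nat_lit 0x3710001), (nat_lit 0x31b5001)], [(nat_lit 0x31e3001), (nat_lit 0x31e4001), (nat_lit 0x31e2001), (nat_lit 0x3746001), (nat_lit 0x31e5001), (nat_lit 0x374b001)], [(nat_lit 0x31e7001), (nat_lit 0x3249001), (nat_lit 0x374e001), (nat_lit 0x31e8001), (nat_lit 0x3750001), (nat_lit 0x31e6001)], [(nat_lit 0x31ea001), (nat_lit 0x3748001), (nat_lit 0x31eb001), (nat_lit 0x31e9001), (nat_lit 0x3753001), (nat_lit 0x31ec001)], [(nat_lit 0x31ee001), (nat_lit 0x374d001), (nat_lit 0x31ef001), (nat_lit 0x31f0001), (nat_lit 0x3756001), (nat_lit 0x31ed001)], [(nat_lit 0x3711001), (nat_lit 0x324d001), (nat_lit 0x3758001), (nat_lit 0x328e001), (nat_lit 0x31f1001), (nat_lit 0x3752001)], [(nat_lit 0x3212001), (nat_lit 0x3774001), (nat_lit 0x3213001), (nat_lit 0x35fe001), (nat_lit 0x3214001), (nat_lit 0x3773001)], [(nat_lit 0x3215001), (nat_lit 0x3216001), (nat_lit 0x3771001), (nat_lit 0x3217001), (nat_lit 0x369d001), (nat_lit 0x3218001)], [(nat_lit 0x3265001), (nat_lit 0x320b001), (nat_lit 0x320c001), (nat_lit 0x3611001), (nat_lit 0x320d001), (nat_lit 0x320e001)], [(nat_lit 0x35fc001), (nat_lit 0x3610001), (nat_lit 0x3602001), (nat_lit 0x30bf001), (nat_lit 0x30be001), (nat_lit 0x361b001)], [(nat_lit 0x3770001), (nat_lit 0x3210001), (nat_lit 0x3211001), (nat_lit 0x361f001), (nat_lit 0x3698001), (nat_lit 0x320f001)], [(nat_lit 0x3222001), (nat_lit 0x3601001), (nat_lit 0x361e001), (nat_lit 0x3223001), (nat_lit 0x3609001), (nat_lit 0x3605001)], [(nat_lit 0x321f001), (nat_lit 0x321c001), (nat_lit 0x321d001), (nat_lit 0x35ef001), (nat_lit 0x321e001), (nat_lit 0x321b001)], [(nat_lit 0x35f1001), (nat_lit 0x321a001), (nat_lit 0x3777001), (nat_lit 0x3219001), (nat_lit 0x35f5001), (nat_lit 0x35f0001)], [(nat_lit 0x361c001), (nat_lit 0x3779001), (nat_lit 0x3220001), (nat_lit 0x3772001), (nat_lit 0x3657001), (nat_lit 0x35ff001)], [(nat_lit 0x3607001), (nat_lit 0x35f7001), (nat_lit 0x3656001), (nat_lit 0x3246001), (nat_lit 0x3221001), (nat_lit 0x35d2001)], [(nat_lit 0x3600001), (nat_lit 0x35ee001), (nat_lit 0x35fd001), (nat_lit 0x30aa001), (nat_lit 0x30a9001), (nat_lit 0x30ab001)], [(nat_lit 0x322a001), (nat_lit 0x322b001), (nat_lit 0x3229001), (nat_lit 0x377a001), (nat_lit 0x322c001), (nat_lit 0x322d001)], [(nat_lit 0x3204001), (nat_lit 0x376d001), (nat_lit 0x3203001), (nat_lit 0x376a001), (nat_lit 0x3205001), (nat_lit 0x3767001)], [(nat_lit 0x305d001), (nat_lit 0x306f001), (nat_lit 0x359f001), (nat_lit 0x305e001), (nat_lit 0x305f001), (nat_lit 0x3060001)], [(nat_lit 0x359e001), (nat_lit 0x305a001), (nat_lit 0x3059001), (nat_lit 0x359a001), (nat_lit 0x305b001), (nat_lit 0x305c001)], [(nat_lit 0x31be001), (nat_lit 0x31bf001), (nat_lit 0x371c001), (nat_lit 0x31c0001), (nat_lit 0x31c1001), (nat_lit 0x3448001)], [(nat_lit 0x31c2001), (nat_lit 0x31c3001), (nat_lit 0x31c4001), (nat_lit 0x3447001), (nat_lit 0x31c5001), (nat_lit 0x31c6001)], [(nat_lit 0x31fe001), (nat_lit 0x376c001), (nat_lit 0x31ff001), (nat_lit 0x3765001), (nat_lit 0x3205001), (nat_lit 0x376b001)], [(nat_lit 0x3200001), (nat_lit 0x3446001), (nat_lit 0x3769001), (nat_lit 0x3201001), (nat_lit 0x3252001), (nat_lit 0x3202001)], [(nat_lit 0x3204001), (nat_lit 0x33c4001), (nat_lit 0x31f2001), (nat_lit 0x31fd001), (nat_lit 0x31f3001), (nat_lit 0x31fa001)], [(nat_lit 0x3207001), (nat_lit 0x3272001), (nat_lit 0x31f9001), (nat_lit 0x31f5001), (nat_lit 0x3365001), (nat_lit 0x31f4001)], [(nat_lit 0x3763001), (nat_lit 0x375b001), (nat_lit 0x31f9001), (nat_lit 0x31f8001), (nat_lit 0x375e001), (nat_lit 0x31fa001)], [(nat_lit 0x3768001), (nat_lit 0x36f1001), (nat_lit 0x31fc001), (nat_lit 0x31fd001), (nat_lit 0x3369001), (nat_lit 0x31fb001)], [(nat_lit 0x34ea001), (nat_lit 0x3084001), (nat_lit 0x30b1001), (nat_lit 0x35c9001), (nat_lit 0x3085001), (nat_lit 0x35cd001)], [(nat_lit 0x307e001), (nat_lit 0x35c8001), (nat_lit 0x35be001), (nat_lit 0x307f001), (nat_lit 0x32ac001), (nat_lit 0x35c7001)], [(nat_lit 0x3080001), (nat_lit 0x35cb001), (nat_lit 0x3081001), (nat_lit 0x35c6001), (nat_lit 0x3082001), (nat_lit 0x3083001)], [(nat_lit 0x308b001), (nat_lit 0x35d9001), (nat_lit 0x308c001), (nat_lit 0x308d001), (nat_lit 0x308e001), (nat_lit 0x308f001)], [(nat_lit 0x32ab001), (nat_lit 0x34e4001), (nat_lit 0x32b7001), (nat_lit 0x3079001), (nat_lit 0x307a001), (nat_lit 0x32af001)], [(nat_lit 0x35bd001), (nat_lit 0x35b3001), (nat_lit 0x307b001), (nat_lit 0x35b4001), (nat_lit 0x32b8001), (nat_lit 0x35b9001)], [(nat_lit 0x35c4001), (nat_lit 0x34e0001), (nat_lit 0x35ba001), (nat_lit 0x307d001), (nat_lit 0x35c2001), (nat_lit 0x307c001)], [(nat_lit 0x308a001), (nat_lit 0x3087001), (nat_lit 0x3089001), (nat_lit 0x3086001), (nat_lit 0x35ce001), (nat_lit 0x3088001)], [(nat_lit 0x306e001), (nat_lit 0x306f001), (nat_lit 0x35a9001), (nat_lit 0x306d001), (nat_lit 0x3070001), (nat_lit 0x327e001)], [(nat_lit 0x3097001), (nat_lit 0x35e7001), (nat_lit 0x3098001), (nat_lit 0x35bb001), (nat_lit 0x35ab001), (nat_lit 0x35b7001)], [(nat_lit 0x3244001), (nat_lit 0x30b0001), (nat_lit 0x30b1001), (nat_lit 0x3608001), (nat_lit 0x30b2001), (nat_lit 0x35de001)], [(nat_lit 0x30ac001), (nat_lit 0x3606001), (nat_lit 0x30ad001), (nat_lit 0x30ae001), (nat_lit 0x3604001), (nat_lit 0x30af001)], [(nat_lit 0x3033001), (nat_lit 0x3034001), (nat_lit 0x3583001), (nat_lit 0x3035001), (nat_lit 0x3032001), (nat_lit 0x3370001)], [(nat_lit 0x35aa001), (nat_lit 0x335a001), (nat_lit 0x3090001), (nat_lit 0x35df001), (nat_lit 0x3091001), (nat_lit 0x3357001)], [(nat_lit 0x35e3001), (nat_lit 0x3092001), (nat_lit 0x30b4001), (nat_lit 0x35e1001), (nat_lit 0x335c001), (nat_lit 0x3419001)], [(nat_lit 0x35bc001), (nat_lit 0x35e2001), (nat_lit 0x35c5001), (nat_lit 0x3093001), (nat_lit 0x35e6001), (nat_lit 0x35c1001)], [(nat_lit 0x30a1001), (nat_lit 0x3245001), (nat_lit 0x30a2001), (nat_lit 0x35f4001), (nat_lit 0x30a3001), (nat_lit 0x30a4001)], [(nat_lit 0x35f2001), (nat_lit 0x309f001), (nat_lit 0x35e9001), (nat_lit 0x309e001), (nat_lit 0x35ed001), (nat_lit 0x30a0001)], [(nat_lit 0x30a8001), (nat_lit 0x35f8001), (nat_lit 0x30a5001), (nat_lit 0x30a6001), (nat_lit 0x35fb001), (nat_lit 0x30a7001)], [(nat_lit 0x33f0001), (nat_lit 0x369b001), (nat_lit 0x33f1001), (nat_lit 0x3439001), (nat_lit 0x33f2001), (nat_lit 0x33f3001)], [(nat_lit 0x3121001), (nat_lit 0x3693001), (nat_lit 0x3120001), (nat_lit 0x3536001), (nat_lit 0x3122001), (nat_lit 0x3123001)], [(nat_lit 0x3621001), (nat_lit 0x30c3001), (nat_lit 0x30c2001), (nat_lit 0x3517001), (nat_lit 0x30c4001), (nat_lit 0x30c5001)], [(nat_lit 0x3534001), (nat_lit 0x3516001), (nat_lit 0x353d001), (nat_lit 0x3129001), (nat_lit 0x3508001), (nat_lit 0x312a001)], [(nat_lit 0x30c6001), (nat_lit 0x30c7001), (nat_lit 0x3622001), (nat_lit 0x30c8001), (nat_lit 0x30c9001), (nat_lit 0x30ca001)], [(nat_lit 0x30ec001), (nat_lit 0x30eb001), (nat_lit 0x30ed001), (nat_lit 0x30ef001), (nat_lit 0x30ee001), (nat_lit 0x3522001)], [(nat_lit 0x30de001), (nat_lit 0x319f001), (nat_lit 0x30df001), (nat_lit 0x31c9001), (nat_lit 0x30e0001), (nat_lit 0x31a7001)], [(nat_lit 0x30e5001), (nat_lit 0x30f0001), (nat_lit 0x363f001), (nat_lit 0x30e6001), (nat_lit 0x31ca001), (nat_lit 0x364d001)], [(nat_lit 0x30e7001), (nat_lit 0x3520001), (nat_lit 0x30e8001), (nat_lit 0x364b001), (nat_lit 0x30e9001), (nat_lit 0x30ea001)], [(nat_lit 0x30d0001), (nat_lit 0x3625001), (nat_lit 0x30d1001), (nat_lit 0x30d2001), (nat_lit 0x30d3001), (nat_lit 0x30d4001)], [(nat_lit 0x30d6001), (nat_lit 0x32f2001), (nat_lit 0x30d7001), (nat_lit 0x362a001), (nat_lit 0x30d5001), (nat_lit 0x32fd001)], [(nat_lit 0x31c8001), (nat_lit 0x30d9001), (nat_lit 0x362d001), (nat_lit 0x30d8001), (nat_lit 0x30da001), (nat_lit 0x362f001)], [(nat_lit 0x31a5001), (nat_lit 0x30dc001), (nat_lit 0x32fb001), (nat_lit 0x3631001), (nat_lit 0x30dd001), (nat_lit 0x30db001)], [(nat_lit 0x363e001), (nat_lit 0x3633001), (nat_lit 0x30e1001), (nat_lit 0x3635001), (nat_lit 0x362e001), (nat_lit 0x3639001)], [(nat_lit 0x3649001), (nat_lit 0x30e3001), (nat_lit 0x363a001), (nat_lit 0x30e4001), (nat_lit 0x3643001), (nat_lit 0x30e2001)], [(nat_lit 0x3588001), (nat_lit 0x3037001), (nat_lit 0x3036001), (nat_lit 0x3584001), (nat_lit 0x3038001), (nat_lit 0x3039001)], [(nat_lit 0x30ce001), (nat_lit 0x3585001), (nat_lit 0x30cd001), (nat_lit 0x30cb001), (nat_lit 0x30cf001), (nat_lit 0x30cc001)], [(nat_lit 0x303a001), (nat_lit 0x303b001), (nat_lit 0x3589001), (nat_lit 0x303c001), (nat_lit 0x303d001), (nat_lit 0x303e001)], [(nat_lit 0x3143001), (nat_lit 0x3144001), (nat_lit 0x36ad001), (nat_lit 0x3145001), (nat_lit 0x3146001), (nat_lit 0x36b5001)], [(nat_lit 0x3147001), (nat_lit 0x3148001), (nat_lit 0x3149001), (nat_lit 0x36b4001), (nat_lit 0x314a001), (nat_lit 0x314b001)], [(nat_lit 0x3163001), (nat_lit 0x36ca001), (nat_lit 0x3164001), (nat_lit 0x363b001), (nat_lit 0x3165001), (nat_lit 0x3637001)], [(nat_lit 0x3167001), (nat_lit 0x36b3001), (nat_lit 0x3636001), (nat_lit 0x3168001), (nat_lit 0x36cd001), (nat_lit 0x3169001)], [(nat_lit 0x311b001), (nat_lit 0x311c001), (nat_lit 0x368c001), (nat_lit 0x311d001), (nat_lit 0x311e001), (nat_lit 0x311f001)], [(nat_lit 0x3117001), (nat_lit 0x368f001), (nat_lit 0x3118001), (nat_lit 0x368a001), (nat_lit 0x3119001), (nat_lit 0x368e001)], [(nat_lit 0x3671001), (nat_lit 0x311a001), (nat_lit 0x3692001), (nat_lit 0x3683001), (nat_lit 0x3691001), (nat_lit 0x3629001)], [(nat_lit 0x310e001), (nat_lit 0x3682001), (nat_lit 0x310f001), (nat_lit 0x3110001), (nat_lit 0x3681001), (nat_lit 0x3111001)], [(nat_lit 0x314d001), (nat_lit 0x314e001), (nat_lit 0x36b6001), (nat_lit 0x314c001), (nat_lit 0x314f001), (nat_lit 0x3674001)], [(nat_lit 0x3151001), (nat_lit 0x3152001), (nat_lit 0x3153001), (nat_lit 0x3673001), (nat_lit 0x3154001), (nat_lit 0x3150001)], [(nat_lit 0x3156001), (nat_lit 0x359b001), (nat_lit 0x3155001), (nat_lit 0x3157001), (nat_lit 0x36b8001), (nat_lit 0x3158001)], [(nat_lit 0x315a001), (nat_lit 0x315b001), (nat_lit 0x315c001), (nat_lit 0x315d001), (nat_lit 0x36b9001), (nat_lit 0x3159001)], [(nat_lit 0x310c001), (nat_lit 0x3672001), (nat_lit 0x3109001), (nat_lit 0x310a001), (nat_lit 0x3676001), (nat_lit 0x310b001)], [(nat_lit 0x313b001), (nat_lit 0x313c001), (nat_lit 0x313d001), (nat_lit 0x36a6001), (nat_lit 0x313e001), (nat_lit 0x313a001)], [(nat_lit 0x3137001), (nat_lit 0x3138001), (nat_lit 0x369f001), (nat_lit 0x3136001), (nat_lit 0x3139001), (nat_lit 0x36a3001)], [(nat_lit 0x36c8001), (nat_lit 0x315e001), (nat_lit 0x359d001), (nat_lit 0x36be001), (nat_lit 0x3587001), (nat_lit 0x36c4001)], [(nat_lit 0x363c001), (nat_lit 0x36bf001), (nat_lit 0x364a001), (nat_lit 0x315f001), (nat_lit 0x3160001), (nat_lit 0x3641001)], [(nat_lit 0x3638001), (nat_lit 0x36c5001), (nat_lit 0x3162001), (nat_lit 0x3640001), (nat_lit 0x367e001), (nat_lit 0x3161001)], [(nat_lit 0x36cc001), (nat_lit 0x36bb001), (nat_lit 0x367d001), (nat_lit 0x36b1001), (nat_lit 0x3166001), (nat_lit 0x3679001)], [(nat_lit 0x36b2001), (nat_lit 0x3141001), (nat_lit 0x36ab001), (nat_lit 0x3142001), (nat_lit 0x36af001), (nat_lit 0x3140001)], [(nat_lit 0x36ac001), (nat_lit 0x36a7001), (nat_lit 0x313f001), (nat_lit 0x36a9001), (nat_lit 0x36a1001), (nat_lit 0x36aa001)], [(nat_lit 0x368b001), (nat_lit 0x3114001), (nat_lit 0x3115001), (nat_lit 0x3688001), (nat_lit 0x3116001), (nat_lit 0x3113001)], [(nat_lit 0x366c001), (nat_lit 0x3104001), (nat_lit 0x3105001), (nat_lit 0x3669001), (nat_lit 0x3103001), (nat_lit 0x3106001)], [(nat_lit 0x3689001), (nat_lit 0x366a001), (nat_lit 0x3685001), (nat_lit 0x3112001), (nat_lit 0x367b001), (nat_lit 0x3686001)], [(nat_lit 0x3107001), (nat_lit 0x3670001), (nat_lit 0x3108001), (nat_lit 0x3668001), (nat_lit 0x366e001), (nat_lit 0x358b001)], [(nat_lit 0x3667001), (nat_lit 0x3102001), (nat_lit 0x3664001), (nat_lit 0x3101001), (nat_lit 0x3665001), (nat_lit 0x3586001)], [(nat_lit 0x367f001), (nat_lit 0x3666001), (nat_lit 0x3678001), (nat_lit 0x367a001), (nat_lit 0x310d001), (nat_lit 0x367c001)], [(nat_lit 0x3124001), (nat_lit 0x3125001), (nat_lit 0x366d001), (nat_lit 0x3126001), (nat_lit 0x3127001), (nat_lit 0x3128001)], [(nat_lit 0x34bf001), (nat_lit 0x34bc001), (nat_lit 0x34bb001), (nat_lit 0x34bd001), (nat_lit 0x3955001), (nat_lit 0x34be001)], [(nat_lit 0x34ea001), (nat_lit 0x34e9001), (nat_lit 0x34eb001), (nat_lit 0x3987001), (nat_lit 0x34ec001), (nat_lit 0x3956001)], [(nat_lit 0x34c6001), (nat_lit 0x34c7001), (nat_lit 0x34c8001), (nat_lit 0x34c5001), (nat_lit 0x395a001), (nat_lit 0x34c9001)], [(nat_lit 0x34b8001), (nat_lit 0x3954001), (nat_lit 0x34b7001), (nat_lit 0x3957001), (nat_lit 0x34b9001), (nat_lit 0x34ba001)], [(nat_lit 0x34e7001), (nat_lit 0x3985001), (nat_lit 0x3975001), (nat_lit 0x34e8001), (nat_lit 0x362c001), (nat_lit 0x3959001)], [(nat_lit 0x3389001), (nat_lit 0x338a001), (nat_lit 0x338b001), (nat_lit 0x338c001), (nat_lit 0x338d001), (nat_lit 0x338e001)], [(nat_lit 0x32a4001), (nat_lit 0x32a3001), (nat_lit 0x32a5001), (nat_lit 0x32a6001), (nat_lit 0x37ef001), (nat_lit 0x32a7001)], [(nat_lit 0x32fa001), (nat_lit 0x32b0001), (nat_lit 0x32b1001), (nat_lit 0x37f6001), (nat_lit 0x32b2001), (nat_lit 0x32b3001)], [(nat_lit 0x362b001), (nat_lit 0x34e4001), (nat_lit 0x3981001), (nat_lit 0x34e3001), (nat_lit 0x34e5001), (nat_lit 0x37f7001)], [(nat_lit 0x395b001), (nat_lit 0x3503001), (nat_lit 0x395d001), (nat_lit 0x3980001), (nat_lit 0x34e2001), (nat_lit 0x37f0001)], [(nat_lit 0x3958001), (nat_lit 0x34e0001), (nat_lit 0x397c001), (nat_lit 0x34df001), (nat_lit 0x397e001), (nat_lit 0x34e1001)], [(nat_lit 0x3974001), (nat_lit 0x3983001), (nat_lit 0x34e6001), (nat_lit 0x36a2001), (nat_lit 0x3982001), (nat_lit 0x397d001)], [(nat_lit 0x36a4001), (nat_lit 0x34db001), (nat_lit 0x3977001), (nat_lit 0x34dc001), (nat_lit 0x3978001), (nat_lit 0x34da001)], [(nat_lit 0x3677001), (nat_lit 0x3979001), (nat_lit 0x3680001), (nat_lit 0x397a001), (nat_lit 0x34de001), (nat_lit 0x36ce001)], [(nat_lit 0x36a0001), (nat_lit 0x3971001), (nat_lit 0x34d9001), (nat_lit 0x3973001), (nat_lit 0x36ae001), (nat_lit 0x3976001)], [(nat_lit 0x397b001), (nat_lit 0x34dd001), (nat_lit 0x3972001), (nat_lit 0x3627001), (nat_lit 0x36cb001), (nat_lit 0x3684001)], [(nat_lit 0x36b7001), (nat_lit 0x36ea001), (nat_lit 0x3191001), (nat_lit 0x36ec001), (nat_lit 0x3190001), (nat_lit 0x36ed001)], [(nat_lit 0x3675001), (nat_lit 0x36a5001), (nat_lit 0x36ee001), (nat_lit 0x3193001), (nat_lit 0x36e5001), (nat_lit 0x3192001)], [(nat_lit 0x36eb001), (nat_lit 0x318b001), (nat_lit 0x36a8001), (nat_lit 0x36e6001), (nat_lit 0x36e9001), (nat_lit 0x36e0001)], [(nat_lit 0x318d001), (nat_lit 0x36e7001), (nat_lit 0x318e001), (nat_lit 0x318c001), (nat_lit 0x35a6001), (nat_lit 0x318f001)], [(nat_lit 0x3187001), (nat_lit 0x36de001), (nat_lit 0x3186001), (nat_lit 0x3188001), (nat_lit 0x36e1001), (nat_lit 0x3189001)], [(nat_lit 0x36ba001), (nat_lit 0x36b0001), (nat_lit 0x36e3001), (nat_lit 0x36bd001), (nat_lit 0x318a001), (nat_lit 0x36e4001)], [(nat_lit 0x36d0001), (nat_lit 0x3180001), (nat_lit 0x3690001), (nat_lit 0x36d3001), (nat_lit 0x3694001), (nat_lit 0x36dd001)], [(nat_lit 0x3173001), (nat_lit 0x36d2001), (nat_lit 0x3174001), (nat_lit 0x3175001), (nat_lit 0x350f001), (nat_lit 0x3176001)], [(nat_lit 0x317c001), (nat_lit 0x36da001), (nat_lit 0x317d001), (nat_lit 0x317e001), (nat_lit 0x36d8001), (nat_lit 0x317f001)], [(nat_lit 0x3181001), (nat_lit 0x3182001), (nat_lit 0x36d6001), (nat_lit 0x3183001), (nat_lit 0x3184001), (nat_lit 0x3185001)], [(nat_lit 0x316a001), (nat_lit 0x36cf001), (nat_lit 0x316b001), (nat_lit 0x3269001), (nat_lit 0x3623001), (nat_lit 0x316c001)], [(nat_lit 0x3268001), (nat_lit 0x2fb9001), (nat_lit 0x2fb7001), (nat_lit 0x2fb8001), (nat_lit 0x2fb6001), (nat_lit 0x2fba001)], [(nat_lit 0x2fc9001), (nat_lit 0x2fc5001), (nat_lit 0x2fc6001), (nat_lit 0x2fc8001), (nat_lit 0x2fc4001), (nat_lit 0x2fc7001)], [(nat_lit 0x350c001), (nat_lit 0x2fb2001), (nat_lit 0x2fb3001), (nat_lit 0x3506001), (nat_lit 0x2fbb001), (nat_lit 0x2fb4001)], [(nat_lit 0x3172001), (nat_lit 0x316e001), (nat_lit 0x316f001), (nat_lit 0x3170001), (nat_lit 0x3171001), (nat_lit 0x316d001)], [(nat_lit 0x36d5001), (nat_lit 0x3178001), (nat_lit 0x3179001), (nat_lit 0x317a001), (nat_lit 0x3177001), (nat_lit 0x317b001)], [(nat_lit 0x346e001), (nat_lit 0x389f001), (nat_lit 0x346d001), (nat_lit 0x3906001), (nat_lit 0x346f001), (nat_lit 0x3908001)], [(nat_lit 0x3471001), (nat_lit 0x3472001), (nat_lit 0x390b001), (nat_lit 0x3473001), (nat_lit 0x390c001), (nat_lit 0x3470001)], [(nat_lit 0x38a2001), (nat_lit 0x33e2001), (nat_lit 0x38a0001), (nat_lit 0x33e3001), (nat_lit 0x33e1001), (nat_lit 0x33e4001)], [(nat_lit 0x3479001), (nat_lit 0x390e001), (nat_lit 0x347a001), (nat_lit 0x3911001), (nat_lit 0x3478001), (nat_lit 0x347b001)], [(nat_lit 0x347d001), (nat_lit 0x347e001), (nat_lit 0x3916001), (nat_lit 0x347c001), (nat_lit 0x3914001), (nat_lit 0x347f001)], [(nat_lit 0x3481001), (nat_lit 0x391a001), (nat_lit 0x3480001), (nat_lit 0x35eb001), (nat_lit 0x3482001), (nat_lit 0x3919001)], [(nat_lit 0x35da001), (nat_lit 0x34b4001), (nat_lit 0x3952001), (nat_lit 0x35d1001), (nat_lit 0x34b5001), (nat_lit 0x34b6001)], [(nat_lit 0x34b3001), (nat_lit 0x35cf001), (nat_lit 0x394d001), (nat_lit 0x34b2001), (nat_lit 0x34b1001), (nat_lit 0x35f6001)], [(nat_lit 0x34c0001), (nat_lit 0x34c1001), (nat_lit 0x34c2001), (nat_lit 0x34c3001), (nat_lit 0x35dd001), (nat_lit 0x34c4001)], [(nat_lit 0x3494001), (nat_lit 0x391e001), (nat_lit 0x3493001), (nat_lit 0x392b001), (nat_lit 0x3495001), (nat_lit 0x3929001)], [(nat_lit 0x3490001), (nat_lit 0x348f001), (nat_lit 0x3927001), (nat_lit 0x3491001), (nat_lit 0x3925001), (nat_lit 0x3492001)], [(nat_lit 0x3949001), (nat_lit 0x34a8001), (nat_lit 0x34a9001), (nat_lit 0x3944001), (nat_lit 0x391f001), (nat_lit 0x3946001)], [(nat_lit 0x35ec001), (nat_lit 0x3945001), (nat_lit 0x35f3001), (nat_lit 0x34aa001), (nat_lit 0x3778001), (nat_lit 0x394b001)], [(nat_lit 0x3917001), (nat_lit 0x3947001), (nat_lit 0x34ac001), (nat_lit 0x394e001), (nat_lit 0x3950001), (nat_lit 0x34ab001)], [(nat_lit 0x3912001), (nat_lit 0x34ae001), (nat_lit 0x3951001), (nat_lit 0x34af001), (nat_lit 0x34ad001), (nat_lit 0x3926001)], [(nat_lit 0x38ac001), (nat_lit 0x3487001), (nat_lit 0x391d001), (nat_lit 0x389b001), (nat_lit 0x3488001), (nat_lit 0x3900001)], [(nat_lit 0x33da001), (nat_lit 0x3898001), (nat_lit 0x33db001), (nat_lit 0x33dc001), (nat_lit 0x33dd001), (nat_lit 0x33de001)], [(nat_lit 0x3469001), (nat_lit 0x38ff001), (nat_lit 0x346a001), (nat_lit 0x3468001), (nat_lit 0x3901001), (nat_lit 0x346b001)], [(nat_lit 0x348c001), (nat_lit 0x3923001), (nat_lit 0x3903001), (nat_lit 0x3924001), (nat_lit 0x348d001), (nat_lit 0x348e001)], [(nat_lit 0x34f4001), (nat_lit 0x38a3001), (nat_lit 0x394a001), (nat_lit 0x38b5001), (nat_lit 0x38ae001), (nat_lit 0x398e001)], [(nat_lit 0x38b4001), (nat_lit 0x34ee001), (nat_lit 0x3787001), (nat_lit 0x34ed001), (nat_lit 0x34ef001), (nat_lit 0x34f0001)], [(nat_lit 0x398b001), (nat_lit 0x34f2001), (nat_lit 0x3948001), (nat_lit 0x34f3001), (nat_lit 0x3989001), (nat_lit 0x34f1001)], [(nat_lit 0x34f6001), (nat_lit 0x398a001), (nat_lit 0x34f7001), (nat_lit 0x3904001), (nat_lit 0x34f5001), (nat_lit 0x3905001)], [(nat_lit 0x394c001), (nat_lit 0x365c001), (nat_lit 0x34b0001), (nat_lit 0x3918001), (nat_lit 0x394f001), (nat_lit 0x35ea001)], [(nat_lit 0x3463001), (nat_lit 0x38f6001), (nat_lit 0x3462001), (nat_lit 0x38fa001), (nat_lit 0x3464001), (nat_lit 0x3465001)], [(nat_lit 0x3997001), (nat_lit 0x3500001), (nat_lit 0x34ff001), (nat_lit 0x3866001), (nat_lit 0x38f8001), (nat_lit 0x3788001)], [(nat_lit 0x353b001), (nat_lit 0x3865001), (nat_lit 0x337e001), (nat_lit 0x337f001), (nat_lit 0x365e001), (nat_lit 0x3540001)], [(nat_lit 0x38b0001), (nat_lit 0x3466001), (nat_lit 0x38f7001), (nat_lit 0x38fe001), (nat_lit 0x3467001), (nat_lit 0x389d001)], [(nat_lit 0x34fe001), (nat_lit 0x34fd001), (nat_lit 0x3996001), (nat_lit 0x398d001), (nat_lit 0x38b1001), (nat_lit 0x38b7001)], [(nat_lit 0x33ea001), (nat_lit 0x38af001), (nat_lit 0x33eb001), (nat_lit 0x388c001), (nat_lit 0x33ec001), (nat_lit 0x33ed001)], [(nat_lit 0x388b001), (nat_lit 0x33e6001), (nat_lit 0x3749001), (nat_lit 0x33e7001), (nat_lit 0x38a7001), (nat_lit 0x33e5001)], [(nat_lit 0x3902001), (nat_lit 0x38a8001), (nat_lit 0x3484001), (nat_lit 0x3485001), (nat_lit 0x3483001), (nat_lit 0x3486001)], [(nat_lit 0x34fb001), (nat_lit 0x398c001), (nat_lit 0x3993001), (nat_lit 0x34fc001), (nat_lit 0x3995001), (nat_lit 0x38a6001)], [(nat_lit 0x33f9001), (nat_lit 0x38b3001), (nat_lit 0x33fa001), (nat_lit 0x38a4001), (nat_lit 0x33fb001), (nat_lit 0x33fc001)], [(nat_lit 0x3992001), (nat_lit 0x390a001), (nat_lit 0x34f8001), (nat_lit 0x398f001), (nat_lit 0x3990001), (nat_lit 0x38a1001)], [(nat_lit 0x3994001), (nat_lit 0x34fa001), (nat_lit 0x3991001), (nat_lit 0x38a9001), (nat_lit 0x34f9001), (nat_lit 0x38aa001)], [(nat_lit 0x34bf001), (nat_lit 0x32e3001), (nat_lit 0x34c2001), (nat_lit 0x32e4001), (nat_lit 0x35cc001), (nat_lit 0x32e2001)], [(nat_lit 0x32de001), (nat_lit 0x32df001), (nat_lit 0x32e9001), (nat_lit 0x32e0001), (nat_lit 0x32e1001), (nat_lit 0x32dd001)], [(nat_lit 0x3502001), (nat_lit 0x3503001), (nat_lit 0x3504001), (nat_lit 0x35c3001), (nat_lit 0x3501001), (nat_lit 0x3505001)], [(nat_lit 0x3031001), (nat_lit 0x357f001), (nat_lit 0x3030001), (nat_lit 0x3525001), (nat_lit 0x3581001), (nat_lit 0x357e001)], [(nat_lit 0x302d001), (nat_lit 0x302e001), (nat_lit 0x357b001), (nat_lit 0x302c001), (nat_lit 0x3301001), (nat_lit 0x302f001)], [(nat_lit 0x357c001), (nat_lit 0x3043001), (nat_lit 0x3042001), (nat_lit 0x3575001), (nat_lit 0x3591001), (nat_lit 0x3044001)], [(nat_lit 0x3526001), (nat_lit 0x3577001), (nat_lit 0x352b001), (nat_lit 0x3048001), (nat_lit 0x3594001), (nat_lit 0x3576001)], [(nat_lit 0x3582001), (nat_lit 0x3592001), (nat_lit 0x304a001), (nat_lit 0x3595001), (nat_lit 0x3049001), (nat_lit 0x3596001)], [(nat_lit 0x336d001), (nat_lit 0x304c001), (nat_lit 0x3597001), (nat_lit 0x304d001), (nat_lit 0x3375001), (nat_lit 0x304b001)], [(nat_lit 0x32ff001), (nat_lit 0x3046001), (nat_lit 0x3593001), (nat_lit 0x3047001), (nat_lit 0x3045001), (nat_lit 0x3376001)], [(nat_lit 0x304f001), (nat_lit 0x3050001), (nat_lit 0x3349001), (nat_lit 0x3051001), (nat_lit 0x304e001), (nat_lit 0x337c001)], [(nat_lit 0x3053001), (nat_lit 0x3373001), (nat_lit 0x3054001), (nat_lit 0x337a001), (nat_lit 0x3055001), (nat_lit 0x3052001)], [(nat_lit 0x3072001), (nat_lit 0x3073001), (nat_lit 0x35ac001), (nat_lit 0x3071001), (nat_lit 0x3074001), (nat_lit 0x3442001)], [(nat_lit 0x326c001), (nat_lit 0x30f0001), (nat_lit 0x3075001), (nat_lit 0x30ef001), (nat_lit 0x3076001), (nat_lit 0x35af001)], [(nat_lit 0x3271001), (nat_lit 0x343f001), (nat_lit 0x35b0001), (nat_lit 0x3078001), (nat_lit 0x344d001), (nat_lit 0x3077001)], [(nat_lit 0x3546001), (nat_lit 0x3028001), (nat_lit 0x3027001), (nat_lit 0x3571001), (nat_lit 0x3029001), (nat_lit 0x3531001)], [(nat_lit 0x302b001), (nat_lit 0x3572001), (nat_lit 0x3573001), (nat_lit 0x302a001), (nat_lit 0x3578001), (nat_lit 0x352d001)], [(nat_lit 0x2fe5001), (nat_lit 0x352e001), (nat_lit 0x2fe6001), (nat_lit 0x352c001), (nat_lit 0x325a001), (nat_lit 0x2fe7001)], [(nat_lit 0x2ff0001), (nat_lit 0x3545001), (nat_lit 0x2ff1001), (nat_lit 0x3512001), (nat_lit 0x2ff2001), (nat_lit 0x2ff3001)], [(nat_lit 0x3514001), (nat_lit 0x2fec001), (nat_lit 0x351a001), (nat_lit 0x2fed001), (nat_lit 0x3541001), (nat_lit 0x2feb001)], [(nat_lit 0x3574001), (nat_lit 0x358c001), (nat_lit 0x303f001), (nat_lit 0x357d001), (nat_lit 0x358d001), (nat_lit 0x3524001)], [(nat_lit 0x3579001), (nat_lit 0x3542001), (nat_lit 0x358e001), (nat_lit 0x3041001), (nat_lit 0x3040001), (nat_lit 0x358f001)], [(nat_lit 0x352a001), (nat_lit 0x2fe3001), (nat_lit 0x3523001), (nat_lit 0x2fe2001), (nat_lit 0x3527001), (nat_lit 0x2fe4001)], [(nat_lit 0x2fbc001), (nat_lit 0x351d001), (nat_lit 0x2fbd001), (nat_lit 0x351b001), (nat_lit 0x326a001), (nat_lit 0x3510001)], [(nat_lit 0x2fca001), (nat_lit 0x302e001), (nat_lit 0x350d001), (nat_lit 0x2fcb001), (nat_lit 0x2fcc001), (nat_lit 0x2fcd001)], [(nat_lit 0x3519001), (nat_lit 0x3507001), (nat_lit 0x3511001), (nat_lit 0x2fb5001), (nat_lit 0x3515001), (nat_lit 0x3509001)], [(nat_lit 0x2fbf001), (nat_lit 0x2fc0001), (nat_lit 0x2fc1001), (nat_lit 0x2fc2001), (nat_lit 0x2fc3001), (nat_lit 0x2fbe001)], [(nat_lit 0x2fcf001), (nat_lit 0x2fd0001), (nat_lit 0x2fd3001), (nat_lit 0x2fce001), (nat_lit 0x2fd1001), (nat_lit 0x2fd2001)], [(nat_lit 0x304f001), (nat_lit 0x2fd5001), (nat_lit 0x351e001), (nat_lit 0x2fd4001), (nat_lit 0x2fd6001), (nat_lit 0x2fd7001)], [(nat_lit 0x3053001), (nat_lit 0x2fd9001), (nat_lit 0x2fda001), (nat_lit 0x2fdb001), (nat_lit 0x2fdc001), (nat_lit 0x2fd8001)], [(nat_lit 0x2fde001), (nat_lit 0x2fdf001), (nat_lit 0x2fdd001), (nat_lit 0x2fe0001), (nat_lit 0x3521001), (nat_lit 0x2fe1001)], [(nat_lit 0x352f001), (nat_lit 0x2ff4001), (nat_lit 0x2ff5001), (nat_lit 0x3544001), (nat_lit 0x3262001), (nat_lit 0x3549001)], [(nat_lit 0x2fee001), (nat_lit 0x3543001), (nat_lit 0x350a001), (nat_lit 0x2fef001), (nat_lit 0x353f001), (nat_lit 0x3513001)], [(nat_lit 0x2ffb001), (nat_lit 0x2ffc001), (nat_lit 0x354b001), (nat_lit 0x2ffd001), (nat_lit 0x2ffe001), (nat_lit 0x2fff001)], [(nat_lit 0x350b001), (nat_lit 0x3532001), (nat_lit 0x2fe8001), (nat_lit 0x350e001), (nat_lit 0x3533001), (nat_lit 0x351c001)], [(nat_lit 0x354a001), (nat_lit 0x2ff7001), (nat_lit 0x2ff6001), (nat_lit 0x2ffa001), (nat_lit 0x2ff8001), (nat_lit 0x2ff9001)], [(nat_lit 0x3009001), (nat_lit 0x3008001), (nat_lit 0x3547001), (nat_lit 0x300c001), (nat_lit 0x3559001), (nat_lit 0x300a001)], [(nat_lit 0x3017001), (nat_lit 0x3016001), (nat_lit 0x3018001), (nat_lit 0x3019001), (nat_lit 0x3568001), (nat_lit 0x331a001)], [(nat_lit 0x3557001), (nat_lit 0x301d001), (nat_lit 0x301e001), (nat_lit 0x356c001), (nat_lit 0x301f001), (nat_lit 0x3461001)], [(nat_lit 0x3025001), (nat_lit 0x3024001), (nat_lit 0x3530001), (nat_lit 0x3319001), (nat_lit 0x3570001), (nat_lit 0x3026001)], [(nat_lit 0x3012001), (nat_lit 0x3565001), (nat_lit 0x3013001), (nat_lit 0x3562001), (nat_lit 0x3014001), (nat_lit 0x3015001)], [(nat_lit 0x301b001), (nat_lit 0x356b001), (nat_lit 0x3431001), (nat_lit 0x301c001), (nat_lit 0x3563001), (nat_lit 0x345e001)], [(nat_lit 0x3020001), (nat_lit 0x356d001), (nat_lit 0x3021001), (nat_lit 0x3022001), (nat_lit 0x3023001), (nat_lit 0x3257001)], [(nat_lit 0x3005001), (nat_lit 0x3556001), (nat_lit 0x3006001), (nat_lit 0x3555001), (nat_lit 0x3007001), (nat_lit 0x3456001)], [(nat_lit 0x300e001), (nat_lit 0x3001001), (nat_lit 0x3013001), (nat_lit 0x354f001), (nat_lit 0x3000001), (nat_lit 0x3002001)], [(nat_lit 0x3554001), (nat_lit 0x3004001), (nat_lit 0x3553001), (nat_lit 0x3003001), (nat_lit 0x3551001), (nat_lit 0x3452001)], [(nat_lit 0x3017001), (nat_lit 0x300b001), (nat_lit 0x3018001), (nat_lit 0x300c001), (nat_lit 0x355a001), (nat_lit 0x3320001)], [(nat_lit 0x300e001), (nat_lit 0x355b001), (nat_lit 0x300f001), (nat_lit 0x355c001), (nat_lit 0x300d001), (nat_lit 0x3015001)], [(nat_lit 0x3561001), (nat_lit 0x3550001), (nat_lit 0x355f001), (nat_lit 0x3010001), (nat_lit 0x3011001), (nat_lit 0x3552001)], [(nat_lit 0x3432001), (nat_lit 0x356a001), (nat_lit 0x301a001), (nat_lit 0x3435001), (nat_lit 0x3560001), (nat_lit 0x3459001)], [(nat_lit 0x306b001), (nat_lit 0x35a8001), (nat_lit 0x306c001), (nat_lit 0x3458001), (nat_lit 0x35a0001), (nat_lit 0x3436001)], [(nat_lit 0x35a4001), (nat_lit 0x3067001), (nat_lit 0x3068001), (nat_lit 0x35a2001), (nat_lit 0x3069001), (nat_lit 0x342e001)], [(nat_lit 0x345a001), (nat_lit 0x35a3001), (nat_lit 0x345c001), (nat_lit 0x306a001), (nat_lit 0x35a7001), (nat_lit 0x3430001)], [(nat_lit 0x3133001), (nat_lit 0x32bd001), (nat_lit 0x35a5001), (nat_lit 0x3134001), (nat_lit 0x3135001), (nat_lit 0x343b001)], [(nat_lit 0x31aa001), (nat_lit 0x3701001), (nat_lit 0x31ab001), (nat_lit 0x3705001), (nat_lit 0x31a9001), (nat_lit 0x3707001)], [(nat_lit 0x31ad001), (nat_lit 0x31ae001), (nat_lit 0x3709001), (nat_lit 0x31af001), (nat_lit 0x343a001), (nat_lit 0x31ac001)], [(nat_lit 0x3703001), (nat_lit 0x31a8001), (nat_lit 0x32b5001), (nat_lit 0x36df001), (nat_lit 0x3700001), (nat_lit 0x36e8001)], [(nat_lit 0x3290001), (nat_lit 0x373b001), (nat_lit 0x31dd001), (nat_lit 0x373f001), (nat_lit 0x31de001), (nat_lit 0x3740001)], [(nat_lit 0x3294001), (nat_lit 0x31e0001), (nat_lit 0x3741001), (nat_lit 0x31e1001), (nat_lit 0x3742001), (nat_lit 0x31df001)], [(nat_lit 0x3731001), (nat_lit 0x31d5001), (nat_lit 0x31d6001), (nat_lit 0x372e001), (nat_lit 0x31d4001), (nat_lit 0x3282001)], [(nat_lit 0x3706001), (nat_lit 0x372f001), (nat_lit 0x3737001), (nat_lit 0x31da001), (nat_lit 0x3735001), (nat_lit 0x3739001)], [(nat_lit 0x3708001), (nat_lit 0x3280001), (nat_lit 0x31dc001), (nat_lit 0x373a001), (nat_lit 0x342d001), (nat_lit 0x31db001)], [(nat_lit 0x31d7001), (nat_lit 0x3704001), (nat_lit 0x31d8001), (nat_lit 0x372d001), (nat_lit 0x3733001), (nat_lit 0x35a1001)], [(nat_lit 0x372c001), (nat_lit 0x31d3001), (nat_lit 0x36c6001), (nat_lit 0x31d2001), (nat_lit 0x372a001), (nat_lit 0x359c001)], [(nat_lit 0x36e2001), (nat_lit 0x372b001), (nat_lit 0x36bc001), (nat_lit 0x3734001), (nat_lit 0x31d9001), (nat_lit 0x3736001)], [(nat_lit 0x3619001), (nat_lit 0x30c0001), (nat_lit 0x3460001), (nat_lit 0x35f9001), (nat_lit 0x336b001), (nat_lit 0x30c1001)], [(nat_lit 0x30bb001), (nat_lit 0x3618001), (nat_lit 0x30bc001), (nat_lit 0x3616001), (nat_lit 0x325f001), (nat_lit 0x30bd001)], [(nat_lit 0x3615001), (nat_lit 0x30b9001), (nat_lit 0x360c001), (nat_lit 0x30b8001), (nat_lit 0x360f001), (nat_lit 0x30ba001)], [(nat_lit 0x30f5001), (nat_lit 0x30f4001), (nat_lit 0x3558001), (nat_lit 0x3654001), (nat_lit 0x3548001), (nat_lit 0x361a001)], [(nat_lit 0x3653001), (nat_lit 0x30fa001), (nat_lit 0x365b001), (nat_lit 0x30fb001), (nat_lit 0x365a001), (nat_lit 0x35fa001)], [(nat_lit 0x30f8001), (nat_lit 0x3659001), (nat_lit 0x35d0001), (nat_lit 0x357a001), (nat_lit 0x30f9001), (nat_lit 0x3658001)], [(nat_lit 0x30f2001), (nat_lit 0x3652001), (nat_lit 0x3650001), (nat_lit 0x30f3001), (nat_lit 0x3651001), (nat_lit 0x3617001)], [(nat_lit 0x364f001), (nat_lit 0x35d6001), (nat_lit 0x30f1001), (nat_lit 0x35d7001), (nat_lit 0x35d8001), (nat_lit 0x360e001)], [(nat_lit 0x35d3001), (nat_lit 0x30f6001), (nat_lit 0x35d4001), (nat_lit 0x35dc001), (nat_lit 0x35d5001), (nat_lit 0x360a001)], [(nat_lit 0x3655001), (nat_lit 0x360d001), (nat_lit 0x360b001), (nat_lit 0x3590001), (nat_lit 0x3620001), (nat_lit 0x30f7001)], [(nat_lit 0x30ff001), (nat_lit 0x3662001), (nat_lit 0x3100001), (nat_lit 0x3660001), (nat_lit 0x354d001), (nat_lit 0x3624001)], [(nat_lit 0x365f001), (nat_lit 0x30fd001), (nat_lit 0x365d001), (nat_lit 0x30fc001), (nat_lit 0x30fe001), (nat_lit 0x3518001)], [(nat_lit 0x31a5001), (nat_lit 0x31a4001), (nat_lit 0x32b1001), (nat_lit 0x36fe001), (nat_lit 0x31a6001), (nat_lit 0x31a7001)], [(nat_lit 0x319a001), (nat_lit 0x36fc001), (nat_lit 0x319b001), (nat_lit 0x319c001), (nat_lit 0x36fa001), (nat_lit 0x319d001)], [(nat_lit 0x36f7001), (nat_lit 0x36f5001), (nat_lit 0x3198001), (nat_lit 0x3199001), (nat_lit 0x3197001), (nat_lit 0x334c001)], [(nat_lit 0x371b001), (nat_lit 0x3716001), (nat_lit 0x31ba001), (nat_lit 0x371a001), (nat_lit 0x35ae001), (nat_lit 0x3339001)], [(nat_lit 0x3445001), (nat_lit 0x31bc001), (nat_lit 0x3338001), (nat_lit 0x31bd001), (nat_lit 0x3336001), (nat_lit 0x31bb001)], [(nat_lit 0x31c8001), (nat_lit 0x31c7001), (nat_lit 0x3717001), (nat_lit 0x31c9001), (nat_lit 0x31ca001), (nat_lit 0x36ff001)], [(nat_lit 0x31cc001), (nat_lit 0x3335001), (nat_lit 0x36f8001), (nat_lit 0x31cd001), (nat_lit 0x31cb001), (nat_lit 0x344e001)], [(nat_lit 0x31cf001), (nat_lit 0x3727001), (nat_lit 0x31d0001), (nat_lit 0x3725001), (nat_lit 0x31d1001), (nat_lit 0x366f001)], [(nat_lit 0x3723001), (nat_lit 0x3687001), (nat_lit 0x371e001), (nat_lit 0x31ce001), (nat_lit 0x371f001), (nat_lit 0x366b001)], [(nat_lit 0x3244001), (nat_lit 0x3245001), (nat_lit 0x34eb001), (nat_lit 0x3246001), (nat_lit 0x3243001), (nat_lit 0x34b6001)], [(nat_lit 0x33fe001), (nat_lit 0x323d001), (nat_lit 0x3789001), (nat_lit 0x33f7001), (nat_lit 0x34ef001), (nat_lit 0x33f8001)], [(nat_lit 0x3248001), (nat_lit 0x3249001), (nat_lit 0x324a001), (nat_lit 0x324b001), (nat_lit 0x378e001), (nat_lit 0x3247001)], [(nat_lit 0x378f001), (nat_lit 0x324d001), (nat_lit 0x3791001), (nat_lit 0x324e001), (nat_lit 0x324c001), (nat_lit 0x3793001)], [(nat_lit 0x3271001), (nat_lit 0x3272001), (nat_lit 0x37b4001), (nat_lit 0x3273001), (nat_lit 0x32db001), (nat_lit 0x3270001)], [(nat_lit 0x326c001), (nat_lit 0x326d001), (nat_lit 0x326e001), (nat_lit 0x326f001), (nat_lit 0x326b001), (nat_lit 0x37b1001)], [(nat_lit 0x3290001), (nat_lit 0x3291001), (nat_lit 0x3292001), (nat_lit 0x37cd001), (nat_lit 0x328f001), (nat_lit 0x37d2001)], [(nat_lit 0x3294001), (nat_lit 0x3295001), (nat_lit 0x37d5001), (nat_lit 0x3296001), (nat_lit 0x37cc001), (nat_lit 0x3293001)], [(nat_lit 0x3424001), (nat_lit 0x3289001), (nat_lit 0x3288001), (nat_lit 0x328b001), (nat_lit 0x37c5001), (nat_lit 0x328a001)], [(nat_lit 0x3428001), (nat_lit 0x328d001), (nat_lit 0x37c7001), (nat_lit 0x328e001), (nat_lit 0x328c001), (nat_lit 0x37c8001)], [(nat_lit 0x3402001), (nat_lit 0x3263001), (nat_lit 0x33f6001), (nat_lit 0x37a4001), (nat_lit 0x37a7001), (nat_lit 0x378c001)], [(nat_lit 0x3265001), (nat_lit 0x37a9001), (nat_lit 0x3266001), (nat_lit 0x37aa001), (nat_lit 0x3264001), (nat_lit 0x3465001)], [(nat_lit 0x3268001), (nat_lit 0x37ad001), (nat_lit 0x3267001), (nat_lit 0x3269001), (nat_lit 0x326a001), (nat_lit 0x3352001)], [(nat_lit 0x32c0001), (nat_lit 0x32bf001), (nat_lit 0x340b001), (nat_lit 0x32c1001), (nat_lit 0x340c001), (nat_lit 0x32c2001)], [(nat_lit 0x33d0001), (nat_lit 0x330c001), (nat_lit 0x330d001), (nat_lit 0x33b3001), (nat_lit 0x330e001), (nat_lit 0x33d3001)], [(nat_lit 0x32d3001), (nat_lit 0x33b1001), (nat_lit 0x32d2001), (nat_lit 0x32d4001), (nat_lit 0x33a5001), (nat_lit 0x32d5001)], [(nat_lit 0x3304001), (nat_lit 0x33d1001), (nat_lit 0x3303001), (nat_lit 0x3305001), (nat_lit 0x33d2001), (nat_lit 0x3306001)], [(nat_lit 0x3308001), (nat_lit 0x3309001), (nat_lit 0x33d4001), (nat_lit 0x330a001), (nat_lit 0x3307001), (nat_lit 0x330b001)], [(nat_lit 0x3343001), (nat_lit 0x3344001), (nat_lit 0x3345001), (nat_lit 0x384c001), (nat_lit 0x3342001), (nat_lit 0x3346001)], [(nat_lit 0x3410001), (nat_lit 0x384e001), (nat_lit 0x334d001), (nat_lit 0x334b001), (nat_lit 0x37b6001), (nat_lit 0x334c001)], [(nat_lit 0x351f001), (nat_lit 0x3348001), (nat_lit 0x3349001), (nat_lit 0x37b5001), (nat_lit 0x3347001), (nat_lit 0x334a001)], [(nat_lit 0x32ca001), (nat_lit 0x338a001), (nat_lit 0x32c9001), (nat_lit 0x32cb001), (nat_lit 0x32cc001), (nat_lit 0x32cd001)], [(nat_lit 0x3392001), (nat_lit 0x32d7001), (nat_lit 0x33a7001), (nat_lit 0x36f6001), (nat_lit 0x32d6001), (nat_lit 0x3346001)], [(nat_lit 0x3340001), (nat_lit 0x384a001), (nat_lit 0x333f001), (nat_lit 0x36d7001), (nat_lit 0x3341001), (nat_lit 0x354e001)], [(nat_lit 0x32a0001), (nat_lit 0x37ec001), (nat_lit 0x32a1001), (nat_lit 0x37e9001), (nat_lit 0x32a2001), (nat_lit 0x3505001)], [(nat_lit 0x32ad001), (nat_lit 0x37f5001), (nat_lit 0x37f2001), (nat_lit 0x32ae001), (nat_lit 0x37ea001), (nat_lit 0x32af001)], [(nat_lit 0x32a4001), (nat_lit 0x3297001), (nat_lit 0x32a5001), (nat_lit 0x3298001), (nat_lit 0x37d7001), (nat_lit 0x3299001)], [(nat_lit 0x329b001), (nat_lit 0x37d8001), (nat_lit 0x329c001), (nat_lit 0x37d9001), (nat_lit 0x329a001), (nat_lit 0x37dc001)], [(nat_lit 0x37e8001), (nat_lit 0x32ec001), (nat_lit 0x37e0001), (nat_lit 0x329d001), (nat_lit 0x329e001), (nat_lit 0x37e3001)], [(nat_lit 0x3502001), (nat_lit 0x32e6001), (nat_lit 0x37de001), (nat_lit 0x37e5001), (nat_lit 0x32e1001), (nat_lit 0x329f001)], [(nat_lit 0x37f1001), (nat_lit 0x35e0001), (nat_lit 0x32a8001), (nat_lit 0x335b001), (nat_lit 0x37e1001), (nat_lit 0x3360001)], [(nat_lit 0x37fe001), (nat_lit 0x32b4001), (nat_lit 0x32b5001), (nat_lit 0x37f8001), (nat_lit 0x341f001), (nat_lit 0x37fb001)], [(nat_lit 0x335f001), (nat_lit 0x37f9001), (nat_lit 0x32b7001), (nat_lit 0x32b6001), (nat_lit 0x32b8001), (nat_lit 0x37f4001)], [(nat_lit 0x3359001), (nat_lit 0x37fc001), (nat_lit 0x32ba001), (nat_lit 0x37f3001), (nat_lit 0x35e5001), (nat_lit 0x32b9001)], [(nat_lit 0x32bc001), (nat_lit 0x32bd001), (nat_lit 0x35e4001), (nat_lit 0x32be001), (nat_lit 0x32bb001), (nat_lit 0x3422001)], [(nat_lit 0x32c4001), (nat_lit 0x32c5001), (nat_lit 0x32c6001), (nat_lit 0x32c3001), (nat_lit 0x32c7001), (nat_lit 0x32c8001)], [(nat_lit 0x32cf001), (nat_lit 0x339a001), (nat_lit 0x32ce001), (nat_lit 0x36f9001), (nat_lit 0x32d0001), (nat_lit 0x32d1001)], [(nat_lit 0x3387001), (nat_lit 0x32d8001), (nat_lit 0x338b001), (nat_lit 0x32d9001), (nat_lit 0x339c001), (nat_lit 0x338e001)], [(nat_lit 0x344a001), (nat_lit 0x3364001), (nat_lit 0x334d001), (nat_lit 0x32da001), (nat_lit 0x32db001), (nat_lit 0x32dc001)], [(nat_lit 0x32fa001), (nat_lit 0x32f9001), (nat_lit 0x32fb001), (nat_lit 0x381e001), (nat_lit 0x32fc001), (nat_lit 0x32fd001)], [(nat_lit 0x32e8001), (nat_lit 0x34c7001), (nat_lit 0x32e9001), (nat_lit 0x34bd001), (nat_lit 0x37df001), (nat_lit 0x32ea001)], [(nat_lit 0x32f7001), (nat_lit 0x381c001), (nat_lit 0x381a001), (nat_lit 0x32f8001), (nat_lit 0x37db001), (nat_lit 0x380e001)], [(nat_lit 0x37dd001), (nat_lit 0x32e6001), (nat_lit 0x3504001), (nat_lit 0x3802001), (nat_lit 0x32e5001), (nat_lit 0x32e7001)], [(nat_lit 0x37da001), (nat_lit 0x32ec001), (nat_lit 0x3805001), (nat_lit 0x32eb001), (nat_lit 0x32ed001), (nat_lit 0x3804001)], [(nat_lit 0x380b001), (nat_lit 0x32ef001), (nat_lit 0x3807001), (nat_lit 0x32ee001), (nat_lit 0x35ca001), (nat_lit 0x32f0001)], [(nat_lit 0x3819001), (nat_lit 0x380f001), (nat_lit 0x32f6001), (nat_lit 0x3813001), (nat_lit 0x3806001), (nat_lit 0x3808001)], [(nat_lit 0x32ff001), (nat_lit 0x3300001), (nat_lit 0x3820001), (nat_lit 0x32fe001), (nat_lit 0x3301001), (nat_lit 0x3302001)], [(nat_lit 0x331c001), (nat_lit 0x331b001), (nat_lit 0x331d001), (nat_lit 0x331e001), (nat_lit 0x331f001), (nat_lit 0x3320001)], [(nat_lit 0x356e001), (nat_lit 0x3325001), (nat_lit 0x3326001), (nat_lit 0x356f001), (nat_lit 0x3327001), (nat_lit 0x382c001)], [(nat_lit 0x3321001), (nat_lit 0x3828001), (nat_lit 0x3322001), (nat_lit 0x3323001), (nat_lit 0x3455001), (nat_lit 0x3324001)], [(nat_lit 0x331c001), (nat_lit 0x3318001), (nat_lit 0x331d001), (nat_lit 0x3319001), (nat_lit 0x331f001), (nat_lit 0x331a001)], [(nat_lit 0x3328001), (nat_lit 0x382d001), (nat_lit 0x3329001), (nat_lit 0x354c001), (nat_lit 0x332a001), (nat_lit 0x36d9001)], [(nat_lit 0x383f001), (nat_lit 0x333e001), (nat_lit 0x3849001), (nat_lit 0x3847001), (nat_lit 0x3729001), (nat_lit 0x3827001)], [(nat_lit 0x332e001), (nat_lit 0x383e001), (nat_lit 0x332f001), (nat_lit 0x383c001), (nat_lit 0x368d001), (nat_lit 0x3330001)], [(nat_lit 0x383a001), (nat_lit 0x332c001), (nat_lit 0x3830001), (nat_lit 0x332b001), (nat_lit 0x3836001), (nat_lit 0x332d001)], [(nat_lit 0x3841001), (nat_lit 0x3837001), (nat_lit 0x3338001), (nat_lit 0x3720001), (nat_lit 0x3337001), (nat_lit 0x3339001)], [(nat_lit 0x36db001), (nat_lit 0x3353001), (nat_lit 0x3728001), (nat_lit 0x3853001), (nat_lit 0x384b001), (nat_lit 0x36d1001)], [(nat_lit 0x334e001), (nat_lit 0x3851001), (nat_lit 0x334f001), (nat_lit 0x3350001), (nat_lit 0x3351001), (nat_lit 0x3352001)], [(nat_lit 0x37ba001), (nat_lit 0x3355001), (nat_lit 0x3354001), (nat_lit 0x3856001), (nat_lit 0x3356001), (nat_lit 0x3357001)], [(nat_lit 0x335f001), (nat_lit 0x3857001), (nat_lit 0x3361001), (nat_lit 0x335e001), (nat_lit 0x35c0001), (nat_lit 0x3360001)], [(nat_lit 0x3359001), (nat_lit 0x335a001), (nat_lit 0x3358001), (nat_lit 0x335b001), (nat_lit 0x335c001), (nat_lit 0x335d001)], [(nat_lit 0x3378001), (nat_lit 0x3377001), (nat_lit 0x3379001), (nat_lit 0x337a001), (nat_lit 0x337b001), (nat_lit 0x337c001)], [(nat_lit 0x3372001), (nat_lit 0x3373001), (nat_lit 0x3816001), (nat_lit 0x3374001), (nat_lit 0x3375001), (nat_lit 0x3376001)], [(nat_lit 0x336d001), (nat_lit 0x336e001), (nat_lit 0x385f001), (nat_lit 0x336c001), (nat_lit 0x336f001), (nat_lit 0x3370001)], [(nat_lit 0x3818001), (nat_lit 0x3863001), (nat_lit 0x3371001), (nat_lit 0x381b001), (nat_lit 0x3861001), (nat_lit 0x3823001)], [(nat_lit 0x340a001), (nat_lit 0x3409001), (nat_lit 0x340b001), (nat_lit 0x340e001), (nat_lit 0x340c001), (nat_lit 0x340d001)], [(nat_lit 0x3410001), (nat_lit 0x3411001), (nat_lit 0x344b001), (nat_lit 0x340f001), (nat_lit 0x35b2001), (nat_lit 0x36fb001)], [(nat_lit 0x3663001), (nat_lit 0x3382001), (nat_lit 0x3626001), (nat_lit 0x3868001), (nat_lit 0x382f001), (nat_lit 0x3695001)], [(nat_lit 0x3380001), (nat_lit 0x3867001), (nat_lit 0x3539001), (nat_lit 0x3381001), (nat_lit 0x3661001), (nat_lit 0x3537001)], [(nat_lit 0x3852001), (nat_lit 0x337d001), (nat_lit 0x3864001), (nat_lit 0x36dc001), (nat_lit 0x3854001), (nat_lit 0x36d4001)], [(nat_lit 0x33ba001), (nat_lit 0x37b3001), (nat_lit 0x375c001), (nat_lit 0x33bb001), (nat_lit 0x384f001), (nat_lit 0x33bc001)], [(nat_lit 0x33c1001), (nat_lit 0x33c4001), (nat_lit 0x33c2001), (nat_lit 0x36f2001), (nat_lit 0x33c3001), (nat_lit 0x375d001)], [(nat_lit 0x3399001), (nat_lit 0x339a001), (nat_lit 0x339b001), (nat_lit 0x3832001), (nat_lit 0x339c001), (nat_lit 0x340d001)], [(nat_lit 0x3387001), (nat_lit 0x3384001), (nat_lit 0x3383001), (nat_lit 0x3386001), (nat_lit 0x3385001), (nat_lit 0x3388001)], [(nat_lit 0x3392001), (nat_lit 0x338f001), (nat_lit 0x3390001), (nat_lit 0x3869001), (nat_lit 0x3391001), (nat_lit 0x3393001)], [(nat_lit 0x3834001), (nat_lit 0x386b001), (nat_lit 0x383b001), (nat_lit 0x3394001), (nat_lit 0x3632001), (nat_lit 0x3647001)], [(nat_lit 0x340a001), (nat_lit 0x3396001), (nat_lit 0x3397001), (nat_lit 0x3646001), (nat_lit 0x3398001), (nat_lit 0x3395001)], [(nat_lit 0x339e001), (nat_lit 0x3630001), (nat_lit 0x33c0001), (nat_lit 0x339d001), (nat_lit 0x386c001), (nat_lit 0x339f001)], [(nat_lit 0x33a1001), (nat_lit 0x386e001), (nat_lit 0x33a0001), (nat_lit 0x33b9001), (nat_lit 0x33a2001), (nat_lit 0x33bf001)], [(nat_lit 0x33a6001), (nat_lit 0x33a4001), (nat_lit 0x33a7001), (nat_lit 0x33a3001), (nat_lit 0x33a5001), (nat_lit 0x33a8001)], [(nat_lit 0x33aa001), (nat_lit 0x33ab001), (nat_lit 0x33ac001), (nat_lit 0x33ad001), (nat_lit 0x33ae001), (nat_lit 0x33a9001)], [(nat_lit 0x33b0001), (nat_lit 0x33b1001), (nat_lit 0x33b2001), (nat_lit 0x33b3001), (nat_lit 0x33af001), (nat_lit 0x33b4001)], [(nat_lit 0x384d001), (nat_lit 0x3644001), (nat_lit 0x3871001), (nat_lit 0x33b5001), (nat_lit 0x33b6001), (nat_lit 0x386d001)], [(nat_lit 0x375a001), (nat_lit 0x3873001), (nat_lit 0x33b7001), (nat_lit 0x33b9001), (nat_lit 0x3872001), (nat_lit 0x33b8001)], [(nat_lit 0x376e001), (nat_lit 0x33bd001), (nat_lit 0x3634001), (nat_lit 0x3876001), (nat_lit 0x3870001), (nat_lit 0x3875001)], [(nat_lit 0x36f0001), (nat_lit 0x3877001), (nat_lit 0x33c0001), (nat_lit 0x33be001), (nat_lit 0x3879001), (nat_lit 0x33bf001)], [(nat_lit 0x3825001), (nat_lit 0x33c8001), (nat_lit 0x382e001), (nat_lit 0x3880001), (nat_lit 0x3628001), (nat_lit 0x3840001)], [(nat_lit 0x33c6001), (nat_lit 0x387e001), (nat_lit 0x3645001), (nat_lit 0x33c7001), (nat_lit 0x363d001), (nat_lit 0x383d001)], [(nat_lit 0x3648001), (nat_lit 0x3411001), (nat_lit 0x33c5001), (nat_lit 0x340e001), (nat_lit 0x364c001), (nat_lit 0x3833001)], [(nat_lit 0x33d0001), (nat_lit 0x33d1001), (nat_lit 0x33d4001), (nat_lit 0x33cf001), (nat_lit 0x33d2001), (nat_lit 0x33d3001)], [(nat_lit 0x3402001), (nat_lit 0x3403001), (nat_lit 0x3401001), (nat_lit 0x3404001), (nat_lit 0x3776001), (nat_lit 0x38bc001)], [(nat_lit 0x3406001), (nat_lit 0x38ba001), (nat_lit 0x3405001), (nat_lit 0x3407001), (nat_lit 0x3785001), (nat_lit 0x3408001)], [(nat_lit 0x3899001), (nat_lit 0x33ee001), (nat_lit 0x3775001), (nat_lit 0x38ad001), (nat_lit 0x33ef001), (nat_lit 0x38b2001)], [(nat_lit 0x33e8001), (nat_lit 0x38ab001), (nat_lit 0x3893001), (nat_lit 0x33e9001), (nat_lit 0x38a5001), (nat_lit 0x388d001)], [(nat_lit 0x33f5001), (nat_lit 0x33f4001), (nat_lit 0x33f6001), (nat_lit 0x33f7001), (nat_lit 0x389c001), (nat_lit 0x33f8001)], [(nat_lit 0x33fe001), (nat_lit 0x33fd001), (nat_lit 0x38b8001), (nat_lit 0x33ff001), (nat_lit 0x38b6001), (nat_lit 0x3400001)], [(nat_lit 0x370b001), (nat_lit 0x33d5001), (nat_lit 0x370c001), (nat_lit 0x3881001), (nat_lit 0x370e001), (nat_lit 0x3885001)], [(nat_lit 0x3747001), (nat_lit 0x3883001), (nat_lit 0x388a001), (nat_lit 0x33d6001), (nat_lit 0x388e001), (nat_lit 0x3890001)], [(nat_lit 0x374c001), (nat_lit 0x3887001), (nat_lit 0x33d8001), (nat_lit 0x3894001), (nat_lit 0x3895001), (nat_lit 0x33d7001)], [(nat_lit 0x3751001), (nat_lit 0x3712001), (nat_lit 0x3896001), (nat_lit 0x3744001), (nat_lit 0x33d9001), (nat_lit 0x3715001)], [(nat_lit 0x3891001), (nat_lit 0x33e0001), (nat_lit 0x33df001), (nat_lit 0x374f001), (nat_lit 0x389e001), (nat_lit 0x374a001)], [(nat_lit 0x342a001), (nat_lit 0x3429001), (nat_lit 0x373d001), (nat_lit 0x38ce001), (nat_lit 0x373e001), (nat_lit 0x38cf001)], [(nat_lit 0x3424001), (nat_lit 0x38cc001), (nat_lit 0x3423001), (nat_lit 0x3425001), (nat_lit 0x38d0001), (nat_lit 0x3426001)], [(nat_lit 0x3428001), (nat_lit 0x3743001), (nat_lit 0x38d2001), (nat_lit 0x3714001), (nat_lit 0x3427001), (nat_lit 0x3745001)], [(nat_lit 0x37b8001), (nat_lit 0x341e001), (nat_lit 0x3702001), (nat_lit 0x38be001), (nat_lit 0x341f001), (nat_lit 0x38cb001)], [(nat_lit 0x341a001), (nat_lit 0x38c8001), (nat_lit 0x341b001), (nat_lit 0x341c001), (nat_lit 0x38c6001), (nat_lit 0x341d001)], [(nat_lit 0x3420001), (nat_lit 0x3438001), (nat_lit 0x38c5001), (nat_lit 0x369c001), (nat_lit 0x3421001), (nat_lit 0x3422001)], [(nat_lit 0x38c4001), (nat_lit 0x3417001), (nat_lit 0x3418001), (nat_lit 0x38c0001), (nat_lit 0x3416001), (nat_lit 0x3419001)], [(nat_lit 0x38fb001), (nat_lit 0x361d001), (nat_lit 0x3613001), (nat_lit 0x346c001), (nat_lit 0x3614001), (nat_lit 0x3612001)], [(nat_lit 0x349d001), (nat_lit 0x349e001), (nat_lit 0x349f001), (nat_lit 0x393d001), (nat_lit 0x34a0001), (nat_lit 0x34a1001)], [(nat_lit 0x34a7001), (nat_lit 0x393f001), (nat_lit 0x3934001), (nat_lit 0x34a6001), (nat_lit 0x34a5001), (nat_lit 0x393e001)], [(nat_lit 0x3475001), (nat_lit 0x3476001), (nat_lit 0x3755001), (nat_lit 0x3477001), (nat_lit 0x3474001), (nat_lit 0x3910001)], [(nat_lit 0x3922001), (nat_lit 0x348a001), (nat_lit 0x3920001), (nat_lit 0x3489001), (nat_lit 0x348b001), (nat_lit 0x3915001)], [(nat_lit 0x3928001), (nat_lit 0x392f001), (nat_lit 0x3496001), (nat_lit 0x3932001), (nat_lit 0x3921001), (nat_lit 0x3497001)], [(nat_lit 0x3939001), (nat_lit 0x3498001), (nat_lit 0x3499001), (nat_lit 0x3937001), (nat_lit 0x391c001), (nat_lit 0x3931001)], [(nat_lit 0x392c001), (nat_lit 0x3938001), (nat_lit 0x393b001), (nat_lit 0x349a001), (nat_lit 0x3941001), (nat_lit 0x3935001)], [(nat_lit 0x393c001), (nat_lit 0x377c001), (nat_lit 0x392e001), (nat_lit 0x349b001), (nat_lit 0x377d001), (nat_lit 0x349c001)], [(nat_lit 0x377b001), (nat_lit 0x34a3001), (nat_lit 0x3942001), (nat_lit 0x34a2001), (nat_lit 0x3940001), (nat_lit 0x377e001)], [(nat_lit 0x3933001), (nat_lit 0x3943001), (nat_lit 0x34a4001), (nat_lit 0x392a001), (nat_lit 0x3936001), (nat_lit 0x392d001)], [(nat_lit 0x396a001), (nat_lit 0x34d3001), (nat_lit 0x391b001), (nat_lit 0x3966001), (nat_lit 0x34d2001), (nat_lit 0x3968001)], [(nat_lit 0x3907001), (nat_lit 0x3967001), (nat_lit 0x396e001), (nat_lit 0x34d6001), (nat_lit 0x396d001), (nat_lit 0x396f001)], [(nat_lit 0x3909001), (nat_lit 0x3969001), (nat_lit 0x34d8001), (nat_lit 0x3970001), (nat_lit 0x3963001), (nat_lit 0x34d7001)], [(nat_lit 0x390d001), (nat_lit 0x3913001), (nat_lit 0x3962001), (nat_lit 0x390f001), (nat_lit 0x34cf001), (nat_lit 0x34ce001)], [(nat_lit 0x34d4001), (nat_lit 0x3892001), (nat_lit 0x393a001), (nat_lit 0x3889001), (nat_lit 0x396b001), (nat_lit 0x3884001)], [(nat_lit 0x3886001), (nat_lit 0x34d1001), (nat_lit 0x3888001), (nat_lit 0x34d0001), (nat_lit 0x3964001), (nat_lit 0x370f001)], [(nat_lit 0x3882001), (nat_lit 0x34ca001), (nat_lit 0x3930001), (nat_lit 0x370d001), (nat_lit 0x395f001), (nat_lit 0x34cb001)], [(nat_lit 0x3757001), (nat_lit 0x3965001), (nat_lit 0x3713001), (nat_lit 0x396c001), (nat_lit 0x34d5001), (nat_lit 0x3897001)], [(nat_lit 0x3754001), (nat_lit 0x3960001), (nat_lit 0x34cd001), (nat_lit 0x388f001), (nat_lit 0x34cc001), (nat_lit 0x3961001)], [(nat_lit 0x3b1e001), (nat_lit 0x3696001), (nat_lit 0x3697001), (nat_lit 0x39bb001), (nat_lit 0x3698001), (nat_lit 0x3699001)], [(nat_lit 0x353b001), (nat_lit 0x39ba001), (nat_lit 0x3539001), (nat_lit 0x353a001), (nat_lit 0x39ca001), (nat_lit 0x3538001)], [(nat_lit 0x369a001), (nat_lit 0x369b001), (nat_lit 0x3b20001), (nat_lit 0x369c001), (nat_lit 0x369d001), (nat_lit 0x369e001)], [(nat_lit 0x3bdd001), (nat_lit 0x3786001), (nat_lit 0x3787001), (nat_lit 0x39d1001), (nat_lit 0x378b001), (nat_lit 0x3788001)], [(nat_lit 0x353c001), (nat_lit 0x39d0001), (nat_lit 0x353d001), (nat_lit 0x353e001), (nat_lit 0x353f001), (nat_lit 0x3540001)], [(nat_lit 0x3783001), (nat_lit 0x3bdc001), (nat_lit 0x3784001), (nat_lit 0x39bf001), (nat_lit 0x3785001), (nat_lit 0x3b22001)], [(nat_lit 0x39bd001), (nat_lit 0x3528001), (nat_lit 0x39b8001), (nat_lit 0x3529001), (nat_lit 0x3527001), (nat_lit 0x39b9001)], [(nat_lit 0x3534001), (nat_lit 0x39c7001), (nat_lit 0x3535001), (nat_lit 0x3536001), (nat_lit 0x3533001), (nat_lit 0x3537001)], [(nat_lit 0x3780001), (nat_lit 0x37ca001), (nat_lit 0x3781001), (nat_lit 0x3792001), (nat_lit 0x377f001), (nat_lit 0x3782001)], [(nat_lit 0x3762001), (nat_lit 0x3bbd001), (nat_lit 0x375f001), (nat_lit 0x3760001), (nat_lit 0x375e001), (nat_lit 0x3761001)], [(nat_lit 0x3795001), (nat_lit 0x3be1001), (nat_lit 0x3794001), (nat_lit 0x3796001), (nat_lit 0x3797001), (nat_lit 0x3798001)], [(nat_lit 0x3763001), (nat_lit 0x3bc1001), (nat_lit 0x3764001), (nat_lit 0x3765001), (nat_lit 0x3766001), (nat_lit 0x3767001)], [(nat_lit 0x3c48001), (nat_lit 0x385a001), (nat_lit 0x385b001), (nat_lit 0x3be3001), (nat_lit 0x3bc5001), (nat_lit 0x3be5001)], [(nat_lit 0x3829001), (nat_lit 0x3799001), (nat_lit 0x379a001), (nat_lit 0x382b001), (nat_lit 0x379b001), (nat_lit 0x379c001)], [(nat_lit 0x37a3001), (nat_lit 0x37a2001), (nat_lit 0x382a001), (nat_lit 0x37a4001), (nat_lit 0x37a5001), (nat_lit 0x37a6001)], [(nat_lit 0x379e001), (nat_lit 0x379d001), (nat_lit 0x379f001), (nat_lit 0x38bb001), (nat_lit 0x37a0001), (nat_lit 0x37a1001)], [(nat_lit 0x35b8001), (nat_lit 0x3a58001), (nat_lit 0x35b6001), (nat_lit 0x35b4001), (nat_lit 0x35b5001), (nat_lit 0x35b7001)], [(nat_lit 0x35bd001), (nat_lit 0x38c1001), (nat_lit 0x35be001), (nat_lit 0x35bf001), (nat_lit 0x35c0001), (nat_lit 0x35c1001)], [(nat_lit 0x37c1001), (nat_lit 0x3bf9001), (nat_lit 0x37c2001), (nat_lit 0x3bf6001), (nat_lit 0x37c3001), (nat_lit 0x37c4001)], [(nat_lit 0x3c9f001), (nat_lit 0x38dd001), (nat_lit 0x3a5a001), (nat_lit 0x38de001), (nat_lit 0x3bfc001), (nat_lit 0x38df001)], [(nat_lit 0x3731001), (nat_lit 0x3b70001), (nat_lit 0x3732001), (nat_lit 0x3b94001), (nat_lit 0x3733001), (nat_lit 0x37c4001)], [(nat_lit 0x3bf4001), (nat_lit 0x37be001), (nat_lit 0x37c0001), (nat_lit 0x37bd001), (nat_lit 0x3bef001), (nat_lit 0x37bf001)], [(nat_lit 0x38d6001), (nat_lit 0x3c9e001), (nat_lit 0x38d7001), (nat_lit 0x3c9c001), (nat_lit 0x38d8001), (nat_lit 0x38d9001)], [(nat_lit 0x3c99001), (nat_lit 0x38d4001), (nat_lit 0x3c8f001), (nat_lit 0x38d3001), (nat_lit 0x3c95001), (nat_lit 0x38d5001)], [(nat_lit 0x38db001), (nat_lit 0x3c96001), (nat_lit 0x38dc001), (nat_lit 0x3bf2001), (nat_lit 0x38da001), (nat_lit 0x39ef001)], [(nat_lit 0x36c3001), (nat_lit 0x36bf001), (nat_lit 0x36c1001), (nat_lit 0x36be001), (nat_lit 0x36c0001), (nat_lit 0x36c2001)], [(nat_lit 0x38ec001), (nat_lit 0x38eb001), (nat_lit 0x38ed001), (nat_lit 0x3cb2001), (nat_lit 0x38ee001), (nat_lit 0x38ef001)], [(nat_lit 0x3cb1001), (nat_lit 0x38f3001), (nat_lit 0x3cbb001), (nat_lit 0x38f4001), (nat_lit 0x3cb3001), (nat_lit 0x38f5001)], [(nat_lit 0x38e6001), (nat_lit 0x3cb0001), (nat_lit 0x38e7001), (nat_lit 0x38e8001), (nat_lit 0x38e9001), (nat_lit 0x38ea001)], [(nat_lit 0x3aa6001), (nat_lit 0x38e0001), (nat_lit 0x3bc3001), (nat_lit 0x3b40001), (nat_lit 0x38e1001), (nat_lit 0x3a2c001)], [(nat_lit 0x36c8001), (nat_lit 0x3b3e001), (nat_lit 0x3a33001), (nat_lit 0x36c9001), (nat_lit 0x3a17001), (nat_lit 0x3a30001)], [(nat_lit 0x35ad001), (nat_lit 0x3a29001), (nat_lit 0x3598001), (nat_lit 0x3a2d001), (nat_lit 0x371d001), (nat_lit 0x3599001)], [(nat_lit 0x387f001), (nat_lit 0x387e001), (nat_lit 0x3c4a001), (nat_lit 0x3880001), (nat_lit 0x3aaa001), (nat_lit 0x3c3d001)], [(nat_lit 0x3825001), (nat_lit 0x3824001), (nat_lit 0x39d6001), (nat_lit 0x3826001), (nat_lit 0x3a1d001), (nat_lit 0x3827001)], [(nat_lit 0x3c3b001), (nat_lit 0x3846001), (nat_lit 0x3be2001), (nat_lit 0x3847001), (nat_lit 0x3c41001), (nat_lit 0x3848001)], [(nat_lit 0x3588001), (nat_lit 0x3a19001), (nat_lit 0x3589001), (nat_lit 0x3a16001), (nat_lit 0x358a001), (nat_lit 0x358b001)], [(nat_lit 0x3841001), (nat_lit 0x3c3e001), (nat_lit 0x3842001), (nat_lit 0x3843001), (nat_lit 0x3844001), (nat_lit 0x3845001)], [(nat_lit 0x38e5001), (nat_lit 0x3ca4001), (nat_lit 0x38e2001), (nat_lit 0x3caa001), (nat_lit 0x38e3001), (nat_lit 0x38e4001)], [(nat_lit 0x3cb5001), (nat_lit 0x38f0001), (nat_lit 0x3ca6001), (nat_lit 0x38f1001), (nat_lit 0x3ca7001), (nat_lit 0x38f2001)], [(nat_lit 0x37ba001), (nat_lit 0x37ff001), (nat_lit 0x37bb001), (nat_lit 0x3beb001), (nat_lit 0x37b9001), (nat_lit 0x37bc001)], [(nat_lit 0x37b8001), (nat_lit 0x37b7001), (nat_lit 0x3b71001), (nat_lit 0x38ca001), (nat_lit 0x3801001), (nat_lit 0x38bf001)], [(nat_lit 0x3600001), (nat_lit 0x3601001), (nat_lit 0x3602001), (nat_lit 0x3603001), (nat_lit 0x3604001), (nat_lit 0x3605001)], [(nat_lit 0x38c9001), (nat_lit 0x38bd001), (nat_lit 0x3bfb001), (nat_lit 0x38be001), (nat_lit 0x3a59001), (nat_lit 0x38bf001)], [(nat_lit 0x380b001), (nat_lit 0x380c001), (nat_lit 0x3c2d001), (nat_lit 0x380d001), (nat_lit 0x3988001), (nat_lit 0x380e001)], [(nat_lit 0x375a001), (nat_lit 0x375b001), (nat_lit 0x375c001), (nat_lit 0x3759001), (nat_lit 0x3bbb001), (nat_lit 0x375d001)], [(nat_lit 0x36f0001), (nat_lit 0x36f1001), (nat_lit 0x36ef001), (nat_lit 0x36f2001), (nat_lit 0x385e001), (nat_lit 0x36f3001)], [(nat_lit 0x386a001), (nat_lit 0x36f5001), (nat_lit 0x385d001), (nat_lit 0x36f6001), (nat_lit 0x36f4001), (nat_lit 0x3850001)], [(nat_lit 0x38b9001), (nat_lit 0x378a001), (nat_lit 0x3789001), (nat_lit 0x378d001), (nat_lit 0x378b001), (nat_lit 0x378c001)], [(nat_lit 0x387a001), (nat_lit 0x385c001), (nat_lit 0x385d001), (nat_lit 0x3bbf001), (nat_lit 0x385e001), (nat_lit 0x3bc0001)], [(nat_lit 0x370b001), (nat_lit 0x370a001), (nat_lit 0x370c001), (nat_lit 0x370d001), (nat_lit 0x370e001), (nat_lit 0x370f001)], [(nat_lit 0x3711001), (nat_lit 0x3712001), (nat_lit 0x3713001), (nat_lit 0x3714001), (nat_lit 0x3710001), (nat_lit 0x3715001)], [(nat_lit 0x3747001), (nat_lit 0x3748001), (nat_lit 0x3749001), (nat_lit 0x3746001), (nat_lit 0x3ba7001), (nat_lit 0x374a001)], [(nat_lit 0x374c001), (nat_lit 0x374d001), (nat_lit 0x374e001), (nat_lit 0x374f001), (nat_lit 0x3bad001), (nat_lit 0x374b001)], [(nat_lit 0x3751001), (nat_lit 0x3790001), (nat_lit 0x3bb0001), (nat_lit 0x37cb001), (nat_lit 0x3750001), (nat_lit 0x3752001)], [(nat_lit 0x3754001), (nat_lit 0x3ba9001), (nat_lit 0x3755001), (nat_lit 0x3bab001), (nat_lit 0x3753001), (nat_lit 0x3bb2001)], [(nat_lit 0x3757001), (nat_lit 0x3baf001), (nat_lit 0x3758001), (nat_lit 0x3bb8001), (nat_lit 0x3756001), (nat_lit 0x3bb1001)], [(nat_lit 0x37a8001), (nat_lit 0x3774001), (nat_lit 0x3775001), (nat_lit 0x3a87001), (nat_lit 0x3776001), (nat_lit 0x3bd0001)], [(nat_lit 0x35fc001), (nat_lit 0x3a86001), (nat_lit 0x35fd001), (nat_lit 0x35fe001), (nat_lit 0x35fb001), (nat_lit 0x35ff001)], [(nat_lit 0x3770001), (nat_lit 0x3bcb001), (nat_lit 0x3771001), (nat_lit 0x3772001), (nat_lit 0x3b21001), (nat_lit 0x3773001)], [(nat_lit 0x37ab001), (nat_lit 0x3610001), (nat_lit 0x3613001), (nat_lit 0x3611001), (nat_lit 0x360f001), (nat_lit 0x3612001)], [(nat_lit 0x361c001), (nat_lit 0x361d001), (nat_lit 0x361e001), (nat_lit 0x361f001), (nat_lit 0x3620001), (nat_lit 0x361b001)], [(nat_lit 0x3607001), (nat_lit 0x3606001), (nat_lit 0x360b001), (nat_lit 0x3608001), (nat_lit 0x3609001), (nat_lit 0x360a001)], [(nat_lit 0x35f1001), (nat_lit 0x35ee001), (nat_lit 0x3a82001), (nat_lit 0x35ef001), (nat_lit 0x35ed001), (nat_lit 0x35f0001)], [(nat_lit 0x3a81001), (nat_lit 0x3bd1001), (nat_lit 0x3777001), (nat_lit 0x3bd4001), (nat_lit 0x3778001), (nat_lit 0x3a84001)], [(nat_lit 0x35f2001), (nat_lit 0x35f7001), (nat_lit 0x35f3001), (nat_lit 0x35f4001), (nat_lit 0x35f5001), (nat_lit 0x35f6001)], [(nat_lit 0x3bd9001), (nat_lit 0x3779001), (nat_lit 0x3bd2001), (nat_lit 0x3bce001), (nat_lit 0x3ab6001), (nat_lit 0x3a88001)], [(nat_lit 0x3655001), (nat_lit 0x3ab4001), (nat_lit 0x3656001), (nat_lit 0x3a04001), (nat_lit 0x3657001), (nat_lit 0x3658001)], [(nat_lit 0x35d3001), (nat_lit 0x35cf001), (nat_lit 0x35d0001), (nat_lit 0x35d1001), (nat_lit 0x35ce001), (nat_lit 0x35d2001)], [(nat_lit 0x377b001), (nat_lit 0x377c001), (nat_lit 0x3bd8001), (nat_lit 0x377a001), (nat_lit 0x377d001), (nat_lit 0x377e001)], [(nat_lit 0x376e001), (nat_lit 0x376d001), (nat_lit 0x3a2b001), (nat_lit 0x3bc9001), (nat_lit 0x376f001), (nat_lit 0x3bc6001)], [(nat_lit 0x3768001), (nat_lit 0x3bc7001), (nat_lit 0x3769001), (nat_lit 0x376a001), (nat_lit 0x3797001), (nat_lit 0x376b001)], [(nat_lit 0x359e001), (nat_lit 0x3a36001), (nat_lit 0x359f001), (nat_lit 0x3a34001), (nat_lit 0x35a0001), (nat_lit 0x35a1001)], [(nat_lit 0x3a31001), (nat_lit 0x359b001), (nat_lit 0x359d001), (nat_lit 0x359a001), (nat_lit 0x3a12001), (nat_lit 0x359c001)], [(nat_lit 0x371b001), (nat_lit 0x3b84001), (nat_lit 0x371c001), (nat_lit 0x3ae0001), (nat_lit 0x371d001), (nat_lit 0x3845001)], [(nat_lit 0x386f001), (nat_lit 0x376c001), (nat_lit 0x3b86001), (nat_lit 0x3bc4001), (nat_lit 0x376f001), (nat_lit 0x3bca001)], [(nat_lit 0x3986001), (nat_lit 0x35c8001), (nat_lit 0x3a67001), (nat_lit 0x35c9001), (nat_lit 0x35ca001), (nat_lit 0x3a66001)], [(nat_lit 0x3953001), (nat_lit 0x35cb001), (nat_lit 0x35db001), (nat_lit 0x3a64001), (nat_lit 0x35cc001), (nat_lit 0x35cd001)], [(nat_lit 0x35c4001), (nat_lit 0x3a63001), (nat_lit 0x35c5001), (nat_lit 0x35c6001), (nat_lit 0x37e6001), (nat_lit 0x35c7001)], [(nat_lit 0x35da001), (nat_lit 0x35d9001), (nat_lit 0x35db001), (nat_lit 0x35dc001), (nat_lit 0x35dd001), (nat_lit 0x35de001)], [(nat_lit 0x3a5f001), (nat_lit 0x35b3001), (nat_lit 0x3984001), (nat_lit 0x3a57001), (nat_lit 0x37fa001), (nat_lit 0x3a5c001)], [(nat_lit 0x35bc001), (nat_lit 0x3a5d001), (nat_lit 0x35ba001), (nat_lit 0x35bb001), (nat_lit 0x3a60001), (nat_lit 0x35b9001)], [(nat_lit 0x37e7001), (nat_lit 0x397f001), (nat_lit 0x3a62001), (nat_lit 0x35c3001), (nat_lit 0x35c2001), (nat_lit 0x37eb001)], [(nat_lit 0x35aa001), (nat_lit 0x3a50001), (nat_lit 0x35a9001), (nat_lit 0x3a55001), (nat_lit 0x35ab001), (nat_lit 0x37bc001)], [(nat_lit 0x3a79001), (nat_lit 0x35e7001), (nat_lit 0x35e8001), (nat_lit 0x3a5e001), (nat_lit 0x3a53001), (nat_lit 0x3a5b001)], [(nat_lit 0x3582001), (nat_lit 0x3a0b001), (nat_lit 0x3583001), (nat_lit 0x3a0d001), (nat_lit 0x3581001), (nat_lit 0x3862001)], [(nat_lit 0x3a56001), (nat_lit 0x35e0001), (nat_lit 0x3810001), (nat_lit 0x35df001), (nat_lit 0x3a6c001), (nat_lit 0x3858001)], [(nat_lit 0x35e3001), (nat_lit 0x3a78001), (nat_lit 0x35e4001), (nat_lit 0x3a77001), (nat_lit 0x35e5001), (nat_lit 0x38c7001)], [(nat_lit 0x3a76001), (nat_lit 0x35e2001), (nat_lit 0x3a6f001), (nat_lit 0x35e1001), (nat_lit 0x3a72001), (nat_lit 0x38c3001)], [(nat_lit 0x3a61001), (nat_lit 0x3a73001), (nat_lit 0x37e4001), (nat_lit 0x3a6e001), (nat_lit 0x35e6001), (nat_lit 0x37e2001)], [(nat_lit 0x35ec001), (nat_lit 0x3a7c001), (nat_lit 0x35e9001), (nat_lit 0x35eb001), (nat_lit 0x3a80001), (nat_lit 0x35ea001)], [(nat_lit 0x3a89001), (nat_lit 0x35f8001), (nat_lit 0x3a7d001), (nat_lit 0x35f9001), (nat_lit 0x3a85001), (nat_lit 0x35fa001)], [(nat_lit 0x3a93001), (nat_lit 0x3693001), (nat_lit 0x3692001), (nat_lit 0x39c8001), (nat_lit 0x3694001), (nat_lit 0x3695001)], [(nat_lit 0x3621001), (nat_lit 0x3a92001), (nat_lit 0x3622001), (nat_lit 0x39a9001), (nat_lit 0x3623001), (nat_lit 0x3624001)], [(nat_lit 0x39a7001), (nat_lit 0x3516001), (nat_lit 0x39a4001), (nat_lit 0x3517001), (nat_lit 0x3515001), (nat_lit 0x3518001)], [(nat_lit 0x350b001), (nat_lit 0x3507001), (nat_lit 0x350a001), (nat_lit 0x3506001), (nat_lit 0x3508001), (nat_lit 0x3509001)], [(nat_lit 0x351f001), (nat_lit 0x3520001), (nat_lit 0x351e001), (nat_lit 0x35b1001), (nat_lit 0x3521001), (nat_lit 0x3522001)], [(nat_lit 0x363e001), (nat_lit 0x3642001), (nat_lit 0x363f001), (nat_lit 0x3640001), (nat_lit 0x3718001), (nat_lit 0x3641001)], [(nat_lit 0x3649001), (nat_lit 0x364e001), (nat_lit 0x364a001), (nat_lit 0x364b001), (nat_lit 0x364c001), (nat_lit 0x364d001)], [(nat_lit 0x3a1a001), (nat_lit 0x3625001), (nat_lit 0x3626001), (nat_lit 0x3627001), (nat_lit 0x3628001), (nat_lit 0x3629001)], [(nat_lit 0x362b001), (nat_lit 0x380c001), (nat_lit 0x3a97001), (nat_lit 0x362a001), (nat_lit 0x362c001), (nat_lit 0x381f001)], [(nat_lit 0x3719001), (nat_lit 0x3a9a001), (nat_lit 0x362d001), (nat_lit 0x3a9d001), (nat_lit 0x362e001), (nat_lit 0x3a9e001)], [(nat_lit 0x36fd001), (nat_lit 0x3630001), (nat_lit 0x3aa0001), (nat_lit 0x3631001), (nat_lit 0x3632001), (nat_lit 0x362f001)], [(nat_lit 0x3a2a001), (nat_lit 0x3633001), (nat_lit 0x3634001), (nat_lit 0x3aa2001), (nat_lit 0x3a9c001), (nat_lit 0x3aa5001)], [(nat_lit 0x3638001), (nat_lit 0x3aa3001), (nat_lit 0x3636001), (nat_lit 0x3635001), (nat_lit 0x3aab001), (nat_lit 0x3637001)], [(nat_lit 0x363c001), (nat_lit 0x3aa7001), (nat_lit 0x363a001), (nat_lit 0x363b001), (nat_lit 0x363d001), (nat_lit 0x3639001)], [(nat_lit 0x3648001), (nat_lit 0x3644001), (nat_lit 0x3645001), (nat_lit 0x3646001), (nat_lit 0x3643001), (nat_lit 0x3647001)], [(nat_lit 0x3a14001), (nat_lit 0x3585001), (nat_lit 0x3a0f001), (nat_lit 0x3584001), (nat_lit 0x3587001), (nat_lit 0x3586001)], [(nat_lit 0x36ac001), (nat_lit 0x3b36001), (nat_lit 0x36ad001), (nat_lit 0x3b0a001), (nat_lit 0x36ae001), (nat_lit 0x3b06001)], [(nat_lit 0x36b2001), (nat_lit 0x36b3001), (nat_lit 0x3b05001), (nat_lit 0x36b4001), (nat_lit 0x3b3c001), (nat_lit 0x36b5001)], [(nat_lit 0x3b3f001), (nat_lit 0x36ca001), (nat_lit 0x3b37001), (nat_lit 0x3aa9001), (nat_lit 0x36cb001), (nat_lit 0x3aa4001)], [(nat_lit 0x36cc001), (nat_lit 0x3b3a001), (nat_lit 0x3aad001), (nat_lit 0x3b3b001), (nat_lit 0x36cd001), (nat_lit 0x36ce001)], [(nat_lit 0x368b001), (nat_lit 0x3b19001), (nat_lit 0x368c001), (nat_lit 0x3b15001), (nat_lit 0x368d001), (nat_lit 0x368e001)], [(nat_lit 0x3ae8001), (nat_lit 0x368f001), (nat_lit 0x3690001), (nat_lit 0x3b18001), (nat_lit 0x3691001), (nat_lit 0x3b1d001)], [(nat_lit 0x3689001), (nat_lit 0x3b17001), (nat_lit 0x3b0d001), (nat_lit 0x368a001), (nat_lit 0x3afd001), (nat_lit 0x3b16001)], [(nat_lit 0x3671001), (nat_lit 0x3670001), (nat_lit 0x3a94001), (nat_lit 0x3add001), (nat_lit 0x3aea001), (nat_lit 0x3a1e001)], [(nat_lit 0x3adc001), (nat_lit 0x3682001), (nat_lit 0x3b00001), (nat_lit 0x3683001), (nat_lit 0x3aff001), (nat_lit 0x3684001)], [(nat_lit 0x367f001), (nat_lit 0x3afe001), (nat_lit 0x3680001), (nat_lit 0x3afc001), (nat_lit 0x3681001), (nat_lit 0x3aae001)], [(nat_lit 0x36b7001), (nat_lit 0x3a10001), (nat_lit 0x36b6001), (nat_lit 0x3a40001), (nat_lit 0x36b8001), (nat_lit 0x3acb001)], [(nat_lit 0x3675001), (nat_lit 0x3672001), (nat_lit 0x3ac9001), (nat_lit 0x3673001), (nat_lit 0x3aec001), (nat_lit 0x3674001)], [(nat_lit 0x36ba001), (nat_lit 0x36bb001), (nat_lit 0x36bc001), (nat_lit 0x36bd001), (nat_lit 0x36b9001), (nat_lit 0x3af1001)], [(nat_lit 0x3677001), (nat_lit 0x3aee001), (nat_lit 0x3678001), (nat_lit 0x3af2001), (nat_lit 0x3676001), (nat_lit 0x3679001)], [(nat_lit 0x36a4001), (nat_lit 0x36a5001), (nat_lit 0x3b29001), (nat_lit 0x36a6001), (nat_lit 0x3af5001), (nat_lit 0x36a3001)], [(nat_lit 0x36a0001), (nat_lit 0x3b23001), (nat_lit 0x369f001), (nat_lit 0x36a2001), (nat_lit 0x36a1001), (nat_lit 0x3b27001)], [(nat_lit 0x3a2e001), (nat_lit 0x36c5001), (nat_lit 0x36c6001), (nat_lit 0x36c7001), (nat_lit 0x3ad8001), (nat_lit 0x36c4001)], [(nat_lit 0x3aac001), (nat_lit 0x3ad6001), (nat_lit 0x367d001), (nat_lit 0x3afa001), (nat_lit 0x367e001), (nat_lit 0x367c001)], [(nat_lit 0x3b39001), (nat_lit 0x36b0001), (nat_lit 0x3b35001), (nat_lit 0x36b1001), (nat_lit 0x36af001), (nat_lit 0x3af6001)], [(nat_lit 0x3b07001), (nat_lit 0x3b2e001), (nat_lit 0x36ab001), (nat_lit 0x3b0e001), (nat_lit 0x3b34001), (nat_lit 0x36aa001)], [(nat_lit 0x3b30001), (nat_lit 0x36a7001), (nat_lit 0x36a8001), (nat_lit 0x3b2b001), (nat_lit 0x3b26001), (nat_lit 0x3b2d001)], [(nat_lit 0x3b0b001), (nat_lit 0x3b2c001), (nat_lit 0x3b14001), (nat_lit 0x36a9001), (nat_lit 0x3b32001), (nat_lit 0x3b0f001)], [(nat_lit 0x3b13001), (nat_lit 0x3687001), (nat_lit 0x3b09001), (nat_lit 0x3688001), (nat_lit 0x3b10001), (nat_lit 0x3686001)], [(nat_lit 0x366c001), (nat_lit 0x3ae7001), (nat_lit 0x366d001), (nat_lit 0x3ae5001), (nat_lit 0x366e001), (nat_lit 0x366f001)], [(nat_lit 0x3ae3001), (nat_lit 0x366a001), (nat_lit 0x3adf001), (nat_lit 0x3669001), (nat_lit 0x3ad4001), (nat_lit 0x366b001)], [(nat_lit 0x3b0c001), (nat_lit 0x3b03001), (nat_lit 0x3685001), (nat_lit 0x3b04001), (nat_lit 0x3af8001), (nat_lit 0x3b08001)], [(nat_lit 0x3afb001), (nat_lit 0x3ad3001), (nat_lit 0x3af7001), (nat_lit 0x367a001), (nat_lit 0x367b001), (nat_lit 0x3af9001)], [(nat_lit 0x3667001), (nat_lit 0x3adb001), (nat_lit 0x39e0001), (nat_lit 0x3668001), (nat_lit 0x3ada001), (nat_lit 0x3a18001)], [(nat_lit 0x39e1001), (nat_lit 0x3ac8001), (nat_lit 0x3664001), (nat_lit 0x39e4001), (nat_lit 0x3ace001), (nat_lit 0x3a13001)], [(nat_lit 0x3ad9001), (nat_lit 0x3666001), (nat_lit 0x3ad0001), (nat_lit 0x3ad2001), (nat_lit 0x3665001), (nat_lit 0x3ad5001)], [(nat_lit 0x3953001), (nat_lit 0x3954001), (nat_lit 0x3952001), (nat_lit 0x3ced001), (nat_lit 0x3955001), (nat_lit 0x3956001)], [(nat_lit 0x3986001), (nat_lit 0x3985001), (nat_lit 0x3a22001), (nat_lit 0x3987001), (nat_lit 0x3988001), (nat_lit 0x3cf1001)], [(nat_lit 0x395b001), (nat_lit 0x395c001), (nat_lit 0x395d001), (nat_lit 0x3cf9001), (nat_lit 0x395a001), (nat_lit 0x395e001)], [(nat_lit 0x3958001), (nat_lit 0x3cef001), (nat_lit 0x3cf2001), (nat_lit 0x3957001), (nat_lit 0x3cf6001), (nat_lit 0x3959001)], [(nat_lit 0x3974001), (nat_lit 0x3d11001), (nat_lit 0x3975001), (nat_lit 0x3973001), (nat_lit 0x3a99001), (nat_lit 0x3cf5001)], [(nat_lit 0x37ed001), (nat_lit 0x37ec001), (nat_lit 0x37ee001), (nat_lit 0x3c17001), (nat_lit 0x37ef001), (nat_lit 0x37f0001)], [(nat_lit 0x381d001), (nat_lit 0x37f5001), (nat_lit 0x3c1d001), (nat_lit 0x37f6001), (nat_lit 0x3c18001), (nat_lit 0x37f7001)], [(nat_lit 0x3a98001), (nat_lit 0x3c20001), (nat_lit 0x3981001), (nat_lit 0x3b33001), (nat_lit 0x3982001), (nat_lit 0x3c1e001)], [(nat_lit 0x3cf7001), (nat_lit 0x397f001), (nat_lit 0x3d1a001), (nat_lit 0x3980001), (nat_lit 0x397e001), (nat_lit 0x3c19001)], [(nat_lit 0x3cf3001), (nat_lit 0x3d16001), (nat_lit 0x397c001), (nat_lit 0x3b2a001), (nat_lit 0x3d19001), (nat_lit 0x397d001)], [(nat_lit 0x3d1b001), (nat_lit 0x3983001), (nat_lit 0x3984001), (nat_lit 0x3b25001), (nat_lit 0x3c21001), (nat_lit 0x3d18001)], [(nat_lit 0x3b28001), (nat_lit 0x3b01001), (nat_lit 0x3977001), (nat_lit 0x3cf4001), (nat_lit 0x3d14001), (nat_lit 0x3976001)], [(nat_lit 0x3af3001), (nat_lit 0x3979001), (nat_lit 0x3d15001), (nat_lit 0x397a001), (nat_lit 0x3978001), (nat_lit 0x3b3d001)], [(nat_lit 0x3d12001), (nat_lit 0x3971001), (nat_lit 0x3972001), (nat_lit 0x3d10001), (nat_lit 0x3b38001), (nat_lit 0x3b02001)], [(nat_lit 0x397b001), (nat_lit 0x3a15001), (nat_lit 0x3d13001), (nat_lit 0x3a1c001), (nat_lit 0x3b41001), (nat_lit 0x3ade001)], [(nat_lit 0x3b5e001), (nat_lit 0x36ea001), (nat_lit 0x3b24001), (nat_lit 0x3b5a001), (nat_lit 0x36e9001), (nat_lit 0x3b5c001)], [(nat_lit 0x3a41001), (nat_lit 0x3b5b001), (nat_lit 0x3b60001), (nat_lit 0x36ec001), (nat_lit 0x3a4c001), (nat_lit 0x3b66001)], [(nat_lit 0x3acc001), (nat_lit 0x3b5d001), (nat_lit 0x36ee001), (nat_lit 0x3b69001), (nat_lit 0x3b59001), (nat_lit 0x36ed001)], [(nat_lit 0x3aed001), (nat_lit 0x3af4001), (nat_lit 0x3b58001), (nat_lit 0x3af0001), (nat_lit 0x36e5001), (nat_lit 0x36e4001)], [(nat_lit 0x36eb001), (nat_lit 0x3a32001), (nat_lit 0x3b31001), (nat_lit 0x3a38001), (nat_lit 0x3b5f001), (nat_lit 0x3b52001)], [(nat_lit 0x3a37001), (nat_lit 0x36e7001), (nat_lit 0x37fd001), (nat_lit 0x36e6001), (nat_lit 0x3a4f001), (nat_lit 0x36e8001)], [(nat_lit 0x3b4f001), (nat_lit 0x36de001), (nat_lit 0x3b2f001), (nat_lit 0x36df001), (nat_lit 0x3b4d001), (nat_lit 0x36e0001)], [(nat_lit 0x35a4001), (nat_lit 0x3a4d001), (nat_lit 0x35a5001), (nat_lit 0x3a4b001), (nat_lit 0x35a6001), (nat_lit 0x38d9001)], [(nat_lit 0x36e2001), (nat_lit 0x3b4e001), (nat_lit 0x36e3001), (nat_lit 0x3b53001), (nat_lit 0x36e1001), (nat_lit 0x3b56001)], [(nat_lit 0x36d0001), (nat_lit 0x36cf001), (nat_lit 0x3ae9001), (nat_lit 0x37af001), (nat_lit 0x3a95001), (nat_lit 0x36d1001)], [(nat_lit 0x37ae001), (nat_lit 0x36d2001), (nat_lit 0x3b42001), (nat_lit 0x36d3001), (nat_lit 0x399b001), (nat_lit 0x36d4001)], [(nat_lit 0x36db001), (nat_lit 0x36da001), (nat_lit 0x3b1b001), (nat_lit 0x36dc001), (nat_lit 0x3b4b001), (nat_lit 0x36dd001)], [(nat_lit 0x350c001), (nat_lit 0x3998001), (nat_lit 0x350d001), (nat_lit 0x350e001), (nat_lit 0x350f001), (nat_lit 0x3510001)], [(nat_lit 0x36d5001), (nat_lit 0x3b47001), (nat_lit 0x36d6001), (nat_lit 0x36d7001), (nat_lit 0x36d8001), (nat_lit 0x36d9001)], [(nat_lit 0x3c75001), (nat_lit 0x389f001), (nat_lit 0x38a0001), (nat_lit 0x3c7b001), (nat_lit 0x389e001), (nat_lit 0x38a1001)], [(nat_lit 0x3907001), (nat_lit 0x3c7c001), (nat_lit 0x3b68001), (nat_lit 0x3906001), (nat_lit 0x3bba001), (nat_lit 0x3b64001)], [(nat_lit 0x3909001), (nat_lit 0x390a001), (nat_lit 0x390b001), (nat_lit 0x3b62001), (nat_lit 0x3bb7001), (nat_lit 0x3908001)], [(nat_lit 0x390d001), (nat_lit 0x390e001), (nat_lit 0x3bb5001), (nat_lit 0x390f001), (nat_lit 0x390c001), (nat_lit 0x3910001)], [(nat_lit 0x38a2001), (nat_lit 0x38a3001), (nat_lit 0x3c77001), (nat_lit 0x38a4001), (nat_lit 0x38a5001), (nat_lit 0x38a6001)], [(nat_lit 0x3912001), (nat_lit 0x3913001), (nat_lit 0x3cc6001), (nat_lit 0x3911001), (nat_lit 0x3914001), (nat_lit 0x3915001)], [(nat_lit 0x3917001), (nat_lit 0x3abe001), (nat_lit 0x3916001), (nat_lit 0x3918001), (nat_lit 0x3cc8001), (nat_lit 0x3919001)], [(nat_lit 0x3ccb001), (nat_lit 0x391a001), (nat_lit 0x391b001), (nat_lit 0x3a7e001), (nat_lit 0x391c001), (nat_lit 0x3abf001)], [(nat_lit 0x394c001), (nat_lit 0x3ab9001), (nat_lit 0x394d001), (nat_lit 0x394e001), (nat_lit 0x394f001), (nat_lit 0x394b001)], [(nat_lit 0x3c7f001), (nat_lit 0x391e001), (nat_lit 0x391d001), (nat_lit 0x3ccf001), (nat_lit 0x391f001), (nat_lit 0x3cc0001)], [(nat_lit 0x392c001), (nat_lit 0x3cd0001), (nat_lit 0x392e001), (nat_lit 0x392b001), (nat_lit 0x3bd6001), (nat_lit 0x392d001)], [(nat_lit 0x3928001), (nat_lit 0x3cbf001), (nat_lit 0x3927001), (nat_lit 0x392a001), (nat_lit 0x3cd7001), (nat_lit 0x3929001)], [(nat_lit 0x3922001), (nat_lit 0x3923001), (nat_lit 0x3cd6001), (nat_lit 0x3924001), (nat_lit 0x3925001), (nat_lit 0x3926001)], [(nat_lit 0x3949001), (nat_lit 0x3ccc001), (nat_lit 0x394a001), (nat_lit 0x3ce6001), (nat_lit 0x3c81001), (nat_lit 0x3cec001)], [(nat_lit 0x3ce5001), (nat_lit 0x3945001), (nat_lit 0x3ab5001), (nat_lit 0x3944001), (nat_lit 0x3bd3001), (nat_lit 0x3abb001)], [(nat_lit 0x3cea001), (nat_lit 0x3947001), (nat_lit 0x3948001), (nat_lit 0x3abc001), (nat_lit 0x3ce7001), (nat_lit 0x3946001)], [(nat_lit 0x3cc7001), (nat_lit 0x3ce8001), (nat_lit 0x3951001), (nat_lit 0x3cca001), (nat_lit 0x3950001), (nat_lit 0x3cd8001)], [(nat_lit 0x38ac001), (nat_lit 0x38ab001), (nat_lit 0x3c7e001), (nat_lit 0x38ad001), (nat_lit 0x38ae001), (nat_lit 0x3c69001)], [(nat_lit 0x3899001), (nat_lit 0x3898001), (nat_lit 0x389a001), (nat_lit 0x389b001), (nat_lit 0x389c001), (nat_lit 0x389d001)], [(nat_lit 0x3c67001), (nat_lit 0x38ff001), (nat_lit 0x3cbe001), (nat_lit 0x38fe001), (nat_lit 0x3cc2001), (nat_lit 0x3900001)], [(nat_lit 0x3902001), (nat_lit 0x3cc3001), (nat_lit 0x3903001), (nat_lit 0x3904001), (nat_lit 0x3901001), (nat_lit 0x3905001)], [(nat_lit 0x38b4001), (nat_lit 0x38b3001), (nat_lit 0x3bde001), (nat_lit 0x38b5001), (nat_lit 0x38b6001), (nat_lit 0x38b7001)], [(nat_lit 0x398b001), (nat_lit 0x398c001), (nat_lit 0x3ceb001), (nat_lit 0x398d001), (nat_lit 0x3d1f001), (nat_lit 0x398e001)], [(nat_lit 0x3d1d001), (nat_lit 0x398a001), (nat_lit 0x3ce9001), (nat_lit 0x3cc4001), (nat_lit 0x3989001), (nat_lit 0x3cc5001)], [(nat_lit 0x3ab3001), (nat_lit 0x365c001), (nat_lit 0x365b001), (nat_lit 0x3abd001), (nat_lit 0x3aba001), (nat_lit 0x3a7f001)], [(nat_lit 0x3bcc001), (nat_lit 0x38f6001), (nat_lit 0x38f7001), (nat_lit 0x3bdb001), (nat_lit 0x38f8001), (nat_lit 0x38f9001)], [(nat_lit 0x38fb001), (nat_lit 0x3bda001), (nat_lit 0x38fc001), (nat_lit 0x38fa001), (nat_lit 0x3a90001), (nat_lit 0x38fd001)], [(nat_lit 0x3997001), (nat_lit 0x3b1f001), (nat_lit 0x3996001), (nat_lit 0x3c4d001), (nat_lit 0x3bcf001), (nat_lit 0x3be0001)], [(nat_lit 0x3c4c001), (nat_lit 0x3865001), (nat_lit 0x3ac2001), (nat_lit 0x3866001), (nat_lit 0x3ac3001), (nat_lit 0x39d3001)], [(nat_lit 0x39cb001), (nat_lit 0x3ac1001), (nat_lit 0x365d001), (nat_lit 0x3a8f001), (nat_lit 0x365e001), (nat_lit 0x39a6001)], [(nat_lit 0x38b0001), (nat_lit 0x38af001), (nat_lit 0x3bcd001), (nat_lit 0x3c68001), (nat_lit 0x38b1001), (nat_lit 0x38b2001)], [(nat_lit 0x388b001), (nat_lit 0x3c66001), (nat_lit 0x388a001), (nat_lit 0x388c001), (nat_lit 0x3c6a001), (nat_lit 0x388d001)], [(nat_lit 0x3c6b001), (nat_lit 0x38a8001), (nat_lit 0x3baa001), (nat_lit 0x38a9001), (nat_lit 0x38a7001), (nat_lit 0x38aa001)], [(nat_lit 0x3992001), (nat_lit 0x3d09001), (nat_lit 0x3993001), (nat_lit 0x3a3c001), (nat_lit 0x3c73001), (nat_lit 0x3c78001)], [(nat_lit 0x3994001), (nat_lit 0x3d1e001), (nat_lit 0x3c71001), (nat_lit 0x3c6d001), (nat_lit 0x3995001), (nat_lit 0x3c6e001)], [(nat_lit 0x3a3d001), (nat_lit 0x3b65001), (nat_lit 0x3a4a001), (nat_lit 0x398f001), (nat_lit 0x3b63001), (nat_lit 0x3c7d001)], [(nat_lit 0x3c70001), (nat_lit 0x3bb4001), (nat_lit 0x3991001), (nat_lit 0x3bb6001), (nat_lit 0x3990001), (nat_lit 0x3bac001)], [(nat_lit 0x3a06001), (nat_lit 0x357f001), (nat_lit 0x3580001), (nat_lit 0x39b4001), (nat_lit 0x3a0a001), (nat_lit 0x3a09001)], [(nat_lit 0x3526001), (nat_lit 0x39b1001), (nat_lit 0x3523001), (nat_lit 0x3525001), (nat_lit 0x39b6001), (nat_lit 0x3524001)], [(nat_lit 0x357c001), (nat_lit 0x3a05001), (nat_lit 0x357b001), (nat_lit 0x357d001), (nat_lit 0x3822001), (nat_lit 0x357e001)], [(nat_lit 0x3574001), (nat_lit 0x3577001), (nat_lit 0x3573001), (nat_lit 0x3575001), (nat_lit 0x39fe001), (nat_lit 0x3576001)], [(nat_lit 0x3821001), (nat_lit 0x3592001), (nat_lit 0x3593001), (nat_lit 0x3809001), (nat_lit 0x3591001), (nat_lit 0x3815001)], [(nat_lit 0x352a001), (nat_lit 0x39c1001), (nat_lit 0x352b001), (nat_lit 0x352c001), (nat_lit 0x39c0001), (nat_lit 0x352d001)], [(nat_lit 0x39b7001), (nat_lit 0x3a00001), (nat_lit 0x39be001), (nat_lit 0x3a25001), (nat_lit 0x3594001), (nat_lit 0x3a28001)], [(nat_lit 0x3a0e001), (nat_lit 0x380a001), (nat_lit 0x3859001), (nat_lit 0x3595001), (nat_lit 0x3a26001), (nat_lit 0x3811001)], [(nat_lit 0x3860001), (nat_lit 0x3814001), (nat_lit 0x3597001), (nat_lit 0x3812001), (nat_lit 0x3817001), (nat_lit 0x3596001)], [(nat_lit 0x35ad001), (nat_lit 0x3642001), (nat_lit 0x35ac001), (nat_lit 0x36c7001), (nat_lit 0x35ae001), (nat_lit 0x36c2001)], [(nat_lit 0x37b2001), (nat_lit 0x364e001), (nat_lit 0x35b0001), (nat_lit 0x35b1001), (nat_lit 0x35b2001), (nat_lit 0x35af001)], [(nat_lit 0x3546001), (nat_lit 0x3545001), (nat_lit 0x3547001), (nat_lit 0x39a0001), (nat_lit 0x3548001), (nat_lit 0x3549001)], [(nat_lit 0x399e001), (nat_lit 0x3572001), (nat_lit 0x39c3001), (nat_lit 0x3571001), (nat_lit 0x39fb001), (nat_lit 0x39c5001)], [(nat_lit 0x352f001), (nat_lit 0x352e001), (nat_lit 0x3530001), (nat_lit 0x39c4001), (nat_lit 0x37a0001), (nat_lit 0x3531001)], [(nat_lit 0x3579001), (nat_lit 0x39fc001), (nat_lit 0x3a01001), (nat_lit 0x357a001), (nat_lit 0x3578001), (nat_lit 0x3a02001)], [(nat_lit 0x3514001), (nat_lit 0x399d001), (nat_lit 0x3511001), (nat_lit 0x3512001), (nat_lit 0x39a2001), (nat_lit 0x3513001)], [(nat_lit 0x3519001), (nat_lit 0x39ac001), (nat_lit 0x351a001), (nat_lit 0x351b001), (nat_lit 0x39aa001), (nat_lit 0x351c001)], [(nat_lit 0x39a3001), (nat_lit 0x3542001), (nat_lit 0x39a8001), (nat_lit 0x35d7001), (nat_lit 0x3541001), (nat_lit 0x39cf001)], [(nat_lit 0x39b2001), (nat_lit 0x358c001), (nat_lit 0x39ae001), (nat_lit 0x3a08001), (nat_lit 0x3a1f001), (nat_lit 0x39b5001)], [(nat_lit 0x39ff001), (nat_lit 0x3a20001), (nat_lit 0x358e001), (nat_lit 0x3a21001), (nat_lit 0x358d001), (nat_lit 0x3a23001)], [(nat_lit 0x3a03001), (nat_lit 0x39cc001), (nat_lit 0x3a24001), (nat_lit 0x3590001), (nat_lit 0x39bc001), (nat_lit 0x358f001)], [(nat_lit 0x3999001), (nat_lit 0x351d001), (nat_lit 0x3580001), (nat_lit 0x39af001), (nat_lit 0x37b0001), (nat_lit 0x399c001)], [(nat_lit 0x39c2001), (nat_lit 0x3543001), (nat_lit 0x399f001), (nat_lit 0x3544001), (nat_lit 0x39d2001), (nat_lit 0x39a1001)], [(nat_lit 0x354a001), (nat_lit 0x39d4001), (nat_lit 0x354b001), (nat_lit 0x354c001), (nat_lit 0x354d001), (nat_lit 0x354e001)], [(nat_lit 0x39ad001), (nat_lit 0x3532001), (nat_lit 0x39b3001), (nat_lit 0x399a001), (nat_lit 0x39c6001), (nat_lit 0x39b0001)], [(nat_lit 0x3557001), (nat_lit 0x3556001), (nat_lit 0x3558001), (nat_lit 0x39e8001), (nat_lit 0x3559001), (nat_lit 0x38ef001)], [(nat_lit 0x3566001), (nat_lit 0x3565001), (nat_lit 0x3567001), (nat_lit 0x39f6001), (nat_lit 0x3568001), (nat_lit 0x3569001)], [(nat_lit 0x39e7001), (nat_lit 0x356b001), (nat_lit 0x39fa001), (nat_lit 0x356c001), (nat_lit 0x39f7001), (nat_lit 0x38f5001)], [(nat_lit 0x356e001), (nat_lit 0x356d001), (nat_lit 0x379f001), (nat_lit 0x356f001), (nat_lit 0x3570001), (nat_lit 0x379c001)], [(nat_lit 0x3561001), (nat_lit 0x39f4001), (nat_lit 0x38dc001), (nat_lit 0x3562001), (nat_lit 0x3563001), (nat_lit 0x3564001)], [(nat_lit 0x3554001), (nat_lit 0x39e6001), (nat_lit 0x39e3001), (nat_lit 0x3555001), (nat_lit 0x355e001), (nat_lit 0x38ea001)], [(nat_lit 0x355d001), (nat_lit 0x3550001), (nat_lit 0x39da001), (nat_lit 0x354f001), (nat_lit 0x3551001), (nat_lit 0x3552001)], [(nat_lit 0x39e2001), (nat_lit 0x39dd001), (nat_lit 0x3553001), (nat_lit 0x39df001), (nat_lit 0x39db001), (nat_lit 0x38e4001)], [(nat_lit 0x3566001), (nat_lit 0x355b001), (nat_lit 0x3567001), (nat_lit 0x39e9001), (nat_lit 0x355a001), (nat_lit 0x3569001)], [(nat_lit 0x355d001), (nat_lit 0x39ea001), (nat_lit 0x39ec001), (nat_lit 0x355c001), (nat_lit 0x355e001), (nat_lit 0x3564001)], [(nat_lit 0x38db001), (nat_lit 0x39f0001), (nat_lit 0x355f001), (nat_lit 0x39f2001), (nat_lit 0x3560001), (nat_lit 0x39dc001)], [(nat_lit 0x39f9001), (nat_lit 0x356a001), (nat_lit 0x39de001), (nat_lit 0x38de001), (nat_lit 0x39f1001), (nat_lit 0x38f2001)], [(nat_lit 0x3a4e001), (nat_lit 0x35a8001), (nat_lit 0x35e8001), (nat_lit 0x38f1001), (nat_lit 0x3a39001), (nat_lit 0x38df001)], [(nat_lit 0x3a49001), (nat_lit 0x35a3001), (nat_lit 0x3a3b001), (nat_lit 0x35a2001), (nat_lit 0x3a3e001), (nat_lit 0x38d5001)], [(nat_lit 0x38e5001), (nat_lit 0x3a3f001), (nat_lit 0x38e7001), (nat_lit 0x3a11001), (nat_lit 0x35a7001), (nat_lit 0x39e5001)], [(nat_lit 0x3b6f001), (nat_lit 0x3701001), (nat_lit 0x3702001), (nat_lit 0x3b6a001), (nat_lit 0x3700001), (nat_lit 0x3b6c001)], [(nat_lit 0x3706001), (nat_lit 0x3b6b001), (nat_lit 0x3b73001), (nat_lit 0x3705001), (nat_lit 0x3b55001), (nat_lit 0x3b77001)], [(nat_lit 0x3708001), (nat_lit 0x3b6d001), (nat_lit 0x3709001), (nat_lit 0x3b7a001), (nat_lit 0x38d8001), (nat_lit 0x3707001)], [(nat_lit 0x3703001), (nat_lit 0x3704001), (nat_lit 0x3800001), (nat_lit 0x3b51001), (nat_lit 0x3b72001), (nat_lit 0x3a3a001)], [(nat_lit 0x373c001), (nat_lit 0x373b001), (nat_lit 0x373d001), (nat_lit 0x3b9b001), (nat_lit 0x373e001), (nat_lit 0x3b9e001)], [(nat_lit 0x37ce001), (nat_lit 0x3b9d001), (nat_lit 0x3b79001), (nat_lit 0x373f001), (nat_lit 0x3ba2001), (nat_lit 0x3b76001)], [(nat_lit 0x37d3001), (nat_lit 0x3ba0001), (nat_lit 0x3741001), (nat_lit 0x3b75001), (nat_lit 0x3ba4001), (nat_lit 0x3740001)], [(nat_lit 0x37c9001), (nat_lit 0x3743001), (nat_lit 0x3ba5001), (nat_lit 0x3744001), (nat_lit 0x3742001), (nat_lit 0x3745001)], [(nat_lit 0x3b92001), (nat_lit 0x372f001), (nat_lit 0x3730001), (nat_lit 0x372e001), (nat_lit 0x3b8e001), (nat_lit 0x37bf001)], [(nat_lit 0x3b74001), (nat_lit 0x3738001), (nat_lit 0x3737001), (nat_lit 0x37d6001), (nat_lit 0x3b97001), (nat_lit 0x37d1001)], [(nat_lit 0x3b54001), (nat_lit 0x3b8d001), (nat_lit 0x3b95001), (nat_lit 0x3734001), (nat_lit 0x3735001), (nat_lit 0x3b98001)], [(nat_lit 0x3b78001), (nat_lit 0x37be001), (nat_lit 0x37d0001), (nat_lit 0x373a001), (nat_lit 0x3b9a001), (nat_lit 0x3739001)], [(nat_lit 0x372c001), (nat_lit 0x3b50001), (nat_lit 0x3a2f001), (nat_lit 0x372d001), (nat_lit 0x3b91001), (nat_lit 0x3a35001)], [(nat_lit 0x3b90001), (nat_lit 0x372b001), (nat_lit 0x3ad7001), (nat_lit 0x3b8c001), (nat_lit 0x372a001), (nat_lit 0x3ad1001)], [(nat_lit 0x3b57001), (nat_lit 0x3acf001), (nat_lit 0x3aef001), (nat_lit 0x3b99001), (nat_lit 0x3acd001), (nat_lit 0x3736001)], [(nat_lit 0x3619001), (nat_lit 0x3618001), (nat_lit 0x38ed001), (nat_lit 0x3a8b001), (nat_lit 0x37a5001), (nat_lit 0x361a001)], [(nat_lit 0x3615001), (nat_lit 0x3a8a001), (nat_lit 0x3a8e001), (nat_lit 0x3616001), (nat_lit 0x37ac001), (nat_lit 0x3617001)], [(nat_lit 0x3a8d001), (nat_lit 0x360d001), (nat_lit 0x360c001), (nat_lit 0x39ce001), (nat_lit 0x3614001), (nat_lit 0x360e001)], [(nat_lit 0x3653001), (nat_lit 0x3652001), (nat_lit 0x3ab2001), (nat_lit 0x3654001), (nat_lit 0x3ab1001), (nat_lit 0x3a8c001)], [(nat_lit 0x3ab0001), (nat_lit 0x3659001), (nat_lit 0x3ab8001), (nat_lit 0x39fd001), (nat_lit 0x365a001), (nat_lit 0x3ab7001)], [(nat_lit 0x364f001), (nat_lit 0x3aaf001), (nat_lit 0x3650001), (nat_lit 0x39a5001), (nat_lit 0x3651001), (nat_lit 0x3a91001)], [(nat_lit 0x3663001), (nat_lit 0x3662001), (nat_lit 0x3a1b001), (nat_lit 0x3ac6001), (nat_lit 0x39d8001), (nat_lit 0x3a96001)], [(nat_lit 0x365f001), (nat_lit 0x3ac4001), (nat_lit 0x39cd001), (nat_lit 0x3660001), (nat_lit 0x3661001), (nat_lit 0x39ab001)], [(nat_lit 0x36fd001), (nat_lit 0x36fc001), (nat_lit 0x3838001), (nat_lit 0x36fe001), (nat_lit 0x3835001), (nat_lit 0x36ff001)], [(nat_lit 0x36f7001), (nat_lit 0x3831001), (nat_lit 0x36f8001), (nat_lit 0x36f9001), (nat_lit 0x36fa001), (nat_lit 0x36fb001)], [(nat_lit 0x3719001), (nat_lit 0x3716001), (nat_lit 0x3717001), (nat_lit 0x3b7b001), (nat_lit 0x3718001), (nat_lit 0x3839001)], [(nat_lit 0x3ae2001), (nat_lit 0x3b7d001), (nat_lit 0x3ae4001), (nat_lit 0x371a001), (nat_lit 0x3b80001), (nat_lit 0x3721001)], [(nat_lit 0x3b1a001), (nat_lit 0x3727001), (nat_lit 0x3728001), (nat_lit 0x3b8a001), (nat_lit 0x3729001), (nat_lit 0x3aeb001)], [(nat_lit 0x3723001), (nat_lit 0x3b89001), (nat_lit 0x3724001), (nat_lit 0x3725001), (nat_lit 0x3726001), (nat_lit 0x3ae6001)], [(nat_lit 0x3722001), (nat_lit 0x3b88001), (nat_lit 0x371e001), (nat_lit 0x3843001), (nat_lit 0x3726001), (nat_lit 0x3ae1001)], [(nat_lit 0x3722001), (nat_lit 0x3b11001), (nat_lit 0x3724001), (nat_lit 0x3720001), (nat_lit 0x371f001), (nat_lit 0x3721001)], [(nat_lit 0x378f001), (nat_lit 0x3790001), (nat_lit 0x3791001), (nat_lit 0x3792001), (nat_lit 0x378e001), (nat_lit 0x3793001)], [(nat_lit 0x37b2001), (nat_lit 0x37b3001), (nat_lit 0x37b4001), (nat_lit 0x37b5001), (nat_lit 0x37b6001), (nat_lit 0x37b1001)], [(nat_lit 0x37ce001), (nat_lit 0x37cf001), (nat_lit 0x37d0001), (nat_lit 0x37cd001), (nat_lit 0x3c01001), (nat_lit 0x37d1001)], [(nat_lit 0x37d3001), (nat_lit 0x37d4001), (nat_lit 0x37d5001), (nat_lit 0x37d6001), (nat_lit 0x3c07001), (nat_lit 0x37d2001)], [(nat_lit 0x37c9001), (nat_lit 0x37ca001), (nat_lit 0x3c06001), (nat_lit 0x37cb001), (nat_lit 0x37cc001), (nat_lit 0x37c8001)], [(nat_lit 0x38d1001), (nat_lit 0x37c6001), (nat_lit 0x37c7001), (nat_lit 0x3bfe001), (nat_lit 0x37c5001), (nat_lit 0x3c03001)], [(nat_lit 0x37a8001), (nat_lit 0x37a9001), (nat_lit 0x389a001), (nat_lit 0x3be6001), (nat_lit 0x37a7001), (nat_lit 0x38f9001)], [(nat_lit 0x37ab001), (nat_lit 0x3be8001), (nat_lit 0x38fc001), (nat_lit 0x37aa001), (nat_lit 0x37ac001), (nat_lit 0x38fd001)], [(nat_lit 0x37ae001), (nat_lit 0x37ad001), (nat_lit 0x3a0c001), (nat_lit 0x37af001), (nat_lit 0x37b0001), (nat_lit 0x3855001)], [(nat_lit 0x384d001), (nat_lit 0x384e001), (nat_lit 0x3bbe001), (nat_lit 0x384c001), (nat_lit 0x384f001), (nat_lit 0x3850001)], [(nat_lit 0x3b48001), (nat_lit 0x384a001), (nat_lit 0x3849001), (nat_lit 0x3b4a001), (nat_lit 0x384b001), (nat_lit 0x39d9001)], [(nat_lit 0x37e8001), (nat_lit 0x3c15001), (nat_lit 0x3c12001), (nat_lit 0x37e9001), (nat_lit 0x37ea001), (nat_lit 0x37eb001)], [(nat_lit 0x37f1001), (nat_lit 0x3c1a001), (nat_lit 0x37f2001), (nat_lit 0x37f3001), (nat_lit 0x3c13001), (nat_lit 0x37f4001)], [(nat_lit 0x37ed001), (nat_lit 0x37d8001), (nat_lit 0x37ee001), (nat_lit 0x3c08001), (nat_lit 0x37d7001), (nat_lit 0x395e001)], [(nat_lit 0x37da001), (nat_lit 0x3c09001), (nat_lit 0x3c0b001), (nat_lit 0x37d9001), (nat_lit 0x37db001), (nat_lit 0x3c0e001)], [(nat_lit 0x37dd001), (nat_lit 0x395c001), (nat_lit 0x37de001), (nat_lit 0x3c10001), (nat_lit 0x37df001), (nat_lit 0x37dc001)], [(nat_lit 0x3c11001), (nat_lit 0x3a6d001), (nat_lit 0x37e0001), (nat_lit 0x3a74001), (nat_lit 0x37e1001), (nat_lit 0x37e2001)], [(nat_lit 0x37e7001), (nat_lit 0x3803001), (nat_lit 0x37e4001), (nat_lit 0x37e5001), (nat_lit 0x37e6001), (nat_lit 0x37e3001)], [(nat_lit 0x37fe001), (nat_lit 0x37ff001), (nat_lit 0x3800001), (nat_lit 0x3c24001), (nat_lit 0x3801001), (nat_lit 0x3a54001)], [(nat_lit 0x3c22001), (nat_lit 0x37f9001), (nat_lit 0x3c1f001), (nat_lit 0x37f8001), (nat_lit 0x37fa001), (nat_lit 0x3c1c001)], [(nat_lit 0x3a51001), (nat_lit 0x37fc001), (nat_lit 0x37fd001), (nat_lit 0x3c1b001), (nat_lit 0x3a7b001), (nat_lit 0x37fb001)], [(nat_lit 0x381d001), (nat_lit 0x381c001), (nat_lit 0x3c37001), (nat_lit 0x381e001), (nat_lit 0x3c0a001), (nat_lit 0x381f001)], [(nat_lit 0x3819001), (nat_lit 0x3c35001), (nat_lit 0x381a001), (nat_lit 0x381b001), (nat_lit 0x3c0d001), (nat_lit 0x3c30001)], [(nat_lit 0x3c0f001), (nat_lit 0x3803001), (nat_lit 0x3c26001), (nat_lit 0x3802001), (nat_lit 0x3a65001), (nat_lit 0x3804001)], [(nat_lit 0x3c0c001), (nat_lit 0x3c28001), (nat_lit 0x3805001), (nat_lit 0x3c2b001), (nat_lit 0x3806001), (nat_lit 0x3c27001)], [(nat_lit 0x3c2c001), (nat_lit 0x380a001), (nat_lit 0x3807001), (nat_lit 0x3809001), (nat_lit 0x3a6a001), (nat_lit 0x3808001)], [(nat_lit 0x3c31001), (nat_lit 0x380f001), (nat_lit 0x3810001), (nat_lit 0x3812001), (nat_lit 0x3c2a001), (nat_lit 0x3811001)], [(nat_lit 0x3818001), (nat_lit 0x3814001), (nat_lit 0x3816001), (nat_lit 0x3813001), (nat_lit 0x3817001), (nat_lit 0x3815001)], [(nat_lit 0x3821001), (nat_lit 0x3b44001), (nat_lit 0x3820001), (nat_lit 0x3c2e001), (nat_lit 0x3822001), (nat_lit 0x3823001)], [(nat_lit 0x3829001), (nat_lit 0x3828001), (nat_lit 0x382a001), (nat_lit 0x382b001), (nat_lit 0x38ee001), (nat_lit 0x382c001)], [(nat_lit 0x39d5001), (nat_lit 0x382d001), (nat_lit 0x382e001), (nat_lit 0x39d7001), (nat_lit 0x382f001), (nat_lit 0x3b4c001)], [(nat_lit 0x383f001), (nat_lit 0x383e001), (nat_lit 0x3b49001), (nat_lit 0x3c3c001), (nat_lit 0x3b1c001), (nat_lit 0x3840001)], [(nat_lit 0x383a001), (nat_lit 0x3c3a001), (nat_lit 0x383b001), (nat_lit 0x383c001), (nat_lit 0x3aa1001), (nat_lit 0x383d001)], [(nat_lit 0x3834001), (nat_lit 0x3831001), (nat_lit 0x3830001), (nat_lit 0x3832001), (nat_lit 0x3835001), (nat_lit 0x3833001)], [(nat_lit 0x3a9f001), (nat_lit 0x3837001), (nat_lit 0x3838001), (nat_lit 0x3b12001), (nat_lit 0x3836001), (nat_lit 0x3839001)], [(nat_lit 0x3852001), (nat_lit 0x3851001), (nat_lit 0x3c43001), (nat_lit 0x3853001), (nat_lit 0x3854001), (nat_lit 0x3855001)], [(nat_lit 0x3bec001), (nat_lit 0x3857001), (nat_lit 0x3859001), (nat_lit 0x3856001), (nat_lit 0x38c2001), (nat_lit 0x3858001)], [(nat_lit 0x3860001), (nat_lit 0x3c45001), (nat_lit 0x385f001), (nat_lit 0x3c33001), (nat_lit 0x3861001), (nat_lit 0x3862001)], [(nat_lit 0x3c44001), (nat_lit 0x3863001), (nat_lit 0x3864001), (nat_lit 0x3c36001), (nat_lit 0x3c46001), (nat_lit 0x3b46001)], [(nat_lit 0x3ac5001), (nat_lit 0x3867001), (nat_lit 0x3c4e001), (nat_lit 0x3868001), (nat_lit 0x3ac7001), (nat_lit 0x39c9001)], [(nat_lit 0x386a001), (nat_lit 0x386b001), (nat_lit 0x387b001), (nat_lit 0x3869001), (nat_lit 0x386c001), (nat_lit 0x386d001)], [(nat_lit 0x386f001), (nat_lit 0x386e001), (nat_lit 0x3a9b001), (nat_lit 0x3874001), (nat_lit 0x3870001), (nat_lit 0x3878001)], [(nat_lit 0x3bbc001), (nat_lit 0x3c49001), (nat_lit 0x3871001), (nat_lit 0x387c001), (nat_lit 0x3872001), (nat_lit 0x387d001)], [(nat_lit 0x3bc2001), (nat_lit 0x3873001), (nat_lit 0x3aa8001), (nat_lit 0x3874001), (nat_lit 0x3c4b001), (nat_lit 0x3875001)], [(nat_lit 0x3bc8001), (nat_lit 0x3877001), (nat_lit 0x3c4f001), (nat_lit 0x3876001), (nat_lit 0x3c54001), (nat_lit 0x3878001)], [(nat_lit 0x387a001), (nat_lit 0x3c56001), (nat_lit 0x387b001), (nat_lit 0x387c001), (nat_lit 0x3879001), (nat_lit 0x387d001)], [(nat_lit 0x38b9001), (nat_lit 0x38ba001), (nat_lit 0x38b8001), (nat_lit 0x38bb001), (nat_lit 0x3bdf001), (nat_lit 0x38bc001)], [(nat_lit 0x3891001), (nat_lit 0x3892001), (nat_lit 0x3893001), (nat_lit 0x3894001), (nat_lit 0x3c74001), (nat_lit 0x3890001)], [(nat_lit 0x3882001), (nat_lit 0x3883001), (nat_lit 0x3c5a001), (nat_lit 0x3881001), (nat_lit 0x3c5d001), (nat_lit 0x3884001)], [(nat_lit 0x3886001), (nat_lit 0x3887001), (nat_lit 0x3888001), (nat_lit 0x3889001), (nat_lit 0x3c61001), (nat_lit 0x3885001)], [(nat_lit 0x3ba8001), (nat_lit 0x3c5f001), (nat_lit 0x3c6c001), (nat_lit 0x388f001), (nat_lit 0x388e001), (nat_lit 0x3c6f001)], [(nat_lit 0x3bae001), (nat_lit 0x3c63001), (nat_lit 0x3896001), (nat_lit 0x3c79001), (nat_lit 0x3895001), (nat_lit 0x3897001)], [(nat_lit 0x38cd001), (nat_lit 0x38cc001), (nat_lit 0x3ba1001), (nat_lit 0x38ce001), (nat_lit 0x3c8c001), (nat_lit 0x38cf001)], [(nat_lit 0x38d1001), (nat_lit 0x3c8e001), (nat_lit 0x38d2001), (nat_lit 0x3ba3001), (nat_lit 0x38d0001), (nat_lit 0x3ba6001)], [(nat_lit 0x38c9001), (nat_lit 0x38c8001), (nat_lit 0x3b6e001), (nat_lit 0x38ca001), (nat_lit 0x3c8a001), (nat_lit 0x38cb001)], [(nat_lit 0x38c4001), (nat_lit 0x3c87001), (nat_lit 0x38c5001), (nat_lit 0x3c84001), (nat_lit 0x38c6001), (nat_lit 0x38c7001)], [(nat_lit 0x3c82001), (nat_lit 0x38c1001), (nat_lit 0x3a27001), (nat_lit 0x38c0001), (nat_lit 0x38c2001), (nat_lit 0x38c3001)], [(nat_lit 0x393c001), (nat_lit 0x393f001), (nat_lit 0x393b001), (nat_lit 0x393d001), (nat_lit 0x3940001), (nat_lit 0x393e001)], [(nat_lit 0x3933001), (nat_lit 0x3cdb001), (nat_lit 0x3934001), (nat_lit 0x3932001), (nat_lit 0x3936001), (nat_lit 0x3935001)], [(nat_lit 0x3cd9001), (nat_lit 0x3cd2001), (nat_lit 0x3920001), (nat_lit 0x3cd5001), (nat_lit 0x3921001), (nat_lit 0x3cc9001)], [(nat_lit 0x3c5b001), (nat_lit 0x392f001), (nat_lit 0x3930001), (nat_lit 0x3cda001), (nat_lit 0x3cd4001), (nat_lit 0x3931001)], [(nat_lit 0x3939001), (nat_lit 0x3c80001), (nat_lit 0x393a001), (nat_lit 0x3ce3001), (nat_lit 0x3cce001), (nat_lit 0x3c5c001)], [(nat_lit 0x3ce2001), (nat_lit 0x3938001), (nat_lit 0x3cdd001), (nat_lit 0x3937001), (nat_lit 0x3cdf001), (nat_lit 0x3cdc001)], [(nat_lit 0x3bd5001), (nat_lit 0x3ce0001), (nat_lit 0x3942001), (nat_lit 0x3a83001), (nat_lit 0x3941001), (nat_lit 0x3bd7001)], [(nat_lit 0x3ce4001), (nat_lit 0x3943001), (nat_lit 0x3ce1001), (nat_lit 0x3cc1001), (nat_lit 0x3cde001), (nat_lit 0x3cd1001)], [(nat_lit 0x396a001), (nat_lit 0x3c76001), (nat_lit 0x3ccd001), (nat_lit 0x3a48001), (nat_lit 0x396b001), (nat_lit 0x3d0b001)], [(nat_lit 0x3a47001), (nat_lit 0x3967001), (nat_lit 0x3a46001), (nat_lit 0x3966001), (nat_lit 0x3d00001), (nat_lit 0x3d02001)], [(nat_lit 0x3d08001), (nat_lit 0x3969001), (nat_lit 0x3ac0001), (nat_lit 0x3d06001), (nat_lit 0x3cfd001), (nat_lit 0x3968001)], [(nat_lit 0x3b67001), (nat_lit 0x3a45001), (nat_lit 0x396e001), (nat_lit 0x3aca001), (nat_lit 0x3d0e001), (nat_lit 0x3a44001)], [(nat_lit 0x3bb9001), (nat_lit 0x3cff001), (nat_lit 0x3d0c001), (nat_lit 0x396c001), (nat_lit 0x396d001), (nat_lit 0x3c7a001)], [(nat_lit 0x3b61001), (nat_lit 0x3d04001), (nat_lit 0x3a42001), (nat_lit 0x3970001), (nat_lit 0x3a43001), (nat_lit 0x396f001)], [(nat_lit 0x3bb3001), (nat_lit 0x3cfc001), (nat_lit 0x3962001), (nat_lit 0x3c72001), (nat_lit 0x3963001), (nat_lit 0x3961001)], [(nat_lit 0x3c62001), (nat_lit 0x3965001), (nat_lit 0x3c64001), (nat_lit 0x3cfe001), (nat_lit 0x3964001), (nat_lit 0x3c65001)], [(nat_lit 0x3c5e001), (nat_lit 0x3960001), (nat_lit 0x3cd3001), (nat_lit 0x3c60001), (nat_lit 0x395f001), (nat_lit 0x3cfb001)], [(nat_lit 0x3b1e001), (nat_lit 0x3b1f001), (nat_lit 0x3b20001), (nat_lit 0x3d3d001), (nat_lit 0x3b21001), (nat_lit 0x3b22001)], [(nat_lit 0x3d3a001), (nat_lit 0x39ba001), (nat_lit 0x3d38001), (nat_lit 0x39bb001), (nat_lit 0x39bc001), (nat_lit 0x39b9001)], [(nat_lit 0x39cb001), (nat_lit 0x39cc001), (nat_lit 0x39cd001), (nat_lit 0x39ce001), (nat_lit 0x39ca001), (nat_lit 0x39cf001)], [(nat_lit 0x3bdd001), (nat_lit 0x3bdc001), (nat_lit 0x3bde001), (nat_lit 0x3d43001), (nat_lit 0x3bdf001), (nat_lit 0x3be0001)], [(nat_lit 0x3d41001), (nat_lit 0x39d0001), (nat_lit 0x3d23001), (nat_lit 0x39d1001), (nat_lit 0x39d2001), (nat_lit 0x39d3001)], [(nat_lit 0x39bd001), (nat_lit 0x3d40001), (nat_lit 0x39be001), (nat_lit 0x39bf001), (nat_lit 0x39c0001), (nat_lit 0x3d3f001)], [(nat_lit 0x39b7001), (nat_lit 0x3d2e001), (nat_lit 0x39b8001), (nat_lit 0x3d31001), (nat_lit 0x39b6001), (nat_lit 0x3d35001)], [(nat_lit 0x3d27001), (nat_lit 0x39c7001), (nat_lit 0x3d2f001), (nat_lit 0x39c8001), (nat_lit 0x39c6001), (nat_lit 0x39c9001)], [(nat_lit 0x3bbc001), (nat_lit 0x3bbd001), (nat_lit 0x3bbe001), (nat_lit 0x3bbf001), (nat_lit 0x3bbb001), (nat_lit 0x3bc0001)], [(nat_lit 0x3c55001), (nat_lit 0x3be1001), (nat_lit 0x3be2001), (nat_lit 0x3be3001), (nat_lit 0x3be4001), (nat_lit 0x3be5001)], [(nat_lit 0x3bc2001), (nat_lit 0x3bc1001), (nat_lit 0x3bc3001), (nat_lit 0x3bc4001), (nat_lit 0x3bc5001), (nat_lit 0x3bc6001)], [(nat_lit 0x3c48001), (nat_lit 0x3c49001), (nat_lit 0x3c4a001), (nat_lit 0x3c58001), (nat_lit 0x3c4b001), (nat_lit 0x3c59001)], [(nat_lit 0x3c88001), (nat_lit 0x3a58001), (nat_lit 0x3a5a001), (nat_lit 0x3a57001), (nat_lit 0x3a59001), (nat_lit 0x3a5b001)], [(nat_lit 0x3bfa001), (nat_lit 0x3bf9001), (nat_lit 0x3bfb001), (nat_lit 0x3ea7001), (nat_lit 0x3bfc001), (nat_lit 0x3bfd001)], [(nat_lit 0x3bf4001), (nat_lit 0x3ea5001), (nat_lit 0x3bf5001), (nat_lit 0x3bf6001), (nat_lit 0x3bf7001), (nat_lit 0x3bf8001)], [(nat_lit 0x3c9f001), (nat_lit 0x3c9e001), (nat_lit 0x3ca0001), (nat_lit 0x3ca1001), (nat_lit 0x3ca2001), (nat_lit 0x3ca3001)], [(nat_lit 0x3b6f001), (nat_lit 0x3b70001), (nat_lit 0x3b71001), (nat_lit 0x3e63001), (nat_lit 0x3b72001), (nat_lit 0x3bfd001)], [(nat_lit 0x3b92001), (nat_lit 0x3e62001), (nat_lit 0x3b93001), (nat_lit 0x3b94001), (nat_lit 0x3e7c001), (nat_lit 0x3bf8001)], [(nat_lit 0x3bf3001), (nat_lit 0x3bf0001), (nat_lit 0x3bf1001), (nat_lit 0x3bf2001), (nat_lit 0x3bef001), (nat_lit 0x3d5d001)], [(nat_lit 0x3c99001), (nat_lit 0x3c9a001), (nat_lit 0x3c9b001), (nat_lit 0x3c9c001), (nat_lit 0x3ef3001), (nat_lit 0x3c9d001)], [(nat_lit 0x3c93001), (nat_lit 0x3c90001), (nat_lit 0x3c8f001), (nat_lit 0x3c91001), (nat_lit 0x3c94001), (nat_lit 0x3c92001)], [(nat_lit 0x3eef001), (nat_lit 0x3c96001), (nat_lit 0x3c97001), (nat_lit 0x3c98001), (nat_lit 0x3c95001), (nat_lit 0x3d0f001)], [(nat_lit 0x39ed001), (nat_lit 0x3d0d001), (nat_lit 0x39ec001), (nat_lit 0x3d5a001), (nat_lit 0x39ee001), (nat_lit 0x39ef001)], [(nat_lit 0x3cb1001), (nat_lit 0x3cb0001), (nat_lit 0x3d05001), (nat_lit 0x3cb2001), (nat_lit 0x3cb3001), (nat_lit 0x3cb4001)], [(nat_lit 0x3d03001), (nat_lit 0x3cbc001), (nat_lit 0x3cbb001), (nat_lit 0x3d0a001), (nat_lit 0x3d07001), (nat_lit 0x3cbd001)], [(nat_lit 0x3aa6001), (nat_lit 0x3aa7001), (nat_lit 0x3aa8001), (nat_lit 0x3aa9001), (nat_lit 0x3aaa001), (nat_lit 0x3aa5001)], [(nat_lit 0x3b3f001), (nat_lit 0x3b3e001), (nat_lit 0x3e41001), (nat_lit 0x3b40001), (nat_lit 0x3b41001), (nat_lit 0x3d83001)], [(nat_lit 0x3a2a001), (nat_lit 0x3a29001), (nat_lit 0x3a2b001), (nat_lit 0x3d80001), (nat_lit 0x3b87001), (nat_lit 0x3a2c001)], [(nat_lit 0x3a31001), (nat_lit 0x3a32001), (nat_lit 0x3a33001), (nat_lit 0x3a34001), (nat_lit 0x3cae001), (nat_lit 0x3a35001)], [(nat_lit 0x3a14001), (nat_lit 0x3a15001), (nat_lit 0x3cad001), (nat_lit 0x3a16001), (nat_lit 0x3a17001), (nat_lit 0x3a18001)], [(nat_lit 0x3a2e001), (nat_lit 0x3d82001), (nat_lit 0x3a2f001), (nat_lit 0x3a2d001), (nat_lit 0x3d84001), (nat_lit 0x3a30001)], [(nat_lit 0x3c3b001), (nat_lit 0x3c3a001), (nat_lit 0x3c57001), (nat_lit 0x3c3c001), (nat_lit 0x3c53001), (nat_lit 0x3c3d001)], [(nat_lit 0x39d5001), (nat_lit 0x39d4001), (nat_lit 0x39d6001), (nat_lit 0x39d7001), (nat_lit 0x39d8001), (nat_lit 0x39d9001)], [(nat_lit 0x3a1a001), (nat_lit 0x3a19001), (nat_lit 0x3a1b001), (nat_lit 0x3a1c001), (nat_lit 0x3a1d001), (nat_lit 0x3a1e001)], [(nat_lit 0x3c50001), (nat_lit 0x3c3e001), (nat_lit 0x3c3f001), (nat_lit 0x3c40001), (nat_lit 0x3c41001), (nat_lit 0x3c42001)], [(nat_lit 0x3ca5001), (nat_lit 0x3ca4001), (nat_lit 0x3ca6001), (nat_lit 0x3ca9001), (nat_lit 0x3ca7001), (nat_lit 0x3ca8001)], [(nat_lit 0x3cab001), (nat_lit 0x3cac001), (nat_lit 0x3cad001), (nat_lit 0x3caa001), (nat_lit 0x3cae001), (nat_lit 0x3caf001)], [(nat_lit 0x3cb5001), (nat_lit 0x3cb6001), (nat_lit 0x3cb7001), (nat_lit 0x3cb8001), (nat_lit 0x3cb9001), (nat_lit 0x3cba001)], [(nat_lit 0x3bec001), (nat_lit 0x3c23001), (nat_lit 0x3bed001), (nat_lit 0x3beb001), (nat_lit 0x3c85001), (nat_lit 0x3bee001)], [(nat_lit 0x3c2c001), (nat_lit 0x3e46001), (nat_lit 0x3c2d001), (nat_lit 0x3c2e001), (nat_lit 0x3c2f001), (nat_lit 0x3c30001)], [(nat_lit 0x3ba8001), (nat_lit 0x3ba9001), (nat_lit 0x3baa001), (nat_lit 0x3bab001), (nat_lit 0x3ba7001), (nat_lit 0x3bac001)], [(nat_lit 0x3bae001), (nat_lit 0x3baf001), (nat_lit 0x3bb0001), (nat_lit 0x3e93001), (nat_lit 0x3bad001), (nat_lit 0x3bb1001)], [(nat_lit 0x3bb3001), (nat_lit 0x3bb4001), (nat_lit 0x3bb5001), (nat_lit 0x3bb6001), (nat_lit 0x3bb7001), (nat_lit 0x3bb2001)], [(nat_lit 0x3bb9001), (nat_lit 0x3e95001), (nat_lit 0x3e5b001), (nat_lit 0x3bb8001), (nat_lit 0x3bba001), (nat_lit 0x3e97001)], [(nat_lit 0x3be7001), (nat_lit 0x3a86001), (nat_lit 0x3daa001), (nat_lit 0x3a87001), (nat_lit 0x3a85001), (nat_lit 0x3a88001)], [(nat_lit 0x3bcc001), (nat_lit 0x3bcb001), (nat_lit 0x3bcd001), (nat_lit 0x3bce001), (nat_lit 0x3bcf001), (nat_lit 0x3bd0001)], [(nat_lit 0x3a81001), (nat_lit 0x3da9001), (nat_lit 0x3a82001), (nat_lit 0x3a83001), (nat_lit 0x3a80001), (nat_lit 0x3a84001)], [(nat_lit 0x3e9d001), (nat_lit 0x3bd1001), (nat_lit 0x3bd2001), (nat_lit 0x3e98001), (nat_lit 0x3bd3001), (nat_lit 0x3dac001)], [(nat_lit 0x3bd5001), (nat_lit 0x3e99001), (nat_lit 0x3bd8001), (nat_lit 0x3bd4001), (nat_lit 0x3bd6001), (nat_lit 0x3bd7001)], [(nat_lit 0x3bd9001), (nat_lit 0x3bda001), (nat_lit 0x3e9e001), (nat_lit 0x3bdb001), (nat_lit 0x3db6001), (nat_lit 0x3bea001)], [(nat_lit 0x3db3001), (nat_lit 0x3ab4001), (nat_lit 0x3ab5001), (nat_lit 0x3d6c001), (nat_lit 0x3ab6001), (nat_lit 0x3ab7001)], [(nat_lit 0x3a03001), (nat_lit 0x3d6a001), (nat_lit 0x3d71001), (nat_lit 0x3a04001), (nat_lit 0x3d3e001), (nat_lit 0x3a02001)], [(nat_lit 0x3bc8001), (nat_lit 0x3bc7001), (nat_lit 0x3c3f001), (nat_lit 0x3bc9001), (nat_lit 0x3be4001), (nat_lit 0x3bca001)], [(nat_lit 0x3a37001), (nat_lit 0x3a36001), (nat_lit 0x3a52001), (nat_lit 0x3a38001), (nat_lit 0x3a39001), (nat_lit 0x3a3a001)], [(nat_lit 0x3cab001), (nat_lit 0x3a10001), (nat_lit 0x3a0f001), (nat_lit 0x3a11001), (nat_lit 0x3a12001), (nat_lit 0x3a13001)], [(nat_lit 0x3b85001), (nat_lit 0x3b84001), (nat_lit 0x3b86001), (nat_lit 0x3dfa001), (nat_lit 0x3b87001), (nat_lit 0x3c42001)], [(nat_lit 0x3ae2001), (nat_lit 0x3df7001), (nat_lit 0x3adf001), (nat_lit 0x3ae0001), (nat_lit 0x3de9001), (nat_lit 0x3ae1001)], [(nat_lit 0x3a68001), (nat_lit 0x3a69001), (nat_lit 0x3a67001), (nat_lit 0x3a6b001), (nat_lit 0x3a6a001), (nat_lit 0x3d9a001)], [(nat_lit 0x3cee001), (nat_lit 0x3a63001), (nat_lit 0x3d95001), (nat_lit 0x3a64001), (nat_lit 0x3a65001), (nat_lit 0x3a66001)], [(nat_lit 0x3a5f001), (nat_lit 0x3c83001), (nat_lit 0x3d1c001), (nat_lit 0x3c89001), (nat_lit 0x3c25001), (nat_lit 0x3d94001)], [(nat_lit 0x3d91001), (nat_lit 0x3a5d001), (nat_lit 0x3d17001), (nat_lit 0x3a5e001), (nat_lit 0x3d8f001), (nat_lit 0x3a5c001)], [(nat_lit 0x3a61001), (nat_lit 0x3d90001), (nat_lit 0x3a62001), (nat_lit 0x3d8e001), (nat_lit 0x3a60001), (nat_lit 0x3c14001)], [(nat_lit 0x3a51001), (nat_lit 0x3a50001), (nat_lit 0x3a52001), (nat_lit 0x3d88001), (nat_lit 0x3a53001), (nat_lit 0x3a54001)], [(nat_lit 0x3a56001), (nat_lit 0x3d8a001), (nat_lit 0x3c32001), (nat_lit 0x3a55001), (nat_lit 0x3d8c001), (nat_lit 0x3bee001)], [(nat_lit 0x3a79001), (nat_lit 0x3a78001), (nat_lit 0x3a7a001), (nat_lit 0x3d93001), (nat_lit 0x3a7b001), (nat_lit 0x3c8b001)], [(nat_lit 0x3b43001), (nat_lit 0x3a0b001), (nat_lit 0x3a0c001), (nat_lit 0x3d73001), (nat_lit 0x3a0a001), (nat_lit 0x3c47001)], [(nat_lit 0x3a0e001), (nat_lit 0x3d74001), (nat_lit 0x3bed001), (nat_lit 0x3a0d001), (nat_lit 0x3d33001), (nat_lit 0x3c34001)], [(nat_lit 0x3d8d001), (nat_lit 0x3a6d001), (nat_lit 0x3c29001), (nat_lit 0x3a6e001), (nat_lit 0x3a6c001), (nat_lit 0x3a75001)], [(nat_lit 0x3a76001), (nat_lit 0x3d92001), (nat_lit 0x3da1001), (nat_lit 0x3a77001), (nat_lit 0x3da6001), (nat_lit 0x3c86001)], [(nat_lit 0x3da0001), (nat_lit 0x3d97001), (nat_lit 0x3a6f001), (nat_lit 0x3a71001), (nat_lit 0x3d9b001), (nat_lit 0x3a70001)], [(nat_lit 0x3da4001), (nat_lit 0x3a73001), (nat_lit 0x3d9d001), (nat_lit 0x3a74001), (nat_lit 0x3a72001), (nat_lit 0x3a75001)], [(nat_lit 0x3dad001), (nat_lit 0x3a7c001), (nat_lit 0x3a7d001), (nat_lit 0x3a7e001), (nat_lit 0x3da8001), (nat_lit 0x3a7f001)], [(nat_lit 0x3a89001), (nat_lit 0x3a8a001), (nat_lit 0x3daf001), (nat_lit 0x3a8b001), (nat_lit 0x3be9001), (nat_lit 0x3a8c001)], [(nat_lit 0x3a93001), (nat_lit 0x3a92001), (nat_lit 0x3a94001), (nat_lit 0x3d29001), (nat_lit 0x3a95001), (nat_lit 0x3a96001)], [(nat_lit 0x39a7001), (nat_lit 0x3d26001), (nat_lit 0x39a8001), (nat_lit 0x39a9001), (nat_lit 0x39aa001), (nat_lit 0x39ab001)], [(nat_lit 0x39a3001), (nat_lit 0x3d22001), (nat_lit 0x39a4001), (nat_lit 0x39a5001), (nat_lit 0x39a2001), (nat_lit 0x39a6001)], [(nat_lit 0x3a98001), (nat_lit 0x3db8001), (nat_lit 0x3a97001), (nat_lit 0x3dba001), (nat_lit 0x3a99001), (nat_lit 0x3c39001)], [(nat_lit 0x3b85001), (nat_lit 0x3a9a001), (nat_lit 0x3a9b001), (nat_lit 0x3dbe001), (nat_lit 0x3a9c001), (nat_lit 0x3c52001)], [(nat_lit 0x3b7c001), (nat_lit 0x3dbf001), (nat_lit 0x3dc0001), (nat_lit 0x3a9d001), (nat_lit 0x3dc3001), (nat_lit 0x3dc7001)], [(nat_lit 0x3a9f001), (nat_lit 0x3c51001), (nat_lit 0x3aa0001), (nat_lit 0x3dca001), (nat_lit 0x3aa1001), (nat_lit 0x3a9e001)], [(nat_lit 0x3d81001), (nat_lit 0x3aa3001), (nat_lit 0x3dcc001), (nat_lit 0x3aa2001), (nat_lit 0x3dd0001), (nat_lit 0x3aa4001)], [(nat_lit 0x3aac001), (nat_lit 0x3dd1001), (nat_lit 0x3aad001), (nat_lit 0x3dc5001), (nat_lit 0x3aab001), (nat_lit 0x3aae001)], [(nat_lit 0x3e40001), (nat_lit 0x3b36001), (nat_lit 0x3b37001), (nat_lit 0x3e18001), (nat_lit 0x3b38001), (nat_lit 0x3dce001)], [(nat_lit 0x3b0b001), (nat_lit 0x3e16001), (nat_lit 0x3b09001), (nat_lit 0x3b0a001), (nat_lit 0x3dbc001), (nat_lit 0x3b08001)], [(nat_lit 0x3b07001), (nat_lit 0x3dcd001), (nat_lit 0x3b05001), (nat_lit 0x3b04001), (nat_lit 0x3e1b001), (nat_lit 0x3b06001)], [(nat_lit 0x3b39001), (nat_lit 0x3b3a001), (nat_lit 0x3e1d001), (nat_lit 0x3b3b001), (nat_lit 0x3b3c001), (nat_lit 0x3b3d001)], [(nat_lit 0x3b1a001), (nat_lit 0x3b19001), (nat_lit 0x3b1b001), (nat_lit 0x3e24001), (nat_lit 0x3b1c001), (nat_lit 0x3b1d001)], [(nat_lit 0x3b13001), (nat_lit 0x3e22001), (nat_lit 0x3b14001), (nat_lit 0x3b15001), (nat_lit 0x3dcb001), (nat_lit 0x3b16001)], [(nat_lit 0x3ae8001), (nat_lit 0x3ae7001), (nat_lit 0x3ae9001), (nat_lit 0x3dfe001), (nat_lit 0x3aea001), (nat_lit 0x3aeb001)], [(nat_lit 0x3dfd001), (nat_lit 0x3b17001), (nat_lit 0x3e26001), (nat_lit 0x3b18001), (nat_lit 0x3e0e001), (nat_lit 0x3e25001)], [(nat_lit 0x3b0c001), (nat_lit 0x3e1f001), (nat_lit 0x3b0d001), (nat_lit 0x3b0e001), (nat_lit 0x3e0b001), (nat_lit 0x3b0f001)], [(nat_lit 0x3afb001), (nat_lit 0x3e0c001), (nat_lit 0x3e0a001), (nat_lit 0x3afc001), (nat_lit 0x3afd001), (nat_lit 0x3dc6001)], [(nat_lit 0x3adc001), (nat_lit 0x3adb001), (nat_lit 0x3df4001), (nat_lit 0x3add001), (nat_lit 0x3df3001), (nat_lit 0x3ade001)], [(nat_lit 0x3df5001), (nat_lit 0x3b01001), (nat_lit 0x3b00001), (nat_lit 0x3e12001), (nat_lit 0x3e11001), (nat_lit 0x3b02001)], [(nat_lit 0x3df2001), (nat_lit 0x3afe001), (nat_lit 0x3e0f001), (nat_lit 0x3e0d001), (nat_lit 0x3aff001), (nat_lit 0x3dd2001)], [(nat_lit 0x3a41001), (nat_lit 0x3a3f001), (nat_lit 0x3a42001), (nat_lit 0x3a40001), (nat_lit 0x3a3e001), (nat_lit 0x3a44001)], [(nat_lit 0x3acc001), (nat_lit 0x3ac8001), (nat_lit 0x3ac9001), (nat_lit 0x3aca001), (nat_lit 0x3acd001), (nat_lit 0x3acb001)], [(nat_lit 0x3aed001), (nat_lit 0x3aee001), (nat_lit 0x3aef001), (nat_lit 0x3af0001), (nat_lit 0x3aec001), (nat_lit 0x3af1001)], [(nat_lit 0x3af3001), (nat_lit 0x3af4001), (nat_lit 0x3e00001), (nat_lit 0x3af2001), (nat_lit 0x3af5001), (nat_lit 0x3af6001)], [(nat_lit 0x3b28001), (nat_lit 0x3e28001), (nat_lit 0x3b29001), (nat_lit 0x3b2a001), (nat_lit 0x3e02001), (nat_lit 0x3b27001)], [(nat_lit 0x3e2b001), (nat_lit 0x3b23001), (nat_lit 0x3b24001), (nat_lit 0x3b25001), (nat_lit 0x3b26001), (nat_lit 0x3e27001)], [(nat_lit 0x3d85001), (nat_lit 0x3ad6001), (nat_lit 0x3ad7001), (nat_lit 0x3b82001), (nat_lit 0x3ad8001), (nat_lit 0x3ad5001)], [(nat_lit 0x3dc4001), (nat_lit 0x3b81001), (nat_lit 0x3e08001), (nat_lit 0x3afa001), (nat_lit 0x3b7e001), (nat_lit 0x3af9001)], [(nat_lit 0x3e1c001), (nat_lit 0x3e3a001), (nat_lit 0x3b35001), (nat_lit 0x3e43001), (nat_lit 0x3b34001), (nat_lit 0x3e03001)], [(nat_lit 0x3e3c001), (nat_lit 0x3b2e001), (nat_lit 0x3b2f001), (nat_lit 0x3e20001), (nat_lit 0x3e39001), (nat_lit 0x3b2d001)], [(nat_lit 0x3b30001), (nat_lit 0x3e3f001), (nat_lit 0x3b31001), (nat_lit 0x3e35001), (nat_lit 0x3e2f001), (nat_lit 0x3e3e001)], [(nat_lit 0x3e34001), (nat_lit 0x3b2c001), (nat_lit 0x3e30001), (nat_lit 0x3b2b001), (nat_lit 0x3e31001), (nat_lit 0x3e21001)], [(nat_lit 0x3dbb001), (nat_lit 0x3e32001), (nat_lit 0x3dc9001), (nat_lit 0x3b33001), (nat_lit 0x3b32001), (nat_lit 0x3dc2001)], [(nat_lit 0x3dc8001), (nat_lit 0x3b11001), (nat_lit 0x3dbd001), (nat_lit 0x3b12001), (nat_lit 0x3b10001), (nat_lit 0x3b7f001)], [(nat_lit 0x3ae3001), (nat_lit 0x3dfc001), (nat_lit 0x3ae4001), (nat_lit 0x3ae5001), (nat_lit 0x3def001), (nat_lit 0x3ae6001)], [(nat_lit 0x3dec001), (nat_lit 0x3ad3001), (nat_lit 0x3de8001), (nat_lit 0x3ad2001), (nat_lit 0x3ad4001), (nat_lit 0x3b83001)], [(nat_lit 0x3e19001), (nat_lit 0x3b03001), (nat_lit 0x3df9001), (nat_lit 0x3dcf001), (nat_lit 0x3e05001), (nat_lit 0x3e15001)], [(nat_lit 0x3e09001), (nat_lit 0x3e04001), (nat_lit 0x3af7001), (nat_lit 0x3e06001), (nat_lit 0x3af8001), (nat_lit 0x3e07001)], [(nat_lit 0x39e1001), (nat_lit 0x3d4e001), (nat_lit 0x39e0001), (nat_lit 0x39df001), (nat_lit 0x3d56001), (nat_lit 0x3caf001)], [(nat_lit 0x3ad9001), (nat_lit 0x3df1001), (nat_lit 0x3d58001), (nat_lit 0x3dee001), (nat_lit 0x3ada001), (nat_lit 0x3d87001)], [(nat_lit 0x39e2001), (nat_lit 0x3a45001), (nat_lit 0x39e3001), (nat_lit 0x39e4001), (nat_lit 0x39ee001), (nat_lit 0x39e5001)], [(nat_lit 0x3d57001), (nat_lit 0x3acf001), (nat_lit 0x3ad0001), (nat_lit 0x3de3001), (nat_lit 0x3ace001), (nat_lit 0x3ad1001)], [(nat_lit 0x3cee001), (nat_lit 0x3cef001), (nat_lit 0x3d7e001), (nat_lit 0x3ced001), (nat_lit 0x3cf0001), (nat_lit 0x3cf1001)], [(nat_lit 0x3a68001), (nat_lit 0x3d76001), (nat_lit 0x3a22001), (nat_lit 0x3a21001), (nat_lit 0x3c2f001), (nat_lit 0x3d7d001)], [(nat_lit 0x3cf7001), (nat_lit 0x3cf8001), (nat_lit 0x3f03001), (nat_lit 0x3cf9001), (nat_lit 0x3cf6001), (nat_lit 0x3cfa001)], [(nat_lit 0x3cf3001), (nat_lit 0x3e13001), (nat_lit 0x3cf2001), (nat_lit 0x3cf4001), (nat_lit 0x3f01001), (nat_lit 0x3cf5001)], [(nat_lit 0x3f05001), (nat_lit 0x3d11001), (nat_lit 0x3d77001), (nat_lit 0x3d10001), (nat_lit 0x3db9001), (nat_lit 0x3e14001)], [(nat_lit 0x3c16001), (nat_lit 0x3c15001), (nat_lit 0x3ebf001), (nat_lit 0x3c17001), (nat_lit 0x3c18001), (nat_lit 0x3c19001)], [(nat_lit 0x3c38001), (nat_lit 0x3ec4001), (nat_lit 0x3c1d001), (nat_lit 0x3dc1001), (nat_lit 0x3ec1001), (nat_lit 0x3c1e001)], [(nat_lit 0x3ec6001), (nat_lit 0x3c20001), (nat_lit 0x3c1f001), (nat_lit 0x3e33001), (nat_lit 0x3c21001), (nat_lit 0x3ec5001)], [(nat_lit 0x3f02001), (nat_lit 0x3f0a001), (nat_lit 0x3d1a001), (nat_lit 0x3f0f001), (nat_lit 0x3d19001), (nat_lit 0x3ec2001)], [(nat_lit 0x3f0c001), (nat_lit 0x3d16001), (nat_lit 0x3d17001), (nat_lit 0x3e2a001), (nat_lit 0x3f09001), (nat_lit 0x3d18001)], [(nat_lit 0x3d1b001), (nat_lit 0x3f06001), (nat_lit 0x3d1c001), (nat_lit 0x3e2e001), (nat_lit 0x3ec9001), (nat_lit 0x3f0e001)], [(nat_lit 0x3e01001), (nat_lit 0x3e10001), (nat_lit 0x3d15001), (nat_lit 0x3f08001), (nat_lit 0x3d14001), (nat_lit 0x3e1e001)], [(nat_lit 0x3d12001), (nat_lit 0x3e2c001), (nat_lit 0x3d13001), (nat_lit 0x3f07001), (nat_lit 0x3e42001), (nat_lit 0x3df6001)], [(nat_lit 0x3b5e001), (nat_lit 0x3cac001), (nat_lit 0x3e2d001), (nat_lit 0x3ca9001), (nat_lit 0x3b5f001), (nat_lit 0x3d4f001)], [(nat_lit 0x3ca5001), (nat_lit 0x3b5b001), (nat_lit 0x3cb7001), (nat_lit 0x3b5a001), (nat_lit 0x3cb9001), (nat_lit 0x3d55001)], [(nat_lit 0x3d50001), (nat_lit 0x3b5d001), (nat_lit 0x3e29001), (nat_lit 0x3d54001), (nat_lit 0x3e4f001), (nat_lit 0x3b5c001)], [(nat_lit 0x3b61001), (nat_lit 0x3b65001), (nat_lit 0x3b60001), (nat_lit 0x3b62001), (nat_lit 0x3b63001), (nat_lit 0x3b64001)], [(nat_lit 0x3a49001), (nat_lit 0x3cb6001), (nat_lit 0x3a4a001), (nat_lit 0x3a4b001), (nat_lit 0x3a4c001), (nat_lit 0x3c9d001)], [(nat_lit 0x3b67001), (nat_lit 0x3d52001), (nat_lit 0x3b68001), (nat_lit 0x3b69001), (nat_lit 0x3e59001), (nat_lit 0x3b66001)], [(nat_lit 0x3b57001), (nat_lit 0x3e4e001), (nat_lit 0x3b58001), (nat_lit 0x3e58001), (nat_lit 0x3b59001), (nat_lit 0x3b56001)], [(nat_lit 0x3b4f001), (nat_lit 0x3b50001), (nat_lit 0x3e3d001), (nat_lit 0x3b51001), (nat_lit 0x3e52001), (nat_lit 0x3b52001)], [(nat_lit 0x3a4e001), (nat_lit 0x3a4d001), (nat_lit 0x3a7a001), (nat_lit 0x3cb8001), (nat_lit 0x3a4f001), (nat_lit 0x3ca3001)], [(nat_lit 0x3e50001), (nat_lit 0x3b4e001), (nat_lit 0x3e3b001), (nat_lit 0x3e4a001), (nat_lit 0x3b4d001), (nat_lit 0x3e4d001)], [(nat_lit 0x3b54001), (nat_lit 0x3e4b001), (nat_lit 0x3e53001), (nat_lit 0x3b53001), (nat_lit 0x3b55001), (nat_lit 0x3e56001)], [(nat_lit 0x3b43001), (nat_lit 0x3b44001), (nat_lit 0x3b42001), (nat_lit 0x3e44001), (nat_lit 0x3b45001), (nat_lit 0x3b46001)], [(nat_lit 0x3999001), (nat_lit 0x3998001), (nat_lit 0x3a07001), (nat_lit 0x399a001), (nat_lit 0x399b001), (nat_lit 0x399c001)], [(nat_lit 0x3b48001), (nat_lit 0x3b47001), (nat_lit 0x3b49001), (nat_lit 0x3b4a001), (nat_lit 0x3b4b001), (nat_lit 0x3b4c001)], [(nat_lit 0x3c75001), (nat_lit 0x3c76001), (nat_lit 0x3c77001), (nat_lit 0x3c91001), (nat_lit 0x3c74001), (nat_lit 0x3c78001)], [(nat_lit 0x3c93001), (nat_lit 0x3c7c001), (nat_lit 0x3c9b001), (nat_lit 0x3c7b001), (nat_lit 0x3e96001), (nat_lit 0x3c7d001)], [(nat_lit 0x3cc7001), (nat_lit 0x3ddf001), (nat_lit 0x3cc6001), (nat_lit 0x3cca001), (nat_lit 0x3cc8001), (nat_lit 0x3cc9001)], [(nat_lit 0x3dda001), (nat_lit 0x3abe001), (nat_lit 0x3ac0001), (nat_lit 0x3abd001), (nat_lit 0x3dde001), (nat_lit 0x3abf001)], [(nat_lit 0x3ccb001), (nat_lit 0x3ccc001), (nat_lit 0x3ccd001), (nat_lit 0x3db0001), (nat_lit 0x3cce001), (nat_lit 0x3ddd001)], [(nat_lit 0x3dd4001), (nat_lit 0x3ab9001), (nat_lit 0x3ab8001), (nat_lit 0x3abc001), (nat_lit 0x3aba001), (nat_lit 0x3abb001)], [(nat_lit 0x3c7f001), (nat_lit 0x3c80001), (nat_lit 0x3c7e001), (nat_lit 0x3eeb001), (nat_lit 0x3c81001), (nat_lit 0x3ed6001)], [(nat_lit 0x3eec001), (nat_lit 0x3cd0001), (nat_lit 0x3e9c001), (nat_lit 0x3ccf001), (nat_lit 0x3e9a001), (nat_lit 0x3cd1001)], [(nat_lit 0x3ed4001), (nat_lit 0x3cbf001), (nat_lit 0x3cbe001), (nat_lit 0x3cc1001), (nat_lit 0x3ef5001), (nat_lit 0x3cc0001)], [(nat_lit 0x3cd9001), (nat_lit 0x3ef6001), (nat_lit 0x3cd6001), (nat_lit 0x3cd5001), (nat_lit 0x3cd7001), (nat_lit 0x3cd8001)], [(nat_lit 0x3ce5001), (nat_lit 0x3dae001), (nat_lit 0x3db4001), (nat_lit 0x3ce6001), (nat_lit 0x3e9f001), (nat_lit 0x3dd8001)], [(nat_lit 0x3cea001), (nat_lit 0x3ddb001), (nat_lit 0x3ceb001), (nat_lit 0x3dd6001), (nat_lit 0x3f00001), (nat_lit 0x3cec001)], [(nat_lit 0x3efe001), (nat_lit 0x3ce8001), (nat_lit 0x3ce9001), (nat_lit 0x3de1001), (nat_lit 0x3ce7001), (nat_lit 0x3ef9001)], [(nat_lit 0x3c67001), (nat_lit 0x3c66001), (nat_lit 0x3ed5001), (nat_lit 0x3c68001), (nat_lit 0x3ee6001), (nat_lit 0x3c69001)], [(nat_lit 0x3ee7001), (nat_lit 0x3cc3001), (nat_lit 0x3ef7001), (nat_lit 0x3cc4001), (nat_lit 0x3cc2001), (nat_lit 0x3cc5001)], [(nat_lit 0x3d1d001), (nat_lit 0x3d1e001), (nat_lit 0x3eff001), (nat_lit 0x3ee9001), (nat_lit 0x3d1f001), (nat_lit 0x3eea001)], [(nat_lit 0x3ab3001), (nat_lit 0x3dd5001), (nat_lit 0x3ab2001), (nat_lit 0x3dd9001), (nat_lit 0x3dd7001), (nat_lit 0x3db1001)], [(nat_lit 0x3a8d001), (nat_lit 0x3db2001), (nat_lit 0x3a8e001), (nat_lit 0x3a8f001), (nat_lit 0x3a90001), (nat_lit 0x3a91001)], [(nat_lit 0x3c4c001), (nat_lit 0x3d3b001), (nat_lit 0x3d6b001), (nat_lit 0x3c4d001), (nat_lit 0x3d6d001), (nat_lit 0x3d45001)], [(nat_lit 0x3d69001), (nat_lit 0x3ac1001), (nat_lit 0x3ac2001), (nat_lit 0x3db5001), (nat_lit 0x3ac3001), (nat_lit 0x3d25001)], [(nat_lit 0x3c6b001), (nat_lit 0x3ee8001), (nat_lit 0x3c6c001), (nat_lit 0x3c6d001), (nat_lit 0x3c6a001), (nat_lit 0x3c6e001)], [(nat_lit 0x3d08001), (nat_lit 0x3d09001), (nat_lit 0x3ddc001), (nat_lit 0x3d0a001), (nat_lit 0x3ee5001), (nat_lit 0x3d0b001)], [(nat_lit 0x3a3d001), (nat_lit 0x3cbc001), (nat_lit 0x3a3b001), (nat_lit 0x3a3c001), (nat_lit 0x3a43001), (nat_lit 0x3c92001)], [(nat_lit 0x3c70001), (nat_lit 0x3ee3001), (nat_lit 0x3c71001), (nat_lit 0x3c72001), (nat_lit 0x3c73001), (nat_lit 0x3c6f001)], [(nat_lit 0x3a06001), (nat_lit 0x3a05001), (nat_lit 0x3a07001), (nat_lit 0x3a08001), (nat_lit 0x3b45001), (nat_lit 0x3a09001)], [(nat_lit 0x39b2001), (nat_lit 0x39b1001), (nat_lit 0x39b3001), (nat_lit 0x39b4001), (nat_lit 0x3d2c001), (nat_lit 0x39b5001)], [(nat_lit 0x39ff001), (nat_lit 0x3a00001), (nat_lit 0x3a01001), (nat_lit 0x3a6b001), (nat_lit 0x39fe001), (nat_lit 0x3d6e001)], [(nat_lit 0x39c2001), (nat_lit 0x39c1001), (nat_lit 0x39c3001), (nat_lit 0x39c4001), (nat_lit 0x3d44001), (nat_lit 0x39c5001)], [(nat_lit 0x3d32001), (nat_lit 0x3a69001), (nat_lit 0x3a27001), (nat_lit 0x3a25001), (nat_lit 0x3a26001), (nat_lit 0x3a70001)], [(nat_lit 0x3d36001), (nat_lit 0x3d70001), (nat_lit 0x3d3c001), (nat_lit 0x3a71001), (nat_lit 0x3d72001), (nat_lit 0x3a28001)], [(nat_lit 0x399e001), (nat_lit 0x399d001), (nat_lit 0x399f001), (nat_lit 0x39a0001), (nat_lit 0x3d20001), (nat_lit 0x39a1001)], [(nat_lit 0x3d21001), (nat_lit 0x39fc001), (nat_lit 0x3d42001), (nat_lit 0x39fd001), (nat_lit 0x39fb001), (nat_lit 0x3d68001)], [(nat_lit 0x39ad001), (nat_lit 0x39ac001), (nat_lit 0x39ae001), (nat_lit 0x39af001), (nat_lit 0x3d2a001), (nat_lit 0x39b0001)], [(nat_lit 0x3d2d001), (nat_lit 0x3a20001), (nat_lit 0x3d28001), (nat_lit 0x3d75001), (nat_lit 0x3a1f001), (nat_lit 0x3d78001)], [(nat_lit 0x3d6f001), (nat_lit 0x3d7a001), (nat_lit 0x3a24001), (nat_lit 0x3d7f001), (nat_lit 0x3d39001), (nat_lit 0x3a23001)], [(nat_lit 0x39e7001), (nat_lit 0x39e6001), (nat_lit 0x3a46001), (nat_lit 0x39e8001), (nat_lit 0x39eb001), (nat_lit 0x3cb4001)], [(nat_lit 0x39f5001), (nat_lit 0x39f4001), (nat_lit 0x3d62001), (nat_lit 0x39f6001), (nat_lit 0x39f7001), (nat_lit 0x39f8001)], [(nat_lit 0x3a47001), (nat_lit 0x3c90001), (nat_lit 0x39fa001), (nat_lit 0x3a48001), (nat_lit 0x3d65001), (nat_lit 0x3cbd001)], [(nat_lit 0x39ed001), (nat_lit 0x3d46001), (nat_lit 0x39da001), (nat_lit 0x3d4a001), (nat_lit 0x39db001), (nat_lit 0x39dc001)], [(nat_lit 0x3d51001), (nat_lit 0x39dd001), (nat_lit 0x39de001), (nat_lit 0x3d4d001), (nat_lit 0x3d48001), (nat_lit 0x3ca8001)], [(nat_lit 0x39f5001), (nat_lit 0x39ea001), (nat_lit 0x3d01001), (nat_lit 0x39e9001), (nat_lit 0x39eb001), (nat_lit 0x39f8001)], [(nat_lit 0x3d60001), (nat_lit 0x39f0001), (nat_lit 0x3d47001), (nat_lit 0x3d5e001), (nat_lit 0x39f1001), (nat_lit 0x3d49001)], [(nat_lit 0x3bf3001), (nat_lit 0x3d5f001), (nat_lit 0x39f3001), (nat_lit 0x39f2001), (nat_lit 0x3bf7001), (nat_lit 0x3d4c001)], [(nat_lit 0x39f9001), (nat_lit 0x3c9a001), (nat_lit 0x3d53001), (nat_lit 0x3ca1001), (nat_lit 0x3d61001), (nat_lit 0x3cba001)], [(nat_lit 0x3e61001), (nat_lit 0x3b6b001), (nat_lit 0x3e5c001), (nat_lit 0x3b6a001), (nat_lit 0x3e4c001), (nat_lit 0x3e5e001)], [(nat_lit 0x3bfa001), (nat_lit 0x3b6d001), (nat_lit 0x3b6e001), (nat_lit 0x3e60001), (nat_lit 0x3ca2001), (nat_lit 0x3b6c001)], [(nat_lit 0x3b74001), (nat_lit 0x3e64001), (nat_lit 0x3b73001), (nat_lit 0x3b75001), (nat_lit 0x3e55001), (nat_lit 0x3b76001)], [(nat_lit 0x3b78001), (nat_lit 0x3e5f001), (nat_lit 0x3b79001), (nat_lit 0x3b7a001), (nat_lit 0x3e68001), (nat_lit 0x3b77001)], [(nat_lit 0x3b9c001), (nat_lit 0x3b9d001), (nat_lit 0x3e85001), (nat_lit 0x3b9b001), (nat_lit 0x3e88001), (nat_lit 0x3e67001)], [(nat_lit 0x3b9f001), (nat_lit 0x3ba0001), (nat_lit 0x3ba1001), (nat_lit 0x3e66001), (nat_lit 0x3e8c001), (nat_lit 0x3b9e001)], [(nat_lit 0x3bff001), (nat_lit 0x3e8a001), (nat_lit 0x3e6a001), (nat_lit 0x3ba3001), (nat_lit 0x3ba2001), (nat_lit 0x3e91001)], [(nat_lit 0x3c04001), (nat_lit 0x3e8e001), (nat_lit 0x3ba5001), (nat_lit 0x3e92001), (nat_lit 0x3ba4001), (nat_lit 0x3ba6001)], [(nat_lit 0x3e79001), (nat_lit 0x3b8d001), (nat_lit 0x3b8f001), (nat_lit 0x3b8c001), (nat_lit 0x3b8e001), (nat_lit 0x3de6001)], [(nat_lit 0x3e54001), (nat_lit 0x3b96001), (nat_lit 0x3b95001), (nat_lit 0x3e7d001), (nat_lit 0x3b97001), (nat_lit 0x3e80001)], [(nat_lit 0x3e57001), (nat_lit 0x3de4001), (nat_lit 0x3e7f001), (nat_lit 0x3b99001), (nat_lit 0x3e81001), (nat_lit 0x3b98001)], [(nat_lit 0x3e69001), (nat_lit 0x3bf0001), (nat_lit 0x3c02001), (nat_lit 0x3c98001), (nat_lit 0x3b9a001), (nat_lit 0x3e84001)], [(nat_lit 0x3b90001), (nat_lit 0x3e51001), (nat_lit 0x3d86001), (nat_lit 0x3e7b001), (nat_lit 0x3b91001), (nat_lit 0x3d59001)], [(nat_lit 0x3ab0001), (nat_lit 0x3aaf001), (nat_lit 0x3dd3001), (nat_lit 0x3d24001), (nat_lit 0x3ab1001), (nat_lit 0x3db7001)], [(nat_lit 0x3ac5001), (nat_lit 0x3ac4001), (nat_lit 0x3d7b001), (nat_lit 0x3ac6001), (nat_lit 0x3ac7001), (nat_lit 0x3d2b001)], [(nat_lit 0x3b7c001), (nat_lit 0x3b7d001), (nat_lit 0x3e6b001), (nat_lit 0x3b7b001), (nat_lit 0x3b7e001), (nat_lit 0x3b7f001)], [(nat_lit 0x3deb001), (nat_lit 0x3b81001), (nat_lit 0x3ded001), (nat_lit 0x3b82001), (nat_lit 0x3b80001), (nat_lit 0x3b83001)], [(nat_lit 0x3e23001), (nat_lit 0x3b89001), (nat_lit 0x3e75001), (nat_lit 0x3b8a001), (nat_lit 0x3b8b001), (nat_lit 0x3dff001)], [(nat_lit 0x3e70001), (nat_lit 0x3b88001), (nat_lit 0x3e17001), (nat_lit 0x3c40001), (nat_lit 0x3b8b001), (nat_lit 0x3dfb001)], [(nat_lit 0x3bff001), (nat_lit 0x3c00001), (nat_lit 0x3c02001), (nat_lit 0x3bfe001), (nat_lit 0x3c01001), (nat_lit 0x3eaa001)], [(nat_lit 0x3c04001), (nat_lit 0x3c05001), (nat_lit 0x3c06001), (nat_lit 0x3eae001), (nat_lit 0x3c07001), (nat_lit 0x3c03001)], [(nat_lit 0x3be7001), (nat_lit 0x3be8001), (nat_lit 0x3ea0001), (nat_lit 0x3be6001), (nat_lit 0x3be9001), (nat_lit 0x3bea001)], [(nat_lit 0x3c11001), (nat_lit 0x3ebc001), (nat_lit 0x3c12001), (nat_lit 0x3da5001), (nat_lit 0x3c13001), (nat_lit 0x3c14001)], [(nat_lit 0x3d89001), (nat_lit 0x3c1a001), (nat_lit 0x3ec3001), (nat_lit 0x3c1b001), (nat_lit 0x3ebd001), (nat_lit 0x3c1c001)], [(nat_lit 0x3c16001), (nat_lit 0x3c09001), (nat_lit 0x3eb0001), (nat_lit 0x3c08001), (nat_lit 0x3c0a001), (nat_lit 0x3cfa001)], [(nat_lit 0x3c0c001), (nat_lit 0x3eb2001), (nat_lit 0x3c0b001), (nat_lit 0x3eb4001), (nat_lit 0x3c0d001), (nat_lit 0x3eb8001)], [(nat_lit 0x3c0f001), (nat_lit 0x3cf8001), (nat_lit 0x3eba001), (nat_lit 0x3c10001), (nat_lit 0x3cf0001), (nat_lit 0x3c0e001)], [(nat_lit 0x3c22001), (nat_lit 0x3c23001), (nat_lit 0x3ec7001), (nat_lit 0x3c24001), (nat_lit 0x3c25001), (nat_lit 0x3d8b001)], [(nat_lit 0x3c38001), (nat_lit 0x3ecf001), (nat_lit 0x3c37001), (nat_lit 0x3e6d001), (nat_lit 0x3eb1001), (nat_lit 0x3c39001)], [(nat_lit 0x3ecb001), (nat_lit 0x3c35001), (nat_lit 0x3ece001), (nat_lit 0x3c36001), (nat_lit 0x3eb3001), (nat_lit 0x3e48001)], [(nat_lit 0x3eb9001), (nat_lit 0x3d9c001), (nat_lit 0x3c26001), (nat_lit 0x3d9e001), (nat_lit 0x3d99001), (nat_lit 0x3c27001)], [(nat_lit 0x3eb5001), (nat_lit 0x3c28001), (nat_lit 0x3c29001), (nat_lit 0x3c2b001), (nat_lit 0x3c2a001), (nat_lit 0x3d9f001)], [(nat_lit 0x3c31001), (nat_lit 0x3eca001), (nat_lit 0x3c32001), (nat_lit 0x3c33001), (nat_lit 0x3eb7001), (nat_lit 0x3c34001)], [(nat_lit 0x3c44001), (nat_lit 0x3c45001), (nat_lit 0x3c43001), (nat_lit 0x3ecc001), (nat_lit 0x3c46001), (nat_lit 0x3c47001)], [(nat_lit 0x3d79001), (nat_lit 0x3d37001), (nat_lit 0x3c4e001), (nat_lit 0x3ed1001), (nat_lit 0x3d7c001), (nat_lit 0x3d30001)], [(nat_lit 0x3c50001), (nat_lit 0x3c51001), (nat_lit 0x3c4f001), (nat_lit 0x3e72001), (nat_lit 0x3c53001), (nat_lit 0x3c52001)], [(nat_lit 0x3c55001), (nat_lit 0x3c56001), (nat_lit 0x3c57001), (nat_lit 0x3c58001), (nat_lit 0x3c54001), (nat_lit 0x3c59001)], [(nat_lit 0x3c5b001), (nat_lit 0x3ed3001), (nat_lit 0x3c5a001), (nat_lit 0x3ed8001), (nat_lit 0x3ede001), (nat_lit 0x3c5c001)], [(nat_lit 0x3c5e001), (nat_lit 0x3c5f001), (nat_lit 0x3ee0001), (nat_lit 0x3c60001), (nat_lit 0x3c5d001), (nat_lit 0x3ee1001)], [(nat_lit 0x3c62001), (nat_lit 0x3c63001), (nat_lit 0x3c64001), (nat_lit 0x3d67001), (nat_lit 0x3c61001), (nat_lit 0x3c65001)], [(nat_lit 0x3e94001), (nat_lit 0x3d64001), (nat_lit 0x3c97001), (nat_lit 0x3c79001), (nat_lit 0x3c94001), (nat_lit 0x3c7a001)], [(nat_lit 0x3c8d001), (nat_lit 0x3c8e001), (nat_lit 0x3e8f001), (nat_lit 0x3e8b001), (nat_lit 0x3c8c001), (nat_lit 0x3e90001)], [(nat_lit 0x3c88001), (nat_lit 0x3c87001), (nat_lit 0x3ca0001), (nat_lit 0x3c89001), (nat_lit 0x3c8a001), (nat_lit 0x3c8b001)], [(nat_lit 0x3c82001), (nat_lit 0x3c83001), (nat_lit 0x3d34001), (nat_lit 0x3c84001), (nat_lit 0x3c85001), (nat_lit 0x3c86001)], [(nat_lit 0x3ed9001), (nat_lit 0x3cdb001), (nat_lit 0x3cdd001), (nat_lit 0x3cda001), (nat_lit 0x3cde001), (nat_lit 0x3cdc001)], [(nat_lit 0x3edf001), (nat_lit 0x3cd2001), (nat_lit 0x3cd3001), (nat_lit 0x3ef8001), (nat_lit 0x3cd4001), (nat_lit 0x3de2001)], [(nat_lit 0x3ce2001), (nat_lit 0x3eed001), (nat_lit 0x3edb001), (nat_lit 0x3ce3001), (nat_lit 0x3efd001), (nat_lit 0x3edc001)], [(nat_lit 0x3efa001), (nat_lit 0x3ce0001), (nat_lit 0x3ce1001), (nat_lit 0x3dab001), (nat_lit 0x3cdf001), (nat_lit 0x3e9b001)], [(nat_lit 0x3ce4001), (nat_lit 0x3eda001), (nat_lit 0x3efb001), (nat_lit 0x3ed7001), (nat_lit 0x3edd001), (nat_lit 0x3eee001)], [(nat_lit 0x3d63001), (nat_lit 0x3cff001), (nat_lit 0x3d01001), (nat_lit 0x3cfe001), (nat_lit 0x3d00001), (nat_lit 0x3d66001)], [(nat_lit 0x3d03001), (nat_lit 0x3d04001), (nat_lit 0x3d05001), (nat_lit 0x3d06001), (nat_lit 0x3d07001), (nat_lit 0x3d02001)], [(nat_lit 0x3ee2001), (nat_lit 0x3cfc001), (nat_lit 0x3de0001), (nat_lit 0x3ee4001), (nat_lit 0x3cfd001), (nat_lit 0x3cfb001)], [(nat_lit 0x3e5a001), (nat_lit 0x3d0d001), (nat_lit 0x3d0c001), (nat_lit 0x3e83001), (nat_lit 0x3d0e001), (nat_lit 0x3d0f001)], [(nat_lit 0x3d3a001), (nat_lit 0x3d3b001), (nat_lit 0x3d3c001), (nat_lit 0x3d3d001), (nat_lit 0x3d3e001), (nat_lit 0x3d3f001)], [(nat_lit 0x3d36001), (nat_lit 0x3d37001), (nat_lit 0x3d38001), (nat_lit 0x3da2001), (nat_lit 0x3d39001), (nat_lit 0x3d35001)], [(nat_lit 0x3d41001), (nat_lit 0x3d40001), (nat_lit 0x3d42001), (nat_lit 0x3d43001), (nat_lit 0x3d44001), (nat_lit 0x3d45001)], [(nat_lit 0x3d21001), (nat_lit 0x3d22001), (nat_lit 0x3d23001), (nat_lit 0x3d24001), (nat_lit 0x3d20001), (nat_lit 0x3d25001)], [(nat_lit 0x3d2d001), (nat_lit 0x3d2e001), (nat_lit 0x3d2f001), (nat_lit 0x3f10001), (nat_lit 0x3d2c001), (nat_lit 0x3d30001)], [(nat_lit 0x3d32001), (nat_lit 0x3f12001), (nat_lit 0x3d34001), (nat_lit 0x3d31001), (nat_lit 0x3d33001), (nat_lit 0x3da3001)], [(nat_lit 0x3d27001), (nat_lit 0x3d26001), (nat_lit 0x3d28001), (nat_lit 0x3d29001), (nat_lit 0x3d2a001), (nat_lit 0x3d2b001)], [(nat_lit 0x3ea6001), (nat_lit 0x3ea5001), (nat_lit 0x3ff7001), (nat_lit 0x3ea7001), (nat_lit 0x3ea8001), (nat_lit 0x3ea9001)], [(nat_lit 0x3e61001), (nat_lit 0x3e62001), (nat_lit 0x3fe8001), (nat_lit 0x3e63001), (nat_lit 0x3fcf001), (nat_lit 0x3ea9001)], [(nat_lit 0x3e79001), (nat_lit 0x3fcd001), (nat_lit 0x3e7a001), (nat_lit 0x3e7b001), (nat_lit 0x3e7c001), (nat_lit 0x3f22001)], [(nat_lit 0x3d5b001), (nat_lit 0x3e82001), (nat_lit 0x3d5c001), (nat_lit 0x3d5a001), (nat_lit 0x3de5001), (nat_lit 0x3d5d001)], [(nat_lit 0x3eef001), (nat_lit 0x3ef0001), (nat_lit 0x3ef1001), (nat_lit 0x3ef2001), (nat_lit 0x3ef3001), (nat_lit 0x3ef4001)], [(nat_lit 0x3e40001), (nat_lit 0x3e3f001), (nat_lit 0x3e41001), (nat_lit 0x3fab001), (nat_lit 0x3e42001), (nat_lit 0x3f3f001)], [(nat_lit 0x3d81001), (nat_lit 0x3d82001), (nat_lit 0x3f3b001), (nat_lit 0x3d80001), (nat_lit 0x3f40001), (nat_lit 0x3d83001)], [(nat_lit 0x3d85001), (nat_lit 0x3f42001), (nat_lit 0x3d86001), (nat_lit 0x3dea001), (nat_lit 0x3d84001), (nat_lit 0x3d87001)], [(nat_lit 0x3e45001), (nat_lit 0x3e46001), (nat_lit 0x3e49001), (nat_lit 0x3e44001), (nat_lit 0x3e47001), (nat_lit 0x3e48001)], [(nat_lit 0x3e94001), (nat_lit 0x3e95001), (nat_lit 0x3ef1001), (nat_lit 0x3e93001), (nat_lit 0x3e96001), (nat_lit 0x3e97001)], [(nat_lit 0x3e5a001), (nat_lit 0x3f1a001), (nat_lit 0x3e5b001), (nat_lit 0x3fdb001), (nat_lit 0x3e59001), (nat_lit 0x3ef4001)], [(nat_lit 0x3ea1001), (nat_lit 0x3da9001), (nat_lit 0x3daa001), (nat_lit 0x3dab001), (nat_lit 0x3da8001), (nat_lit 0x3dac001)], [(nat_lit 0x3e9d001), (nat_lit 0x3ea2001), (nat_lit 0x3e9e001), (nat_lit 0x3ff4001), (nat_lit 0x3e9f001), (nat_lit 0x3ea4001)], [(nat_lit 0x3ff1001), (nat_lit 0x3e99001), (nat_lit 0x3e9c001), (nat_lit 0x3e98001), (nat_lit 0x3e9a001), (nat_lit 0x3e9b001)], [(nat_lit 0x3db3001), (nat_lit 0x3db2001), (nat_lit 0x3db4001), (nat_lit 0x3db5001), (nat_lit 0x3db6001), (nat_lit 0x3db7001)], [(nat_lit 0x3d69001), (nat_lit 0x3d6a001), (nat_lit 0x3d6b001), (nat_lit 0x3d6c001), (nat_lit 0x3d6d001), (nat_lit 0x3d68001)], [(nat_lit 0x3d6f001), (nat_lit 0x3d70001), (nat_lit 0x3d71001), (nat_lit 0x3d98001), (nat_lit 0x3d72001), (nat_lit 0x3d6e001)], [(nat_lit 0x3df8001), (nat_lit 0x3df7001), (nat_lit 0x3df9001), (nat_lit 0x3dfa001), (nat_lit 0x3f6e001), (nat_lit 0x3dfb001)], [(nat_lit 0x3deb001), (nat_lit 0x3f6a001), (nat_lit 0x3de8001), (nat_lit 0x3dea001), (nat_lit 0x3de9001), (nat_lit 0x3df0001)], [(nat_lit 0x3d96001), (nat_lit 0x3d97001), (nat_lit 0x3d95001), (nat_lit 0x3d98001), (nat_lit 0x3d99001), (nat_lit 0x3d9a001)], [(nat_lit 0x3d91001), (nat_lit 0x3d92001), (nat_lit 0x3f0d001), (nat_lit 0x3d93001), (nat_lit 0x3f4e001), (nat_lit 0x3d94001)], [(nat_lit 0x3f4b001), (nat_lit 0x3d90001), (nat_lit 0x3f0b001), (nat_lit 0x3f4a001), (nat_lit 0x3d8f001), (nat_lit 0x3ebe001)], [(nat_lit 0x3d8d001), (nat_lit 0x3f49001), (nat_lit 0x3eb6001), (nat_lit 0x3d8e001), (nat_lit 0x3d8c001), (nat_lit 0x3da7001)], [(nat_lit 0x3d89001), (nat_lit 0x3d8a001), (nat_lit 0x3f44001), (nat_lit 0x3d88001), (nat_lit 0x3f47001), (nat_lit 0x3d8b001)], [(nat_lit 0x3e45001), (nat_lit 0x3d74001), (nat_lit 0x3f32001), (nat_lit 0x3d73001), (nat_lit 0x3f13001), (nat_lit 0x3ecd001)], [(nat_lit 0x3da0001), (nat_lit 0x3ed2001), (nat_lit 0x3da1001), (nat_lit 0x3da2001), (nat_lit 0x3f53001), (nat_lit 0x3da3001)], [(nat_lit 0x3da4001), (nat_lit 0x3f4c001), (nat_lit 0x3f51001), (nat_lit 0x3da5001), (nat_lit 0x3da6001), (nat_lit 0x3da7001)], [(nat_lit 0x3f50001), (nat_lit 0x3d9c001), (nat_lit 0x3d9d001), (nat_lit 0x3d9e001), (nat_lit 0x3d9b001), (nat_lit 0x3d9f001)], [(nat_lit 0x3dad001), (nat_lit 0x3dae001), (nat_lit 0x3daf001), (nat_lit 0x3db0001), (nat_lit 0x3ea3001), (nat_lit 0x3db1001)], [(nat_lit 0x3f33001), (nat_lit 0x3db8001), (nat_lit 0x3e49001), (nat_lit 0x3e78001), (nat_lit 0x3db9001), (nat_lit 0x3ed0001)], [(nat_lit 0x3dbb001), (nat_lit 0x3e76001), (nat_lit 0x3dbd001), (nat_lit 0x3dba001), (nat_lit 0x3dbc001), (nat_lit 0x3e6f001)], [(nat_lit 0x3df8001), (nat_lit 0x3dbf001), (nat_lit 0x3e1a001), (nat_lit 0x3dbe001), (nat_lit 0x3f55001), (nat_lit 0x3e74001)], [(nat_lit 0x3e6c001), (nat_lit 0x3f59001), (nat_lit 0x3dc0001), (nat_lit 0x3dc1001), (nat_lit 0x3f5c001), (nat_lit 0x3dc2001)], [(nat_lit 0x3dc4001), (nat_lit 0x3f56001), (nat_lit 0x3f5e001), (nat_lit 0x3dc5001), (nat_lit 0x3dc3001), (nat_lit 0x3dc6001)], [(nat_lit 0x3dc8001), (nat_lit 0x3e71001), (nat_lit 0x3dc9001), (nat_lit 0x3dca001), (nat_lit 0x3dcb001), (nat_lit 0x3dc7001)], [(nat_lit 0x3f3c001), (nat_lit 0x3dcd001), (nat_lit 0x3dcc001), (nat_lit 0x3dcf001), (nat_lit 0x3f60001), (nat_lit 0x3dce001)], [(nat_lit 0x3f41001), (nat_lit 0x3dd1001), (nat_lit 0x3f62001), (nat_lit 0x3f57001), (nat_lit 0x3dd0001), (nat_lit 0x3dd2001)], [(nat_lit 0x3fa8001), (nat_lit 0x3e16001), (nat_lit 0x3e17001), (nat_lit 0x3e18001), (nat_lit 0x3e77001), (nat_lit 0x3e15001)], [(nat_lit 0x3e1c001), (nat_lit 0x3f61001), (nat_lit 0x3e1d001), (nat_lit 0x3f93001), (nat_lit 0x3e1b001), (nat_lit 0x3e1e001)], [(nat_lit 0x3e23001), (nat_lit 0x3e22001), (nat_lit 0x3fb7001), (nat_lit 0x3e24001), (nat_lit 0x3e73001), (nat_lit 0x3e25001)], [(nat_lit 0x3dfd001), (nat_lit 0x3dfc001), (nat_lit 0x3f7c001), (nat_lit 0x3dfe001), (nat_lit 0x3f72001), (nat_lit 0x3dff001)], [(nat_lit 0x3f7d001), (nat_lit 0x3fb4001), (nat_lit 0x3e26001), (nat_lit 0x3fbd001), (nat_lit 0x3fa2001), (nat_lit 0x3fbc001)], [(nat_lit 0x3f70001), (nat_lit 0x3e0c001), (nat_lit 0x3fa0001), (nat_lit 0x3e0d001), (nat_lit 0x3e0e001), (nat_lit 0x3f58001)], [(nat_lit 0x3fae001), (nat_lit 0x3e1f001), (nat_lit 0x3fb2001), (nat_lit 0x3e20001), (nat_lit 0x3f9f001), (nat_lit 0x3e21001)], [(nat_lit 0x3e09001), (nat_lit 0x3f9e001), (nat_lit 0x3e0a001), (nat_lit 0x3f9c001), (nat_lit 0x3e0b001), (nat_lit 0x3f5f001)], [(nat_lit 0x3df5001), (nat_lit 0x3f25001), (nat_lit 0x3df4001), (nat_lit 0x3f77001), (nat_lit 0x3f76001), (nat_lit 0x3df6001)], [(nat_lit 0x3df2001), (nat_lit 0x3df1001), (nat_lit 0x3f74001), (nat_lit 0x3f71001), (nat_lit 0x3df3001), (nat_lit 0x3f43001)], [(nat_lit 0x3f78001), (nat_lit 0x3e13001), (nat_lit 0x3f39001), (nat_lit 0x3e12001), (nat_lit 0x3fa6001), (nat_lit 0x3e14001)], [(nat_lit 0x3f75001), (nat_lit 0x3e10001), (nat_lit 0x3e0f001), (nat_lit 0x3fa4001), (nat_lit 0x3e11001), (nat_lit 0x3f63001)], [(nat_lit 0x3e01001), (nat_lit 0x3f81001), (nat_lit 0x3e00001), (nat_lit 0x3f85001), (nat_lit 0x3e02001), (nat_lit 0x3e03001)], [(nat_lit 0x3f24001), (nat_lit 0x3e28001), (nat_lit 0x3e29001), (nat_lit 0x3e2a001), (nat_lit 0x3f83001), (nat_lit 0x3e27001)], [(nat_lit 0x3e2b001), (nat_lit 0x3e2c001), (nat_lit 0x3e2d001), (nat_lit 0x3e2e001), (nat_lit 0x3e2f001), (nat_lit 0x3f27001)], [(nat_lit 0x3f5d001), (nat_lit 0x3f8c001), (nat_lit 0x3e08001), (nat_lit 0x3f99001), (nat_lit 0x3e6e001), (nat_lit 0x3e07001)], [(nat_lit 0x3fc4001), (nat_lit 0x3e3a001), (nat_lit 0x3e3b001), (nat_lit 0x3fc2001), (nat_lit 0x3e39001), (nat_lit 0x3f84001)], [(nat_lit 0x3f94001), (nat_lit 0x3fc3001), (nat_lit 0x3f9b001), (nat_lit 0x3e43001), (nat_lit 0x3f9d001), (nat_lit 0x3f88001)], [(nat_lit 0x3e3c001), (nat_lit 0x3f3d001), (nat_lit 0x3e3d001), (nat_lit 0x3fb0001), (nat_lit 0x3fc6001), (nat_lit 0x3e3e001)], [(nat_lit 0x3e34001), (nat_lit 0x3fa9001), (nat_lit 0x3e36001), (nat_lit 0x3e35001), (nat_lit 0x3e38001), (nat_lit 0x3fb1001)], [(nat_lit 0x3e37001), (nat_lit 0x3fb9001), (nat_lit 0x3e30001), (nat_lit 0x3ec8001), (nat_lit 0x3e38001), (nat_lit 0x3fb6001)], [(nat_lit 0x3e37001), (nat_lit 0x3e32001), (nat_lit 0x3e36001), (nat_lit 0x3e33001), (nat_lit 0x3e31001), (nat_lit 0x3f5b001)], [(nat_lit 0x3dec001), (nat_lit 0x3f6f001), (nat_lit 0x3ded001), (nat_lit 0x3dee001), (nat_lit 0x3def001), (nat_lit 0x3df0001)], [(nat_lit 0x3e19001), (nat_lit 0x3fad001), (nat_lit 0x3e1a001), (nat_lit 0x3f3e001), (nat_lit 0x3f91001), (nat_lit 0x3fac001)], [(nat_lit 0x3f8f001), (nat_lit 0x3e04001), (nat_lit 0x3f6c001), (nat_lit 0x3f89001), (nat_lit 0x3e05001), (nat_lit 0x3f8b001)], [(nat_lit 0x3f9a001), (nat_lit 0x3f8a001), (nat_lit 0x3f92001), (nat_lit 0x3e06001), (nat_lit 0x3f95001), (nat_lit 0x3f97001)], [(nat_lit 0x3d50001), (nat_lit 0x3d4e001), (nat_lit 0x3f23001), (nat_lit 0x3d4d001), (nat_lit 0x3f28001), (nat_lit 0x3d4f001)], [(nat_lit 0x3d57001), (nat_lit 0x3f2a001), (nat_lit 0x3d58001), (nat_lit 0x3f21001), (nat_lit 0x3d56001), (nat_lit 0x3d59001)], [(nat_lit 0x3f1f001), (nat_lit 0x3de4001), (nat_lit 0x3de7001), (nat_lit 0x3de3001), (nat_lit 0x3de5001), (nat_lit 0x3de6001)], [(nat_lit 0x3d96001), (nat_lit 0x3f38001), (nat_lit 0x3d7e001), (nat_lit 0x3d7f001), (nat_lit 0x3ebb001), (nat_lit 0x3d7d001)], [(nat_lit 0x3f11001), (nat_lit 0x3d76001), (nat_lit 0x3d77001), (nat_lit 0x3d75001), (nat_lit 0x3e47001), (nat_lit 0x3f36001)], [(nat_lit 0x3f02001), (nat_lit 0x3fa7001), (nat_lit 0x3f03001), (nat_lit 0x401e001), (nat_lit 0x3f01001), (nat_lit 0x3f04001)], [(nat_lit 0x3f05001), (nat_lit 0x3f06001), (nat_lit 0x3f15001), (nat_lit 0x3f07001), (nat_lit 0x3f35001), (nat_lit 0x3f7b001)], [(nat_lit 0x3ec0001), (nat_lit 0x400c001), (nat_lit 0x3ebf001), (nat_lit 0x400f001), (nat_lit 0x3ec1001), (nat_lit 0x3ec2001)], [(nat_lit 0x3f45001), (nat_lit 0x3ec4001), (nat_lit 0x3ec3001), (nat_lit 0x3f5a001), (nat_lit 0x400d001), (nat_lit 0x3ec5001)], [(nat_lit 0x3ec6001), (nat_lit 0x3f34001), (nat_lit 0x3ec7001), (nat_lit 0x3ec8001), (nat_lit 0x3ec9001), (nat_lit 0x3f46001)], [(nat_lit 0x4025001), (nat_lit 0x3f0a001), (nat_lit 0x3f0b001), (nat_lit 0x4023001), (nat_lit 0x3f09001), (nat_lit 0x400e001)], [(nat_lit 0x401f001), (nat_lit 0x4024001), (nat_lit 0x4012001), (nat_lit 0x3f0f001), (nat_lit 0x3f87001), (nat_lit 0x4011001)], [(nat_lit 0x3f0c001), (nat_lit 0x3f79001), (nat_lit 0x3f0d001), (nat_lit 0x3f26001), (nat_lit 0x4027001), (nat_lit 0x3f0e001)], [(nat_lit 0x3f86001), (nat_lit 0x3fa5001), (nat_lit 0x3f98001), (nat_lit 0x3f08001), (nat_lit 0x4021001), (nat_lit 0x3f96001)], [(nat_lit 0x3d51001), (nat_lit 0x3d52001), (nat_lit 0x3d53001), (nat_lit 0x3d54001), (nat_lit 0x3f1c001), (nat_lit 0x3d55001)], [(nat_lit 0x3f29001), (nat_lit 0x3e4e001), (nat_lit 0x3f82001), (nat_lit 0x3fcb001), (nat_lit 0x3e4f001), (nat_lit 0x3e4d001)], [(nat_lit 0x3e57001), (nat_lit 0x3fca001), (nat_lit 0x3fd5001), (nat_lit 0x3e58001), (nat_lit 0x3fd8001), (nat_lit 0x3e56001)], [(nat_lit 0x3e50001), (nat_lit 0x3e51001), (nat_lit 0x3fc5001), (nat_lit 0x3fce001), (nat_lit 0x3e52001), (nat_lit 0x3f2b001)], [(nat_lit 0x3fcc001), (nat_lit 0x3e4b001), (nat_lit 0x3fc7001), (nat_lit 0x3e4a001), (nat_lit 0x3e4c001), (nat_lit 0x3fc9001)], [(nat_lit 0x3e54001), (nat_lit 0x3fd0001), (nat_lit 0x3e53001), (nat_lit 0x3fd3001), (nat_lit 0x3e55001), (nat_lit 0x3fd7001)], [(nat_lit 0x3f65001), (nat_lit 0x3ddf001), (nat_lit 0x3de0001), (nat_lit 0x3de1001), (nat_lit 0x3dde001), (nat_lit 0x3de2001)], [(nat_lit 0x3dda001), (nat_lit 0x3ddb001), (nat_lit 0x3ddc001), (nat_lit 0x3dd9001), (nat_lit 0x3f64001), (nat_lit 0x3ddd001)], [(nat_lit 0x3dd4001), (nat_lit 0x3dd5001), (nat_lit 0x3dd3001), (nat_lit 0x3dd6001), (nat_lit 0x3dd7001), (nat_lit 0x3dd8001)], [(nat_lit 0x3eec001), (nat_lit 0x3eed001), (nat_lit 0x3ff3001), (nat_lit 0x3eeb001), (nat_lit 0x3ff5001), (nat_lit 0x3eee001)], [(nat_lit 0x3ed4001), (nat_lit 0x3ed3001), (nat_lit 0x3ed5001), (nat_lit 0x3ed7001), (nat_lit 0x4018001), (nat_lit 0x3ed6001)], [(nat_lit 0x4019001), (nat_lit 0x3ef6001), (nat_lit 0x3ef7001), (nat_lit 0x3ef8001), (nat_lit 0x3ef5001), (nat_lit 0x3ef9001)], [(nat_lit 0x3efe001), (nat_lit 0x3f66001), (nat_lit 0x3eff001), (nat_lit 0x3f68001), (nat_lit 0x3f00001), (nat_lit 0x401d001)], [(nat_lit 0x3ee7001), (nat_lit 0x3ee8001), (nat_lit 0x401b001), (nat_lit 0x3ee9001), (nat_lit 0x3ee6001), (nat_lit 0x3eea001)], [(nat_lit 0x3ee2001), (nat_lit 0x3ee3001), (nat_lit 0x3f67001), (nat_lit 0x3ee4001), (nat_lit 0x3ee5001), (nat_lit 0x3ee1001)], [(nat_lit 0x3d79001), (nat_lit 0x3d7a001), (nat_lit 0x3d7b001), (nat_lit 0x3f3a001), (nat_lit 0x3d7c001), (nat_lit 0x3d78001)], [(nat_lit 0x3d63001), (nat_lit 0x3d64001), (nat_lit 0x3d62001), (nat_lit 0x3d67001), (nat_lit 0x3d65001), (nat_lit 0x3d66001)], [(nat_lit 0x3f19001), (nat_lit 0x3d46001), (nat_lit 0x3d47001), (nat_lit 0x3f16001), (nat_lit 0x3d48001), (nat_lit 0x3d49001)], [(nat_lit 0x3d5b001), (nat_lit 0x3f17001), (nat_lit 0x3d4b001), (nat_lit 0x3d4a001), (nat_lit 0x3f1e001), (nat_lit 0x3d4c001)], [(nat_lit 0x3d60001), (nat_lit 0x3ef0001), (nat_lit 0x3f1b001), (nat_lit 0x3f30001), (nat_lit 0x3d61001), (nat_lit 0x3f1d001)], [(nat_lit 0x3f2e001), (nat_lit 0x3d5f001), (nat_lit 0x3f2c001), (nat_lit 0x3d5e001), (nat_lit 0x3ea8001), (nat_lit 0x3f18001)], [(nat_lit 0x3fe6001), (nat_lit 0x3fdd001), (nat_lit 0x3e5c001), (nat_lit 0x3e5d001), (nat_lit 0x3fc8001), (nat_lit 0x3fe2001)], [(nat_lit 0x3ea6001), (nat_lit 0x3e5f001), (nat_lit 0x3fe4001), (nat_lit 0x3e60001), (nat_lit 0x3f31001), (nat_lit 0x3e5e001)], [(nat_lit 0x3e65001), (nat_lit 0x3e64001), (nat_lit 0x3fde001), (nat_lit 0x3e66001), (nat_lit 0x3fd2001), (nat_lit 0x3e67001)], [(nat_lit 0x3e69001), (nat_lit 0x3f2f001), (nat_lit 0x3e6a001), (nat_lit 0x3ef2001), (nat_lit 0x3e68001), (nat_lit 0x3fdc001)], [(nat_lit 0x3e86001), (nat_lit 0x3fe3001), (nat_lit 0x3e85001), (nat_lit 0x3e87001), (nat_lit 0x3fea001), (nat_lit 0x3fe1001)], [(nat_lit 0x3e89001), (nat_lit 0x3e8a001), (nat_lit 0x3fec001), (nat_lit 0x3e8b001), (nat_lit 0x3e88001), (nat_lit 0x3fed001)], [(nat_lit 0x3e8d001), (nat_lit 0x3e8e001), (nat_lit 0x3e8f001), (nat_lit 0x3ff0001), (nat_lit 0x3e8c001), (nat_lit 0x3e90001)], [(nat_lit 0x3eab001), (nat_lit 0x3fef001), (nat_lit 0x3fda001), (nat_lit 0x3e92001), (nat_lit 0x3fd6001), (nat_lit 0x3e91001)], [(nat_lit 0x3fd4001), (nat_lit 0x3e7e001), (nat_lit 0x3e7f001), (nat_lit 0x3e7d001), (nat_lit 0x3eaf001), (nat_lit 0x3e80001)], [(nat_lit 0x3fd9001), (nat_lit 0x3e82001), (nat_lit 0x3ead001), (nat_lit 0x3e83001), (nat_lit 0x3e81001), (nat_lit 0x3e84001)], [(nat_lit 0x3e6c001), (nat_lit 0x3f7e001), (nat_lit 0x3e6b001), (nat_lit 0x3e6d001), (nat_lit 0x3e6e001), (nat_lit 0x3e6f001)], [(nat_lit 0x3fb8001), (nat_lit 0x3e76001), (nat_lit 0x3e75001), (nat_lit 0x3e78001), (nat_lit 0x3e77001), (nat_lit 0x3f7f001)], [(nat_lit 0x3e70001), (nat_lit 0x3e71001), (nat_lit 0x3faa001), (nat_lit 0x3e72001), (nat_lit 0x3e73001), (nat_lit 0x3e74001)], [(nat_lit 0x3eab001), (nat_lit 0x3eac001), (nat_lit 0x3ead001), (nat_lit 0x3eae001), (nat_lit 0x3eaf001), (nat_lit 0x3eaa001)], [(nat_lit 0x3ea1001), (nat_lit 0x3ea2001), (nat_lit 0x3ea0001), (nat_lit 0x3efc001), (nat_lit 0x3ea3001), (nat_lit 0x3ea4001)], [(nat_lit 0x3f48001), (nat_lit 0x3ebc001), (nat_lit 0x400b001), (nat_lit 0x3f4d001), (nat_lit 0x3ebd001), (nat_lit 0x3ebe001)], [(nat_lit 0x3ec0001), (nat_lit 0x3ffd001), (nat_lit 0x3eb0001), (nat_lit 0x4001001), (nat_lit 0x3eb1001), (nat_lit 0x3f04001)], [(nat_lit 0x4006001), (nat_lit 0x3eb2001), (nat_lit 0x3ffe001), (nat_lit 0x4003001), (nat_lit 0x3eb3001), (nat_lit 0x4007001)], [(nat_lit 0x3eb5001), (nat_lit 0x4004001), (nat_lit 0x3eb6001), (nat_lit 0x3eb4001), (nat_lit 0x3eb7001), (nat_lit 0x3f54001)], [(nat_lit 0x3eb9001), (nat_lit 0x4008001), (nat_lit 0x3eba001), (nat_lit 0x3f52001), (nat_lit 0x3ebb001), (nat_lit 0x3eb8001)], [(nat_lit 0x3fbe001), (nat_lit 0x3ecf001), (nat_lit 0x3ece001), (nat_lit 0x3f80001), (nat_lit 0x3fff001), (nat_lit 0x3ed0001)], [(nat_lit 0x3ecb001), (nat_lit 0x3eca001), (nat_lit 0x3fc0001), (nat_lit 0x3ecc001), (nat_lit 0x4005001), (nat_lit 0x3ecd001)], [(nat_lit 0x3f37001), (nat_lit 0x3ed2001), (nat_lit 0x3f7a001), (nat_lit 0x3ed1001), (nat_lit 0x4013001), (nat_lit 0x3f14001)], [(nat_lit 0x3ed9001), (nat_lit 0x3eda001), (nat_lit 0x3edb001), (nat_lit 0x3ed8001), (nat_lit 0x3edd001), (nat_lit 0x3edc001)], [(nat_lit 0x3edf001), (nat_lit 0x401a001), (nat_lit 0x3ee0001), (nat_lit 0x401c001), (nat_lit 0x3ede001), (nat_lit 0x3f69001)], [(nat_lit 0x3efa001), (nat_lit 0x3ff2001), (nat_lit 0x3efb001), (nat_lit 0x3efc001), (nat_lit 0x3efd001), (nat_lit 0x3ff6001)], [(nat_lit 0x3f11001), (nat_lit 0x3f12001), (nat_lit 0x3f15001), (nat_lit 0x3f10001), (nat_lit 0x3f13001), (nat_lit 0x3f14001)], [(nat_lit 0x3ff8001), (nat_lit 0x3ff9001), (nat_lit 0x3ff7001), (nat_lit 0x3ffa001), (nat_lit 0x3ffb001), (nat_lit 0x3ffc001)], [(nat_lit 0x3fe6001), (nat_lit 0x3fe7001), (nat_lit 0x3fe8001), (nat_lit 0x3fe9001), (nat_lit 0x408d001), (nat_lit 0x3ffc001)], [(nat_lit 0x3fcc001), (nat_lit 0x3fcd001), (nat_lit 0x408c001), (nat_lit 0x3fce001), (nat_lit 0x3fcf001), (nat_lit 0x402e001)], [(nat_lit 0x3f1f001), (nat_lit 0x402c001), (nat_lit 0x3f20001), (nat_lit 0x3f21001), (nat_lit 0x3f1e001), (nat_lit 0x3f22001)], [(nat_lit 0x3fa8001), (nat_lit 0x3fa9001), (nat_lit 0x3faa001), (nat_lit 0x3fab001), (nat_lit 0x3fbb001), (nat_lit 0x3fac001)], [(nat_lit 0x3f3c001), (nat_lit 0x3f3d001), (nat_lit 0x3f3b001), (nat_lit 0x3f3e001), (nat_lit 0x4041001), (nat_lit 0x3f3f001)], [(nat_lit 0x3f41001), (nat_lit 0x3f42001), (nat_lit 0x4044001), (nat_lit 0x3f6d001), (nat_lit 0x3f40001), (nat_lit 0x3f43001)], [(nat_lit 0x3f19001), (nat_lit 0x3f1a001), (nat_lit 0x3f1b001), (nat_lit 0x4032001), (nat_lit 0x3f1c001), (nat_lit 0x3f1d001)], [(nat_lit 0x3fd9001), (nat_lit 0x4031001), (nat_lit 0x3fda001), (nat_lit 0x3fdb001), (nat_lit 0x3fd8001), (nat_lit 0x3fdc001)], [(nat_lit 0x3ff1001), (nat_lit 0x3ff2001), (nat_lit 0x3ff3001), (nat_lit 0x3ff4001), (nat_lit 0x3ff5001), (nat_lit 0x3ff6001)], [(nat_lit 0x3f6b001), (nat_lit 0x3f6a001), (nat_lit 0x3f6c001), (nat_lit 0x3f6d001), (nat_lit 0x3f6e001), (nat_lit 0x3f73001)], [(nat_lit 0x3f4b001), (nat_lit 0x3f4c001), (nat_lit 0x4026001), (nat_lit 0x3f4d001), (nat_lit 0x3f4e001), (nat_lit 0x3f4f001)], [(nat_lit 0x3f48001), (nat_lit 0x3f49001), (nat_lit 0x4048001), (nat_lit 0x3f4a001), (nat_lit 0x3f47001), (nat_lit 0x3f4f001)], [(nat_lit 0x3f45001), (nat_lit 0x3fbf001), (nat_lit 0x3f44001), (nat_lit 0x3fb5001), (nat_lit 0x4046001), (nat_lit 0x3f46001)], [(nat_lit 0x3f33001), (nat_lit 0x3f34001), (nat_lit 0x3f32001), (nat_lit 0x3fba001), (nat_lit 0x3f35001), (nat_lit 0x3fc1001)], [(nat_lit 0x3f50001), (nat_lit 0x4015001), (nat_lit 0x3f51001), (nat_lit 0x3f52001), (nat_lit 0x3f53001), (nat_lit 0x3f54001)], [(nat_lit 0x3f6b001), (nat_lit 0x3f56001), (nat_lit 0x3f90001), (nat_lit 0x3f57001), (nat_lit 0x3f55001), (nat_lit 0x3f58001)], [(nat_lit 0x3fb3001), (nat_lit 0x3f59001), (nat_lit 0x3faf001), (nat_lit 0x3f5a001), (nat_lit 0x404a001), (nat_lit 0x3f5b001)], [(nat_lit 0x3f5d001), (nat_lit 0x404b001), (nat_lit 0x3f5e001), (nat_lit 0x404d001), (nat_lit 0x3f5c001), (nat_lit 0x3f5f001)], [(nat_lit 0x4042001), (nat_lit 0x3f61001), (nat_lit 0x3f62001), (nat_lit 0x4052001), (nat_lit 0x3f60001), (nat_lit 0x3f63001)], [(nat_lit 0x3f94001), (nat_lit 0x4053001), (nat_lit 0x3f92001), (nat_lit 0x3f93001), (nat_lit 0x3f95001), (nat_lit 0x3f96001)], [(nat_lit 0x3fb8001), (nat_lit 0x3fb9001), (nat_lit 0x3fb7001), (nat_lit 0x3fba001), (nat_lit 0x3fbb001), (nat_lit 0x3fbc001)], [(nat_lit 0x3f7d001), (nat_lit 0x3f7e001), (nat_lit 0x3f7c001), (nat_lit 0x3f80001), (nat_lit 0x3f8e001), (nat_lit 0x3f7f001)], [(nat_lit 0x3f70001), (nat_lit 0x3f6f001), (nat_lit 0x3f8d001), (nat_lit 0x3f71001), (nat_lit 0x3f72001), (nat_lit 0x3f73001)], [(nat_lit 0x3fb3001), (nat_lit 0x3fb4001), (nat_lit 0x3fb2001), (nat_lit 0x3fb5001), (nat_lit 0x4070001), (nat_lit 0x3fb6001)], [(nat_lit 0x3fbe001), (nat_lit 0x3fbf001), (nat_lit 0x3fc0001), (nat_lit 0x3fbd001), (nat_lit 0x407a001), (nat_lit 0x3fc1001)], [(nat_lit 0x3fa1001), (nat_lit 0x406f001), (nat_lit 0x3fa0001), (nat_lit 0x4072001), (nat_lit 0x3fa2001), (nat_lit 0x3fa3001)], [(nat_lit 0x3fae001), (nat_lit 0x3fad001), (nat_lit 0x3faf001), (nat_lit 0x3fb0001), (nat_lit 0x4069001), (nat_lit 0x3fb1001)], [(nat_lit 0x4067001), (nat_lit 0x3f9e001), (nat_lit 0x406d001), (nat_lit 0x406b001), (nat_lit 0x3f9f001), (nat_lit 0x404c001)], [(nat_lit 0x3f9a001), (nat_lit 0x406a001), (nat_lit 0x3f9b001), (nat_lit 0x3f9c001), (nat_lit 0x3f9d001), (nat_lit 0x4051001)], [(nat_lit 0x3f24001), (nat_lit 0x3f25001), (nat_lit 0x3f23001), (nat_lit 0x3f26001), (nat_lit 0x4035001), (nat_lit 0x3f27001)], [(nat_lit 0x3f78001), (nat_lit 0x3f79001), (nat_lit 0x3f7a001), (nat_lit 0x3f77001), (nat_lit 0x4058001), (nat_lit 0x3f7b001)], [(nat_lit 0x3f75001), (nat_lit 0x4037001), (nat_lit 0x3f74001), (nat_lit 0x4056001), (nat_lit 0x3f76001), (nat_lit 0x4045001)], [(nat_lit 0x3f37001), (nat_lit 0x3f38001), (nat_lit 0x3f39001), (nat_lit 0x3f3a001), (nat_lit 0x400a001), (nat_lit 0x3f36001)], [(nat_lit 0x4059001), (nat_lit 0x3fa7001), (nat_lit 0x4009001), (nat_lit 0x4079001), (nat_lit 0x3fa6001), (nat_lit 0x4000001)], [(nat_lit 0x4057001), (nat_lit 0x3fa5001), (nat_lit 0x4075001), (nat_lit 0x3fa4001), (nat_lit 0x4077001), (nat_lit 0x4055001)], [(nat_lit 0x4036001), (nat_lit 0x3f81001), (nat_lit 0x3f82001), (nat_lit 0x405c001), (nat_lit 0x3f83001), (nat_lit 0x3f84001)], [(nat_lit 0x3f86001), (nat_lit 0x405d001), (nat_lit 0x404f001), (nat_lit 0x3f85001), (nat_lit 0x3f87001), (nat_lit 0x3f88001)], [(nat_lit 0x3fa1001), (nat_lit 0x3f8c001), (nat_lit 0x3f8d001), (nat_lit 0x4063001), (nat_lit 0x3f8e001), (nat_lit 0x3f8b001)], [(nat_lit 0x404e001), (nat_lit 0x4062001), (nat_lit 0x3f98001), (nat_lit 0x3f99001), (nat_lit 0x4002001), (nat_lit 0x3f97001)], [(nat_lit 0x3fc4001), (nat_lit 0x4043001), (nat_lit 0x3fc5001), (nat_lit 0x4081001), (nat_lit 0x3fc6001), (nat_lit 0x4039001)], [(nat_lit 0x4080001), (nat_lit 0x3fc3001), (nat_lit 0x407f001), (nat_lit 0x3fc2001), (nat_lit 0x406c001), (nat_lit 0x405f001)], [(nat_lit 0x3f8f001), (nat_lit 0x4066001), (nat_lit 0x3f90001), (nat_lit 0x4065001), (nat_lit 0x3f91001), (nat_lit 0x3fa3001)], [(nat_lit 0x4064001), (nat_lit 0x3f8a001), (nat_lit 0x4060001), (nat_lit 0x3f89001), (nat_lit 0x4054001), (nat_lit 0x4061001)], [(nat_lit 0x3f29001), (nat_lit 0x3f2a001), (nat_lit 0x4038001), (nat_lit 0x402d001), (nat_lit 0x3f28001), (nat_lit 0x3f2b001)], [(nat_lit 0x401f001), (nat_lit 0x4078001), (nat_lit 0x4020001), (nat_lit 0x401e001), (nat_lit 0x4021001), (nat_lit 0x4022001)], [(nat_lit 0x4047001), (nat_lit 0x400c001), (nat_lit 0x400b001), (nat_lit 0x409e001), (nat_lit 0x400d001), (nat_lit 0x400e001)], [(nat_lit 0x4010001), (nat_lit 0x409f001), (nat_lit 0x4012001), (nat_lit 0x400f001), (nat_lit 0x4050001), (nat_lit 0x4011001)], [(nat_lit 0x4025001), (nat_lit 0x405a001), (nat_lit 0x4026001), (nat_lit 0x40a4001), (nat_lit 0x4027001), (nat_lit 0x4049001)], [(nat_lit 0x40a3001), (nat_lit 0x4024001), (nat_lit 0x40a1001), (nat_lit 0x4023001), (nat_lit 0x405e001), (nat_lit 0x40a0001)], [(nat_lit 0x402f001), (nat_lit 0x3fca001), (nat_lit 0x4089001), (nat_lit 0x3fcb001), (nat_lit 0x4033001), (nat_lit 0x3fc9001)], [(nat_lit 0x3fd4001), (nat_lit 0x4090001), (nat_lit 0x3fd5001), (nat_lit 0x3fd3001), (nat_lit 0x3fd6001), (nat_lit 0x3fd7001)], [(nat_lit 0x408a001), (nat_lit 0x4082001), (nat_lit 0x3fc7001), (nat_lit 0x4086001), (nat_lit 0x3fc8001), (nat_lit 0x4088001)], [(nat_lit 0x3fd1001), (nat_lit 0x3fd0001), (nat_lit 0x4083001), (nat_lit 0x408e001), (nat_lit 0x3fd2001), (nat_lit 0x4092001)], [(nat_lit 0x3f65001), (nat_lit 0x3f66001), (nat_lit 0x3f67001), (nat_lit 0x3f68001), (nat_lit 0x3f64001), (nat_lit 0x3f69001)], [(nat_lit 0x4019001), (nat_lit 0x401a001), (nat_lit 0x401b001), (nat_lit 0x401c001), (nat_lit 0x4018001), (nat_lit 0x401d001)], [(nat_lit 0x4030001), (nat_lit 0x3f17001), (nat_lit 0x4028001), (nat_lit 0x3f16001), (nat_lit 0x402b001), (nat_lit 0x3f18001)], [(nat_lit 0x3f2e001), (nat_lit 0x3f2f001), (nat_lit 0x403e001), (nat_lit 0x3f30001), (nat_lit 0x3f31001), (nat_lit 0x4034001)], [(nat_lit 0x403d001), (nat_lit 0x3f2d001), (nat_lit 0x3f2c001), (nat_lit 0x403a001), (nat_lit 0x3ffb001), (nat_lit 0x402a001)], [(nat_lit 0x3fe0001), (nat_lit 0x3fdd001), (nat_lit 0x3fde001), (nat_lit 0x3fdf001), (nat_lit 0x4084001), (nat_lit 0x3fe1001)], [(nat_lit 0x3ff8001), (nat_lit 0x3fe3001), (nat_lit 0x3fe4001), (nat_lit 0x3fe5001), (nat_lit 0x403f001), (nat_lit 0x3fe2001)], [(nat_lit 0x3feb001), (nat_lit 0x4040001), (nat_lit 0x3fec001), (nat_lit 0x4093001), (nat_lit 0x3fea001), (nat_lit 0x4097001)], [(nat_lit 0x3fee001), (nat_lit 0x3fef001), (nat_lit 0x4099001), (nat_lit 0x3ff0001), (nat_lit 0x4091001), (nat_lit 0x3fed001)], [(nat_lit 0x407b001), (nat_lit 0x3ffd001), (nat_lit 0x3ffe001), (nat_lit 0x409a001), (nat_lit 0x3fff001), (nat_lit 0x4000001)], [(nat_lit 0x4010001), (nat_lit 0x409b001), (nat_lit 0x4020001), (nat_lit 0x4001001), (nat_lit 0x4002001), (nat_lit 0x4022001)], [(nat_lit 0x4006001), (nat_lit 0x4004001), (nat_lit 0x407d001), (nat_lit 0x4003001), (nat_lit 0x4005001), (nat_lit 0x4017001)], [(nat_lit 0x4014001), (nat_lit 0x4008001), (nat_lit 0x4009001), (nat_lit 0x4016001), (nat_lit 0x400a001), (nat_lit 0x4007001)], [(nat_lit 0x4014001), (nat_lit 0x4015001), (nat_lit 0x405b001), (nat_lit 0x4016001), (nat_lit 0x4013001), (nat_lit 0x4017001)], [(nat_lit 0x408a001), (nat_lit 0x408b001), (nat_lit 0x408c001), (nat_lit 0x4104001), (nat_lit 0x408d001), (nat_lit 0x40ab001)], [(nat_lit 0x402f001), (nat_lit 0x402c001), (nat_lit 0x40aa001), (nat_lit 0x402d001), (nat_lit 0x402b001), (nat_lit 0x402e001)], [(nat_lit 0x4042001), (nat_lit 0x4043001), (nat_lit 0x4044001), (nat_lit 0x40bc001), (nat_lit 0x4041001), (nat_lit 0x4045001)], [(nat_lit 0x4030001), (nat_lit 0x4031001), (nat_lit 0x40ae001), (nat_lit 0x4032001), (nat_lit 0x4033001), (nat_lit 0x4034001)], [(nat_lit 0x4047001), (nat_lit 0x407c001), (nat_lit 0x4048001), (nat_lit 0x40c1001), (nat_lit 0x4046001), (nat_lit 0x4049001)], [(nat_lit 0x406e001), (nat_lit 0x404b001), (nat_lit 0x4068001), (nat_lit 0x40c4001), (nat_lit 0x404a001), (nat_lit 0x404c001)], [(nat_lit 0x404e001), (nat_lit 0x40c5001), (nat_lit 0x404f001), (nat_lit 0x404d001), (nat_lit 0x4050001), (nat_lit 0x4051001)], [(nat_lit 0x40bd001), (nat_lit 0x4053001), (nat_lit 0x40c8001), (nat_lit 0x4052001), (nat_lit 0x4054001), (nat_lit 0x4055001)], [(nat_lit 0x406e001), (nat_lit 0x406f001), (nat_lit 0x406d001), (nat_lit 0x40e3001), (nat_lit 0x4070001), (nat_lit 0x4071001)], [(nat_lit 0x407b001), (nat_lit 0x407c001), (nat_lit 0x407d001), (nat_lit 0x40ee001), (nat_lit 0x407a001), (nat_lit 0x407e001)], [(nat_lit 0x4073001), (nat_lit 0x40e5001), (nat_lit 0x40e8001), (nat_lit 0x4072001), (nat_lit 0x40eb001), (nat_lit 0x4074001)], [(nat_lit 0x4067001), (nat_lit 0x4066001), (nat_lit 0x4068001), (nat_lit 0x40de001), (nat_lit 0x4069001), (nat_lit 0x4071001)], [(nat_lit 0x40dd001), (nat_lit 0x406a001), (nat_lit 0x40e0001), (nat_lit 0x406b001), (nat_lit 0x406c001), (nat_lit 0x40c7001)], [(nat_lit 0x4036001), (nat_lit 0x4037001), (nat_lit 0x4038001), (nat_lit 0x40b2001), (nat_lit 0x4035001), (nat_lit 0x4039001)], [(nat_lit 0x4059001), (nat_lit 0x405a001), (nat_lit 0x405b001), (nat_lit 0x40d1001), (nat_lit 0x4058001), (nat_lit 0x407e001)], [(nat_lit 0x4057001), (nat_lit 0x40b4001), (nat_lit 0x40cc001), (nat_lit 0x4056001), (nat_lit 0x40ce001), (nat_lit 0x40c0001)], [(nat_lit 0x40cf001), (nat_lit 0x4078001), (nat_lit 0x40f1001), (nat_lit 0x4079001), (nat_lit 0x4077001), (nat_lit 0x409d001)], [(nat_lit 0x40cd001), (nat_lit 0x40d6001), (nat_lit 0x4075001), (nat_lit 0x4076001), (nat_lit 0x40f0001), (nat_lit 0x40cb001)], [(nat_lit 0x40b3001), (nat_lit 0x405d001), (nat_lit 0x40d2001), (nat_lit 0x405c001), (nat_lit 0x405e001), (nat_lit 0x405f001)], [(nat_lit 0x4073001), (nat_lit 0x4062001), (nat_lit 0x40d7001), (nat_lit 0x4063001), (nat_lit 0x409c001), (nat_lit 0x4061001)], [(nat_lit 0x4080001), (nat_lit 0x40be001), (nat_lit 0x40f4001), (nat_lit 0x4081001), (nat_lit 0x40df001), (nat_lit 0x40b6001)], [(nat_lit 0x40f3001), (nat_lit 0x40e1001), (nat_lit 0x407f001), (nat_lit 0x40f2001), (nat_lit 0x40e2001), (nat_lit 0x40d4001)], [(nat_lit 0x4064001), (nat_lit 0x40dc001), (nat_lit 0x40da001), (nat_lit 0x4065001), (nat_lit 0x40bf001), (nat_lit 0x4074001)], [(nat_lit 0x40d9001), (nat_lit 0x40c9001), (nat_lit 0x4060001), (nat_lit 0x4076001), (nat_lit 0x40ca001), (nat_lit 0x40d5001)], [(nat_lit 0x40c2001), (nat_lit 0x409f001), (nat_lit 0x410f001), (nat_lit 0x409e001), (nat_lit 0x40c6001), (nat_lit 0x40a0001)], [(nat_lit 0x40a3001), (nat_lit 0x40d0001), (nat_lit 0x4114001), (nat_lit 0x40a4001), (nat_lit 0x40b5001), (nat_lit 0x40c3001)], [(nat_lit 0x4113001), (nat_lit 0x4110001), (nat_lit 0x40a1001), (nat_lit 0x40a2001), (nat_lit 0x40d3001), (nat_lit 0x4111001)], [(nat_lit 0x40ac001), (nat_lit 0x40fb001), (nat_lit 0x4089001), (nat_lit 0x4101001), (nat_lit 0x40af001), (nat_lit 0x4088001)], [(nat_lit 0x408f001), (nat_lit 0x4090001), (nat_lit 0x40fc001), (nat_lit 0x408e001), (nat_lit 0x4091001), (nat_lit 0x4092001)], [(nat_lit 0x4085001), (nat_lit 0x4082001), (nat_lit 0x4083001), (nat_lit 0x40f5001), (nat_lit 0x4084001), (nat_lit 0x40f9001)], [(nat_lit 0x4102001), (nat_lit 0x40f7001), (nat_lit 0x40fe001), (nat_lit 0x4086001), (nat_lit 0x4087001), (nat_lit 0x4100001)], [(nat_lit 0x40ad001), (nat_lit 0x4029001), (nat_lit 0x4028001), (nat_lit 0x40a5001), (nat_lit 0x40a8001), (nat_lit 0x402a001)], [(nat_lit 0x403d001), (nat_lit 0x4040001), (nat_lit 0x403e001), (nat_lit 0x40b9001), (nat_lit 0x403f001), (nat_lit 0x40b0001)], [(nat_lit 0x40ba001), (nat_lit 0x403b001), (nat_lit 0x40b7001), (nat_lit 0x403a001), (nat_lit 0x403c001), (nat_lit 0x40a7001)], [(nat_lit 0x4094001), (nat_lit 0x40bb001), (nat_lit 0x4096001), (nat_lit 0x4093001), (nat_lit 0x4095001), (nat_lit 0x4106001)], [(nat_lit 0x4098001), (nat_lit 0x40b1001), (nat_lit 0x4099001), (nat_lit 0x4109001), (nat_lit 0x40fd001), (nat_lit 0x4097001)], [(nat_lit 0x40ec001), (nat_lit 0x409b001), (nat_lit 0x410a001), (nat_lit 0x409a001), (nat_lit 0x409c001), (nat_lit 0x409d001)], [(nat_lit 0x4102001), (nat_lit 0x4103001), (nat_lit 0x413d001), (nat_lit 0x4104001), (nat_lit 0x4105001), (nat_lit 0x4121001)], [(nat_lit 0x40ac001), (nat_lit 0x40a9001), (nat_lit 0x40aa001), (nat_lit 0x411e001), (nat_lit 0x40a8001), (nat_lit 0x40ab001)], [(nat_lit 0x40bd001), (nat_lit 0x40be001), (nat_lit 0x4128001), (nat_lit 0x40bc001), (nat_lit 0x40bf001), (nat_lit 0x40c0001)], [(nat_lit 0x40ad001), (nat_lit 0x40b1001), (nat_lit 0x40ae001), (nat_lit 0x4117001), (nat_lit 0x40af001), (nat_lit 0x40b0001)], [(nat_lit 0x40c2001), (nat_lit 0x40ed001), (nat_lit 0x412d001), (nat_lit 0x40c1001), (nat_lit 0x40e6001), (nat_lit 0x40c3001)], [(nat_lit 0x40e4001), (nat_lit 0x40c5001), (nat_lit 0x4131001), (nat_lit 0x40c4001), (nat_lit 0x40c6001), (nat_lit 0x40c7001)], [(nat_lit 0x4129001), (nat_lit 0x40c9001), (nat_lit 0x40c8001), (nat_lit 0x40d8001), (nat_lit 0x40ca001), (nat_lit 0x40cb001)], [(nat_lit 0x40e4001), (nat_lit 0x40e5001), (nat_lit 0x4146001), (nat_lit 0x40e3001), (nat_lit 0x40e6001), (nat_lit 0x40e7001)], [(nat_lit 0x40ec001), (nat_lit 0x40ed001), (nat_lit 0x414f001), (nat_lit 0x40ee001), (nat_lit 0x40eb001), (nat_lit 0x40ef001)], [(nat_lit 0x40e9001), (nat_lit 0x414a001), (nat_lit 0x40e8001), (nat_lit 0x412a001), (nat_lit 0x414d001), (nat_lit 0x40ea001)], [(nat_lit 0x40dd001), (nat_lit 0x40dc001), (nat_lit 0x4140001), (nat_lit 0x40de001), (nat_lit 0x40df001), (nat_lit 0x40e7001)], [(nat_lit 0x4141001), (nat_lit 0x40e1001), (nat_lit 0x40e0001), (nat_lit 0x4143001), (nat_lit 0x40e2001), (nat_lit 0x4134001)], [(nat_lit 0x40b3001), (nat_lit 0x40b4001), (nat_lit 0x4123001), (nat_lit 0x40b2001), (nat_lit 0x40b5001), (nat_lit 0x40b6001)], [(nat_lit 0x40cf001), (nat_lit 0x40d0001), (nat_lit 0x4138001), (nat_lit 0x40d1001), (nat_lit 0x40ce001), (nat_lit 0x40ef001)], [(nat_lit 0x40cd001), (nat_lit 0x4135001), (nat_lit 0x40cc001), (nat_lit 0x40db001), (nat_lit 0x4136001), (nat_lit 0x412c001)], [(nat_lit 0x4137001), (nat_lit 0x410b001), (nat_lit 0x40f1001), (nat_lit 0x410e001), (nat_lit 0x40f0001), (nat_lit 0x410d001)], [(nat_lit 0x40e9001), (nat_lit 0x40d6001), (nat_lit 0x40d7001), (nat_lit 0x40d8001), (nat_lit 0x410c001), (nat_lit 0x40d5001)], [(nat_lit 0x4124001), (nat_lit 0x4132001), (nat_lit 0x40d2001), (nat_lit 0x4139001), (nat_lit 0x40d3001), (nat_lit 0x40d4001)], [(nat_lit 0x40f3001), (nat_lit 0x4158001), (nat_lit 0x40f4001), (nat_lit 0x4156001), (nat_lit 0x4142001), (nat_lit 0x4127001)], [(nat_lit 0x4154001), (nat_lit 0x4144001), (nat_lit 0x4122001), (nat_lit 0x40f2001), (nat_lit 0x4152001), (nat_lit 0x413c001)], [(nat_lit 0x40d9001), (nat_lit 0x413e001), (nat_lit 0x40da001), (nat_lit 0x40db001), (nat_lit 0x412b001), (nat_lit 0x40ea001)], [(nat_lit 0x412e001), (nat_lit 0x4110001), (nat_lit 0x410f001), (nat_lit 0x4112001), (nat_lit 0x4133001), (nat_lit 0x4111001)], [(nat_lit 0x4113001), (nat_lit 0x4169001), (nat_lit 0x4114001), (nat_lit 0x4115001), (nat_lit 0x4126001), (nat_lit 0x4130001)], [(nat_lit 0x40fa001), (nat_lit 0x40fb001), (nat_lit 0x40fc001), (nat_lit 0x4160001), (nat_lit 0x40fd001), (nat_lit 0x40f9001)], [(nat_lit 0x411f001), (nat_lit 0x415f001), (nat_lit 0x4155001), (nat_lit 0x4101001), (nat_lit 0x4163001), (nat_lit 0x4100001)], [(nat_lit 0x40f6001), (nat_lit 0x40f7001), (nat_lit 0x4159001), (nat_lit 0x40f5001), (nat_lit 0x40f8001), (nat_lit 0x415d001)], [(nat_lit 0x413a001), (nat_lit 0x4161001), (nat_lit 0x40fe001), (nat_lit 0x4125001), (nat_lit 0x40ff001), (nat_lit 0x4157001)], [(nat_lit 0x4119001), (nat_lit 0x40a6001), (nat_lit 0x4116001), (nat_lit 0x40a5001), (nat_lit 0x411b001), (nat_lit 0x40a7001)], [(nat_lit 0x40ba001), (nat_lit 0x40bb001), (nat_lit 0x40b7001), (nat_lit 0x40b9001), (nat_lit 0x40b8001), (nat_lit 0x4118001)], [(nat_lit 0x4107001), (nat_lit 0x411a001), (nat_lit 0x4108001), (nat_lit 0x4109001), (nat_lit 0x4165001), (nat_lit 0x4106001)], [(nat_lit 0x414e001), (nat_lit 0x410b001), (nat_lit 0x410a001), (nat_lit 0x410e001), (nat_lit 0x410c001), (nat_lit 0x410d001)], [(nat_lit 0x413a001), (nat_lit 0x4187001), (nat_lit 0x413d001), (nat_lit 0x4139001), (nat_lit 0x413b001), (nat_lit 0x413c001)], [(nat_lit 0x411f001), (nat_lit 0x4120001), (nat_lit 0x4122001), (nat_lit 0x411e001), (nat_lit 0x4174001), (nat_lit 0x4121001)], [(nat_lit 0x4129001), (nat_lit 0x417c001), (nat_lit 0x4128001), (nat_lit 0x412a001), (nat_lit 0x412b001), (nat_lit 0x412c001)], [(nat_lit 0x4119001), (nat_lit 0x411a001), (nat_lit 0x4116001), (nat_lit 0x4117001), (nat_lit 0x416b001), (nat_lit 0x4118001)], [(nat_lit 0x412e001), (nat_lit 0x4182001), (nat_lit 0x412d001), (nat_lit 0x412f001), (nat_lit 0x4148001), (nat_lit 0x4130001)], [(nat_lit 0x4147001), (nat_lit 0x4132001), (nat_lit 0x4131001), (nat_lit 0x4186001), (nat_lit 0x4133001), (nat_lit 0x4134001)], [(nat_lit 0x4147001), (nat_lit 0x419a001), (nat_lit 0x4146001), (nat_lit 0x419f001), (nat_lit 0x4148001), (nat_lit 0x4149001)], [(nat_lit 0x414e001), (nat_lit 0x41a6001), (nat_lit 0x414f001), (nat_lit 0x4150001), (nat_lit 0x414d001), (nat_lit 0x4151001)], [(nat_lit 0x414b001), (nat_lit 0x414a001), (nat_lit 0x419c001), (nat_lit 0x417f001), (nat_lit 0x41a4001), (nat_lit 0x414c001)], [(nat_lit 0x4141001), (nat_lit 0x4190001), (nat_lit 0x4140001), (nat_lit 0x4192001), (nat_lit 0x4142001), (nat_lit 0x4149001)], [(nat_lit 0x4193001), (nat_lit 0x4144001), (nat_lit 0x4145001), (nat_lit 0x4143001), (nat_lit 0x4195001), (nat_lit 0x4189001)], [(nat_lit 0x4124001), (nat_lit 0x4177001), (nat_lit 0x4123001), (nat_lit 0x4125001), (nat_lit 0x4126001), (nat_lit 0x4127001)], [(nat_lit 0x4137001), (nat_lit 0x418c001), (nat_lit 0x4138001), (nat_lit 0x4150001), (nat_lit 0x4136001), (nat_lit 0x4151001)], [(nat_lit 0x414b001), (nat_lit 0x4135001), (nat_lit 0x4178001), (nat_lit 0x413f001), (nat_lit 0x418b001), (nat_lit 0x4181001)], [(nat_lit 0x418f001), (nat_lit 0x4158001), (nat_lit 0x417e001), (nat_lit 0x41af001), (nat_lit 0x4191001), (nat_lit 0x417b001)], [(nat_lit 0x4154001), (nat_lit 0x41ae001), (nat_lit 0x4155001), (nat_lit 0x4156001), (nat_lit 0x41ac001), (nat_lit 0x4157001)], [(nat_lit 0x41aa001), (nat_lit 0x4196001), (nat_lit 0x4176001), (nat_lit 0x4198001), (nat_lit 0x4152001), (nat_lit 0x4153001)], [(nat_lit 0x417d001), (nat_lit 0x413e001), (nat_lit 0x418e001), (nat_lit 0x413f001), (nat_lit 0x4180001), (nat_lit 0x414c001)], [(nat_lit 0x4183001), (nat_lit 0x4169001), (nat_lit 0x418d001), (nat_lit 0x416a001), (nat_lit 0x417a001), (nat_lit 0x4185001)], [(nat_lit 0x415e001), (nat_lit 0x415f001), (nat_lit 0x41b7001), (nat_lit 0x4160001), (nat_lit 0x41b9001), (nat_lit 0x415d001)], [(nat_lit 0x4172001), (nat_lit 0x41bb001), (nat_lit 0x41ab001), (nat_lit 0x416f001), (nat_lit 0x4163001), (nat_lit 0x4164001)], [(nat_lit 0x415a001), (nat_lit 0x41b1001), (nat_lit 0x4159001), (nat_lit 0x415c001), (nat_lit 0x415b001), (nat_lit 0x41b5001)], [(nat_lit 0x41be001), (nat_lit 0x4161001), (nat_lit 0x41b2001), (nat_lit 0x4179001), (nat_lit 0x4162001), (nat_lit 0x41b0001)], [(nat_lit 0x416c001), (nat_lit 0x411c001), (nat_lit 0x416e001), (nat_lit 0x4171001), (nat_lit 0x411b001), (nat_lit 0x411d001)], [(nat_lit 0x4166001), (nat_lit 0x416d001), (nat_lit 0x4167001), (nat_lit 0x41bc001), (nat_lit 0x4165001), (nat_lit 0x4168001)], [(nat_lit 0x41a0001), (nat_lit 0x4187001), (nat_lit 0x418a001), (nat_lit 0x4186001), (nat_lit 0x4188001), (nat_lit 0x4189001)], [(nat_lit 0x4172001), (nat_lit 0x4173001), (nat_lit 0x4176001), (nat_lit 0x4171001), (nat_lit 0x4174001), (nat_lit 0x4175001)], [(nat_lit 0x417d001), (nat_lit 0x417c001), (nat_lit 0x417e001), (nat_lit 0x417f001), (nat_lit 0x4180001), (nat_lit 0x4181001)], [(nat_lit 0x416c001), (nat_lit 0x416d001), (nat_lit 0x416e001), (nat_lit 0x416f001), (nat_lit 0x416b001), (nat_lit 0x4170001)], [(nat_lit 0x4183001), (nat_lit 0x4182001), (nat_lit 0x41a7001), (nat_lit 0x4184001), (nat_lit 0x419d001), (nat_lit 0x4185001)], [(nat_lit 0x419b001), (nat_lit 0x419a001), (nat_lit 0x419c001), (nat_lit 0x41c0001), (nat_lit 0x419d001), (nat_lit 0x419e001)], [(nat_lit 0x41a0001), (nat_lit 0x41bf001), (nat_lit 0x41a1001), (nat_lit 0x419f001), (nat_lit 0x41a2001), (nat_lit 0x41a3001)], [(nat_lit 0x41a5001), (nat_lit 0x41a6001), (nat_lit 0x41a7001), (nat_lit 0x41a8001), (nat_lit 0x41a4001), (nat_lit 0x41a9001)], [(nat_lit 0x418f001), (nat_lit 0x4190001), (nat_lit 0x418e001), (nat_lit 0x41c2001), (nat_lit 0x4191001), (nat_lit 0x419e001)], [(nat_lit 0x4193001), (nat_lit 0x41c4001), (nat_lit 0x4194001), (nat_lit 0x4192001), (nat_lit 0x41c6001), (nat_lit 0x41a3001)], [(nat_lit 0x41c7001), (nat_lit 0x4196001), (nat_lit 0x4197001), (nat_lit 0x4198001), (nat_lit 0x4195001), (nat_lit 0x4199001)], [(nat_lit 0x419b001), (nat_lit 0x4177001), (nat_lit 0x4178001), (nat_lit 0x4179001), (nat_lit 0x417a001), (nat_lit 0x417b001)], [(nat_lit 0x41a5001), (nat_lit 0x418c001), (nat_lit 0x418d001), (nat_lit 0x41a8001), (nat_lit 0x418b001), (nat_lit 0x41a9001)], [(nat_lit 0x41c3001), (nat_lit 0x41ae001), (nat_lit 0x41ce001), (nat_lit 0x41af001), (nat_lit 0x41cc001), (nat_lit 0x41b0001)], [(nat_lit 0x41aa001), (nat_lit 0x41cb001), (nat_lit 0x41ab001), (nat_lit 0x41c9001), (nat_lit 0x41ac001), (nat_lit 0x41ad001)], [(nat_lit 0x41b6001), (nat_lit 0x41cf001), (nat_lit 0x41b7001), (nat_lit 0x41b8001), (nat_lit 0x41d7001), (nat_lit 0x41b5001)], [(nat_lit 0x41ba001), (nat_lit 0x41bb001), (nat_lit 0x41d9001), (nat_lit 0x41bc001), (nat_lit 0x41b9001), (nat_lit 0x41bd001)], [(nat_lit 0x41d2001), (nat_lit 0x41b1001), (nat_lit 0x41b2001), (nat_lit 0x41b3001), (nat_lit 0x41b4001), (nat_lit 0x41d0001)], [(nat_lit 0x41be001), (nat_lit 0x41bf001), (nat_lit 0x41d4001), (nat_lit 0x41c0001), (nat_lit 0x41c1001), (nat_lit 0x41c5001)], [(nat_lit 0x41c3001), (nat_lit 0x41c4001), (nat_lit 0x41db001), (nat_lit 0x41c2001), (nat_lit 0x41e0001), (nat_lit 0x41c5001)], [(nat_lit 0x41c7001), (nat_lit 0x41e2001), (nat_lit 0x41c8001), (nat_lit 0x41c9001), (nat_lit 0x41c6001), (nat_lit 0x41ca001)], [(nat_lit 0x41dc001), (nat_lit 0x41cf001), (nat_lit 0x41ce001), (nat_lit 0x41d1001), (nat_lit 0x41e7001), (nat_lit 0x41d0001)], [(nat_lit 0x41e1001), (nat_lit 0x41cb001), (nat_lit 0x41e5001), (nat_lit 0x41e3001), (nat_lit 0x41cc001), (nat_lit 0x41cd001)], [(nat_lit 0x41d8001), (nat_lit 0x41e6001), (nat_lit 0x41d9001), (nat_lit 0x41e9001), (nat_lit 0x41d7001), (nat_lit 0x41da001)], [(nat_lit 0x41d2001), (nat_lit 0x41d3001), (nat_lit 0x41d4001), (nat_lit 0x41d5001), (nat_lit 0x41d6001), (nat_lit 0x41df001)], [(nat_lit 0x41dc001), (nat_lit 0x41dd001), (nat_lit 0x41db001), (nat_lit 0x41de001), (nat_lit 0x41ee001), (nat_lit 0x41df001)], [(nat_lit 0x41e1001), (nat_lit 0x41e2001), (nat_lit 0x41f1001), (nat_lit 0x41e3001), (nat_lit 0x41e0001), (nat_lit 0x41e4001)], [(nat_lit 0x41ef001), (nat_lit 0x41e6001), (nat_lit 0x41e5001), (nat_lit 0x41f3001), (nat_lit 0x41e7001), (nat_lit 0x41e8001)], [(nat_lit 0x41ea001), (nat_lit 0x41f4001), (nat_lit 0x41ed001), (nat_lit 0x41e9001), (nat_lit 0x41eb001), (nat_lit 0x41ec001)], [(nat_lit 0x41ef001), (nat_lit 0x41f0001), (nat_lit 0x41f1001), (nat_lit 0x41f7001), (nat_lit 0x41ee001), (nat_lit 0x41f2001)], [(nat_lit 0x41f8001), (nat_lit 0x41f4001), (nat_lit 0x41fc001), (nat_lit 0x41f3001), (nat_lit 0x41f5001), (nat_lit 0x41f6001)], [(nat_lit 0x41f8001), (nat_lit 0x41f9001), (nat_lit 0x4201001), (nat_lit 0x41f7001), (nat_lit 0x41fa001), (nat_lit 0x41fb001)], [(nat_lit 0x4202001), (nat_lit 0x41fd001), (nat_lit 0x41fc001), (nat_lit 0x4200001), (nat_lit 0x41fe001), (nat_lit 0x41ff001)], [(nat_lit 0x4202001), (nat_lit 0x4206001), (nat_lit 0x4201001), (nat_lit 0x4203001), (nat_lit 0x4204001), (nat_lit 0x4205001)], [(nat_lit 0x4207001), (nat_lit 0x4206001), (nat_lit 0x4208001), (nat_lit 0x4209001), (nat_lit 0x420a001), (nat_lit 0x420b001)]]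

theorem rows2_ok : okRows data table 16908 4000 rows2 = true := by decide +kernel

theorem rows2_len : rows2.length = 1586 := by decide +kernel

end CfsgLib.CosetEnum.ONH
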